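import Mathlib

/-!
# Exactness of the tilde functor `M ↦ M~` on `Spec R`

`tilde.functor R` is a left adjoint (Mathlib), hence right exact; here we show it preserves
monomorphisms, hence is exact.
-/

universe u
open AlgebraicGeometry CategoryTheory Limits

namespace Groth.Agent.Lib.Helper49

lemma comapFun_injective {R : Type u} [CommRing R] {M N : Type u} [AddCommGroup M] [Module R M]
    [AddCommGroup N] [Module R N] (f : M →ₗ[R] N) (hf : Function.Injective f)
    (y : PrimeSpectrum.Top R) :
    Function.Injective (StructureSheaf.Localizations.comapFun f y) := by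
  rw [injective_iff_map_eq_zero]
  intro x hx
  induction x using LocalizedModule.induction_on with | h m s =>
  rw [StructureSheaf.Localizations.comapFun_mk] at hx
  rw [← LocalizedModule.zero_mk 1, LocalizedModule.mk_eq] at hx ⊢
  obtain ⟨u, hu⟩ := hx
  refine ⟨u, ?_⟩
  simp only [smul_zero] at hu ⊢
  simp only [Submonoid.smul_def] at hu ⊢
  rw [← map_smul, ← map_smul] at hu
  exact hf (hu.trans (map_zero f).symm)

lemma tilde_map_app_injective {R : CommRingCat.{u}} {M N : ModuleCat.{u} R} (f : M ⟶ N)
    (hf : Function.Injective f.hom) (U : (Spec R).Opens) :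
    Function.Injective ((tilde.map f).app U) := by
  intro s t hst
  have h1 := congrArg Subtype.val hst
  refine Subtype.ext (funext fun y => ?_)
  have h2 := congrFun h1 y
  exact comapFun_injective f.hom hf y.1 h2

open AlgebraicGeometry.Scheme in
lemma mono_tilde_map {R : CommRingCat.{u}} {M N : ModuleCat.{u} R} (f : M ⟶ N) [Mono f] :
    Mono (tilde.map f) := by
  have hf : Function.Injective f.hom := (ModuleCat.mono_iff_injective f).mp inferInstance
  apply (Modules.toPresheaf (Spec R)).mono_of_mono_map
  rw [Modules.toPresheaf_map]
  apply +allowSynthFailures NatTrans.mono_of_mono_app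
  intro U
  rw [Modules.mapPresheaf_app, AddCommGrpCat.mono_iff_injective]
  exact tilde_map_app_injective f hf U.unop

theorem tilde_functor_exact (R : CommRingCat.{u}) :
    PreservesFiniteLimits (tilde.functor R) ∧
      PreservesFiniteColimits (tilde.functor R) := by
  have hc : PreservesFiniteColimits (tilde.functor R) := inferInstance
  refine ⟨?_, hc⟩
  rw [Functor.preservesFiniteLimits_iff_forall_exact_map_and_mono]
  intro S hS
  refine ⟨((Functor.preservesFiniteColimits_iff_forall_exact_map_and_epi _).mp hc S hS).1, ?_⟩
  have := hS.mono_f
  exact mono_tilde_map S.f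

lemma preservesFiniteLimits_tilde (R : CommRingCat.{u}) :
    PreservesFiniteLimits (tilde.functor R) := (tilde_functor_exact R).1

lemma preservesFiniteColimits_tilde (R : CommRingCat.{u}) :
    PreservesFiniteColimits (tilde.functor R) := (tilde_functor_exact R).2

end Groth.Agent.Lib.Helper49
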