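import Mathlib
import Groth.Agent.Lib.Helper49.TildeExact

/-!
# Quasi-coherent modules on `Spec R`: closure under kernels, cokernels, colimits
-/
universe u
open AlgebraicGeometry CategoryTheory Limits

namespace Groth.Agent.Lib.Helper49

lemma essImage_colimit {C D : Type*} [Category C] [Category D] {L : C ⥤ D} {R : D ⥤ C}
    (adj : L ⊣ R) [L.Full] [L.Faithful] {J : Type*} [Category J] (F : J ⥤ D)
    [HasColimit F] [HasColimit (F ⋙ R)] (hF : ∀ j, L.essImage (F.obj j)) :
    L.essImage (colimit F) := by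
  have : ∀ j, IsIso (adj.counit.app (F.obj j)) :=
    fun j => adj.isIso_counit_app_iff_mem_essImage.mpr (hF j)
  let e : (F ⋙ R) ⋙ L ≅ F := NatIso.ofComponents (fun j => asIso (adj.counit.app (F.obj j)))
    (fun f => adj.counit.naturality (F.map f))
  have : PreservesColimit (F ⋙ R) L := adj.leftAdjoint_preservesColimits.1.1
  have : HasColimit ((F ⋙ R) ⋙ L) := hasColimit_of_iso e
  exact ⟨colimit (F ⋙ R), ⟨preservesColimitIso L (F ⋙ R) ≪≫ HasColimit.isoOfNatIso e⟩⟩

lemma essImage_limit {C D : Type*} [Category C] [Category D] {L : C ⥤ D} {R : D ⥤ C}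
    (adj : L ⊣ R) [L.Full] [L.Faithful] {J : Type*} [Category J] (F : J ⥤ D)
    [HasLimit F] [HasLimit (F ⋙ R)] [PreservesLimit (F ⋙ R) L] (hF : ∀ j, L.essImage (F.obj j)) :
    L.essImage (limit F) := by
  have : ∀ j, IsIso (adj.counit.app (F.obj j)) :=
    fun j => adj.isIso_counit_app_iff_mem_essImage.mpr (hF j)
  let e : (F ⋙ R) ⋙ L ≅ F := NatIso.ofComponents (fun j => asIso (adj.counit.app (F.obj j)))
    (fun f => adj.counit.naturality (F.map f))
  have : HasLimit ((F ⋙ R) ⋙ L) := hasLimit_of_iso e.symm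
  exact ⟨limit (F ⋙ R), ⟨preservesLimitIso L (F ⋙ R) ≪≫ HasLimit.isoOfNatIso e⟩⟩


lemma isQuasicoherent_iff_essImage (R : CommRingCat.{u}) (M : (Spec R).Modules) :
    M.IsQuasicoherent ↔ (tilde.functor R).essImage M := by
  rw [essImage_tilde]

theorem qcoh_colimit (R : CommRingCat.{u}) {J : Type u} [SmallCategory J]
    (F : J ⥤ (Spec R).Modules) (hF : ∀ j, (F.obj j).IsQuasicoherent) :
    (colimit F).IsQuasicoherent := by
  rw [isQuasicoherent_iff_essImage]
  exact essImage_colimit tilde.adjunction F fun j => (isQuasicoherent_iff_essImage R _).mp (hF j)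

theorem qcoh_kernel_cokernel (R : CommRingCat.{u}) {M N : (Spec R).Modules}
    [M.IsQuasicoherent] [N.IsQuasicoherent] (φ : M ⟶ N) :
    (kernel φ).IsQuasicoherent ∧ (cokernel φ).IsQuasicoherent := by
  have hobj : ∀ j, (tilde.functor R).essImage ((parallelPair φ 0).obj j) := by
    rintro (_ | _)
    · exact (isQuasicoherent_iff_essImage R _).mp ‹M.IsQuasicoherent›
    · exact (isQuasicoherent_iff_essImage R _).mp ‹N.IsQuasicoherent›
  have := preservesFiniteLimits_tilde R
  constructor
  · rw [isQuasicoherent_iff_essImage]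
    exact essImage_limit tilde.adjunction (parallelPair φ 0) hobj
  · rw [isQuasicoherent_iff_essImage]
    exact essImage_colimit tilde.adjunction (parallelPair φ 0) hobj

end Groth.Agent.Lib.Helper49
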