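import Mathlib
import Groth.Agent.Lib.Helper49.TildeQCoh
/-!
# Quasi-coherence is local; kernels, cokernels, colimits, finite limits of quasi-coherent modules
on an arbitrary scheme; exactness of restriction to an open.
-/
universe u
open AlgebraicGeometry CategoryTheory Limits

namespace Groth.Agent.Lib.Helper49

section RestrictExact
variable {X Y : Scheme.{u}} (f : X ⟶ Y) [IsOpenImmersion f]

set_option backward.isDefEq.respectTransparency false in
set_option backward.defeqAttrib.useBackward true in
instance restrictFunctor_isRightAdjoint : (Scheme.Modules.restrictFunctor f).IsRightAdjoint := by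
  unfold Scheme.Modules.restrictFunctor
  apply SheafOfModules.instIsRightAdjointPushforward

instance : PreservesLimitsOfSize.{u, u} (Scheme.Modules.restrictFunctor f) := inferInstance
instance : PreservesFiniteLimits (Scheme.Modules.restrictFunctor f) := inferInstance
instance : PreservesFiniteColimits (Scheme.Modules.restrictFunctor f) := inferInstance
end RestrictExact

set_option backward.isDefEq.respectTransparency false in
/-- From a presentation of `M.restrict W.ι` get a presentation of `M.over W`. -/
noncomputable def presentationOverOfRestrict {X : Scheme.{u}} (M : X.Modules) (W : X.Opens)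
    (P : (M.restrict W.ι).Presentation) : (M.over W).Presentation := by
  let e := Scheme.Modules.overEquiv W
  have iso : e.inverse.obj (M.restrict W.ι) ≅ M.over W :=
    e.inverse.mapIso ((Scheme.Modules.overFunctorEquiv W).app M).symm ≪≫ (e.unitIso.app _).symm
  have : PreservesColimitsOfSize.{u, u} e.inverse := inferInstance
  exact SheafOfModules.Presentation.ofIsIso.{u,u,u} iso.hom
    (P.map e.inverse (TopologicalSpace.Opens.sheafOfModulesEquivOverInverseUnit _ _).symm)

/-- Converse of `Scheme.Modules.exists_isOpenCover_presentation`. -/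
theorem isQuasicoherent_of_presentations {X : Scheme.{u}} (M : X.Modules) {ι : Type u}
    (U : ι → X.Opens) (hU : TopologicalSpace.IsOpenCover U)
    (P : ∀ i, Nonempty (M.restrict (U i).ι).Presentation) :
    M.IsQuasicoherent := by
  let q : SheafOfModules.QuasicoherentData.{u, u, u, u} M :=
    { I := ι, X := U, coversTop := (Opens.coversTop_iff _ _).mpr hU,
      presentation := fun i => presentationOverOfRestrict M (U i) (P i).some }
  exact q.isQuasicoherent

/-- Transport a presentation along an open immersion with the same range. -/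
noncomputable def presentationOfRange {X Y : Scheme.{u}} (M : X.Modules) (f : Y ⟶ X) [IsOpenImmersion f]
    (P : (M.restrict f).Presentation) : (M.restrict f.opensRange.ι).Presentation := by
  let e : (f.opensRange : Scheme.{u}) ≅ Y := (IsOpenImmersion.isoOfRangeEq f f.opensRange.ι (by simp)).symm
  have he : e.hom ≫ f = f.opensRange.ι := by simp [e]
  exact SheafOfModules.Presentation.ofIsIso.{u, u, u}
    (((Scheme.Modules.restrictFunctorComp e.hom f).symm ≪≫
      Scheme.Modules.restrictFunctorCongr he).app M).hom
    (Scheme.Modules.presentationRestrict e.hom P)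

/-- Quasi-coherence is local: it can be checked on a jointly surjective family of open
immersions. -/
theorem isQuasicoherent_of_forall_restrict {X : Scheme.{u}} (M : X.Modules) {ι : Type u}
    (Y : ι → Scheme.{u}) (f : ∀ i, Y i ⟶ X) [∀ i, IsOpenImmersion (f i)]
    (hf : ∀ x : X, ∃ i, x ∈ Set.range (f i))
    (h : ∀ i, (M.restrict (f i)).IsQuasicoherent) : M.IsQuasicoherent := by
  have key : ∀ i, ∃ (κ : Type u) (V : κ → (Y i).Opens)
      (_ : ∀ j, ((M.restrict (f i)).restrict (V j).ι).Presentation),
      TopologicalSpace.IsOpenCover V ∧ (∀ j, IsAffineOpen (V j)) := fun i =>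
    haveI := h i
    (M.restrict (f i)).exists_isOpenCover_presentation
  choose κ V P hV _ using key
  refine isQuasicoherent_of_presentations M (ι := Σ i, κ i)
    (fun ij => ((V ij.1 ij.2).ι ≫ f ij.1).opensRange) ?_ ?_
  · rw [TopologicalSpace.IsOpenCover, eq_top_iff]
    rintro x -
    obtain ⟨i, y, rfl⟩ := hf x
    have hy : y ∈ (⨆ j, V i j : (Y i).Opens) := by rw [(hV i)]; trivial
    obtain ⟨j, hj⟩ := TopologicalSpace.Opens.mem_iSup.mp hy
    refine TopologicalSpace.Opens.mem_iSup.mpr ⟨⟨i, j⟩, ⟨⟨y, hj⟩, rfl⟩⟩
  · rintro ⟨i, j⟩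
    refine ⟨presentationOfRange M ((V i j).ι ≫ f i) ?_⟩
    exact SheafOfModules.Presentation.ofIsIso.{u, u, u}
      ((Scheme.Modules.restrictFunctorComp (V i j).ι (f i)).app M).inv (P i j)


lemma isQuasicoherent_of_iso {X : Scheme.{u}} {M N : X.Modules} (e : M ≅ N)
    (h : M.IsQuasicoherent) : N.IsQuasicoherent :=
  (SheafOfModules.isQuasicoherent X.ringCatSheaf).prop_of_iso e h

/-- Finite limits of quasi-coherent modules on `Spec R` are quasi-coherent. -/
theorem qcoh_finite_limit (R : CommRingCat.{u}) {J : Type} [SmallCategory J] [FinCategory J]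
    (F : J ⥤ (Spec R).Modules) (hF : ∀ j, (F.obj j).IsQuasicoherent) :
    (limit F).IsQuasicoherent := by
  rw [isQuasicoherent_iff_essImage]
  have := preservesFiniteLimits_tilde R
  exact essImage_limit tilde.adjunction F fun j => (isQuasicoherent_iff_essImage R _).mp (hF j)


/-- Quasi-coherence can be checked on all affine opens (pulled back to `Spec`). -/
theorem isQuasicoherent_of_forall_fromSpec {X : Scheme.{u}} (M : X.Modules)
    (h : ∀ U : X.affineOpens, (M.restrict U.2.fromSpec).IsQuasicoherent) : M.IsQuasicoherent := by
  refine isQuasicoherent_of_forall_restrict M (fun U : X.affineOpens => Spec Γ(X, U.1))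
    (fun U => U.2.fromSpec) (fun x => ?_) h
  have hx : x ∈ (⨆ i : X.affineOpens, (i : X.Opens)) := by
    rw [iSup_affineOpens_eq_top]; trivial
  obtain ⟨U, hU⟩ := TopologicalSpace.Opens.mem_iSup.mp hx
  exact ⟨U, by rw [U.2.range_fromSpec]; exact hU⟩

/-- Colimits of quasi-coherent modules on any scheme are quasi-coherent. -/
theorem isQuasicoherent_colimit {X : Scheme.{u}} {J : Type u} [SmallCategory J]
    (K : J ⥤ X.Modules) (hK : ∀ j, (K.obj j).IsQuasicoherent) : (colimit K).IsQuasicoherent := by
  refine isQuasicoherent_of_forall_fromSpec _ fun U => ?_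
  have h2 := qcoh_colimit Γ(X, U.1) (K ⋙ Scheme.Modules.restrictFunctor U.2.fromSpec)
    fun j => by have := hK j; exact Scheme.Modules.isQuasicoherent_restrictFunctor _ _
  exact isQuasicoherent_of_iso
    (preservesColimitIso (Scheme.Modules.restrictFunctor U.2.fromSpec) K).symm h2

/-- Finite limits of quasi-coherent modules on any scheme are quasi-coherent. -/
theorem isQuasicoherent_finite_limit {X : Scheme.{u}} {J : Type} [SmallCategory J] [FinCategory J]
    (K : J ⥤ X.Modules) (hK : ∀ j, (K.obj j).IsQuasicoherent) : (limit K).IsQuasicoherent := by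
  refine isQuasicoherent_of_forall_fromSpec _ fun U => ?_
  have h2 := qcoh_finite_limit Γ(X, U.1) (K ⋙ Scheme.Modules.restrictFunctor U.2.fromSpec)
    fun j => by have := hK j; exact Scheme.Modules.isQuasicoherent_restrictFunctor _ _
  exact isQuasicoherent_of_iso
    (preservesLimitIso (Scheme.Modules.restrictFunctor U.2.fromSpec) K).symm h2

theorem isQuasicoherent_kernel {X : Scheme.{u}} {F G : X.Modules} (φ : F ⟶ G)
    (hF : F.IsQuasicoherent) (hG : G.IsQuasicoherent) : (kernel φ).IsQuasicoherent := by
  refine isQuasicoherent_finite_limit (parallelPair φ 0) ?_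
  rintro (_ | _) <;> assumption

theorem isQuasicoherent_cokernel {X : Scheme.{u}} {F G : X.Modules} (φ : F ⟶ G)
    (hF : F.IsQuasicoherent) (hG : G.IsQuasicoherent) : (cokernel φ).IsQuasicoherent := by
  refine isQuasicoherent_of_forall_fromSpec _ fun U => ?_
  have h1 : ((Scheme.Modules.restrictFunctor U.2.fromSpec).obj F).IsQuasicoherent :=
    Scheme.Modules.isQuasicoherent_restrictFunctor _ _
  have h2 : ((Scheme.Modules.restrictFunctor U.2.fromSpec).obj G).IsQuasicoherent :=
    Scheme.Modules.isQuasicoherent_restrictFunctor _ _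
  have h3 := (qcoh_kernel_cokernel Γ(X, U.1)
    ((Scheme.Modules.restrictFunctor U.2.fromSpec).map φ)).2
  exact isQuasicoherent_of_iso
    (PreservesCokernel.iso (Scheme.Modules.restrictFunctor U.2.fromSpec) φ).symm h3

end Groth.Agent.Lib.Helper49
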