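import Mathlib
import Groth.Agent.Lib.Helper49.QCohLocal
/-!
# `SheafOfModules.IsFiniteType` for modules on schemes: local nature, restriction, quotients
-/
universe u
open AlgebraicGeometry CategoryTheory Limits

namespace Groth.Agent.Lib.Helper49

set_option backward.defeqAttrib.useBackward true in
set_option backward.isDefEq.respectTransparency false in
/-- A module with finitely many global generating sections is of finite type. -/
theorem isFiniteType_of_generatingSections {X : Scheme.{u}} {M : X.Modules}
    (G : M.GeneratingSections) [G.IsFiniteType] : SheafOfModules.IsFiniteType (R := X.ringCatSheaf) M := by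
  have h : G.localGeneratorsData.IsFiniteType :=
    { isFiniteType := fun i => by dsimp; infer_instance }
  exact SheafOfModules.IsFiniteType.mk (M := M) ⟨G.localGeneratorsData, h⟩

set_option backward.isDefEq.respectTransparency false in
/-- From generating sections of `M.restrict W.ι` get generating sections of `M.over W`. -/
noncomputable def generatingSectionsOverOfRestrict {X : Scheme.{u}} (M : X.Modules) (W : X.Opens)
    (G : (M.restrict W.ι).GeneratingSections) : (M.over W).GeneratingSections := by
  let e := Scheme.Modules.overEquiv W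
  have iso : e.inverse.obj (M.restrict W.ι) ≅ M.over W :=
    e.inverse.mapIso ((Scheme.Modules.overFunctorEquiv W).app M).symm ≪≫ (e.unitIso.app _).symm
  have : PreservesColimitsOfSize.{u, u} e.inverse := inferInstance
  exact (G.map e.inverse
    (TopologicalSpace.Opens.sheafOfModulesEquivOverInverseUnit _ _).symm).ofEpi iso.hom


instance {X : Scheme.{u}} (M : X.Modules) (W : X.Opens)
    (G : (M.restrict W.ι).GeneratingSections) [G.IsFiniteType] :
    (generatingSectionsOverOfRestrict M W G).IsFiniteType where
  finite := inferInstanceAs (Finite G.I)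

set_option backward.isDefEq.respectTransparency false in
/-- From generating sections of `M.over W` get generating sections of `M.restrict W.ι`. -/
noncomputable def generatingSectionsRestrictOfOver {X : Scheme.{u}} (M : X.Modules) (W : X.Opens)
    (G : (M.over W).GeneratingSections) : (M.restrict W.ι).GeneratingSections := by
  let e := Scheme.Modules.overEquiv W
  have : PreservesColimitsOfSize.{u, u} e.functor := inferInstance
  have η : SheafOfModules.unit (W : Scheme.{u}).ringCatSheaf ≅
      e.functor.obj (SheafOfModules.unit (Sheaf.over X.ringCatSheaf W)) := Iso.refl _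
  exact (G.map e.functor η).ofEpi ((Scheme.Modules.overFunctorEquiv W).app M).hom

instance {X : Scheme.{u}} (M : X.Modules) (W : X.Opens)
    (G : (M.over W).GeneratingSections) [G.IsFiniteType] :
    (generatingSectionsRestrictOfOver M W G).IsFiniteType where
  finite := inferInstanceAs (Finite G.I)

set_option backward.defeqAttrib.useBackward true in
set_option backward.isDefEq.respectTransparency false in
/-- Finite type can be checked on an open cover, with global generators on each member. -/
theorem isFiniteType_of_cover {X : Scheme.{u}} (M : X.Modules) {ι : Type u}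
    (U : ι → X.Opens) (hU : TopologicalSpace.IsOpenCover U)
    (G : ∀ i, ∃ G : (M.restrict (U i).ι).GeneratingSections, G.IsFiniteType) :
    SheafOfModules.IsFiniteType (R := X.ringCatSheaf) M := by
  choose G hG using G
  let σ : SheafOfModules.LocalGeneratorsData.{u, u, u, u} M :=
    { I := ι, X := U, coversTop := (Opens.coversTop_iff _ _).mpr hU
      generators := fun i => generatingSectionsOverOfRestrict M (U i) (G i) }
  have h : σ.IsFiniteType := { isFiniteType := fun i => by dsimp [σ]; infer_instance }
  exact SheafOfModules.IsFiniteType.mk (M := M) ⟨σ, h⟩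

set_option backward.defeqAttrib.useBackward true in
set_option backward.isDefEq.respectTransparency false in
/-- A finite type module has, locally, finitely many generating sections. -/
theorem exists_cover_of_isFiniteType {X : Scheme.{u}} (M : X.Modules)
    (hM : SheafOfModules.IsFiniteType (R := X.ringCatSheaf) M) :
    ∃ (ι : Type u) (U : ι → X.Opens), TopologicalSpace.IsOpenCover U ∧
      ∀ i, ∃ G : (M.restrict (U i).ι).GeneratingSections, G.IsFiniteType := by
  obtain ⟨σ, hσ⟩ := hM.exists_localGeneratorsData
  refine ⟨σ.I, σ.X, (Opens.coversTop_iff _ _).mp σ.coversTop, fun i => ?_⟩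
  have := hσ.isFiniteType i
  exact ⟨generatingSectionsRestrictOfOver M (σ.X i) (σ.generators i), inferInstance⟩

/-- Restricting twice along a commutative square of open immersions. -/
noncomputable def restrictRestrictIso {X Y Y' Z : Scheme.{u}} (M : X.Modules)
    (a : Z ⟶ Y) (b : Y ⟶ X) (c : Z ⟶ Y') (d : Y' ⟶ X)
    [IsOpenImmersion a] [IsOpenImmersion b] [IsOpenImmersion c] [IsOpenImmersion d]
    (h : a ≫ b = c ≫ d) : (M.restrict b).restrict a ≅ (M.restrict d).restrict c :=
  ((Scheme.Modules.restrictFunctorComp a b).symm ≪≫ Scheme.Modules.restrictFunctorCongr h ≪≫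
    Scheme.Modules.restrictFunctorComp c d).app M

set_option backward.isDefEq.respectTransparency false in
/-- Restriction of generating sections along an open immersion. -/
noncomputable def generatingSectionsRestrict {X Y : Scheme.{u}} {M : X.Modules} (f : Y ⟶ X)
    [IsOpenImmersion f] (G : M.GeneratingSections) : (M.restrict f).GeneratingSections :=
  have : PreservesColimitsOfSize.{u, u} (Scheme.Modules.restrictFunctor f) := inferInstance
  G.map (Scheme.Modules.restrictFunctor.{u} f) (Scheme.Modules.restrictUnitIso _).symm

instance {X Y : Scheme.{u}} {M : X.Modules} (f : Y ⟶ X)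
    [IsOpenImmersion f] (G : M.GeneratingSections) [G.IsFiniteType] :
    (generatingSectionsRestrict f G).IsFiniteType where
  finite := inferInstanceAs (Finite G.I)

lemma isOpenImmersion_resLE {X Y : Scheme.{u}} (f : X ⟶ Y) [IsOpenImmersion f] (U : Y.Opens)
    (V : X.Opens) (e : V ≤ f ⁻¹ᵁ U) : IsOpenImmersion (f.resLE U V e) := by
  have : IsOpenImmersion (f.resLE U V e ≫ U.ι) := by
    rw [Scheme.Hom.resLE_comp_ι]; infer_instance
  exact IsOpenImmersion.of_comp _ U.ι


/-- Finite type is stable under restriction along an open immersion. -/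
theorem isFiniteType_restrict {X Y : Scheme.{u}} (M : X.Modules) (f : Y ⟶ X) [IsOpenImmersion f]
    (hM : SheafOfModules.IsFiniteType (R := X.ringCatSheaf) M) :
    SheafOfModules.IsFiniteType (R := Y.ringCatSheaf) (M.restrict f) := by
  obtain ⟨ι, U, hU, hG⟩ := exists_cover_of_isFiniteType M hM
  refine isFiniteType_of_cover _ (fun i => f ⁻¹ᵁ U i) ?_ fun i => ?_
  · rw [TopologicalSpace.IsOpenCover, eq_top_iff]
    rintro y -
    have hy : f y ∈ (⨆ i, U i : X.Opens) := by rw [hU]; trivial
    obtain ⟨i, hi⟩ := TopologicalSpace.Opens.mem_iSup.mp hy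
    exact TopologicalSpace.Opens.mem_iSup.mpr ⟨i, hi⟩
  · obtain ⟨G, hGf⟩ := hG i
    have := isOpenImmersion_resLE f (U i) (f ⁻¹ᵁ U i) le_rfl
    let e := restrictRestrictIso M (f ⁻¹ᵁ U i).ι f (f.resLE (U i) (f ⁻¹ᵁ U i) le_rfl) (U i).ι
      (Scheme.Hom.resLE_comp_ι f le_rfl).symm
    refine ⟨(generatingSectionsRestrict (f.resLE (U i) (f ⁻¹ᵁ U i) le_rfl) G).ofEpi e.inv, ?_⟩
    infer_instance

/-- Transport generating sections along an open immersion with the same range. -/
noncomputable def generatingSectionsOfRange {X Y : Scheme.{u}} (M : X.Modules) (f : Y ⟶ X)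
    [IsOpenImmersion f] (G : (M.restrict f).GeneratingSections) :
    (M.restrict f.opensRange.ι).GeneratingSections := by
  let e : (f.opensRange : Scheme.{u}) ≅ Y :=
    (IsOpenImmersion.isoOfRangeEq f f.opensRange.ι (by simp)).symm
  have he : e.hom ≫ f = f.opensRange.ι := by simp [e]
  exact (generatingSectionsRestrict e.hom G).ofEpi
    (((Scheme.Modules.restrictFunctorComp e.hom f).symm ≪≫
      Scheme.Modules.restrictFunctorCongr he).app M).hom

instance {X Y : Scheme.{u}} (M : X.Modules) (f : Y ⟶ X)
    [IsOpenImmersion f] (G : (M.restrict f).GeneratingSections) [G.IsFiniteType] :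
    (generatingSectionsOfRange M f G).IsFiniteType where
  finite := inferInstanceAs (Finite G.I)

/-- Finite type is local: it can be checked on a jointly surjective family of open immersions. -/
theorem isFiniteType_of_forall_restrict {X : Scheme.{u}} (M : X.Modules) {ι : Type u}
    (Y : ι → Scheme.{u}) (f : ∀ i, Y i ⟶ X) [∀ i, IsOpenImmersion (f i)]
    (hf : ∀ x : X, ∃ i, x ∈ Set.range (f i))
    (h : ∀ i, SheafOfModules.IsFiniteType (R := (Y i).ringCatSheaf) (M.restrict (f i))) :
    SheafOfModules.IsFiniteType (R := X.ringCatSheaf) M := by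
  have key := fun i => exists_cover_of_isFiniteType (M.restrict (f i)) (h i)
  choose κ V hV hG using key
  refine isFiniteType_of_cover M (ι := Σ i, κ i)
    (fun ij => ((V ij.1 ij.2).ι ≫ f ij.1).opensRange) ?_ ?_
  · rw [TopologicalSpace.IsOpenCover, eq_top_iff]
    rintro x -
    obtain ⟨i, y, rfl⟩ := hf x
    have hy : y ∈ (⨆ j, V i j : (Y i).Opens) := by rw [(hV i)]; trivial
    obtain ⟨j, hj⟩ := TopologicalSpace.Opens.mem_iSup.mp hy
    refine TopologicalSpace.Opens.mem_iSup.mpr ⟨⟨i, j⟩, ⟨⟨y, hj⟩, rfl⟩⟩
  · rintro ⟨i, j⟩
    obtain ⟨G, hGf⟩ := hG i j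
    refine ⟨generatingSectionsOfRange M ((V i j).ι ≫ f i)
      (G.ofEpi ((Scheme.Modules.restrictFunctorComp (V i j).ι (f i)).app M).inv), ?_⟩
    infer_instance

/-- Finite type can be checked on all affine opens (pulled back to `Spec`). -/
theorem isFiniteType_of_forall_fromSpec {X : Scheme.{u}} (M : X.Modules)
    (h : ∀ U : X.affineOpens, SheafOfModules.IsFiniteType (R := (Spec Γ(X, U.1)).ringCatSheaf)
      (M.restrict U.2.fromSpec)) :
    SheafOfModules.IsFiniteType (R := X.ringCatSheaf) M := by
  refine isFiniteType_of_forall_restrict M (fun U : X.affineOpens => Spec Γ(X, U.1))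
    (fun U => U.2.fromSpec) (fun x => ?_) h
  have hx : x ∈ (⨆ i : X.affineOpens, (i : X.Opens)) := by
    rw [iSup_affineOpens_eq_top]; trivial
  obtain ⟨U, hU⟩ := TopologicalSpace.Opens.mem_iSup.mp hx
  exact ⟨U, by rw [U.2.range_fromSpec]; exact hU⟩

/-- A quotient of a finite type module is of finite type. -/
theorem isFiniteType_of_epi {X : Scheme.{u}} {M N : X.Modules} (p : M ⟶ N) [Epi p]
    (hM : SheafOfModules.IsFiniteType (R := X.ringCatSheaf) M) :
    SheafOfModules.IsFiniteType (R := X.ringCatSheaf) N := by
  obtain ⟨ι, U, hU, hG⟩ := exists_cover_of_isFiniteType M hM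
  refine isFiniteType_of_cover N U hU fun i => ?_
  obtain ⟨G, hGf⟩ := hG i
  have : Epi (C := SheafOfModules ((U i : Scheme.{u}).ringCatSheaf))
      ((Scheme.Modules.restrictFunctor (U i).ι).map p) :=
    (Scheme.Modules.restrictFunctor (U i).ι).map_epi p
  exact ⟨G.ofEpi ((Scheme.Modules.restrictFunctor (U i).ι).map p), inferInstance⟩

theorem isFiniteType_of_iso {X : Scheme.{u}} {M N : X.Modules} (e : M ≅ N)
    (hM : SheafOfModules.IsFiniteType (R := X.ringCatSheaf) M) :
    SheafOfModules.IsFiniteType (R := X.ringCatSheaf) N :=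
  isFiniteType_of_epi e.hom hM

end Groth.Agent.Lib.Helper49
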