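import Mathlib
import Groth.Agent.Lib.Helper49.FiniteTypeLocal
/-!
# Finite type quasi-coherent modules and finite modules: `M^~` is of finite type iff `M` is finite;
sections of a finite type quasi-coherent module over an affine open form a finite module.
-/
universe u
open AlgebraicGeometry CategoryTheory Limits

namespace Groth.Agent.Lib.Helper49

variable (R : CommRingCat.{u})

/-- Generating sections of `M^~` from a surjection `(ι →₀ R) → M`. -/
noncomputable def generatingSectionsTilde {ι : Type u} (M : ModuleCat.{u} R)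
    (p : ModuleCat.of R (ι →₀ R) ⟶ M) [Epi p] :
    ((tilde.functor R).obj M).GeneratingSections where
  I := ι
  s := ((tilde.functor R).obj M).freeHomEquiv ((tildeFinsupp ι).inv ≫ (tilde.functor R).map p)
  epi := by
    rw [Equiv.symm_apply_apply]
    have h1 : Epi (C := SheafOfModules (Spec R).ringCatSheaf) ((tilde.functor R).map p) :=
      (tilde.functor R).map_epi p
    have h2 : Epi (C := SheafOfModules (Spec R).ringCatSheaf) (tildeFinsupp ι).inv :=
      (inferInstance : Epi (C := (Spec R).Modules) (tildeFinsupp ι).inv)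
    exact @epi_comp _ _ _ _ _ _ h2 _ h1

/-- `M^~` is of finite type if `M` is a finite module. -/
theorem isFiniteType_tilde_of_finite (M : ModuleCat.{u} R) [Module.Finite R M] :
    SheafOfModules.IsFiniteType (R := (Spec R).ringCatSheaf) ((tilde.functor R).obj M) := by
  obtain ⟨n, f, hf⟩ := Module.Finite.exists_fin' R M
  let g : (ULift.{u} (Fin n) →₀ R) →ₗ[R] M :=
    f ∘ₗ (Finsupp.linearEquivFunOnFinite R R (Fin n)).toLinearMap ∘ₗ
      (Finsupp.domLCongr Equiv.ulift).toLinearMap
  have hg : Function.Surjective g := by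
    simp only [g, LinearMap.coe_comp, LinearEquiv.coe_coe]
    exact hf.comp ((LinearEquiv.surjective _).comp (LinearEquiv.surjective _))
  have : Epi (ModuleCat.ofHom g) := (ModuleCat.epi_iff_surjective _).mpr hg
  let G := generatingSectionsTilde R M (ModuleCat.ofHom g)
  have : G.IsFiniteType := ⟨inferInstanceAs (Finite (ULift.{u} (Fin n)))⟩
  exact isFiniteType_of_generatingSections G

/-- If `M^~` has finitely many global generating sections then `M` is a finite module. -/
theorem finite_of_generatingSections_tilde (M : ModuleCat.{u} R)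
    (G : ((tilde.functor R).obj M).GeneratingSections) [G.IsFiniteType] : Module.Finite R M := by
  let q : (tilde.functor R).obj (ModuleCat.of R (G.I →₀ R)) ⟶ (tilde.functor R).obj M :=
    (tildeFinsupp G.I).hom ≫ G.π
  have h1 : Epi (C := (Spec R).Modules) G.π := G.epi
  have hq : Epi q := epi_comp (C := (Spec R).Modules) _ _
  obtain ⟨p, hp⟩ := (tilde.functor R).map_surjective q
  have : Epi p := by
    rw [← hp] at hq
    exact (tilde.functor R).epi_of_epi_map hq
  have hs : Function.Surjective p.hom := (ModuleCat.epi_iff_surjective _).mp this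
  have : Module.Finite R (G.I →₀ R) := inferInstance
  exact Module.Finite.of_surjective p.hom hs


/-- A quasi-coherent module on `Spec R` with finitely many global generating sections has a
finite module of global sections. -/
theorem finite_Γ_of_generatingSections (N : (Spec R).Modules) [N.IsQuasicoherent]
    (G : N.GeneratingSections) [G.IsFiniteType] :
    Module.Finite R ((modulesSpecToSheaf.obj N).presheaf.obj (.op ⊤)) := by
  have h0 : IsIso (C := (Spec R).Modules) N.fromTildeΓ :=
    (isQuasicoherent_iff_isIso_fromTildeΓ N).mp inferInstance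
  let q : N ⟶ tilde ((modulesSpecToSheaf.obj N).presheaf.obj (.op ⊤)) :=
    @inv (Spec R).Modules _ _ _ N.fromTildeΓ h0
  have hq : Epi (C := SheafOfModules (Spec R).ringCatSheaf) q :=
    (inferInstance : Epi (C := (Spec R).Modules) q)
  exact finite_of_generatingSections_tilde R _
    (@SheafOfModules.GeneratingSections.ofEpi _ _ _ _ _ _ _ _ G q hq)

section fromSpec
variable {X : Scheme.{u}} {U : X.Opens} (hU : IsAffineOpen U)

/-- (Copied from `Groth.Agent.Lib.Helper45.appIso_inv_algebraMap`.) -/
theorem appIso_inv_algebraMap' (V : (Spec Γ(X, U)).Opens) (r : Γ(X, U))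
    (hle : hU.fromSpec ''ᵁ V ≤ U) :
    (hU.fromSpec.appIso V).inv (algebraMap Γ(X, U) Γ(Spec Γ(X, U), V) r) =
      X.presheaf.map (homOfLE hle).op r := by
  have h : algebraMap Γ(X, U) Γ(Spec Γ(X, U), V) r =
      (hU.fromSpec.appIso V).hom (X.presheaf.map (homOfLE hle).op r) := by
    rw [Scheme.Hom.appIso_hom]
    have : X.presheaf.map (homOfLE hle).op ≫
          Scheme.Hom.app hU.fromSpec (hU.fromSpec ''ᵁ V) ≫ (Spec Γ(X, U)).presheaf.map (eqToHom (hU.fromSpec.preimage_image_eq V).symm).op
        = (Scheme.ΓSpecIso Γ(X, U)).inv ≫ (Spec Γ(X, U)).presheaf.map (homOfLE le_top).op := by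
      rw [← Category.assoc, hU.fromSpec.naturality, Category.assoc]
      rw [hU.fromSpec_app_self]
      simp only [Category.assoc, ← Functor.map_comp]
      rfl
    rw [AlgebraicGeometry.IsAffineOpen.algebraMap_Spec_obj, ← this]
    rfl
  rw [h]
  simp

theorem fromSpec_image_le (V : (Spec Γ(X, U)).Opens) : hU.fromSpec ''ᵁ V ≤ U := by
  conv_rhs => rw [← hU.opensRange_fromSpec]
  exact hU.fromSpec.image_le_opensRange V

/-- (Copied from `Groth.Agent.Lib.Helper45.smul_restrict_fromSpec`.) -/
theorem smul_restrict_fromSpec' (F : X.Modules) (V : (Spec Γ(X, U)).Opens) (r : Γ(X, U))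
    (m : Γ(F.restrict hU.fromSpec, V)) :
    r • m = (F.restrictAppIso hU.fromSpec V).inv
      ((X.presheaf.map (homOfLE (fromSpec_image_le hU V)).op r) •
        (F.restrictAppIso hU.fromSpec V).hom m) := by
  rw [Scheme.Modules.smul_Spec_def]
  rw [← appIso_inv_algebraMap' hU V r (fromSpec_image_le hU V)]
  rfl


theorem fromSpec_image_top : hU.fromSpec ''ᵁ ⊤ = U := by
  rw [Scheme.Hom.image_top_eq_opensRange, hU.opensRange_fromSpec]

/-- Global sections of `F.restrict hU.fromSpec` are the sections of `F` over `U`,
`Γ(X, U)`-linearly. -/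
noncomputable def sectionsFromSpecTopEquiv (F : X.Modules) :
    Γ(F.restrict hU.fromSpec, (⊤ : (Spec Γ(X, U)).Opens)) ≃ₗ[Γ(X, U)] Γ(F, U) where
  toFun m := F.presheaf.map (eqToHom (fromSpec_image_top hU).symm).op
    ((F.restrictAppIso hU.fromSpec ⊤).hom m)
  invFun m := (F.restrictAppIso hU.fromSpec ⊤).inv
    (F.presheaf.map (eqToHom (fromSpec_image_top hU)).op m)
  map_add' a b := by simp only [map_add]
  map_smul' r m := by
    rw [smul_restrict_fromSpec' hU F ⊤ r m]
    simp only [RingHom.id_apply]
    rw [Iso.inv_hom_id_apply, Scheme.Modules.map_smul]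
    congr 1
    rw [← ConcreteCategory.comp_apply, ← Functor.map_comp]
    exact congrFun (congrArg DFunLike.coe (congrArg CommRingCat.Hom.hom (X.presheaf.map_id _))) r
  left_inv m := by
    simp only
    rw [← ConcreteCategory.comp_apply (F.presheaf.map _) (F.presheaf.map _), ← Functor.map_comp]
    simp
  right_inv m := by
    simp only
    rw [Iso.inv_hom_id_apply, ← ConcreteCategory.comp_apply (F.presheaf.map _) (F.presheaf.map _),
      ← Functor.map_comp]
    simp


/-- For a quasi-coherent `F` and an affine open `U` such that `F|_U` (pulled back to `Spec`) has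
finitely many generating sections, `Γ(F, U)` is a finite `Γ(X, U)`-module. -/
theorem finite_sections_of_generatingSections (F : X.Modules) [F.IsQuasicoherent]
    (G : (F.restrict hU.fromSpec).GeneratingSections) [G.IsFiniteType] :
    Module.Finite Γ(X, U) Γ(F, U) := by
  have : (F.restrict hU.fromSpec).IsQuasicoherent :=
    Scheme.Modules.isQuasicoherent_restrictFunctor _ _
  have h : Module.Finite Γ(X, U) Γ(F.restrict hU.fromSpec, (⊤ : (Spec Γ(X, U)).Opens)) :=
    finite_Γ_of_generatingSections Γ(X, U) (F.restrict hU.fromSpec) G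
  exact Module.Finite.equiv (sectionsFromSpecTopEquiv hU F)

end fromSpec

/-- Transport generating sections of `M|_U` to an open immersion landing in `U`. -/
noncomputable def generatingSectionsOfLE {X Y : Scheme.{u}} (M : X.Modules) (U : X.Opens)
    (G : (M.restrict U.ι).GeneratingSections) (f : Y ⟶ X) [IsOpenImmersion f]
    (hf : Set.range f ⊆ U) : (M.restrict f).GeneratingSections := by
  have hr : Set.range f ⊆ Set.range U.ι := by simpa using hf
  have h1 : IsOpenImmersion (IsOpenImmersion.lift U.ι f hr ≫ U.ι) := by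
    rw [IsOpenImmersion.lift_fac]; infer_instance
  have : IsOpenImmersion (IsOpenImmersion.lift U.ι f hr) := IsOpenImmersion.of_comp _ U.ι
  exact (generatingSectionsRestrict (IsOpenImmersion.lift U.ι f hr) G).ofEpi
    (((Scheme.Modules.restrictFunctorComp _ _).symm ≪≫
      Scheme.Modules.restrictFunctorCongr (IsOpenImmersion.lift_fac U.ι f hr)).app M).hom

instance {X Y : Scheme.{u}} (M : X.Modules) (U : X.Opens)
    (G : (M.restrict U.ι).GeneratingSections) [G.IsFiniteType] (f : Y ⟶ X) [IsOpenImmersion f]
    (hf : Set.range f ⊆ U) : (generatingSectionsOfLE M U G f hf).IsFiniteType where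
  finite := inferInstanceAs (Finite G.I)


/-- If `M^~` is of finite type then `M` is a finite module. -/
theorem finite_of_isFiniteType_tilde (M : ModuleCat.{u} R)
    (h : SheafOfModules.IsFiniteType (R := (Spec R).ringCatSheaf) ((tilde.functor R).obj M)) :
    Module.Finite R M := by
  obtain ⟨ι, U, hU, hG⟩ := exists_cover_of_isFiniteType _ h
  let t : Set R := {g | Module.Finite Γ(Spec R, PrimeSpectrum.basicOpen g)
    Γ(tilde M, PrimeSpectrum.basicOpen g)}
  have ht : Ideal.span t = ⊤ := by
    by_contra hne
    obtain ⟨m, hm, hle⟩ := Ideal.exists_le_maximal _ hne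
    let x : Spec R := ⟨m, hm.isPrime⟩
    have hx : x ∈ (⨆ i, U i : (Spec R).Opens) := by rw [hU]; trivial
    obtain ⟨i, hi⟩ := TopologicalSpace.Opens.mem_iSup.mp hx
    obtain ⟨_, ⟨_, ⟨g, rfl⟩, rfl⟩, hxg, hgU⟩ :=
      PrimeSpectrum.isBasis_basic_opens.exists_subset_of_mem_open hi (U i).2
    obtain ⟨G, hGf⟩ := hG i
    have hD := IsAffineOpen.Spec_basicOpen g
    have hr : Set.range hD.fromSpec ⊆ U i := by rw [hD.range_fromSpec]; exact hgU
    have hfin : (generatingSectionsOfLE _ (U i) G hD.fromSpec hr).IsFiniteType :=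
      ⟨hGf.finite⟩
    have hgt : g ∈ t := @finite_sections_of_generatingSections _ _ hD (tilde M) inferInstance
      (generatingSectionsOfLE _ (U i) G hD.fromSpec hr) hfin
    exact hxg (hle (Ideal.subset_span hgt))
  let f : ∀ g : t, M →ₗ[R] Γ(tilde M, PrimeSpectrum.basicOpen g.1) :=
    fun g => (tilde.toOpen M (PrimeSpectrum.basicOpen g.1)).hom
  have hloc : ∀ g : t, IsLocalizedModule.Away g.1 (f g) := fun g =>
    inferInstanceAs (IsLocalizedModule.Away g.1 (tilde.toOpen M (PrimeSpectrum.basicOpen g.1)).hom)
  exact Module.Finite.of_localizationSpan' t ht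
    (Mₚ := fun g => Γ(tilde M, PrimeSpectrum.basicOpen g.1))
    (Rₚ := fun g => Γ(Spec R, PrimeSpectrum.basicOpen g.1)) f (fun g => g.2)


/-- A quasi-coherent module on `Spec R` is of finite type iff its module of global sections is
finite. -/
theorem isFiniteType_iff_finite_Γ (N : (Spec R).Modules) [N.IsQuasicoherent] :
    SheafOfModules.IsFiniteType (R := (Spec R).ringCatSheaf) N ↔
      Module.Finite R ((modulesSpecToSheaf.obj N).presheaf.obj (.op ⊤)) := by
  have h0 : IsIso (C := (Spec R).Modules) N.fromTildeΓ :=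
    (isQuasicoherent_iff_isIso_fromTildeΓ N).mp inferInstance
  let e : (tilde.functor R).obj ((modulesSpecToSheaf.obj N).presheaf.obj (.op ⊤)) ≅ N :=
    @asIso (Spec R).Modules _ _ _ N.fromTildeΓ h0
  constructor
  · intro h
    exact finite_of_isFiniteType_tilde R _ (isFiniteType_of_iso e.symm h)
  · intro h
    exact isFiniteType_of_iso e (isFiniteType_tilde_of_finite R _)

/-- For a quasi-coherent module of finite type `F` and an affine open `U`, `Γ(F, U)` is a finite
`Γ(X, U)`-module. -/
theorem finite_sections_of_isFiniteType {X : Scheme.{u}} (F : X.Modules) [F.IsQuasicoherent]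
    (hF : SheafOfModules.IsFiniteType (R := X.ringCatSheaf) F) {U : X.Opens}
    (hU : IsAffineOpen U) : Module.Finite Γ(X, U) Γ(F, U) := by
  have : (F.restrict hU.fromSpec).IsQuasicoherent :=
    Scheme.Modules.isQuasicoherent_restrictFunctor _ _
  have h : Module.Finite Γ(X, U) Γ(F.restrict hU.fromSpec, (⊤ : (Spec Γ(X, U)).Opens)) :=
    (isFiniteType_iff_finite_Γ Γ(X, U) (F.restrict hU.fromSpec)).mp
      (isFiniteType_restrict F hU.fromSpec hF)
  exact Module.Finite.equiv (sectionsFromSpecTopEquiv hU F)

/-- A quasi-coherent module whose sections over every affine open form a finite module is of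
finite type. -/
theorem isFiniteType_of_finite_sections {X : Scheme.{u}} (F : X.Modules) [F.IsQuasicoherent]
    (h : ∀ U : X.affineOpens, Module.Finite Γ(X, U.1) Γ(F, U.1)) :
    SheafOfModules.IsFiniteType (R := X.ringCatSheaf) F := by
  refine isFiniteType_of_forall_fromSpec F fun U => ?_
  have : (F.restrict U.2.fromSpec).IsQuasicoherent :=
    Scheme.Modules.isQuasicoherent_restrictFunctor _ _
  refine (isFiniteType_iff_finite_Γ Γ(X, U.1) (F.restrict U.2.fromSpec)).mpr ?_
  have := h U
  exact Module.Finite.equiv (sectionsFromSpecTopEquiv U.2 F).symm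

end Groth.Agent.Lib.Helper49
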