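import Mathlib
import Groth.Agent.Lib.Helper45.FiniteType
import Groth.Agent.Lib.Helper45.QCohStalk
import Groth.Agent.Lib.Helper49.FiniteTypeAffine

/-!
# The annihilator ideal sheaf of a quasi-coherent module of finite type

* `annihilator_map_of_isLocalizedModule`: annihilators of finite modules commute with localization.
* `annIdealSheaf F hF : X.IdealSheafData` with `ideal U = Ann Γ(F, U)` (rfl).
* `coe_support_annIdealSheaf`: its support is the support of `F` (nonzero stalks).
-/

set_option autoImplicit false
set_option linter.style.haveILetI false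
universe u

open AlgebraicGeometry CategoryTheory

namespace Groth.Agent.Lib.Helper49.AnnIdealSheaf

section algebra

variable {R A : Type*} [CommRing R] [CommRing A] [Algebra R A] (S : Submonoid R)
  [IsLocalization S A] {M M' : Type*} [AddCommGroup M] [Module R M] [AddCommGroup M']
  [Module R M'] [Module A M'] [IsScalarTower R A M']

/-- Annihilators of finite modules commute with localization. -/
theorem annihilator_map_of_isLocalizedModule (g : M →ₗ[R] M') [IsLocalizedModule S g]
    [Module.Finite R M] :
    (Module.annihilator R M).map (algebraMap R A) = Module.annihilator A M' := by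
  apply le_antisymm
  · refine Ideal.map_le_iff_le_comap.mpr fun a ha => ?_
    rw [Ideal.mem_comap, Module.mem_annihilator]
    intro m'
    obtain ⟨⟨m, s⟩, h⟩ := IsLocalizedModule.surj S g m'
    have h1 : s • (algebraMap R A a • m') = 0 := by
      rw [algebraMap_smul, smul_comm, h, ← map_smul, Module.mem_annihilator.mp ha m, map_zero]
    have h2 : s • (algebraMap R A a • m') = s • (0 : M') := by rw [h1, smul_zero]
    exact IsLocalizedModule.smul_injective g s h2
  · intro b hb
    classical
    obtain ⟨⟨a, s⟩, hbs⟩ := IsLocalization.surj S b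
    -- `a` kills the image of `M`
    have ha : ∀ m : M, g (a • m) = 0 := fun m => by
      rw [map_smul, ← algebraMap_smul A a (g m), ← hbs, mul_comm, mul_smul,
        Module.mem_annihilator.mp hb, smul_zero]
    obtain ⟨T, hT⟩ := (Module.Finite.fg_top : (⊤ : Submodule R M).FG)
    have hex : ∀ m ∈ T, ∃ t : S, t • (a • m) = 0 := fun m _ =>
      (IsLocalizedModule.eq_zero_iff S g).mp (ha m)
    choose! t ht using hex
    let u : S := ∏ m ∈ T, t m
    have hu : ∀ m ∈ T, (u : R) • (a • m) = 0 := fun m hm => by
      have : u = (∏ m' ∈ T.erase m, t m') * t m := by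
        rw [Finset.prod_erase_mul T t hm]
      rw [this, Submonoid.coe_mul, mul_smul]
      have := ht m hm
      rw [Submonoid.smul_def] at this
      rw [this, smul_zero]
    have hua : (u : R) * a ∈ Module.annihilator R M := by
      rw [Module.mem_annihilator]
      intro m
      have hm : m ∈ Submodule.span R (T : Set M) := by rw [hT]; trivial
      induction hm using Submodule.span_induction with
      | mem x hx => rw [mul_smul]; exact hu x hx
      | zero => rw [smul_zero]
      | add x y _ _ hx hy => rw [smul_add, hx, hy, add_zero]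
      | smul r x _ hx => rw [smul_comm, hx, smul_zero]
    have hunit : IsUnit (algebraMap R A ((s : R) * (u : R))) :=
      IsLocalization.map_units A (s * u)
    obtain ⟨v, hv⟩ := hunit
    have hb' : b = (↑v⁻¹ : A) * algebraMap R A ((u : R) * a) := by
      rw [map_mul, ← hbs, ← mul_assoc, ← mul_assoc]
      have : (↑v⁻¹ : A) * algebraMap R A u * b * algebraMap R A s =
          (↑v⁻¹ : A) * (algebraMap R A ((s : R) * (u : R))) * b := by
        rw [map_mul]; ring
      rw [this, ← hv, Units.inv_mul, one_mul]
    rw [hb']
    exact Ideal.mul_mem_left _ _ (Ideal.mem_map_of_mem _ hua)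

end algebra

section sheaf

open Groth.Agent.Lib.Helper45

attribute [local instance] sectionsBasicOpenModule stalkModuleSections

variable {X : Scheme.{u}} (F : X.Modules) [F.IsQuasicoherent]
  (hF : SheafOfModules.IsFiniteType (R := X.ringCatSheaf) F)

/-- The annihilator ideal sheaf of a quasi-coherent module of finite type. -/
noncomputable def annIdealSheaf : X.IdealSheafData where
  ideal U := Module.annihilator Γ(X, U.1) Γ(F, U.1)
  map_ideal_basicOpen U f := by
    have hfin : Module.Finite Γ(X, U.1) Γ(F, U.1) :=
      Groth.Agent.Lib.Helper49.finite_sections_of_isFiniteType F hF U.2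
    have hloc : IsLocalization.Away f Γ(X, X.basicOpen f) := U.2.isLocalization_basicOpen f
    have hlocM : IsLocalizedModule.Away f (restrictBasicOpenₗ F f) :=
      isLocalizedModule_restrictBasicOpenₗ U.2 F f
    have key : (Module.annihilator Γ(X, U.1) Γ(F, U.1)).map
        (algebraMap Γ(X, U.1) Γ(X, X.basicOpen f)) =
        Module.annihilator Γ(X, X.basicOpen f) Γ(F, X.basicOpen f) :=
      annihilator_map_of_isLocalizedModule (R := Γ(X, U.1)) (A := Γ(X, X.basicOpen f))
        (Submonoid.powers f) (restrictBasicOpenₗ F f)
    exact key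

theorem annIdealSheaf_ideal (U : X.affineOpens) :
    (annIdealSheaf F hF).ideal U = Module.annihilator Γ(X, U.1) Γ(F, U.1) := rfl

/-- The support of the annihilator ideal sheaf is the support of the module. -/
theorem coe_support_annIdealSheaf :
    ((annIdealSheaf F hF).support : Set X) = {x | ¬ Subsingleton (F.presheaf.stalk x)} := by
  ext x
  obtain ⟨_, ⟨U, hU, rfl⟩, hxU, -⟩ := X.isBasis_affineOpens.exists_subset_of_mem_open
    (Set.mem_univ x) isOpen_univ
  have hU : IsAffineOpen U := hU
  have hfin : Module.Finite Γ(X, U) Γ(F, U) :=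
    Groth.Agent.Lib.Helper49.finite_sections_of_isFiniteType F hF hU
  rw [SetLike.mem_coe, Scheme.IdealSheafData.mem_support_iff_of_mem (U := ⟨U, hU⟩) hxU,
    Scheme.mem_zeroLocus_iff, annIdealSheaf_ideal]
  change _ ↔ ¬ Subsingleton (F.presheaf.stalk x)
  obtain ⟨x', rfl⟩ : ∃ x' : U, (x' : X) = x := ⟨⟨x, hxU⟩, rfl⟩
  have hloc := isLocalizedModule_germₗ hU F x'
  have h1 : (∀ f ∈ (Module.annihilator Γ(X, U) Γ(F, U) : Set Γ(X, U)),
      (x' : X) ∉ X.basicOpen f) ↔
      Module.annihilator Γ(X, U) Γ(F, U) ≤ (hU.primeIdealOf x').asIdeal := by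
    refine ⟨fun h f hf => ?_, fun h f hf => ?_⟩
    · by_contra hfp
      exact h f hf ((mem_basicOpen_iff_not_mem_primeIdealOf hU x' f).mpr hfp)
    · intro hxf
      exact (mem_basicOpen_iff_not_mem_primeIdealOf hU x' f).mp hxf (h hf)
  rw [h1, ← Module.mem_support_iff_of_finite, Module.mem_support_iff,
    ← not_subsingleton_iff_nontrivial]
  have e := IsLocalizedModule.iso (hU.primeIdealOf x').asIdeal.primeCompl (germₗ F x')
  exact not_congr e.toEquiv.subsingleton_congr

end sheaf

end Groth.Agent.Lib.Helper49.AnnIdealSheaf
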