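import Mathlib

/-!
# Stalks of the scheme-theoretic fibre

`O_{X,x} → O_{X_s,y}` is surjective with kernel `m_s O_{X,x}`.
-/
universe u
open AlgebraicGeometry CategoryTheory Limits

namespace Groth.Agent.Lib.Helper49

/-- Uniqueness part of `SpecToEquivOfLocalRing`. -/
lemma spec_local_eq {X : Scheme.{u}} {R : CommRingCat.{u}} [IsLocalRing R]
    {x₁ x₂ : X} (φ₁ : X.presheaf.stalk x₁ ⟶ R) (φ₂ : X.presheaf.stalk x₂ ⟶ R)
    [h₁ : IsLocalHom φ₁.hom] [h₂ : IsLocalHom φ₂.hom]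
    (h : Spec.map φ₁ ≫ X.fromSpecStalk x₁ = Spec.map φ₂ ≫ X.fromSpecStalk x₂) :
    ∃ e : x₁ = x₂, φ₁ = (X.presheaf.stalkCongr (by rw [e]; rfl)).hom ≫ φ₂ := by
  have := (SpecToEquivOfLocalRing X R).symm.injective
    (a₁ := ⟨x₁, φ₁, h₁⟩) (a₂ := ⟨x₂, φ₂, h₂⟩) h
  exact SpecToEquivOfLocalRing_eq_iff.mp this

lemma map_le_ker {X S : Scheme.{u}} (f : X ⟶ S) (s : S) (y : ↥(f.fiber s)) :
    Ideal.map (f.stalkMap ((f.fiberι s).base y)).hom
        (IsLocalRing.maximalIdeal (S.presheaf.stalk (f.base ((f.fiberι s).base y)))) ≤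
      RingHom.ker ((f.fiberι s).stalkMap y).hom := by
  let C := (f.fiber s).presheaf.stalk y
  let u : Spec C ⟶ f.fiber s := (f.fiber s).fromSpecStalk y
  let θ : S.residueField s ⟶ C := Spec.preimage (u ≫ f.fiberToSpecResidueField s)
  have hθ : Spec.map θ = u ≫ f.fiberToSpecResidueField s := Spec.map_preimage _
  have h1 : Spec.map (f.stalkMap ((f.fiberι s).base y) ≫ (f.fiberι s).stalkMap y) ≫
      S.fromSpecStalk _ = Spec.map (S.residue s ≫ θ) ≫ S.fromSpecStalk s := by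
    rw [Spec.map_comp, Spec.map_comp, Category.assoc, Category.assoc,
      Scheme.SpecMap_stalkMap_fromSpecStalk, Scheme.SpecMap_stalkMap_fromSpecStalk_assoc, hθ,
      Category.assoc, f.fiber_fac s, Scheme.fromSpecResidueField]
  have hres : IsLocalHom (S.residue s).hom :=
    inferInstanceAs (IsLocalHom (IsLocalRing.residue (S.presheaf.stalk s)))
  have hθl : IsLocalHom θ.hom := inferInstance
  have hl2 : IsLocalHom (S.residue s ≫ θ).hom := CommRingCat.isLocalHom_comp _ _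
  have hl1 : IsLocalHom (f.stalkMap ((f.fiberι s).base y) ≫ (f.fiberι s).stalkMap y).hom :=
    CommRingCat.isLocalHom_comp _ _
  obtain ⟨e, he⟩ := spec_local_eq _ _ h1
  rw [Ideal.map_le_iff_le_comap]
  intro m hm
  rw [Ideal.mem_comap, RingHom.mem_ker]
  have h2 : ((f.stalkMap ((f.fiberι s).base y) ≫ (f.fiberι s).stalkMap y)).hom m = 0 := by
    rw [he]
    have hm' := _root_.map_nonunit
      (S.presheaf.stalkCongr (Inseparable.of_eq e)).hom.hom m hm
    have hz : (S.residue s).hom ((S.presheaf.stalkCongr (Inseparable.of_eq e)).hom.hom m) = 0 :=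
      (IsLocalRing.residue_eq_zero_iff _).mpr hm'
    change θ.hom ((S.residue s).hom ((S.presheaf.stalkCongr (Inseparable.of_eq e)).hom.hom m)) = 0
    rw [hz, map_zero]
  exact h2


lemma core {X Xs : Scheme.{u}} (ι : Xs ⟶ X) (hinj : Function.Injective ι.base) (y : Xs)
    {B : CommRingCat.{u}} [IsLocalRing B] (π : X.presheaf.stalk (ι.base y) ⟶ B)
    [hπ : IsLocalHom π.hom] (h' : Spec B ⟶ Xs)
    (hh : h' ≫ ι = Spec.map π ≫ X.fromSpecStalk (ι.base y)) :
    RingHom.ker (ι.stalkMap y).hom ≤ RingHom.ker π.hom := by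
  obtain ⟨y'', ψ, hψl, hψ⟩ : ∃ (y'' : Xs) (ψ : Xs.presheaf.stalk y'' ⟶ B),
      IsLocalHom ψ.hom ∧ h' = Spec.map ψ ≫ Xs.fromSpecStalk y'' :=
    ⟨h' (IsLocalRing.closedPoint B), Scheme.stalkClosedPointTo h', inferInstance,
      (Scheme.Spec_stalkClosedPointTo_fromSpecStalk h').symm⟩
  rw [hψ, Category.assoc, ← Scheme.SpecMap_stalkMap_fromSpecStalk, ← Spec.map_comp_assoc] at hh
  have hl : IsLocalHom (ι.stalkMap y'' ≫ ψ).hom := CommRingCat.isLocalHom_comp _ _
  obtain ⟨e, he⟩ := spec_local_eq _ _ hh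
  obtain rfl : y'' = y := hinj e
  intro a ha
  rw [RingHom.mem_ker] at ha ⊢
  have h3 : (ι.stalkMap y'' ≫ ψ).hom a = 0 := by
    change ψ.hom ((ι.stalkMap y'').hom a) = 0
    rw [ha, map_zero]
  rw [he] at h3
  simpa using h3


lemma exists_lift {X S : Scheme.{u}} (f : X ⟶ S) (x : X) (s : S) (hs : f.base x = s)
    {B : CommRingCat.{u}} (π : X.presheaf.stalk x ⟶ B)
    (hπ : ∀ m ∈ IsLocalRing.maximalIdeal (S.presheaf.stalk (f.base x)),
      π.hom ((f.stalkMap x).hom m) = 0) :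
    ∃ h' : Spec B ⟶ f.fiber s, h' ≫ f.fiberι s = Spec.map π ≫ X.fromSpecStalk x := by
  subst hs
  let ℓ : S.residueField (f.base x) ⟶ B :=
    CommRingCat.ofHom (Ideal.Quotient.lift _ (f.stalkMap x ≫ π).hom hπ)
  have hℓ : S.residue (f.base x) ≫ ℓ = f.stalkMap x ≫ π := by
    ext m
    rfl
  have w : (Spec.map π ≫ X.fromSpecStalk x) ≫ f =
      Spec.map ℓ ≫ S.fromSpecResidueField (f.base x) := by
    rw [Category.assoc, ← Scheme.SpecMap_stalkMap_fromSpecStalk, ← Spec.map_comp_assoc,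
      Scheme.fromSpecResidueField, ← Spec.map_comp_assoc, hℓ]
  exact ⟨pullback.lift _ _ w, pullback.lift_fst _ _ w⟩

lemma ker_le_map {X S : Scheme.{u}} (f : X ⟶ S) (s : S) (y : ↥(f.fiber s)) :
    RingHom.ker ((f.fiberι s).stalkMap y).hom ≤
      Ideal.map (f.stalkMap ((f.fiberι s).base y)).hom
        (IsLocalRing.maximalIdeal (S.presheaf.stalk (f.base ((f.fiberι s).base y)))) := by
  have hs : f.base ((f.fiberι s).base y) = s := by
    have : (f.fiberι s).base y ∈ Set.range (f.fiberι s) := ⟨y, rfl⟩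
    rw [f.range_fiberι s] at this
    exact this
  have hI := (IsLocalRing.map_maximalIdeal_lt_top (f.stalkMap ((f.fiberι s).base y)).hom).ne
  have hnt := Ideal.Quotient.nontrivial_iff.mpr hI
  have hloc := IsLocalRing.of_surjective' (Ideal.Quotient.mk (Ideal.map
    (f.stalkMap ((f.fiberι s).base y)).hom (IsLocalRing.maximalIdeal
      (S.presheaf.stalk (f.base ((f.fiberι s).base y)))))) Ideal.Quotient.mk_surjective
  have hπl := IsLocalHom.of_surjective (Ideal.Quotient.mk (Ideal.map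
    (f.stalkMap ((f.fiberι s).base y)).hom (IsLocalRing.maximalIdeal
      (S.presheaf.stalk (f.base ((f.fiberι s).base y)))))) Ideal.Quotient.mk_surjective
  obtain ⟨h', hh'⟩ := exists_lift f ((f.fiberι s).base y) s hs
    (CommRingCat.ofHom (Ideal.Quotient.mk (Ideal.map
    (f.stalkMap ((f.fiberι s).base y)).hom (IsLocalRing.maximalIdeal
      (S.presheaf.stalk (f.base ((f.fiberι s).base y)))))))
    (fun m hm => Ideal.Quotient.eq_zero_iff_mem.mpr (Ideal.mem_map_of_mem _ hm))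
  have := @core _ _ (f.fiberι s) (f.fiberι s).isEmbedding.injective y _ hloc _ hπl h' hh'
  refine this.trans (le_of_eq ?_)
  exact Ideal.mk_ker

end Groth.Agent.Lib.Helper49
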