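import Mathlib
import Groth.Agent.Lib.Helper49.FiniteTypeAffine
/-!
# Coherent modules on locally Noetherian schemes: quasi-coherent submodules are of finite type
-/
universe u
open AlgebraicGeometry CategoryTheory Limits

namespace Groth.Agent.Lib.Helper49

/-- A monomorphism of `O_X`-modules is injective on sections. -/
theorem app_injective_of_mono {X : Scheme.{u}} {K F : X.Modules} (i : K ⟶ F) [Mono i]
    (U : X.Opens) : Function.Injective (i.app U) := by
  have h1 : Mono ((Scheme.Modules.toPresheaf X).map i) := inferInstance
  have h2 : Mono (((Scheme.Modules.toPresheaf X).map i).app (.op U)) := inferInstance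
  exact (AddCommGrpCat.mono_iff_injective _).mp h2

/-- The map on sections as a linear map. -/
noncomputable def appₗ {X : Scheme.{u}} {K F : X.Modules} (i : K ⟶ F) (U : X.Opens) :
    Γ(K, U) →ₗ[Γ(X, U)] Γ(F, U) where
  toFun := i.app U
  map_add' := map_add _
  map_smul' r x := Scheme.Modules.Hom.app_smul i r x

/-- On a locally Noetherian scheme, a quasi-coherent submodule of a coherent module is of finite
type. -/
theorem isFiniteType_of_mono {X : Scheme.{u}} [IsLocallyNoetherian X] {K F : X.Modules}
    (i : K ⟶ F) [Mono i] [K.IsQuasicoherent] [F.IsQuasicoherent]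
    (hF : SheafOfModules.IsFiniteType (R := X.ringCatSheaf) F) :
    SheafOfModules.IsFiniteType (R := X.ringCatSheaf) K := by
  refine isFiniteType_of_finite_sections K fun U => ?_
  have := IsLocallyNoetherian.component_noetherian U
  have := finite_sections_of_isFiniteType F hF U.2
  have : IsNoetherian Γ(X, U.1) Γ(F, U.1) := isNoetherian_of_isNoetherianRing_of_finite _ _
  exact Module.Finite.of_injective (appₗ i U.1) (app_injective_of_mono i U.1)

end Groth.Agent.Lib.Helper49
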