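import Mathlib
/-!
# Spreading out properties of a linear map from the localization at a prime to a basic open

Pure commutative algebra used to pass from stalks of coherent sheaves to neighbourhoods.
-/
universe u
open CategoryTheory

namespace Groth.Agent.Lib.Helper49

section

variable {R : Type*} [CommRing R] {M N : Type*} [AddCommGroup M] [AddCommGroup N]
  [Module R M] [Module R N] (f : M →ₗ[R] N)
  {M' N' : Type*} [AddCommGroup M'] [AddCommGroup N'] [Module R M'] [Module R N']

/-- If `g ∈ S` kills every module element, the localization at `S` is trivial. -/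
theorem subsingleton_of_forall_pow_smul_eq_zero (S : Submonoid R) (a : M →ₗ[R] M')
    [IsLocalizedModule S a] (g : R) (hg : g ∈ S) (h : ∀ m : M, ∃ n : ℕ, g ^ n • m = 0) :
    Subsingleton M' := by
  refine ⟨fun x y => ?_⟩
  have key : ∀ z : M', z = 0 := by
    intro z
    obtain ⟨⟨m, s⟩, hz⟩ := IsLocalizedModule.surj S a z
    obtain ⟨n, hn⟩ := h m
    have h1 : a m = 0 := by
      rw [IsLocalizedModule.eq_zero_iff S]
      exact ⟨⟨g ^ n, pow_mem hg n⟩, hn⟩
    have h2 : s • z = 0 := by rw [hz, h1]
    have hu := IsLocalizedModule.map_units a s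
    rw [Module.End.isUnit_iff] at hu
    apply hu.1
    rw [Module.algebraMap_end_apply, Module.algebraMap_end_apply, smul_zero]
    exact h2
  rw [key x, key y]

/-- If `ker f` is killed by powers of `g ∈ S`, the localization of `f` at `S` is injective. -/
theorem map_injective_of_forall_pow_smul (S : Submonoid R) (a : M →ₗ[R] M') (b : N →ₗ[R] N')
    [IsLocalizedModule S a] [IsLocalizedModule S b] (g : R) (hg : g ∈ S)
    (h : ∀ m : M, f m = 0 → ∃ n : ℕ, g ^ n • m = 0) :
    Function.Injective (IsLocalizedModule.map S a b f) := by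
  refine IsLocalizedModule.injective_of_map_zero S a fun m hm => ?_
  rw [IsLocalizedModule.map_apply, IsLocalizedModule.eq_zero_iff S] at hm
  obtain ⟨t, ht⟩ := hm
  rw [Submonoid.smul_def] at ht
  have h1 : f ((t : R) • m) = 0 := by rw [map_smul]; exact ht
  obtain ⟨n, hn⟩ := h _ h1
  rw [IsLocalizedModule.eq_zero_iff S]
  refine ⟨⟨g ^ n, pow_mem hg n⟩ * t, ?_⟩
  rw [Submonoid.smul_def, Submonoid.coe_mul, mul_smul]
  exact hn

/-- If `coker f` is killed by powers of `g ∈ S`, the localization of `f` at `S` is surjective. -/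
theorem map_surjective_of_forall_pow_smul (S : Submonoid R) (a : M →ₗ[R] M') (b : N →ₗ[R] N')
    [IsLocalizedModule S a] [IsLocalizedModule S b] (g : R) (hg : g ∈ S)
    (h : ∀ n' : N, ∃ (k : ℕ) (m : M), g ^ k • n' = f m) :
    Function.Surjective (IsLocalizedModule.map S a b f) := by
  intro y
  obtain ⟨⟨n', s⟩, hy⟩ := IsLocalizedModule.surj S b y
  obtain ⟨k, m, hk⟩ := h n'
  let t : S := ⟨g ^ k, pow_mem hg k⟩ * s
  refine ⟨IsLocalizedModule.mk' a m t, ?_⟩
  rw [IsLocalizedModule.map_mk', IsLocalizedModule.mk'_eq_iff]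
  change b (f m) = (g ^ k * (s : R)) • y
  rw [mul_smul, ← hk, map_smul]
  congr 1
  exact hy.symm
end

section

variable {R : Type*} [CommRing R] {M N : Type*} [AddCommGroup M] [AddCommGroup N]
  [Module R M] [Module R N] (f : M →ₗ[R] N)
  {M' N' : Type*} [AddCommGroup M'] [AddCommGroup N'] [Module R M'] [Module R N']
  (p : Ideal R) [p.IsPrime]

/-- A finite module whose localization at `p` vanishes is killed by some `g ∉ p`. -/
theorem exists_smul_eq_zero_of_subsingleton [Module.Finite R M] (a : M →ₗ[R] M')
    [IsLocalizedModule p.primeCompl a] [Subsingleton M'] :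
    ∃ g : R, g ∉ p ∧ ∀ m : M, g • m = 0 := by
  classical
  obtain ⟨σ, hσ⟩ := (Module.Finite.fg_top : (⊤ : Submodule R M).FG)
  have h1 : ∀ m : M, ∃ s : p.primeCompl, s • m = 0 := fun m =>
    (IsLocalizedModule.eq_zero_iff p.primeCompl a).mp (Subsingleton.elim _ _)
  choose s hs using h1
  refine ⟨σ.prod fun m => (s m : R), ?_, ?_⟩
  · have : (σ.prod fun m => (s m : R)) ∈ p.primeCompl :=
      Submonoid.prod_mem _ fun m _ => (s m).2
    exact this
  · intro m
    have hm : m ∈ Submodule.span R (σ : Set M) := hσ ▸ Submodule.mem_top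
    induction hm using Submodule.span_induction with
    | mem x hx =>
      rw [← Finset.prod_erase_mul σ _ hx, mul_smul]
      have := hs x
      rw [Submonoid.smul_def] at this
      rw [this, smul_zero]
    | zero => simp
    | add x y _ _ hx hy => rw [smul_add, hx, hy, add_zero]
    | smul r x _ hx => rw [smul_comm, hx, smul_zero]

/-- If the localization of `f` at `p` is injective and `M` is Noetherian, then some `g ∉ p` kills
`ker f`. -/
theorem exists_forall_smul_eq_zero_of_map_injective [IsNoetherian R M]
    (a : M →ₗ[R] M') (b : N →ₗ[R] N')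
    [IsLocalizedModule p.primeCompl a] [IsLocalizedModule p.primeCompl b]
    (hinj : Function.Injective (IsLocalizedModule.map p.primeCompl a b f)) :
    ∃ g : R, g ∉ p ∧ ∀ m : M, f m = 0 → g • m = 0 := by
  classical
  obtain ⟨σ, hσ⟩ := (IsNoetherian.noetherian (LinearMap.ker f) : (LinearMap.ker f).FG)
  have h1 : ∀ m : M, ∃ s : p.primeCompl, f m = 0 → s • m = 0 := by
    intro m
    by_cases hm : f m = 0
    · have h2 : a m = 0 := by
        apply hinj
        rw [IsLocalizedModule.map_apply, hm, map_zero, map_zero]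
      obtain ⟨s, hs⟩ := (IsLocalizedModule.eq_zero_iff p.primeCompl a).mp h2
      exact ⟨s, fun _ => hs⟩
    · exact ⟨1, fun h => absurd h hm⟩
  choose s hs using h1
  refine ⟨σ.prod fun m => (s m : R), ?_, ?_⟩
  · have : (σ.prod fun m => (s m : R)) ∈ p.primeCompl :=
      Submonoid.prod_mem _ fun m _ => (s m).2
    exact this
  · have key : ∀ m ∈ Submodule.span R (σ : Set M), (σ.prod fun m => (s m : R)) • m = 0 := by
      intro m hm'
      induction hm' using Submodule.span_induction with
      | mem x hx =>
        rw [← Finset.prod_erase_mul σ _ hx, mul_smul]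
        have hx' : f x = 0 := by
          have : x ∈ LinearMap.ker f := hσ ▸ Submodule.subset_span hx
          exact this
        have := hs x hx'
        rw [Submonoid.smul_def] at this
        rw [this, smul_zero]
      | zero => simp
      | add x y _ _ hx hy => rw [smul_add, hx, hy, add_zero]
      | smul r x _ hx => rw [smul_comm, hx, smul_zero]
    intro m hm
    exact key m (by rw [hσ]; exact hm)

/-- If the localization of `f` at `p` is bijective, `M` finite and `N` finitely presented, then
for some `g ∉ p` both `ker f` and `coker f` are killed by powers of `g`. -/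
theorem exists_of_map_bijective [Module.Finite R M] [Module.FinitePresentation R N]
    (a : M →ₗ[R] M') (b : N →ₗ[R] N')
    [IsLocalizedModule p.primeCompl a] [IsLocalizedModule p.primeCompl b]
    (hbij : Function.Bijective (IsLocalizedModule.map p.primeCompl a b f)) :
    ∃ g : R, g ∉ p ∧ (∀ m : M, f m = 0 → ∃ n : ℕ, g ^ n • m = 0) ∧
      (∀ n' : N, ∃ (k : ℕ) (m : M), g ^ k • n' = f m) := by
  obtain ⟨g, hg, hb⟩ := Module.FinitePresentation.exists_notMem_bijective f p a b hbij
  refine ⟨g, hg, ?_, ?_⟩
  · intro m hm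
    have h1 : LocalizedModule.map (Submonoid.powers g) f
        (LocalizedModule.mkLinearMap (Submonoid.powers g) M m) = 0 := by
      simp [LocalizedModule.map_mk, hm]
    have h2 : LocalizedModule.mkLinearMap (Submonoid.powers g) M m = 0 := by
      apply hb.1
      rw [h1, map_zero]
    obtain ⟨⟨_, n, rfl⟩, hs⟩ :=
      (IsLocalizedModule.eq_zero_iff (Submonoid.powers g)
        (LocalizedModule.mkLinearMap (Submonoid.powers g) M)).mp h2
    exact ⟨n, hs⟩
  · intro n'
    obtain ⟨z, hz⟩ := hb.2 (LocalizedModule.mkLinearMap (Submonoid.powers g) N n')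
    obtain ⟨⟨m, s⟩, rfl⟩ := IsLocalizedModule.mk'_surjective (Submonoid.powers g)
      (LocalizedModule.mkLinearMap (Submonoid.powers g) M) z
    obtain ⟨k, hk⟩ : ∃ k : ℕ, g ^ k = (s : R) := s.2
    have hz2 : IsLocalizedModule.map (Submonoid.powers g)
        (LocalizedModule.mkLinearMap (Submonoid.powers g) M)
        (LocalizedModule.mkLinearMap (Submonoid.powers g) N) f
        (IsLocalizedModule.mk' (LocalizedModule.mkLinearMap (Submonoid.powers g) M) m s) =
        LocalizedModule.mkLinearMap (Submonoid.powers g) N n' := hz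
    rw [IsLocalizedModule.map_mk', IsLocalizedModule.mk'_eq_iff] at hz2
    have h3 : LocalizedModule.mkLinearMap (Submonoid.powers g) N (f m) =
        LocalizedModule.mkLinearMap (Submonoid.powers g) N (g ^ k • n') := by
      rw [hz2, map_smul, hk]
      rfl
    obtain ⟨t, hj⟩ := IsLocalizedModule.exists_of_eq (S := Submonoid.powers g)
      (f := LocalizedModule.mkLinearMap (Submonoid.powers g) N) h3
    obtain ⟨j, hj'⟩ : ∃ j : ℕ, g ^ j = (t : R) := t.2
    rw [Submonoid.smul_def, Submonoid.smul_def, ← hj'] at hj
    refine ⟨j + k, g ^ j • m, ?_⟩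
    rw [pow_add, mul_smul, map_smul]
    exact hj.symm

end

end Groth.Agent.Lib.Helper49
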