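import Mathlib
import Groth.Agent.Lib.Helper45.ModulesBasic
import Groth.Agent.Lib.Helper49.CohNoeth
import Groth.Agent.Lib.Helper49.LocalizeNearPrime
/-!
# Stalk maps of morphisms of `O_X`-modules and spreading out from a stalk to a neighbourhood

* `stalkMap φ x`, its linearity (`stalkMap_smul`, `stalkMapₗ`) and its description as a localization
  of the map on sections over an affine open (`stalkMapₗ_eq_map`).
* Stalkwise criteria: `mono_of_stalkMap_injective`, `isIso_of_stalkMap_bijective`,
  `stalkMap_injective_of_mono`.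
* Compatibility with restriction to an open subscheme (`stalkMap_restrict`).
* For coherent modules on a locally Noetherian scheme: vanishing / injectivity / bijectivity at a
  stalk spreads out to a neighbourhood.
-/
universe u
open CategoryTheory CategoryTheory.Limits AlgebraicGeometry TopologicalSpace

namespace Groth.Agent.Lib.Helper49

variable {X : Scheme.{u}}

/-- The stalk map of a morphism of `O_X`-modules. -/
noncomputable abbrev stalkMap {M N : X.Modules} (φ : M ⟶ N) (x : X) :
    M.presheaf.stalk x ⟶ N.presheaf.stalk x :=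
  (TopCat.Presheaf.stalkFunctor _ x).map φ.mapPresheaf

theorem stalkMap_germ {M N : X.Modules} (φ : M ⟶ N) (U : X.Opens) (x : X) (hx : x ∈ U)
    (s : Γ(M, U)) :
    (stalkMap φ x).hom (M.presheaf.germ U x hx s) = N.presheaf.germ U x hx (φ.app U s) :=
  TopCat.Presheaf.stalkFunctor_map_germ_apply U x hx φ.mapPresheaf s

/-- Stalk maps are linear over the stalk of the structure sheaf. -/
theorem stalkMap_smul {M N : X.Modules} (φ : M ⟶ N) (x : X) (r : X.presheaf.stalk x)
    (a : M.presheaf.stalk x) :
    (stalkMap φ x).hom (r • a) = r • (stalkMap φ x).hom a := by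
  obtain ⟨U, hxU, r', rfl⟩ := TopCat.Presheaf.exists_germ_eq X.presheaf r
  obtain ⟨V, hxV, a', rfl⟩ := TopCat.Presheaf.exists_germ_eq M.presheaf a
  have hxW : x ∈ U ⊓ V := ⟨hxU, hxV⟩
  rw [← TopCat.Presheaf.germ_res_apply X.presheaf (homOfLE (inf_le_left : U ⊓ V ≤ U)) x hxW r',
    ← TopCat.Presheaf.germ_res_apply M.presheaf (homOfLE (inf_le_right : U ⊓ V ≤ V)) x hxW a',
    ← Helper45.germ_smul, stalkMap_germ, stalkMap_germ, Scheme.Modules.Hom.app_smul,
    Helper45.germ_smul]

/-- The stalk map as a linear map over the stalk of the structure sheaf. -/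
noncomputable def stalkMapLinear {M N : X.Modules} (φ : M ⟶ N) (x : X) :
    ↑(M.presheaf.stalk x) →ₗ[X.presheaf.stalk x] ↑(N.presheaf.stalk x) where
  toFun := (stalkMap φ x).hom
  map_add' := map_add _
  map_smul' r a := stalkMap_smul φ x r a

section Affine

attribute [local instance] Helper45.stalkModuleSections

/-- The stalk map at a point of `U` as a `Γ(X, U)`-linear map. -/
noncomputable def stalkMapₗ {M N : X.Modules} (φ : M ⟶ N) {U : X.Opens} (x : U) :
    ↑(M.presheaf.stalk (x : X)) →ₗ[Γ(X, U)] ↑(N.presheaf.stalk (x : X)) where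
  toFun := (stalkMap φ x).hom
  map_add' := map_add _
  map_smul' r a := stalkMap_smul φ x (algebraMap Γ(X, U) (X.presheaf.stalk (x : X)) r) a

@[simp] theorem stalkMapₗ_apply {M N : X.Modules} (φ : M ⟶ N) {U : X.Opens} (x : U)
    (a : ↑(M.presheaf.stalk (x : X))) : stalkMapₗ φ x a = (stalkMap φ x).hom a := rfl

/-- On an affine open, the stalk map of a morphism of quasi-coherent modules is the localization
of the map on sections. -/
theorem stalkMapₗ_eq_map {M N : X.Modules} [M.IsQuasicoherent] [N.IsQuasicoherent] (φ : M ⟶ N)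
    {U : X.Opens} (hU : IsAffineOpen U) (x : U) :
    haveI := Helper45.isLocalizedModule_germₗ hU M x
    haveI := Helper45.isLocalizedModule_germₗ hU N x
    stalkMapₗ φ x = IsLocalizedModule.map (hU.primeIdealOf x).asIdeal.primeCompl
      (Helper45.germₗ M x) (Helper45.germₗ N x) (appₗ φ U) := by
  have := Helper45.isLocalizedModule_germₗ hU M x
  have := Helper45.isLocalizedModule_germₗ hU N x
  apply IsLocalizedModule.linearMap_ext (hU.primeIdealOf x).asIdeal.primeCompl
    (Helper45.germₗ M x) (Helper45.germₗ N x)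
  ext m
  rw [LinearMap.comp_apply, LinearMap.comp_apply, IsLocalizedModule.map_apply]
  exact stalkMap_germ φ U x x.2 m

end Affine

section Criteria

/-- The underlying sheaf of abelian groups of an `O_X`-module. -/
noncomputable abbrev toSheafAb (M : X.Modules) : TopCat.Sheaf Ab X := ⟨M.presheaf, M.isSheaf⟩

theorem app_injective_of_stalkMap_injective {M N : X.Modules} (φ : M ⟶ N) (U : X.Opens)
    (h : ∀ x ∈ U, Function.Injective (stalkMap φ x).hom) : Function.Injective (φ.app U) :=
  TopCat.Presheaf.app_injective_of_stalkFunctor_map_injective (F := toSheafAb M)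
    φ.mapPresheaf U h

theorem mono_of_app_injective {M N : X.Modules} (φ : M ⟶ N)
    (h : ∀ U : X.Opens, Function.Injective (φ.app U)) : Mono φ := by
  have h1 : Mono ((Scheme.Modules.toPresheaf X).map φ) := by
    have : ∀ U, Mono (((Scheme.Modules.toPresheaf X).map φ).app U) := fun U =>
      (AddCommGrpCat.mono_iff_injective _).mpr (h U.unop)
    exact NatTrans.mono_of_mono_app _
  exact Functor.mono_of_mono_map (Scheme.Modules.toPresheaf X) h1

/-- A morphism of `O_X`-modules that is injective on all stalks is a monomorphism. -/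
theorem mono_of_stalkMap_injective {M N : X.Modules} (φ : M ⟶ N)
    (h : ∀ x : X, Function.Injective (stalkMap φ x).hom) : Mono φ :=
  mono_of_app_injective φ fun U => app_injective_of_stalkMap_injective φ U fun x _ => h x

/-- A monomorphism of `O_X`-modules is injective on stalks. -/
theorem stalkMap_injective_of_mono {M N : X.Modules} (φ : M ⟶ N) [Mono φ] (x : X) :
    Function.Injective (stalkMap φ x).hom :=
  TopCat.Presheaf.stalkFunctor_map_injective_of_app_injective
    (f := φ.mapPresheaf) (fun U => app_injective_of_mono φ U) x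

/-- A morphism of `O_X`-modules that is bijective on all stalks is an isomorphism. -/
theorem isIso_of_stalkMap_bijective {M N : X.Modules} (φ : M ⟶ N)
    (h : ∀ x : X, Function.Bijective (stalkMap φ x).hom) : IsIso φ := by
  rw [Scheme.Modules.Hom.isIso_iff_isIso_app]
  intro U
  rw [ConcreteCategory.isIso_iff_bijective]
  exact TopCat.Presheaf.app_bijective_of_stalkFunctor_map_bijective
    (F := toSheafAb M) (G := toSheafAb N) ⟨φ.mapPresheaf⟩ U fun x _ => h x

end Criteria

section Restrict

variable {Y : Scheme.{u}} (f : Y ⟶ X) [IsOpenImmersion f]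

/-- The stalk of the restriction along an open immersion. -/
noncomputable def restrictStalkIso (M : X.Modules) (y : Y) :
    ((Scheme.Modules.restrictFunctor f).obj M).presheaf.stalk y ≅ M.presheaf.stalk (f y) :=
  (Scheme.Modules.restrictStalkNatIso f y).app M

theorem stalkMap_restrict {M N : X.Modules} (φ : M ⟶ N) (y : Y) :
    stalkMap ((Scheme.Modules.restrictFunctor f).map φ) y ≫ (restrictStalkIso f N y).hom =
      (restrictStalkIso f M y).hom ≫ stalkMap φ (f y) :=
  (Scheme.Modules.restrictStalkNatIso f y).hom.naturality φ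

theorem restrictStalkIso_hom_bijective (M : X.Modules) (y : Y) :
    Function.Bijective (restrictStalkIso f M y).hom.hom :=
  (ConcreteCategory.isIso_iff_bijective _).mp inferInstance

theorem stalkMap_restrict_apply {M N : X.Modules} (φ : M ⟶ N) (y : Y)
    (a : ↑(((Scheme.Modules.restrictFunctor f).obj M).presheaf.stalk y)) :
    (restrictStalkIso f N y).hom.hom ((stalkMap ((Scheme.Modules.restrictFunctor f).map φ) y).hom a) =
      (stalkMap φ (f y)).hom ((restrictStalkIso f M y).hom.hom a) := by
  have := congrArg (fun g => g.hom a) (stalkMap_restrict f φ y)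
  simpa using this

theorem stalkMap_restrict_injective {M N : X.Modules} (φ : M ⟶ N) (y : Y)
    (h : Function.Injective (stalkMap φ (f y)).hom) :
    Function.Injective (stalkMap ((Scheme.Modules.restrictFunctor f).map φ) y).hom := by
  intro a b hab
  apply (restrictStalkIso_hom_bijective f M y).1
  apply h
  rw [← stalkMap_restrict_apply, ← stalkMap_restrict_apply, hab]

theorem stalkMap_restrict_surjective {M N : X.Modules} (φ : M ⟶ N) (y : Y)
    (h : Function.Surjective (stalkMap φ (f y)).hom) :
    Function.Surjective (stalkMap ((Scheme.Modules.restrictFunctor f).map φ) y).hom := by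
  intro b
  obtain ⟨a, ha⟩ := h ((restrictStalkIso f N y).hom.hom b)
  obtain ⟨a', rfl⟩ := (restrictStalkIso_hom_bijective f M y).2 a
  refine ⟨a', ?_⟩
  apply (restrictStalkIso_hom_bijective f N y).1
  rw [stalkMap_restrict_apply, ha]

theorem subsingleton_stalk_restrict (M : X.Modules) (y : Y)
    (h : Subsingleton ↑(M.presheaf.stalk (f y))) :
    Subsingleton ↑(((Scheme.Modules.restrictFunctor f).obj M).presheaf.stalk y) :=
  (restrictStalkIso_hom_bijective f M y).1.subsingleton

end Restrict

section Spread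

attribute [local instance] Helper45.stalkModuleSections

variable {M N : X.Modules} [M.IsQuasicoherent] [N.IsQuasicoherent] (φ : M ⟶ N)
  {U : X.Opens} (hU : IsAffineOpen U)

include hU

theorem stalkMap_injective_of_forall_pow_smul (g : Γ(X, U))
    (h : ∀ m : Γ(M, U), φ.app U m = 0 → ∃ n : ℕ, g ^ n • m = 0) (y : X)
    (hy : y ∈ X.basicOpen g) : Function.Injective (stalkMap φ y).hom := by
  have hyU : y ∈ U := X.basicOpen_le g hy
  obtain ⟨x, rfl⟩ : ∃ x : U, (x : X) = y := ⟨⟨y, hyU⟩, rfl⟩
  have := Helper45.isLocalizedModule_germₗ hU M x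
  have := Helper45.isLocalizedModule_germₗ hU N x
  have hg : g ∈ (hU.primeIdealOf x).asIdeal.primeCompl :=
    (Helper45.mem_basicOpen_iff_not_mem_primeIdealOf hU x g).mp hy
  have h1 := map_injective_of_forall_pow_smul (appₗ φ U) _ (Helper45.germₗ M x)
    (Helper45.germₗ N x) g hg h
  rw [← stalkMapₗ_eq_map φ hU x] at h1
  exact h1

theorem stalkMap_surjective_of_forall_pow_smul (g : Γ(X, U))
    (h : ∀ n' : Γ(N, U), ∃ (k : ℕ) (m : Γ(M, U)), g ^ k • n' = φ.app U m) (y : X)
    (hy : y ∈ X.basicOpen g) : Function.Surjective (stalkMap φ y).hom := by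
  have hyU : y ∈ U := X.basicOpen_le g hy
  obtain ⟨x, rfl⟩ : ∃ x : U, (x : X) = y := ⟨⟨y, hyU⟩, rfl⟩
  have := Helper45.isLocalizedModule_germₗ hU M x
  have := Helper45.isLocalizedModule_germₗ hU N x
  have hg : g ∈ (hU.primeIdealOf x).asIdeal.primeCompl :=
    (Helper45.mem_basicOpen_iff_not_mem_primeIdealOf hU x g).mp hy
  have h1 := map_surjective_of_forall_pow_smul (appₗ φ U) _ (Helper45.germₗ M x)
    (Helper45.germₗ N x) g hg h
  rw [← stalkMapₗ_eq_map φ hU x] at h1
  exact h1

omit [N.IsQuasicoherent] in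
theorem subsingleton_stalk_of_forall_pow_smul (g : Γ(X, U))
    (h : ∀ m : Γ(M, U), ∃ n : ℕ, g ^ n • m = 0) (y : X) (hy : y ∈ X.basicOpen g) :
    Subsingleton ↑(M.presheaf.stalk y) := by
  have hyU : y ∈ U := X.basicOpen_le g hy
  obtain ⟨x, rfl⟩ : ∃ x : U, (x : X) = y := ⟨⟨y, hyU⟩, rfl⟩
  have := Helper45.isLocalizedModule_germₗ hU M x
  have hg : g ∈ (hU.primeIdealOf x).asIdeal.primeCompl :=
    (Helper45.mem_basicOpen_iff_not_mem_primeIdealOf hU x g).mp hy
  exact subsingleton_of_forall_pow_smul_eq_zero _ (Helper45.germₗ M x) g hg h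

omit [N.IsQuasicoherent] in
/-- A quasi-coherent module of finite type whose stalk at `x` vanishes is killed by a function
not vanishing at `x`. -/
theorem exists_smul_eq_zero_of_stalk_subsingleton
    (hM : SheafOfModules.IsFiniteType (R := X.ringCatSheaf) M) (x : U)
    [Subsingleton ↑(M.presheaf.stalk (x : X))] :
    ∃ g : Γ(X, U), (x : X) ∈ X.basicOpen g ∧ ∀ m : Γ(M, U), g • m = 0 := by
  have := Helper45.isLocalizedModule_germₗ hU M x
  have := finite_sections_of_isFiniteType M hM hU
  obtain ⟨g, hg, h⟩ := exists_smul_eq_zero_of_subsingleton (hU.primeIdealOf x).asIdeal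
    (Helper45.germₗ M x)
  exact ⟨g, (Helper45.mem_basicOpen_iff_not_mem_primeIdealOf hU x g).mpr hg, h⟩

/-- Injectivity of a stalk map of coherent modules spreads out (locally Noetherian case). -/
theorem exists_smul_eq_zero_of_stalkMap_injective [IsLocallyNoetherian X]
    (hM : SheafOfModules.IsFiniteType (R := X.ringCatSheaf) M) (x : U)
    (hinj : Function.Injective (stalkMap φ x).hom) :
    ∃ g : Γ(X, U), (x : X) ∈ X.basicOpen g ∧ ∀ m : Γ(M, U), φ.app U m = 0 → g • m = 0 := by
  have := Helper45.isLocalizedModule_germₗ hU M x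
  have := Helper45.isLocalizedModule_germₗ hU N x
  have := finite_sections_of_isFiniteType M hM hU
  have := IsLocallyNoetherian.component_noetherian ⟨U, hU⟩
  have : IsNoetherian Γ(X, U) Γ(M, U) := isNoetherian_of_isNoetherianRing_of_finite _ _
  have h1 : Function.Injective (IsLocalizedModule.map (hU.primeIdealOf x).asIdeal.primeCompl
      (Helper45.germₗ M x) (Helper45.germₗ N x) (appₗ φ U)) := by
    rw [← stalkMapₗ_eq_map φ hU x]
    exact hinj
  obtain ⟨g, hg, h⟩ := exists_forall_smul_eq_zero_of_map_injective (appₗ φ U)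
    (hU.primeIdealOf x).asIdeal (Helper45.germₗ M x) (Helper45.germₗ N x) h1
  exact ⟨g, (Helper45.mem_basicOpen_iff_not_mem_primeIdealOf hU x g).mpr hg, h⟩

/-- Bijectivity of a stalk map of coherent modules spreads out (locally Noetherian case). -/
theorem exists_of_stalkMap_bijective [IsLocallyNoetherian X]
    (hM : SheafOfModules.IsFiniteType (R := X.ringCatSheaf) M)
    (hN : SheafOfModules.IsFiniteType (R := X.ringCatSheaf) N) (x : U)
    (hbij : Function.Bijective (stalkMap φ x).hom) :
    ∃ g : Γ(X, U), (x : X) ∈ X.basicOpen g ∧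
      (∀ m : Γ(M, U), φ.app U m = 0 → ∃ n : ℕ, g ^ n • m = 0) ∧
      (∀ n' : Γ(N, U), ∃ (k : ℕ) (m : Γ(M, U)), g ^ k • n' = φ.app U m) := by
  have := Helper45.isLocalizedModule_germₗ hU M x
  have := Helper45.isLocalizedModule_germₗ hU N x
  have := finite_sections_of_isFiniteType M hM hU
  have := finite_sections_of_isFiniteType N hN hU
  have := IsLocallyNoetherian.component_noetherian ⟨U, hU⟩
  have : Module.FinitePresentation Γ(X, U) Γ(N, U) := Module.finitePresentation_of_finite _ _
  have h1 : Function.Bijective (IsLocalizedModule.map (hU.primeIdealOf x).asIdeal.primeCompl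
      (Helper45.germₗ M x) (Helper45.germₗ N x) (appₗ φ U)) := by
    rw [← stalkMapₗ_eq_map φ hU x]
    exact hbij
  obtain ⟨g, hg, h⟩ := exists_of_map_bijective (appₗ φ U)
    (hU.primeIdealOf x).asIdeal (Helper45.germₗ M x) (Helper45.germₗ N x) h1
  exact ⟨g, (Helper45.mem_basicOpen_iff_not_mem_primeIdealOf hU x g).mpr hg, h⟩

end Spread

section Final

theorem ι_mem (U : X.Opens) (z : U.toScheme) : U.ι z ∈ U := by
  have : U.ι z ∈ U.ι.opensRange := ⟨z, rfl⟩
  rwa [Scheme.Opens.opensRange_ι] at this

/-- A coherent module whose stalk at `x` vanishes is zero on a neighbourhood of `x`. -/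
theorem exists_isZero_restrict_of_stalk_subsingleton (F : X.Modules) [F.IsQuasicoherent]
    (hF : SheafOfModules.IsFiniteType (R := X.ringCatSheaf) F) (x : X)
    (h : Subsingleton ↑(F.presheaf.stalk x)) :
    ∃ U : X.Opens, x ∈ U ∧ IsZero ((Scheme.Modules.restrictFunctor U.ι).obj F) := by
  obtain ⟨_, ⟨W, hW : IsAffineOpen W, rfl⟩, hxW, -⟩ :=
    X.isBasis_affineOpens.exists_subset_of_mem_open (Set.mem_univ x) isOpen_univ
  have : Subsingleton ↑(F.presheaf.stalk ((⟨x, hxW⟩ : W) : X)) := h
  obtain ⟨g, hxg, hg⟩ := exists_smul_eq_zero_of_stalk_subsingleton hW hF ⟨x, hxW⟩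
  refine ⟨X.basicOpen g, hxg, ?_⟩
  rw [Helper45.isZero_iff_stalk_subsingleton]
  intro z
  apply subsingleton_stalk_restrict
  exact subsingleton_stalk_of_forall_pow_smul hW g (fun m => ⟨1, by rw [pow_one]; exact hg m⟩) _
    (ι_mem _ z)

variable [IsLocallyNoetherian X]

/-- If a morphism of coherent modules is injective on the stalk at `x`, it is a monomorphism on a
neighbourhood of `x`. -/
theorem exists_mono_restrict_of_stalkMap_injective {G F : X.Modules} [G.IsQuasicoherent]
    [F.IsQuasicoherent] (hG : SheafOfModules.IsFiniteType (R := X.ringCatSheaf) G)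
    (φ : G ⟶ F) (x : X) (h : Function.Injective (stalkMap φ x).hom) :
    ∃ U : X.Opens, x ∈ U ∧ Mono ((Scheme.Modules.restrictFunctor U.ι).map φ) := by
  obtain ⟨_, ⟨W, hW : IsAffineOpen W, rfl⟩, hxW, -⟩ :=
    X.isBasis_affineOpens.exists_subset_of_mem_open (Set.mem_univ x) isOpen_univ
  obtain ⟨g, hxg, hg⟩ := exists_smul_eq_zero_of_stalkMap_injective φ hW hG ⟨x, hxW⟩ h
  refine ⟨X.basicOpen g, hxg, ?_⟩
  apply mono_of_stalkMap_injective
  intro z
  apply stalkMap_restrict_injective
  exact stalkMap_injective_of_forall_pow_smul φ hW g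
    (fun m hm => ⟨1, by rw [pow_one]; exact hg m hm⟩) _ (ι_mem _ z)

/-- If a morphism of coherent modules is bijective on the stalk at `x`, it is an isomorphism on a
neighbourhood of `x`. -/
theorem exists_isIso_restrict_of_stalkMap_bijective {G F : X.Modules} [G.IsQuasicoherent]
    [F.IsQuasicoherent] (hG : SheafOfModules.IsFiniteType (R := X.ringCatSheaf) G)
    (hF : SheafOfModules.IsFiniteType (R := X.ringCatSheaf) F)
    (φ : G ⟶ F) (x : X) (h : Function.Bijective (stalkMap φ x).hom) :
    ∃ U : X.Opens, x ∈ U ∧ IsIso ((Scheme.Modules.restrictFunctor U.ι).map φ) := by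
  obtain ⟨_, ⟨W, hW : IsAffineOpen W, rfl⟩, hxW, -⟩ :=
    X.isBasis_affineOpens.exists_subset_of_mem_open (Set.mem_univ x) isOpen_univ
  obtain ⟨g, hxg, hg1, hg2⟩ := exists_of_stalkMap_bijective φ hW hG hF ⟨x, hxW⟩ h
  refine ⟨X.basicOpen g, hxg, ?_⟩
  apply isIso_of_stalkMap_bijective
  intro z
  exact ⟨stalkMap_restrict_injective _ φ z
      (stalkMap_injective_of_forall_pow_smul φ hW g hg1 _ (ι_mem _ z)),
    stalkMap_restrict_surjective _ φ z
      (stalkMap_surjective_of_forall_pow_smul φ hW g hg2 _ (ι_mem _ z))⟩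

end Final

end Groth.Agent.Lib.Helper49
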