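import Mathlib
import Groth.Agent.Lib.Helper49.StalkNbhd
/-!
# More on stalk maps: open loci of injectivity / bijectivity for coherent modules

* `isFiniteType_unit`: the structure sheaf is of finite type.
* converse restriction lemmas `stalkMap_injective_of_restrict`, `stalkMap_surjective_of_restrict`.
* `isOpen_setOf_stalkMap_bijective`, `isOpen_setOf_stalkMap_injective`,
  `isOpen_setOf_stalk_subsingleton` for coherent modules on locally Noetherian schemes.
-/
universe u
open CategoryTheory CategoryTheory.Limits AlgebraicGeometry TopologicalSpace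

namespace Groth.Agent.Lib.Helper49

variable {X : Scheme.{u}}

/-- The structure sheaf is an `O_X`-module of finite type. -/
theorem isFiniteType_unit (X : Scheme.{u}) :
    SheafOfModules.IsFiniteType (R := X.ringCatSheaf) (SheafOfModules.unit X.ringCatSheaf) := by
  let e : SheafOfModules.free (R := X.ringCatSheaf) PUnit.{u+1} ≅
      SheafOfModules.unit X.ringCatSheaf :=
    Limits.coproductUniqueIso (fun _ : PUnit.{u+1} => SheafOfModules.unit X.ringCatSheaf)
  let G : (SheafOfModules.unit X.ringCatSheaf).GeneratingSections :=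
    { I := PUnit.{u+1}
      s := (SheafOfModules.unit X.ringCatSheaf).freeHomEquiv e.hom
      epi := by
        rw [Equiv.symm_apply_apply]
        infer_instance }
  have : G.IsFiniteType := ⟨inferInstanceAs (Finite PUnit.{u+1})⟩
  exact isFiniteType_of_generatingSections (X := X) G

theorem stalkMap_bijective_of_isIso {M N : X.Modules} (φ : M ⟶ N) [IsIso φ] (x : X) :
    Function.Bijective (stalkMap φ x).hom := by
  have h1 : IsIso φ.mapPresheaf := (inferInstance : IsIso ((Scheme.Modules.toPresheaf X).map φ))
  have h2 : IsIso (stalkMap φ x) := Functor.map_isIso _ _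
  exact (ConcreteCategory.isIso_iff_bijective _).mp h2

section Restrict

variable {Y : Scheme.{u}} (f : Y ⟶ X) [IsOpenImmersion f]

theorem stalkMap_injective_of_restrict {M N : X.Modules} (φ : M ⟶ N) (y : Y)
    (h : Function.Injective (stalkMap ((Scheme.Modules.restrictFunctor f).map φ) y).hom) :
    Function.Injective (stalkMap φ (f y)).hom := by
  intro a b hab
  obtain ⟨a', rfl⟩ := (restrictStalkIso_hom_bijective f M y).2 a
  obtain ⟨b', rfl⟩ := (restrictStalkIso_hom_bijective f M y).2 b
  rw [← stalkMap_restrict_apply, ← stalkMap_restrict_apply] at hab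
  rw [h ((restrictStalkIso_hom_bijective f N y).1 hab)]

theorem stalkMap_surjective_of_restrict {M N : X.Modules} (φ : M ⟶ N) (y : Y)
    (h : Function.Surjective (stalkMap ((Scheme.Modules.restrictFunctor f).map φ) y).hom) :
    Function.Surjective (stalkMap φ (f y)).hom := by
  intro b
  obtain ⟨b', rfl⟩ := (restrictStalkIso_hom_bijective f N y).2 b
  obtain ⟨a', rfl⟩ := h b'
  exact ⟨_, (stalkMap_restrict_apply f φ y a').symm⟩

theorem stalk_subsingleton_of_restrict (M : X.Modules) (y : Y)
    (h : Subsingleton ↑(((Scheme.Modules.restrictFunctor f).obj M).presheaf.stalk y)) :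
    Subsingleton ↑(M.presheaf.stalk (f y)) :=
  (restrictStalkIso_hom_bijective f M y).2.subsingleton

end Restrict

section OpenLoci

theorem exists_ι_eq (U : X.Opens) (y : X) (hy : y ∈ U) : ∃ z : U.toScheme, U.ι z = y := by
  have : y ∈ U.ι.opensRange := by rwa [Scheme.Opens.opensRange_ι]
  exact this

/-- The vanishing locus of the stalks of a coherent module is open. -/
theorem isOpen_setOf_stalk_subsingleton (F : X.Modules) [F.IsQuasicoherent]
    (hF : SheafOfModules.IsFiniteType (R := X.ringCatSheaf) F) :
    IsOpen {x : X | Subsingleton ↑(F.presheaf.stalk x)} := by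
  rw [isOpen_iff_forall_mem_open]
  intro x hx
  obtain ⟨U, hxU, hU⟩ := exists_isZero_restrict_of_stalk_subsingleton F hF x hx
  refine ⟨U, fun y hy => ?_, U.2, hxU⟩
  obtain ⟨z, rfl⟩ := exists_ι_eq U y hy
  apply stalk_subsingleton_of_restrict
  exact (Helper45.isZero_iff_stalk_subsingleton _).mp hU z

variable [IsLocallyNoetherian X]

/-- The locus where a morphism of coherent modules is injective on stalks is open. -/
theorem isOpen_setOf_stalkMap_injective {G F : X.Modules} [G.IsQuasicoherent]
    [F.IsQuasicoherent] (hG : SheafOfModules.IsFiniteType (R := X.ringCatSheaf) G)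
    (φ : G ⟶ F) : IsOpen {x : X | Function.Injective (stalkMap φ x).hom} := by
  rw [isOpen_iff_forall_mem_open]
  intro x hx
  obtain ⟨U, hxU, hU⟩ := exists_mono_restrict_of_stalkMap_injective hG φ x hx
  refine ⟨U, fun y hy => ?_, U.2, hxU⟩
  obtain ⟨z, rfl⟩ := exists_ι_eq U y hy
  apply stalkMap_injective_of_restrict
  exact stalkMap_injective_of_mono _ z

/-- The locus where a morphism of coherent modules is bijective on stalks is open. -/
theorem isOpen_setOf_stalkMap_bijective {G F : X.Modules} [G.IsQuasicoherent]
    [F.IsQuasicoherent] (hG : SheafOfModules.IsFiniteType (R := X.ringCatSheaf) G)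
    (hF : SheafOfModules.IsFiniteType (R := X.ringCatSheaf) F)
    (φ : G ⟶ F) : IsOpen {x : X | Function.Bijective (stalkMap φ x).hom} := by
  rw [isOpen_iff_forall_mem_open]
  intro x hx
  obtain ⟨U, hxU, hU⟩ := exists_isIso_restrict_of_stalkMap_bijective hG hF φ x hx
  refine ⟨U, fun y hy => ?_, U.2, hxU⟩
  obtain ⟨z, rfl⟩ := exists_ι_eq U y hy
  have hb := stalkMap_bijective_of_isIso ((Scheme.Modules.restrictFunctor U.ι).map φ) z
  exact ⟨stalkMap_injective_of_restrict _ φ z hb.1, stalkMap_surjective_of_restrict _ φ z hb.2⟩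

end OpenLoci

end Groth.Agent.Lib.Helper49
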