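import Mathlib
import Groth.Agent.Lib.Helper16.FlatPull.Stalk
import Groth.Agent.Lib.Helper49.FiniteTypeAffine
import Groth.Agent.Lib.Helper49.StalkNbhd2
/-!
# Support of the pullback of a finite type quasi-coherent module

* `subsingleton_tensorProduct_iff_of_isLocalHom`: for a local homomorphism `R → S` of local rings
  and a finite `R`-module `M`, `S ⊗[R] M = 0 ↔ M = 0`.
* `finite_stalk_of_isFiniteType`: stalks of a finite type quasi-coherent module are finite.
* `subsingleton_stalk_pullback_iff`: `(f^* F)_y = 0 ↔ F_{f y} = 0` for `F` of finite type.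
-/
set_option linter.style.haveILetI false
universe u
open CategoryTheory CategoryTheory.Limits AlgebraicGeometry TopologicalSpace TensorProduct IsLocalRing

namespace Groth.Agent.Lib.Helper49

theorem subsingleton_tensorProduct_iff_of_isLocalHom {R S M : Type*} [CommRing R] [CommRing S]
    [IsLocalRing R] [IsLocalRing S] [Algebra R S] [IsLocalHom (algebraMap R S)]
    [AddCommGroup M] [Module R M] [Module.Finite R M] :
    Subsingleton (S ⊗[R] M) ↔ Subsingleton M := by
  refine ⟨fun h => ?_, fun h => inferInstance⟩
  rw [← IsLocalRing.subsingleton_tensorProduct (R := R)]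
  have e1 : ResidueField S ⊗[S] (S ⊗[R] M) ≃ₗ[ResidueField S] ResidueField S ⊗[R] M :=
    AlgebraTensorModule.cancelBaseChange R S (ResidueField S) (ResidueField S) M
  have e2 : ResidueField S ⊗[ResidueField R] (ResidueField R ⊗[R] M) ≃ₗ[ResidueField S]
      ResidueField S ⊗[R] M :=
    AlgebraTensorModule.cancelBaseChange R (ResidueField R) (ResidueField S) (ResidueField S) M
  have h1 : Subsingleton (ResidueField S ⊗[R] M) := e1.symm.toEquiv.subsingleton
  have h2 : Subsingleton (ResidueField S ⊗[ResidueField R] (ResidueField R ⊗[R] M)) :=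
    e2.toEquiv.subsingleton
  exact (Module.FaithfullyFlat.subsingleton_tensorProduct_iff_right (ResidueField R)
    (ResidueField S)).mp h2

section

attribute [local instance] Helper45.stalkModuleSections

variable {X : Scheme.{u}}

/-- The stalks of a quasi-coherent module of finite type are finite modules. -/
theorem finite_stalk_of_isFiniteType (F : X.Modules) [F.IsQuasicoherent]
    (hF : SheafOfModules.IsFiniteType (R := X.ringCatSheaf) F) (x : X) :
    Module.Finite (X.presheaf.stalk x) ↑(F.presheaf.stalk x) := by
  obtain ⟨_, ⟨W, hW : IsAffineOpen W, rfl⟩, hxW, -⟩ :=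
    X.isBasis_affineOpens.exists_subset_of_mem_open (Set.mem_univ x) isOpen_univ
  obtain ⟨xW, rfl⟩ : ∃ xW : W, (xW : X) = x := ⟨⟨x, hxW⟩, rfl⟩
  have := finite_sections_of_isFiniteType F hF hW
  have := Helper45.isLocalizedModule_germₗ hW F xW
  have := hW.isLocalization_stalk xW
  exact Module.Finite.of_isLocalizedModule (hW.primeIdealOf xW).asIdeal.primeCompl
    (Rₚ := X.presheaf.stalk (xW : X)) (Helper45.germₗ F xW)

end

/-- For a quasi-coherent module of finite type `F` on `X` and `f : Y ⟶ X`, the stalk of `f^* F`
at `y` vanishes iff the stalk of `F` at `f y` does. -/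
theorem subsingleton_stalk_pullback_iff {X Y : Scheme.{u}} (f : Y ⟶ X) (F : X.Modules)
    [F.IsQuasicoherent] (hF : SheafOfModules.IsFiniteType (R := X.ringCatSheaf) F) (y : Y) :
    Subsingleton ↑(((Scheme.Modules.pullback f).obj F).presheaf.stalk y) ↔
      Subsingleton ↑(F.presheaf.stalk (f.base y)) := by
  have hfin := finite_stalk_of_isFiniteType F hF (f.base y)
  letI := (f.stalkMap y).hom.toAlgebra
  letI : Module (X.presheaf.stalk (f.base y))
      (((Scheme.Modules.pullback f).obj F).presheaf.stalk y) :=
    FlatMod.moduleStalkOver f ((Scheme.Modules.pullback f).obj F) y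
  haveI : IsScalarTower (X.presheaf.stalk (f.base y)) (Y.presheaf.stalk y)
      (((Scheme.Modules.pullback f).obj F).presheaf.stalk y) := IsScalarTower.of_compHom _ _ _
  obtain ⟨ψ, hψ⟩ := Helper16.FlatPull.exists_isBaseChange_stalk f F y
  haveI : IsLocalHom (algebraMap (X.presheaf.stalk (f.base y)) (Y.presheaf.stalk y)) := by
    change IsLocalHom (f.stalkMap y).hom
    infer_instance
  rw [← subsingleton_tensorProduct_iff_of_isLocalHom (R := X.presheaf.stalk (f.base y))
    (S := Y.presheaf.stalk y) (M := F.presheaf.stalk (f.base y))]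
  exact hψ.equiv.symm.toEquiv.subsingleton_congr

end Groth.Agent.Lib.Helper49
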