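import Mathlib
import Groth.Agent.Lib.Helper49.FiniteTypeAffine
/-!
# Finite presentation of `O_X`-modules: local nature, `M^~` for finitely presented `M`,
coherent = finitely presented on locally Noetherian schemes
-/
universe u
open AlgebraicGeometry CategoryTheory Limits TopologicalSpace

namespace Groth.Agent.Lib.Helper49

section
variable {C : Type*} [Category C] {J : GrothendieckTopology C} {R : Sheaf J RingCat.{u}}
  [HasSheafify J AddCommGrpCat] [J.WEqualsLocallyBijective AddCommGrpCat]
  {C' : Type*} [Category C'] {J' : GrothendieckTopology C'} {S : Sheaf J' RingCat.{u}}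
  [HasSheafify J' AddCommGrpCat] [J'.WEqualsLocallyBijective AddCommGrpCat]
  {M : SheafOfModules.{u} R} (P : M.Presentation)
  (F : SheafOfModules.{u} R ⥤ SheafOfModules.{u} S) [PreservesColimitsOfSize.{u, u} F]
  (η : SheafOfModules.unit S ≅ F.obj (SheafOfModules.unit R))

theorem presentation_map_isFinite [P.IsFinite] : (P.map F η).IsFinite where
  isFiniteType_generators := ⟨by
    rw [SheafOfModules.Presentation.map_generators_I]; infer_instance⟩
  isFiniteType_relations := ⟨by
    rw [SheafOfModules.Presentation.map_relations_I]; infer_instance⟩

end


attribute [local instance] presentation_map_isFinite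

theorem presentationOverOfRestrict_isFinite {X : Scheme.{u}} (M : X.Modules) (W : X.Opens)
    (P : (M.restrict W.ι).Presentation) [P.IsFinite] :
    (presentationOverOfRestrict M W P).IsFinite := by
  unfold presentationOverOfRestrict
  infer_instance

set_option backward.isDefEq.respectTransparency false in
theorem presentationRestrict_isFinite {X Y : Scheme.{u}} (f : Y ⟶ X) [IsOpenImmersion f]
    {M : X.Modules} (P : M.Presentation) [P.IsFinite] :
    (Scheme.Modules.presentationRestrict f P).IsFinite := by
  unfold Scheme.Modules.presentationRestrict
  infer_instance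

theorem presentationOfRange_isFinite {X Y : Scheme.{u}} (M : X.Modules) (f : Y ⟶ X)
    [IsOpenImmersion f] (P : (M.restrict f).Presentation) [P.IsFinite] :
    (presentationOfRange M f P).IsFinite := by
  have := presentationRestrict_isFinite
    ((IsOpenImmersion.isoOfRangeEq f f.opensRange.ι (by simp)).symm).hom P
  unfold presentationOfRange
  infer_instance


/-- Finite presentation can be checked on an open cover, with global finite presentations. -/
theorem isFinitePresentation_of_presentations {X : Scheme.{u}} (M : X.Modules) {ι : Type u}
    (U : ι → X.Opens) (hU : TopologicalSpace.IsOpenCover U)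
    (P : ∀ i, ∃ P : (M.restrict (U i).ι).Presentation, P.IsFinite) :
    SheafOfModules.IsFinitePresentation (R := X.ringCatSheaf) M := by
  choose P hP using P
  let q : SheafOfModules.QuasicoherentData.{u, u, u, u} M :=
    { I := ι, X := U, coversTop := (Opens.coversTop_iff _ _).mpr hU,
      presentation := fun i => presentationOverOfRestrict M (U i) (P i) }
  have hq : q.IsFinitePresentation :=
    { isFinite_presentation := fun i => presentationOverOfRestrict_isFinite M (U i) (P i) }
  exact SheafOfModules.IsFinitePresentation.mk (M := M) ⟨q, hq⟩

/-- Finite presentation is local: it can be checked on a jointly surjective family of open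
immersions, with global finite presentations on each member. -/
theorem isFinitePresentation_of_forall_restrict {X : Scheme.{u}} (M : X.Modules) {ι : Type u}
    (Y : ι → Scheme.{u}) (f : ∀ i, Y i ⟶ X) [∀ i, IsOpenImmersion (f i)]
    (hf : ∀ x : X, ∃ i, x ∈ Set.range (f i))
    (P : ∀ i, ∃ P : (M.restrict (f i)).Presentation, P.IsFinite) :
    SheafOfModules.IsFinitePresentation (R := X.ringCatSheaf) M := by
  choose P hP using P
  refine isFinitePresentation_of_presentations M (fun i => (f i).opensRange) ?_ fun i =>
    ⟨presentationOfRange M (f i) (P i), presentationOfRange_isFinite M (f i) (P i)⟩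
  rw [TopologicalSpace.IsOpenCover, eq_top_iff]
  rintro x -
  obtain ⟨i, hi⟩ := hf x
  exact TopologicalSpace.Opens.mem_iSup.mpr ⟨i, hi⟩

set_option backward.isDefEq.respectTransparency false in
/-- `M^~` has a finite presentation when `M` is finitely presented. -/
theorem exists_finite_presentation_tilde (R : CommRingCat.{u}) (M : ModuleCat.{u} R)
    [Module.FinitePresentation R M] : ∃ P : (tilde M).Presentation, P.IsFinite := by
  obtain ⟨s, hs⟩ := (inferInstance : Module.Finite R M).fg_top
  let S' : Set M := ↑s
  have hS' : Submodule.span R S' = ⊤ := hs
  have : Finite S' := s.finite_toSet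
  let g : (S' →₀ R) →ₗ[R] M := Finsupp.linearCombination R (Subtype.val : S' → M)
  have hg : Function.Surjective g := by
    rw [← LinearMap.range_eq_top, Finsupp.range_linearCombination]
    simpa using hS'
  obtain ⟨t, ht⟩ := Module.FinitePresentation.fg_ker g hg
  let T' : Set (S' →₀ R) := ↑t
  have : Finite T' := t.finite_toSet
  let P := presentationTilde.{u} M S' hS' T' ht
  refine ⟨P, ⟨⟨?_⟩, ⟨?_⟩⟩⟩
  · change Finite S'
    infer_instance
  · change Finite T'
    infer_instance


/-- A quasi-coherent module on `Spec R` whose global sections are finitely presented has a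
finite global presentation. -/
theorem exists_finite_presentation_of_finitePresentation_Γ (R : CommRingCat.{u})
    (N : (Spec R).Modules) [N.IsQuasicoherent]
    [Module.FinitePresentation R ((modulesSpecToSheaf.obj N).presheaf.obj (.op ⊤))] :
    ∃ P : N.Presentation, P.IsFinite := by
  have h0 : IsIso (C := (Spec R).Modules) N.fromTildeΓ :=
    (isQuasicoherent_iff_isIso_fromTildeΓ N).mp inferInstance
  have h0' : IsIso (C := SheafOfModules (Spec R).ringCatSheaf) N.fromTildeΓ := h0
  obtain ⟨P, hP⟩ := exists_finite_presentation_tilde R
    ((modulesSpecToSheaf.obj N).presheaf.obj (.op ⊤))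
  exact ⟨P.ofIsIso N.fromTildeΓ, inferInstance⟩

/-- A quasi-coherent module whose sections over every affine open form a finitely presented module
is of finite presentation. -/
theorem isFinitePresentation_of_finitePresentation_sections {X : Scheme.{u}} (F : X.Modules)
    [F.IsQuasicoherent]
    (h : ∀ U : X.affineOpens, Module.FinitePresentation Γ(X, U.1) Γ(F, U.1)) :
    SheafOfModules.IsFinitePresentation (R := X.ringCatSheaf) F := by
  refine isFinitePresentation_of_forall_restrict F (fun U : X.affineOpens => Spec Γ(X, U.1))
    (fun U => U.2.fromSpec) (fun x => ?_) fun U => ?_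
  · have hx : x ∈ (⨆ i : X.affineOpens, (i : X.Opens)) := by
      rw [iSup_affineOpens_eq_top]; trivial
    obtain ⟨U, hU⟩ := TopologicalSpace.Opens.mem_iSup.mp hx
    exact ⟨U, by rw [U.2.range_fromSpec]; exact hU⟩
  · have : (F.restrict U.2.fromSpec).IsQuasicoherent :=
      Scheme.Modules.isQuasicoherent_restrictFunctor _ _
    have := h U
    have : Module.FinitePresentation Γ(X, U.1)
        Γ(F.restrict U.2.fromSpec, (⊤ : (Spec Γ(X, U.1)).Opens)) :=
      Module.FinitePresentation.of_equiv (sectionsFromSpecTopEquiv U.2 F).symm
    exact @exists_finite_presentation_of_finitePresentation_Γ Γ(X, U.1) (F.restrict U.2.fromSpec)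
      _ this

/-- On a locally Noetherian scheme, quasi-coherent of finite type implies finite presentation. -/
theorem isFinitePresentation_of_isFiniteType_of_noetherian {X : Scheme.{u}} [IsLocallyNoetherian X]
    (F : X.Modules) [F.IsQuasicoherent]
    (hF : SheafOfModules.IsFiniteType (R := X.ringCatSheaf) F) :
    SheafOfModules.IsFinitePresentation (R := X.ringCatSheaf) F := by
  refine isFinitePresentation_of_finitePresentation_sections F fun U => ?_
  have := IsLocallyNoetherian.component_noetherian U
  have := finite_sections_of_isFiniteType F hF U.2
  exact Module.finitePresentation_of_finite _ _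

end Groth.Agent.Lib.Helper49
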