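import Mathlib
import Groth.Agent.Lib.Helper49.FinitePresentation
/-!
# Finite presentation of `O_X`-modules II: sections over affine opens are finitely presented

* `presentationRestrictOfOver`, `exists_cover_of_isFinitePresentation`,
  `isFinitePresentation_restrict`, `presentationOfLE`.
* `finitePresentation_Γ_of_presentation`: a module on `Spec R` with a finite global presentation has
  finitely presented global sections.
* `finitePresentation_of_isFinitePresentation_tilde`, `isFinitePresentation_tilde_iff`,
  `isFinitePresentation_iff_finitePresentation_Γ`.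
* `finitePresentation_sections_of_isFinitePresentation`: for a finitely presented `O_X`-module `F`
  and an affine open `U`, `Γ(F, U)` is a finitely presented `Γ(X, U)`-module.
-/
universe u
open AlgebraicGeometry CategoryTheory Limits TopologicalSpace

namespace Groth.Agent.Lib.Helper49

attribute [local instance] presentation_map_isFinite

set_option backward.isDefEq.respectTransparency false in
/-- From a presentation of `M.over W` get a presentation of `M.restrict W.ι`. -/
noncomputable def presentationRestrictOfOver {X : Scheme.{u}} (M : X.Modules) (W : X.Opens)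
    (P : (M.over W).Presentation) : (M.restrict W.ι).Presentation := by
  let e := Scheme.Modules.overEquiv W
  have : PreservesColimitsOfSize.{u, u} e.functor := inferInstance
  have η : SheafOfModules.unit (W : Scheme.{u}).ringCatSheaf ≅
      e.functor.obj (SheafOfModules.unit (Sheaf.over X.ringCatSheaf W)) := Iso.refl _
  exact SheafOfModules.Presentation.ofIsIso.{u, u, u}
    ((Scheme.Modules.overFunctorEquiv W).app M).hom (P.map e.functor η)

theorem presentationRestrictOfOver_isFinite {X : Scheme.{u}} (M : X.Modules) (W : X.Opens)
    (P : (M.over W).Presentation) [P.IsFinite] : (presentationRestrictOfOver M W P).IsFinite := by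
  unfold presentationRestrictOfOver
  infer_instance

set_option backward.isDefEq.respectTransparency false in
/-- A finitely presented module has, locally, finite global presentations. -/
theorem exists_cover_of_isFinitePresentation {X : Scheme.{u}} (M : X.Modules)
    (hM : SheafOfModules.IsFinitePresentation (R := X.ringCatSheaf) M) :
    ∃ (ι : Type u) (U : ι → X.Opens), TopologicalSpace.IsOpenCover U ∧
      ∀ i, ∃ P : (M.restrict (U i).ι).Presentation, P.IsFinite := by
  obtain ⟨σ, hσ⟩ := SheafOfModules.IsFinitePresentation.exists_quasicoherentData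
    (R := X.ringCatSheaf) M
  refine ⟨σ.I, σ.X, (Opens.coversTop_iff _ _).mp σ.coversTop, fun i => ?_⟩
  have := hσ.isFinite_presentation i
  exact ⟨presentationRestrictOfOver M (σ.X i) (σ.presentation i),
    presentationRestrictOfOver_isFinite _ _ _⟩

/-- Transport a presentation along an isomorphism of modules, keeping finiteness. -/
theorem exists_presentation_of_iso {X : Scheme.{u}} {M N : X.Modules} (e : M ≅ N)
    (h : ∃ P : M.Presentation, P.IsFinite) : ∃ P : N.Presentation, P.IsFinite := by
  obtain ⟨P, hP⟩ := h
  have : IsIso (C := SheafOfModules X.ringCatSheaf) e.hom :=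
    (inferInstance : IsIso (C := X.Modules) e.hom)
  exact ⟨SheafOfModules.Presentation.ofIsIso.{u, u, u} e.hom P, inferInstance⟩

/-- Finite presentation is stable under restriction along an open immersion. -/
theorem isFinitePresentation_restrict {X Y : Scheme.{u}} (M : X.Modules) (f : Y ⟶ X)
    [IsOpenImmersion f] (hM : SheafOfModules.IsFinitePresentation (R := X.ringCatSheaf) M) :
    SheafOfModules.IsFinitePresentation (R := Y.ringCatSheaf) (M.restrict f) := by
  obtain ⟨ι, U, hU, hG⟩ := exists_cover_of_isFinitePresentation M hM
  refine isFinitePresentation_of_presentations _ (fun i => f ⁻¹ᵁ U i) ?_ fun i => ?_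
  · rw [TopologicalSpace.IsOpenCover, eq_top_iff]
    rintro y -
    have hy : f y ∈ (⨆ i, U i : X.Opens) := by rw [hU]; trivial
    obtain ⟨i, hi⟩ := TopologicalSpace.Opens.mem_iSup.mp hy
    exact TopologicalSpace.Opens.mem_iSup.mpr ⟨i, hi⟩
  · obtain ⟨P, hP⟩ := hG i
    have := isOpenImmersion_resLE f (U i) (f ⁻¹ᵁ U i) le_rfl
    let e := restrictRestrictIso M (f ⁻¹ᵁ U i).ι f (f.resLE (U i) (f ⁻¹ᵁ U i) le_rfl) (U i).ι
      (Scheme.Hom.resLE_comp_ι f le_rfl).symm
    have := presentationRestrict_isFinite (f.resLE (U i) (f ⁻¹ᵁ U i) le_rfl) P
    exact exists_presentation_of_iso e.symm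
      ⟨Scheme.Modules.presentationRestrict (f.resLE (U i) (f ⁻¹ᵁ U i) le_rfl) P, this⟩

/-- Transport a finite presentation of `M|_U` to an open immersion landing in `U`. -/
theorem exists_presentation_of_le {X Y : Scheme.{u}} (M : X.Modules) (U : X.Opens)
    (h : ∃ P : (M.restrict U.ι).Presentation, P.IsFinite) (f : Y ⟶ X) [IsOpenImmersion f]
    (hf : Set.range f ⊆ U) : ∃ P : (M.restrict f).Presentation, P.IsFinite := by
  obtain ⟨P, hP⟩ := h
  have hr : Set.range f ⊆ Set.range U.ι := by simpa using hf
  have h1 : IsOpenImmersion (IsOpenImmersion.lift U.ι f hr ≫ U.ι) := by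
    rw [IsOpenImmersion.lift_fac]; infer_instance
  have : IsOpenImmersion (IsOpenImmersion.lift U.ι f hr) := IsOpenImmersion.of_comp _ U.ι
  have := presentationRestrict_isFinite (IsOpenImmersion.lift U.ι f hr) P
  exact exists_presentation_of_iso
    (((Scheme.Modules.restrictFunctorComp _ _).symm ≪≫
      Scheme.Modules.restrictFunctorCongr (IsOpenImmersion.lift_fac U.ι f hr)).app M)
    ⟨Scheme.Modules.presentationRestrict (IsOpenImmersion.lift U.ι f hr) P, this⟩

section Spec

variable (R : CommRingCat.{u})

/-- The cokernel of a map between finite free modules is finitely presented. -/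
theorem finitePresentation_cokernel {A B : ModuleCat.{u} R} [Module.FinitePresentation R B]
    [Module.Finite R A] (g : A ⟶ B) : Module.FinitePresentation R ↑(cokernel g) := by
  have e := ModuleCat.cokernelIsoRangeQuotient g
  have h1 : (LinearMap.range g.hom).FG := by
    rw [LinearMap.range_eq_map]
    exact (Module.Finite.fg_top).map _
  have h2 : Module.FinitePresentation R (↑B ⧸ LinearMap.range g.hom) :=
    Module.finitePresentation_of_surjective (LinearMap.range g.hom).mkQ
      (Submodule.mkQ_surjective _) (by rwa [Submodule.ker_mkQ])
  exact Module.FinitePresentation.of_equiv e.toLinearEquiv.symm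

set_option backward.isDefEq.respectTransparency false in
/-- A module on `Spec R` with a finite global presentation has finitely presented global
sections. -/
theorem finitePresentation_Γ_of_presentation (N : (Spec R).Modules) (P : N.Presentation)
    [P.IsFinite] :
    Module.FinitePresentation R ((modulesSpecToSheaf.obj N).presheaf.obj (.op ⊤)) := by
  let g := (tilde.functor _).preimage <| (tildeFinsupp _).hom ≫ P.relations.π ≫ kernel.ι _ ≫
    (tildeFinsupp _).inv
  let iso : cokernel ((tilde.functor R).map g) ≅ cokernel (P.relations.π ≫ kernel.ι _) := by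
    refine cokernel.mapIso _ _ (tildeFinsupp _) (tildeFinsupp _) ?_
    simp only [g, (tilde.functor R).map_preimage]
    simp
  let e : (tilde.functor R).obj (cokernel g) ≅ N :=
    PreservesCokernel.iso (tilde.functor R) g ≪≫ iso ≪≫
      IsColimit.coconePointUniqueUpToIso (colimit.isColimit _) P.isColimit
  let e2 : cokernel g ≅ moduleSpecΓFunctor.obj N :=
    (tilde.toTildeΓNatIso.app (cokernel g)) ≪≫ moduleSpecΓFunctor.mapIso e
  have : Finite P.generators.I := inferInstance
  have : Finite P.relations.I := inferInstance
  have : Module.FinitePresentation R ↑(ModuleCat.of R (P.generators.I →₀ R)) :=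
    Module.finitePresentation_of_projective _ _
  have : Module.Finite R ↑(ModuleCat.of R (P.relations.I →₀ R)) :=
    inferInstanceAs (Module.Finite R (P.relations.I →₀ R))
  have := finitePresentation_cokernel R g
  exact Module.FinitePresentation.of_equiv e2.toLinearEquiv

end Spec

/-- If `F` pulled back to `Spec Γ(X, D)` has a finite global presentation, `Γ(F, D)` is finitely
presented. -/
theorem finitePresentation_sections_of_presentation {X : Scheme.{u}} {D : X.Opens}
    (hD : IsAffineOpen D) (F : X.Modules) (P : (F.restrict hD.fromSpec).Presentation)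
    [P.IsFinite] : Module.FinitePresentation Γ(X, D) Γ(F, D) := by
  have h : Module.FinitePresentation Γ(X, D)
      Γ(F.restrict hD.fromSpec, (⊤ : (Spec Γ(X, D)).Opens)) :=
    finitePresentation_Γ_of_presentation Γ(X, D) (F.restrict hD.fromSpec) P
  exact Module.FinitePresentation.of_equiv (sectionsFromSpecTopEquiv hD F)

section Tilde

variable (R : CommRingCat.{u})

/-- If `M^~` is of finite presentation then `M` is a finitely presented module. -/
theorem finitePresentation_of_isFinitePresentation_tilde (M : ModuleCat.{u} R)
    (h : SheafOfModules.IsFinitePresentation (R := (Spec R).ringCatSheaf)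
      ((tilde.functor R).obj M)) :
    Module.FinitePresentation R M := by
  obtain ⟨ι, U, hU, hG⟩ := exists_cover_of_isFinitePresentation _ h
  let t : Set R := {g | Module.FinitePresentation Γ(Spec R, PrimeSpectrum.basicOpen g)
    Γ(tilde M, PrimeSpectrum.basicOpen g)}
  have ht : Ideal.span t = ⊤ := by
    by_contra hne
    obtain ⟨m, hm, hle⟩ := Ideal.exists_le_maximal _ hne
    let x : Spec R := ⟨m, hm.isPrime⟩
    have hx : x ∈ (⨆ i, U i : (Spec R).Opens) := by rw [hU]; trivial
    obtain ⟨i, hi⟩ := TopologicalSpace.Opens.mem_iSup.mp hx
    obtain ⟨_, ⟨_, ⟨g, rfl⟩, rfl⟩, hxg, hgU⟩ :=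
      PrimeSpectrum.isBasis_basic_opens.exists_subset_of_mem_open hi (U i).2
    have hD := IsAffineOpen.Spec_basicOpen g
    have hr : Set.range hD.fromSpec ⊆ U i := by rw [hD.range_fromSpec]; exact hgU
    obtain ⟨P, hP⟩ := exists_presentation_of_le _ (U i) (hG i) hD.fromSpec hr
    have hgt : g ∈ t := @finitePresentation_sections_of_presentation _ _ hD (tilde M) P hP
    exact hxg (hle (Ideal.subset_span hgt))
  let f : ∀ g : t, M →ₗ[R] Γ(tilde M, PrimeSpectrum.basicOpen g.1) :=
    fun g => (tilde.toOpen M (PrimeSpectrum.basicOpen g.1)).hom
  have hloc : ∀ g : t, IsLocalizedModule.Away g.1 (f g) := fun g =>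
    inferInstanceAs (IsLocalizedModule.Away g.1 (tilde.toOpen M (PrimeSpectrum.basicOpen g.1)).hom)
  exact Module.FinitePresentation.of_localizationSpan' t ht
    (Mₚ := fun g => Γ(tilde M, PrimeSpectrum.basicOpen g.1))
    (Rₚ := fun g => Γ(Spec R, PrimeSpectrum.basicOpen g.1)) f (fun g => g.2)

end Tilde

/-- Finite presentation is invariant under isomorphism. -/
theorem isFinitePresentation_of_iso {X : Scheme.{u}} {M N : X.Modules} (e : M ≅ N)
    (hM : SheafOfModules.IsFinitePresentation (R := X.ringCatSheaf) M) :
    SheafOfModules.IsFinitePresentation (R := X.ringCatSheaf) N := by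
  obtain ⟨ι, U, hU, hG⟩ := exists_cover_of_isFinitePresentation M hM
  exact isFinitePresentation_of_presentations N U hU fun i =>
    exists_presentation_of_iso ((Scheme.Modules.restrictFunctor (U i).ι).mapIso e) (hG i)

/-- `M^~` is of finite presentation iff `M` is finitely presented. -/
theorem isFinitePresentation_tilde_iff (R : CommRingCat.{u}) (M : ModuleCat.{u} R) :
    SheafOfModules.IsFinitePresentation (R := (Spec R).ringCatSheaf) ((tilde.functor R).obj M) ↔
      Module.FinitePresentation R M := by
  constructor
  · exact finitePresentation_of_isFinitePresentation_tilde R M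
  · intro h
    obtain ⟨P, hP⟩ := exists_finite_presentation_tilde R M
    exact isFinitePresentation_of_presentations _ (fun _ : PUnit.{u+1} => (⊤ : (Spec R).Opens))
      (by rw [TopologicalSpace.IsOpenCover]; simp) fun _ =>
      ⟨Scheme.Modules.presentationRestrict _ P, presentationRestrict_isFinite _ P⟩

/-- A quasi-coherent module on `Spec R` is of finite presentation iff its module of global
sections is finitely presented. -/
theorem isFinitePresentation_iff_finitePresentation_Γ (R : CommRingCat.{u})
    (N : (Spec R).Modules) [N.IsQuasicoherent] :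
    SheafOfModules.IsFinitePresentation (R := (Spec R).ringCatSheaf) N ↔
      Module.FinitePresentation R ((modulesSpecToSheaf.obj N).presheaf.obj (.op ⊤)) := by
  have h0 : IsIso (C := (Spec R).Modules) N.fromTildeΓ :=
    (isQuasicoherent_iff_isIso_fromTildeΓ N).mp inferInstance
  let e : (tilde.functor R).obj ((modulesSpecToSheaf.obj N).presheaf.obj (.op ⊤)) ≅ N :=
    @asIso (Spec R).Modules _ _ _ N.fromTildeΓ h0
  constructor
  · intro h
    exact finitePresentation_of_isFinitePresentation_tilde R _ (isFinitePresentation_of_iso e.symm h)
  · intro h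
    exact isFinitePresentation_of_iso e ((isFinitePresentation_tilde_iff R _).mpr h)

/-- For a finitely presented `O_X`-module `F` and an affine open `U`, `Γ(F, U)` is a finitely
presented `Γ(X, U)`-module. -/
theorem finitePresentation_sections_of_isFinitePresentation {X : Scheme.{u}} (F : X.Modules)
    (hF : SheafOfModules.IsFinitePresentation (R := X.ringCatSheaf) F) {U : X.Opens}
    (hU : IsAffineOpen U) : Module.FinitePresentation Γ(X, U) Γ(F, U) := by
  have hq : F.IsQuasicoherent := by
    obtain ⟨σ, -⟩ := SheafOfModules.IsFinitePresentation.exists_quasicoherentData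
      (R := X.ringCatSheaf) F
    exact σ.isQuasicoherent
  have : (F.restrict hU.fromSpec).IsQuasicoherent :=
    Scheme.Modules.isQuasicoherent_restrictFunctor _ _
  have h : Module.FinitePresentation Γ(X, U)
      Γ(F.restrict hU.fromSpec, (⊤ : (Spec Γ(X, U)).Opens)) :=
    (isFinitePresentation_iff_finitePresentation_Γ Γ(X, U) (F.restrict hU.fromSpec)).mp
      (isFinitePresentation_restrict F hU.fromSpec hF)
  exact Module.FinitePresentation.of_equiv (sectionsFromSpecTopEquiv hU F)

/-- A quasi-coherent module is of finite presentation iff its sections over all affine opens are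
finitely presented modules. -/
theorem isFinitePresentation_iff_sections {X : Scheme.{u}} (F : X.Modules) [F.IsQuasicoherent] :
    SheafOfModules.IsFinitePresentation (R := X.ringCatSheaf) F ↔
      ∀ U : X.affineOpens, Module.FinitePresentation Γ(X, U.1) Γ(F, U.1) :=
  ⟨fun h U => finitePresentation_sections_of_isFinitePresentation F h U.2,
    isFinitePresentation_of_finitePresentation_sections F⟩

end Groth.Agent.Lib.Helper49
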