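import Mathlib
import Groth.Agent.Lib.Helper49.StalkNbhd2
/-!
# Morphisms of quasi-coherent modules over an affine open from linear maps on sections

* `restrictEquivalence e`, `restrictInvFullyFaithful e`: restriction of modules along an isomorphism
  of schemes is an equivalence.
* `exists_hom_of_linearMap_Spec`, `hom_ext_Spec`: on `Spec R`, morphisms of quasi-coherent modules
  are the same as `R`-linear maps on global sections.
* `exists_hom_restrict_of_linearMap`, `hom_ext_restrict`, `exists_iso_restrict_of_linearEquiv`: for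
  an affine open `U` of a scheme `X` and quasi-coherent `M`, `N`, morphisms `M|_U ⟶ N|_U` are the
  same as `Γ(X, U)`-linear maps `Γ(M, U) → Γ(N, U)`.
* small lemmas on restriction maps: `app_map`, `map_map`, `map_map_id`, `map_map_eq`, `map_map_map`.
-/

universe u
open CategoryTheory CategoryTheory.Limits AlgebraicGeometry TopologicalSpace

namespace Groth.Agent.Lib.Helper49

section Basic

variable {Y : Scheme.{u}}

theorem app_map {P Q : Y.Modules} (φ : P ⟶ Q) {V W : Y.Opens} (i : V ⟶ W) (s : Γ(P, W)) :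
    φ.app V (P.presheaf.map i.op s) = Q.presheaf.map i.op (φ.app W s) := by
  have := congrArg (fun g => g.hom s) (φ.mapPresheaf.naturality i.op)
  exact this

theorem map_map (P : Y.Modules) {V W T : Y.Opens} (i : V ⟶ W) (k : W ⟶ T) (s : Γ(P, T)) :
    P.presheaf.map i.op (P.presheaf.map k.op s) = P.presheaf.map (i ≫ k).op s := by
  rw [op_comp, Functor.map_comp]
  rfl

theorem map_map_map (P : Y.Modules) {V W T S : Y.Opens} (a : V ⟶ W) (b : W ⟶ T) (c : T ⟶ S)
    (d : V ⟶ S) (s : Γ(P, S)) :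
    P.presheaf.map a.op (P.presheaf.map b.op (P.presheaf.map c.op s)) = P.presheaf.map d.op s := by
  rw [map_map, map_map]
  exact congrArg (fun k => P.presheaf.map (Quiver.Hom.op k) s) (Subsingleton.elim _ _)

theorem map_map_eq (P : Y.Modules) {V W W' T : Y.Opens} (a : V ⟶ W) (b : W ⟶ T) (c : V ⟶ W')
    (d : W' ⟶ T) (s : Γ(P, T)) :
    P.presheaf.map a.op (P.presheaf.map b.op s) = P.presheaf.map c.op (P.presheaf.map d.op s) := by
  rw [map_map, map_map]
  exact congrArg (fun k => P.presheaf.map (Quiver.Hom.op k) s) (Subsingleton.elim _ _)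

theorem map_map_id (P : Y.Modules) {V W : Y.Opens} (a : V ⟶ W) (b : W ⟶ V) (s : Γ(P, V)) :
    P.presheaf.map a.op (P.presheaf.map b.op s) = s := by
  rw [map_map]
  have : a ≫ b = 𝟙 _ := Subsingleton.elim _ _
  rw [this]
  simp

theorem map_injective_of_eq (P : Y.Modules) {V W : Y.Opens} (i : V ⟶ W) (h : V = W) :
    Function.Injective (P.presheaf.map i.op) := by
  subst h
  have : i = 𝟙 V := Subsingleton.elim _ _
  rw [this]
  intro a b hab
  simpa using hab

theorem restrictFunctorComp_inv_app_apply {X Y Z : Scheme.{u}} (f : X ⟶ Y) (g : Y ⟶ Z)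
    [IsOpenImmersion f] [IsOpenImmersion g] (M : Z.Modules) (V : X.Opens) :
    ((Scheme.Modules.restrictFunctorComp f g).inv.app M).app V =
      M.presheaf.map (eqToHom (by simp : (f ≫ g) ''ᵁ V = g ''ᵁ f ''ᵁ V)).op := rfl

theorem restrictFunctorComp_hom_app_apply {X Y Z : Scheme.{u}} (f : X ⟶ Y) (g : Y ⟶ Z)
    [IsOpenImmersion f] [IsOpenImmersion g] (M : Z.Modules) (V : X.Opens) :
    ((Scheme.Modules.restrictFunctorComp f g).hom.app M).app V =
      M.presheaf.map (eqToHom (by simp : g ''ᵁ f ''ᵁ V = (f ≫ g) ''ᵁ V)).op := rfl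

end Basic

section Equivalence

variable {Y Z : Scheme.{u}} (e : Y ≅ Z)

/-- Restriction along an isomorphism of schemes is an equivalence of categories of modules. -/
noncomputable def restrictEquivalence : Z.Modules ≌ Y.Modules :=
  CategoryTheory.Equivalence.mk (Scheme.Modules.restrictFunctor e.hom) (Scheme.Modules.restrictFunctor e.inv)
    (Scheme.Modules.restrictFunctorId.symm ≪≫
      Scheme.Modules.restrictFunctorCongr (by simp : 𝟙 Z = e.inv ≫ e.hom) ≪≫
      Scheme.Modules.restrictFunctorComp e.inv e.hom)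
    ((Scheme.Modules.restrictFunctorComp e.hom e.inv).symm ≪≫
      Scheme.Modules.restrictFunctorCongr (by simp : e.hom ≫ e.inv = 𝟙 Y) ≪≫
      Scheme.Modules.restrictFunctorId)

/-- Restriction along (the inverse of) an isomorphism of schemes is fully faithful. -/
noncomputable def restrictInvFullyFaithful :
    (Scheme.Modules.restrictFunctor e.inv).FullyFaithful :=
  (restrictEquivalence e).fullyFaithfulInverse

end Equivalence

section Spec

variable {R : CommRingCat.{u}} (M N : (Spec R).Modules) [M.IsQuasicoherent] [N.IsQuasicoherent]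

/-- On `Spec R`, every `R`-linear map between global sections of quasi-coherent modules comes from
a morphism of modules. -/
theorem exists_hom_of_linearMap_Spec
    (h : Γ(M, (⊤ : (Spec R).Opens)) →ₗ[R] Γ(N, (⊤ : (Spec R).Opens))) :
    ∃ θ : M ⟶ N, ∀ m : Γ(M, (⊤ : (Spec R).Opens)), θ.app ⊤ m = h m := by
  let M' : (SheafOfModules.isQuasicoherent (Spec R).ringCatSheaf).FullSubcategory := ⟨M, ‹_›⟩
  let N' : (SheafOfModules.isQuasicoherent (Spec R).ringCatSheaf).FullSubcategory := ⟨N, ‹_›⟩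
  let h' : (tildeEquiv (R := R)).inverse.obj M' ⟶ (tildeEquiv (R := R)).inverse.obj N' :=
    ModuleCat.ofHom (X := moduleSpecΓFunctor.obj M) (Y := moduleSpecΓFunctor.obj N)
      (show ↑(moduleSpecΓFunctor.obj M) →ₗ[R] ↑(moduleSpecΓFunctor.obj N) from h)
  let θ := (tildeEquiv (R := R)).fullyFaithfulInverse.preimage h'
  refine ⟨θ.hom, fun m => ?_⟩
  have h1 : (tildeEquiv (R := R)).inverse.map θ = h' :=
    (tildeEquiv (R := R)).fullyFaithfulInverse.map_preimage h'
  have h2 := congrArg (fun g => g.hom m) h1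
  exact h2

/-- On `Spec R`, a morphism of quasi-coherent modules is determined by its map on global
sections. -/
theorem hom_ext_Spec {θ θ' : M ⟶ N}
    (h : ∀ m : Γ(M, (⊤ : (Spec R).Opens)), θ.app ⊤ m = θ'.app ⊤ m) : θ = θ' := by
  let M' : (SheafOfModules.isQuasicoherent (Spec R).ringCatSheaf).FullSubcategory := ⟨M, ‹_›⟩
  let N' : (SheafOfModules.isQuasicoherent (Spec R).ringCatSheaf).FullSubcategory := ⟨N, ‹_›⟩
  let t : M' ⟶ N' := ObjectProperty.homMk θ
  let t' : M' ⟶ N' := ObjectProperty.homMk θ'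
  have h1 : (tildeEquiv (R := R)).inverse.map t = (tildeEquiv (R := R)).inverse.map t' := by
    ext m
    exact h m
  have h2 : t = t' := (tildeEquiv (R := R)).inverse.map_injective h1
  exact congrArg (fun g => g.hom) h2

end Spec

section Affine

variable {X : Scheme.{u}} {U : X.Opens} (hU : IsAffineOpen U) (M N : X.Modules)
  [M.IsQuasicoherent] [N.IsQuasicoherent]

include hU in
/-- For `U` affine and `M`, `N` quasi-coherent, every `Γ(X, U)`-linear map `Γ(M, U) → Γ(N, U)` is
induced by a morphism `M|_U ⟶ N|_U`. -/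
theorem exists_hom_restrict_of_linearMap (h : Γ(M, U) →ₗ[Γ(X, U)] Γ(N, U)) :
    ∃ φ : M.restrict U.ι ⟶ N.restrict U.ι, ∀ m : Γ(M, U),
      φ.app ⊤ (M.presheaf.map (eqToHom U.ι_image_top).op m) =
        N.presheaf.map (eqToHom U.ι_image_top).op (h m) := by
  have : (M.restrict hU.fromSpec).IsQuasicoherent :=
    Scheme.Modules.isQuasicoherent_restrictFunctor _ _
  have : (N.restrict hU.fromSpec).IsQuasicoherent :=
    Scheme.Modules.isQuasicoherent_restrictFunctor _ _
  let eM := sectionsFromSpecTopEquiv hU M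
  let eN := sectionsFromSpecTopEquiv hU N
  let h' : Γ(M.restrict hU.fromSpec, (⊤ : (Spec Γ(X, U)).Opens)) →ₗ[Γ(X, U)]
      Γ(N.restrict hU.fromSpec, (⊤ : (Spec Γ(X, U)).Opens)) :=
    eN.symm.toLinearMap ∘ₗ h ∘ₗ eM.toLinearMap
  obtain ⟨θ, hθ⟩ := exists_hom_of_linearMap_Spec (M.restrict hU.fromSpec)
    (N.restrict hU.fromSpec) h'
  let βM : M.restrict hU.fromSpec ≅ (M.restrict U.ι).restrict hU.isoSpec.inv :=
    (Scheme.Modules.restrictFunctorComp hU.isoSpec.inv U.ι).app M
  let βN : N.restrict hU.fromSpec ≅ (N.restrict U.ι).restrict hU.isoSpec.inv :=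
    (Scheme.Modules.restrictFunctorComp hU.isoSpec.inv U.ι).app N
  let θ' : (M.restrict U.ι).restrict hU.isoSpec.inv ⟶ (N.restrict U.ι).restrict hU.isoSpec.inv :=
    βM.inv ≫ θ ≫ βN.hom
  let φ := (restrictInvFullyFaithful hU.isoSpec).preimage θ'
  have hφ : (Scheme.Modules.restrictFunctor hU.isoSpec.inv).map φ = θ' :=
    (restrictInvFullyFaithful hU.isoSpec).map_preimage θ'
  refine ⟨φ, fun m => ?_⟩
  have hW : hU.isoSpec.inv ''ᵁ ⊤ = (⊤ : (↑U : Scheme.{u}).Opens) := by
    rw [Scheme.Hom.image_top_eq_opensRange, Scheme.Hom.opensRange_of_isIso]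
  have key : ∀ x : Γ(M.restrict U.ι, hU.isoSpec.inv ''ᵁ ⊤),
      φ.app (hU.isoSpec.inv ''ᵁ ⊤) x = (βN.hom.app ⊤) (θ.app ⊤ (βM.inv.app ⊤ x)) := by
    intro x
    have h1 := congrArg (fun g => (g.app ⊤) x) hφ
    exact h1
  let i₀ : (hU.isoSpec.inv ''ᵁ ⊤) ⟶ (⊤ : (↑U : Scheme.{u}).Opens) := homOfLE le_top
  let y : Γ(M.restrict U.ι, ⊤) := M.presheaf.map (eqToHom U.ι_image_top).op m
  have e1 : βM.inv.app ⊤ ((M.restrict U.ι).presheaf.map i₀.op y) = eM.symm m := by
    have a1 := restrictFunctorComp_inv_app_apply hU.isoSpec.inv U.ι M ⊤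
    change βM.inv.app ⊤ = _ at a1
    have a2 : (M.restrict U.ι).presheaf.map i₀.op = M.presheaf.map (U.ι.opensFunctor.map i₀).op :=
      Scheme.Modules.restrict_map M U.ι i₀
    rw [a1, a2]
    exact map_map_map M _ _ _ (eqToHom (fromSpec_image_top hU)) m
  have e2 : θ.app ⊤ (eM.symm m) = eN.symm (h m) := by
    rw [hθ]
    simp [h']
  have e3 : βN.hom.app ⊤ (eN.symm (h m)) = (N.restrict U.ι).presheaf.map i₀.op
      (N.presheaf.map (eqToHom U.ι_image_top).op (h m)) := by
    have a1 := restrictFunctorComp_hom_app_apply hU.isoSpec.inv U.ι N ⊤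
    change βN.hom.app ⊤ = _ at a1
    have a2 : (N.restrict U.ι).presheaf.map i₀.op = N.presheaf.map (U.ι.opensFunctor.map i₀).op :=
      Scheme.Modules.restrict_map N U.ι i₀
    rw [a1, a2]
    exact map_map_eq N _ (eqToHom (fromSpec_image_top hU)) _ _ (h m)
  apply map_injective_of_eq (N.restrict U.ι) i₀ hW
  have e4 := app_map φ i₀ y
  rw [← e4, key, e1, e2, e3]

include hU in
/-- For `U` affine and `M`, `N` quasi-coherent, a morphism `M|_U ⟶ N|_U` is determined by its map
on global sections. -/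
theorem hom_ext_restrict {φ φ' : M.restrict U.ι ⟶ N.restrict U.ι}
    (h : ∀ s : Γ(M.restrict U.ι, ⊤), φ.app ⊤ s = φ'.app ⊤ s) : φ = φ' := by
  have : (M.restrict U.ι).IsQuasicoherent := Scheme.Modules.isQuasicoherent_restrictFunctor _ _
  have : (N.restrict U.ι).IsQuasicoherent := Scheme.Modules.isQuasicoherent_restrictFunctor _ _
  have : ((M.restrict U.ι).restrict hU.isoSpec.inv).IsQuasicoherent :=
    Scheme.Modules.isQuasicoherent_restrictFunctor _ _
  have : ((N.restrict U.ι).restrict hU.isoSpec.inv).IsQuasicoherent :=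
    Scheme.Modules.isQuasicoherent_restrictFunctor _ _
  apply (restrictInvFullyFaithful hU.isoSpec).map_injective
  apply hom_ext_Spec
  intro x
  have hW : hU.isoSpec.inv ''ᵁ ⊤ = (⊤ : (↑U : Scheme.{u}).Opens) := by
    rw [Scheme.Hom.image_top_eq_opensRange, Scheme.Hom.opensRange_of_isIso]
  let i₀ : (hU.isoSpec.inv ''ᵁ ⊤) ⟶ (⊤ : (↑U : Scheme.{u}).Opens) := homOfLE le_top
  let i₁ : (⊤ : (↑U : Scheme.{u}).Opens) ⟶ (hU.isoSpec.inv ''ᵁ ⊤) := eqToHom hW.symm
  change φ.app (hU.isoSpec.inv ''ᵁ ⊤) x = φ'.app (hU.isoSpec.inv ''ᵁ ⊤) x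
  have hx : x = (M.restrict U.ι).presheaf.map i₀.op ((M.restrict U.ι).presheaf.map i₁.op x) :=
    (map_map_id (M.restrict U.ι) i₀ i₁ x).symm
  rw [hx, app_map φ i₀, app_map φ' i₀, h]

include hU in
/-- For `U` affine and `M`, `N` quasi-coherent, every `Γ(X, U)`-linear isomorphism
`Γ(M, U) ≃ Γ(N, U)` is induced by an isomorphism `M|_U ≅ N|_U`. -/
theorem exists_iso_restrict_of_linearEquiv (h : Γ(M, U) ≃ₗ[Γ(X, U)] Γ(N, U)) :
    ∃ φ : M.restrict U.ι ≅ N.restrict U.ι, ∀ m : Γ(M, U),
      φ.hom.app ⊤ (M.presheaf.map (eqToHom U.ι_image_top).op m) =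
        N.presheaf.map (eqToHom U.ι_image_top).op (h m) := by
  obtain ⟨φ, hφ⟩ := exists_hom_restrict_of_linearMap hU M N h.toLinearMap
  obtain ⟨ψ, hψ⟩ := exists_hom_restrict_of_linearMap hU N M h.symm.toLinearMap
  have hsurjM : ∀ s : Γ(M.restrict U.ι, ⊤), ∃ m : Γ(M, U),
      s = M.presheaf.map (eqToHom U.ι_image_top).op m := by
    intro s
    exact ⟨M.presheaf.map (eqToHom U.ι_image_top.symm).op s, (map_map_id M _ _ s).symm⟩
  have hsurjN : ∀ s : Γ(N.restrict U.ι, ⊤), ∃ m : Γ(N, U),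
      s = N.presheaf.map (eqToHom U.ι_image_top).op m := by
    intro s
    exact ⟨N.presheaf.map (eqToHom U.ι_image_top.symm).op s, (map_map_id N _ _ s).symm⟩
  have h1 : φ ≫ ψ = 𝟙 _ := by
    apply hom_ext_restrict hU M M
    intro s
    obtain ⟨m, rfl⟩ := hsurjM s
    change ψ.app ⊤ (φ.app ⊤ _) = _
    rw [hφ, hψ]
    change M.presheaf.map _ (h.symm (h m)) = M.presheaf.map _ m
    rw [h.symm_apply_apply]
  have h2 : ψ ≫ φ = 𝟙 _ := by
    apply hom_ext_restrict hU N N
    intro s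
    obtain ⟨m, rfl⟩ := hsurjN s
    change φ.app ⊤ (ψ.app ⊤ _) = _
    rw [hψ, hφ]
    change N.presheaf.map _ (h (h.symm m)) = N.presheaf.map _ m
    rw [h.apply_symm_apply]
  exact ⟨⟨φ, ψ, h1, h2⟩, hφ⟩

end Affine

end Groth.Agent.Lib.Helper49
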