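import Mathlib
import Groth.Agent.Lib.Helper49.AffineHom
import Groth.Agent.Lib.Helper45.FiniteType
/-!
# Stalk maps of morphisms between restrictions, and lifting a map of stalks to a neighbourhood

* `restrictStalkIso_hom_germ`, `restrictStalkIso_inv_germ`, `conjStalkMap f φ y` (the stalk map of
  `φ : M|_Y ⟶ N|_Y` transported to the stalks of `M`, `N` on `X`), `conjStalkMap_germ`,
  `conjStalkMap_smul`, `conjStalkMapLinear`, `exists_germ_image_eq`, `app_smul_image`.
* `exists_lift_away` (algebra).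
* `exists_linearMap_basicOpen_of_stalk_linearMap`, `exists_hom_restrict_of_germ_eq`,
  `exists_hom_restrict_of_stalk_linearMap`: on a locally Noetherian scheme a linear map between
  stalks of coherent modules is induced by a morphism over a neighbourhood.
-/

universe u
open CategoryTheory CategoryTheory.Limits AlgebraicGeometry TopologicalSpace

namespace Groth.Agent.Lib.Helper49

section

variable {A : Type*} [CommRing A] (S : Submonoid A) (s : S)
  {M N Mp Np M₁ N₁ : Type*} [AddCommGroup M] [AddCommGroup N] [AddCommGroup Mp] [AddCommGroup Np]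
  [AddCommGroup M₁] [AddCommGroup N₁] [Module A M] [Module A N] [Module A Mp] [Module A Np]
  [Module A M₁] [Module A N₁]

/-- If `b ∘ h = s • (ψ ∘ a)` for the localizations `a`, `b` at `S ∋ s`, then after inverting `s`
the map `ψ` is induced by a linear map between the localizations away from `s`. -/
theorem exists_lift_away (a : M →ₗ[A] Mp) (b : N →ₗ[A] Np) [IsLocalizedModule S b]
    (ψ : Mp →ₗ[A] Np) (h : M →ₗ[A] N) (hh : b ∘ₗ h = (s : A) • (ψ ∘ₗ a))
    (ρM : M →ₗ[A] M₁) (ρN : N →ₗ[A] N₁) [IsLocalizedModule.Away (s : A) ρM]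
    [IsLocalizedModule.Away (s : A) ρN]
    (a₁ : M₁ →ₗ[A] Mp) (b₁ : N₁ →ₗ[A] Np) (ha : a₁ ∘ₗ ρM = a) (hb : b₁ ∘ₗ ρN = b) :
    ∃ h₁ : M₁ →ₗ[A] N₁, b₁ ∘ₗ h₁ = ψ ∘ₗ a₁ := by
  have hs : IsUnit (algebraMap A (Module.End A N₁) (s : A)) :=
    IsLocalizedModule.map_units ρN ⟨(s : A), Submonoid.mem_powers _⟩
  let g : M₁ →ₗ[A] N₁ := IsLocalizedModule.map (Submonoid.powers (s : A)) ρM ρN h
  let uinv : N₁ →ₗ[A] N₁ := ((hs.unit⁻¹ : (Module.End A N₁)ˣ) : Module.End A N₁)
  have huinv : ∀ z : N₁, (s : A) • uinv z = z := by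
    intro z
    have h1 : (algebraMap A (Module.End A N₁) (s : A)) * uinv = 1 := by
      have := hs.unit.mul_inv
      simp [uinv]
    have := congrArg (fun e : Module.End A N₁ => e z) h1
    simpa using this
  have hsNp : ∀ t : Submonoid.powers (s : A), IsUnit (algebraMap A (Module.End A Np) (t : A)) := by
    intro t
    have ht : (t : A) ∈ S := by
      obtain ⟨n, hn⟩ := t.2
      rw [← hn]
      exact pow_mem s.2 n
    exact IsLocalizedModule.map_units b ⟨(t : A), ht⟩
  have hsinj : ∀ z w : Np, (s : A) • z = (s : A) • w → z = w := by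
    intro z w hzw
    have := IsLocalizedModule.map_units b s
    rw [Module.End.isUnit_iff] at this
    exact this.1 hzw
  refine ⟨uinv ∘ₗ g, ?_⟩
  apply IsLocalizedModule.ext (Submonoid.powers (s : A)) ρM hsNp
  ext m
  simp only [LinearMap.comp_apply]
  apply hsinj
  rw [← map_smul b₁, huinv]
  have h2 : g (ρM m) = ρN (h m) := IsLocalizedModule.map_apply _ ρM ρN h m
  rw [h2]
  have h3 : b₁ (ρN (h m)) = b (h m) := by rw [← hb]; rfl
  have h4 : a₁ (ρM m) = a m := by rw [← ha]; rfl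
  rw [h3, h4]
  have := congrArg (fun e => e m) hh
  simpa using this

end

section

variable {X Y : Scheme.{u}} (f : Y ⟶ X) [IsOpenImmersion f]

theorem restrictStalkIso_hom_germ (M : X.Modules) (y : Y) (V : Y.Opens) (hy : y ∈ V)
    (m : Γ(M.restrict f, V)) :
    (restrictStalkIso f M y).hom.hom ((M.restrict f).presheaf.germ V y hy m) =
      M.presheaf.germ (f ''ᵁ V) (f y) ⟨y, hy, rfl⟩ m := by
  have := congrArg (fun g => g.hom m)
    (Scheme.Modules.germ_restrictStalkNatIso_hom_app f y M hy)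
  exact this

theorem restrictStalkIso_inv_germ (M : X.Modules) (y : Y) (V : Y.Opens) (hy : y ∈ V)
    (m : Γ(M.restrict f, V)) :
    (restrictStalkIso f M y).inv.hom (M.presheaf.germ (f ''ᵁ V) (f y) ⟨y, hy, rfl⟩ m) =
      (M.restrict f).presheaf.germ V y hy m := by
  have := congrArg (fun g => g.hom m)
    (Scheme.Modules.germ_restrictStalkNatIso_inv_app f y M hy)
  exact this

/-- The stalk map of a morphism between restrictions, transported to the stalks on `X`. -/
noncomputable def conjStalkMap {M N : X.Modules} (φ : M.restrict f ⟶ N.restrict f) (y : Y) :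
    M.presheaf.stalk (f y) ⟶ N.presheaf.stalk (f y) :=
  (restrictStalkIso f M y).inv ≫ stalkMap φ y ≫ (restrictStalkIso f N y).hom

theorem conjStalkMap_germ {M N : X.Modules} (φ : M.restrict f ⟶ N.restrict f) (y : Y)
    (V : Y.Opens) (hy : y ∈ V) (m : Γ(M.restrict f, V)) :
    (conjStalkMap f φ y).hom (M.presheaf.germ (f ''ᵁ V) (f y) ⟨y, hy, rfl⟩ m) =
      N.presheaf.germ (f ''ᵁ V) (f y) ⟨y, hy, rfl⟩ (φ.app V m) := by
  change (restrictStalkIso f N y).hom.hom ((stalkMap φ y).hom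
    ((restrictStalkIso f M y).inv.hom _)) = _
  rw [restrictStalkIso_inv_germ f M y V hy, stalkMap_germ, restrictStalkIso_hom_germ]

/-- Every element of the stalk of `M` at `f y` is the germ of a section of `M` over `f ''ᵁ V`. -/
theorem exists_germ_image_eq (M : X.Modules) (y : Y) (a : ↑(M.presheaf.stalk (f y))) :
    ∃ (V : Y.Opens) (hy : y ∈ V) (m : Γ(M.restrict f, V)),
      M.presheaf.germ (f ''ᵁ V) (f y) ⟨y, hy, rfl⟩ m = a := by
  obtain ⟨b, rfl⟩ := (restrictStalkIso_hom_bijective f M y).2 a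
  obtain ⟨V, hy, m, rfl⟩ := TopCat.Presheaf.exists_germ_eq (M.restrict f).presheaf b
  exact ⟨V, hy, m, (restrictStalkIso_hom_germ f M y V hy m).symm⟩

theorem app_smul_image {M N : X.Modules} (φ : M.restrict f ⟶ N.restrict f) (V : Y.Opens)
    (r : Γ(X, f ''ᵁ V)) (m : Γ(M, f ''ᵁ V)) :
    φ.app V (r • m) = r • (show Γ(N, f ''ᵁ V) from φ.app V m) := by
  have h1 : ∀ (P : X.Modules) (s : Γ(P, f ''ᵁ V)),
      r • s = (show Γ(P, f ''ᵁ V) from
        ((f.appIso V).hom r) • (show Γ(P.restrict f, V) from s)) := by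
    intro P s
    have := Scheme.Modules.smul_restrictAppIso_hom_apply f P V ((f.appIso V).hom r) s
    rw [Iso.hom_inv_id_apply] at this
    exact this.symm
  rw [h1 M m, h1 N]
  exact Scheme.Modules.Hom.app_smul φ ((f.appIso V).hom r) m

/-- The transported stalk map is linear over the stalk of the structure sheaf. -/
theorem conjStalkMap_smul {M N : X.Modules} (φ : M.restrict f ⟶ N.restrict f) (y : Y)
    (r : X.presheaf.stalk (f y)) (a : ↑(M.presheaf.stalk (f y))) :
    (conjStalkMap f φ y).hom (r • a) = r • (conjStalkMap f φ y).hom a := by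
  obtain ⟨V, hy, m, rfl⟩ := exists_germ_image_eq f M y a
  obtain ⟨V₁, hy₁, r₁, rfl⟩ := TopCat.Presheaf.exists_germ_eq X.presheaf r
  let V₂ : Y.Opens := V ⊓ f ⁻¹ᵁ V₁
  have hy₂ : y ∈ V₂ := ⟨hy, hy₁⟩
  have hle₁ : f ''ᵁ V₂ ≤ V₁ := by
    rintro _ ⟨z, hz, rfl⟩
    exact hz.2
  let i : V₂ ⟶ V := homOfLE inf_le_left
  let m₂ : Γ(M.restrict f, V₂) := (M.restrict f).presheaf.map i.op m
  let r₂ : Γ(X, f ''ᵁ V₂) := X.presheaf.map (homOfLE hle₁).op r₁
  have ha : M.presheaf.germ (f ''ᵁ V) (f y) ⟨y, hy, rfl⟩ m =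
      M.presheaf.germ (f ''ᵁ V₂) (f y) ⟨y, hy₂, rfl⟩ m₂ :=
    (TopCat.Presheaf.germ_res_apply M.presheaf (f.opensFunctor.map i) (f y) ⟨y, hy₂, rfl⟩ m).symm
  have hr : X.presheaf.germ V₁ (f y) hy₁ r₁ = X.presheaf.germ (f ''ᵁ V₂) (f y) ⟨y, hy₂, rfl⟩ r₂ :=
    (TopCat.Presheaf.germ_res_apply X.presheaf (homOfLE hle₁) (f y) ⟨y, hy₂, rfl⟩ r₁).symm
  rw [ha, hr, ← Helper45.germ_smul, conjStalkMap_germ f φ y V₂ hy₂ m₂]
  have h3 := conjStalkMap_germ f φ y V₂ hy₂ (show Γ(M.restrict f, V₂) from r₂ • (show Γ(M, f ''ᵁ V₂) from m₂))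
  rw [h3, app_smul_image f φ V₂ r₂ m₂, Helper45.germ_smul]

/-- The transported stalk map as a linear map over the stalk of the structure sheaf. -/
noncomputable def conjStalkMapLinear {M N : X.Modules} (φ : M.restrict f ⟶ N.restrict f) (y : Y) :
    ↑(M.presheaf.stalk (f y)) →ₗ[X.presheaf.stalk (f y)] ↑(N.presheaf.stalk (f y)) where
  toFun := (conjStalkMap f φ y).hom
  map_add' := map_add _
  map_smul' r a := conjStalkMap_smul f φ y r a

end

section Lift

attribute [local instance] Helper45.stalkModuleSections Helper45.sectionsBasicOpenModule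

variable {X : Scheme.{u}}

/-- The germ at `x ∈ D(s) ⊆ W` as a `Γ(X, W)`-linear map on `Γ(P, D(s))`. -/
noncomputable def germBasicOpenₗ {W : X.Opens} (P : X.Modules) (s : Γ(X, W)) (x : W)
    (hx : (x : X) ∈ X.basicOpen s) :
    Γ(P, X.basicOpen s) →ₗ[Γ(X, W)] ↑(P.presheaf.stalk (x : X)) where
  toFun := P.presheaf.germ (X.basicOpen s) x hx
  map_add' := map_add _
  map_smul' r m := by
    change P.presheaf.germ _ _ hx ((algebraMap Γ(X, W) Γ(X, X.basicOpen s) r) • m) =
      (algebraMap Γ(X, W) (X.presheaf.stalk (x : X)) r) • P.presheaf.germ _ _ hx m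
    rw [Helper45.germ_smul]
    congr 1
    exact TopCat.Presheaf.germ_res_apply X.presheaf (homOfLE (X.basicOpen_le s)) x hx r

@[simp] theorem germBasicOpenₗ_apply {W : X.Opens} (P : X.Modules) (s : Γ(X, W)) (x : W)
    (hx : (x : X) ∈ X.basicOpen s) (m : Γ(P, X.basicOpen s)) :
    germBasicOpenₗ P s x hx m = P.presheaf.germ (X.basicOpen s) x hx m := rfl

theorem germBasicOpenₗ_comp {W : X.Opens} (P : X.Modules) (s : Γ(X, W)) (x : W)
    (hx : (x : X) ∈ X.basicOpen s) :
    germBasicOpenₗ P s x hx ∘ₗ Helper45.restrictBasicOpenₗ P s = Helper45.germₗ P x := by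
  ext m
  exact TopCat.Presheaf.germ_res_apply P.presheaf (homOfLE (X.basicOpen_le s)) x hx m

/-- On a locally Noetherian scheme, a linear map between the stalks at `x ∈ W` (`W` affine) of
coherent modules is induced, over some basic open neighbourhood `D(s)` of `x` in `W`, by a linear
map on sections. -/
theorem exists_linearMap_basicOpen_of_stalk_linearMap [IsLocallyNoetherian X] {W : X.Opens}
    (hW : IsAffineOpen W) (G F : X.Modules) [G.IsQuasicoherent] [F.IsQuasicoherent]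
    (hG : SheafOfModules.IsFiniteType (R := X.ringCatSheaf) G) (x : W)
    (ψ : ↑(G.presheaf.stalk (x : X)) →ₗ[X.presheaf.stalk (x : X)] ↑(F.presheaf.stalk (x : X))) :
    ∃ (s : Γ(X, W)) (hx : (x : X) ∈ X.basicOpen s)
      (h₁ : Γ(G, X.basicOpen s) →ₗ[Γ(X, X.basicOpen s)] Γ(F, X.basicOpen s)),
      ∀ m : Γ(G, X.basicOpen s), F.presheaf.germ (X.basicOpen s) x hx (h₁ m) =
        ψ (G.presheaf.germ (X.basicOpen s) x hx m) := by
  have := Helper45.isLocalizedModule_germₗ hW G x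
  have := Helper45.isLocalizedModule_germₗ hW F x
  have := finite_sections_of_isFiniteType G hG hW
  have := IsLocallyNoetherian.component_noetherian ⟨W, hW⟩
  have : Module.FinitePresentation Γ(X, W) Γ(G, W) := Module.finitePresentation_of_finite _ _
  let ψA : ↑(G.presheaf.stalk (x : X)) →ₗ[Γ(X, W)] ↑(F.presheaf.stalk (x : X)) :=
    ψ.restrictScalars Γ(X, W)
  obtain ⟨h, s, hh⟩ := Module.FinitePresentation.exists_lift_of_isLocalizedModule
    (hW.primeIdealOf x).asIdeal.primeCompl (Helper45.germₗ F x) (ψA ∘ₗ Helper45.germₗ G x)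
  have hx : (x : X) ∈ X.basicOpen (s : Γ(X, W)) :=
    (Helper45.mem_basicOpen_iff_not_mem_primeIdealOf hW x s).mpr s.2
  have := Helper45.isLocalizedModule_restrictBasicOpenₗ hW G (s : Γ(X, W))
  have := Helper45.isLocalizedModule_restrictBasicOpenₗ hW F (s : Γ(X, W))
  obtain ⟨h₁, hh₁⟩ := exists_lift_away (hW.primeIdealOf x).asIdeal.primeCompl s
    (Helper45.germₗ G x) (Helper45.germₗ F x) ψA h hh
    (Helper45.restrictBasicOpenₗ G (s : Γ(X, W))) (Helper45.restrictBasicOpenₗ F (s : Γ(X, W)))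
    (germBasicOpenₗ G s x hx) (germBasicOpenₗ F s x hx)
    (germBasicOpenₗ_comp G s x hx) (germBasicOpenₗ_comp F s x hx)
  have := hW.isLocalization_basicOpen (s : Γ(X, W))
  refine ⟨s, hx, LinearMap.extendScalarsOfIsLocalization (Submonoid.powers (s : Γ(X, W)))
    Γ(X, X.basicOpen (s : Γ(X, W))) h₁, fun m => ?_⟩
  have := congrArg (fun e => e m) hh₁
  exact this

/-- If a linear map on sections over an affine open `U` induces `ψ` on germs at `x ∈ U`, then the
morphism `G|_U ⟶ F|_U` it defines has stalk map `ψ` at `x`. -/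
theorem exists_hom_restrict_of_germ_eq {U : X.Opens} (hU : IsAffineOpen U) (G F : X.Modules)
    [G.IsQuasicoherent] [F.IsQuasicoherent] (x : U)
    (ψ : ↑(G.presheaf.stalk (x : X)) →ₗ[X.presheaf.stalk (x : X)] ↑(F.presheaf.stalk (x : X)))
    (h₁ : Γ(G, U) →ₗ[Γ(X, U)] Γ(F, U))
    (hh : ∀ m : Γ(G, U), F.presheaf.germ U x x.2 (h₁ m) = ψ (G.presheaf.germ U x x.2 m)) :
    ∃ φ : G.restrict U.ι ⟶ F.restrict U.ι, ∀ a : ↑(G.presheaf.stalk (x : X)),
      (conjStalkMap U.ι φ x).hom a = ψ a := by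
  obtain ⟨φ, hφ⟩ := exists_hom_restrict_of_linearMap hU G F h₁
  refine ⟨φ, ?_⟩
  have := Helper45.isLocalizedModule_germₗ hU G x
  have := Helper45.isLocalizedModule_germₗ hU F x
  let L₁ : ↑(G.presheaf.stalk (x : X)) →ₗ[Γ(X, U)] ↑(F.presheaf.stalk (x : X)) :=
    { toFun := fun a => (conjStalkMap U.ι φ x).hom a
      map_add' := fun a b => map_add (conjStalkMap U.ι φ x).hom a b
      map_smul' := fun r a => conjStalkMap_smul U.ι φ x
        (algebraMap Γ(X, U) (X.presheaf.stalk (x : X)) r) a }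
  let L₂ : ↑(G.presheaf.stalk (x : X)) →ₗ[Γ(X, U)] ↑(F.presheaf.stalk (x : X)) :=
    ψ.restrictScalars Γ(X, U)
  have hL : L₁ = L₂ := by
    apply IsLocalizedModule.linearMap_ext (hU.primeIdealOf x).asIdeal.primeCompl
      (Helper45.germₗ G x) (Helper45.germₗ F x)
    ext m
    have hxtop : x ∈ (⊤ : (↑U : Scheme.{u}).Opens) := trivial
    have e1 : G.presheaf.germ U x x.2 m = G.presheaf.germ (U.ι ''ᵁ ⊤) (U.ι x) ⟨x, hxtop, rfl⟩
        (G.presheaf.map (eqToHom U.ι_image_top).op m) :=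
      (TopCat.Presheaf.germ_res_apply G.presheaf (eqToHom U.ι_image_top) x ⟨x, hxtop, rfl⟩ m).symm
    have e2 : F.presheaf.germ U x x.2 (h₁ m) = F.presheaf.germ (U.ι ''ᵁ ⊤) (U.ι x) ⟨x, hxtop, rfl⟩
        (F.presheaf.map (eqToHom U.ι_image_top).op (h₁ m)) :=
      (TopCat.Presheaf.germ_res_apply F.presheaf (eqToHom U.ι_image_top) x ⟨x, hxtop, rfl⟩
        (h₁ m)).symm
    change (conjStalkMap U.ι φ x).hom (G.presheaf.germ U x x.2 m) =
      ψ (G.presheaf.germ U x x.2 m)
    rw [← hh m, e2, ← hφ m, e1]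
    exact conjStalkMap_germ U.ι φ x ⊤ hxtop _
  intro a
  exact congrArg (fun L => L a) hL

/-- On a locally Noetherian scheme, a linear map `G_x → F_x` between stalks of coherent modules is
the stalk map of a morphism `G|_U ⟶ F|_U` over some open neighbourhood `U` of `x`. -/
theorem exists_hom_restrict_of_stalk_linearMap [IsLocallyNoetherian X] (G F : X.Modules)
    [G.IsQuasicoherent] [F.IsQuasicoherent]
    (hG : SheafOfModules.IsFiniteType (R := X.ringCatSheaf) G) (x : X)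
    (ψ : ↑(G.presheaf.stalk x) →ₗ[X.presheaf.stalk x] ↑(F.presheaf.stalk x)) :
    ∃ (U : X.Opens) (hx : x ∈ U) (φ : G.restrict U.ι ⟶ F.restrict U.ι),
      ∀ a : ↑(G.presheaf.stalk x), (conjStalkMap U.ι φ (⟨x, hx⟩ : U)).hom a = ψ a := by
  obtain ⟨_, ⟨W, hW : IsAffineOpen W, rfl⟩, hxW, -⟩ :=
    X.isBasis_affineOpens.exists_subset_of_mem_open (Set.mem_univ x) isOpen_univ
  obtain ⟨s, hx, h₁, hh⟩ := exists_linearMap_basicOpen_of_stalk_linearMap hW G F hG ⟨x, hxW⟩ ψ
  obtain ⟨φ, hφ⟩ := exists_hom_restrict_of_germ_eq (hW.basicOpen s) G F ⟨x, hx⟩ ψ h₁ hh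
  exact ⟨X.basicOpen s, hx, φ, hφ⟩

end Lift

end Groth.Agent.Lib.Helper49
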