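import Mathlib
import Groth.Prelude.Def_FlatMod2
import Groth.Agent.Lib.Helper49.RestrictStalk
import Groth.Agent.Lib.Helper45.RegularSections

/-!
# Free modules `O_X^n` (`FlatMod.freeMod`) and finite locally free modules

* `sum_app_apply`, `appAddHom`.
* `unitSectionsEquiv`, `freeι`, `freeπ`, `sectionsFreeEquiv X n U : Γ(O_X^n, U) ≃ₗ Γ(X, U)^n`.
* `restrictFreeIso n f : (O_X^n)|_Y ≅ O_Y^n`, `freeModIsoFree`, `isQuasicoherent_freeMod`.
* `sectionsEquivOfRestrictIso : (P|_U ≅ Q|_U) → Γ(P, U) ≃ₗ[Γ(X, U)] Γ(Q, U)`.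
* `nonempty_iso_restrict_freeMod_of_linearEquiv` (affine `U`, qcoh `F`, `Γ(F, U)` free of rank `n`
  gives `F|_U ≅ O_U^n`), `sectionsEquivOfIsoFree` (converse, any open), `isoFreeOfLE`.
* `isQuasicoherent_of_isFinLocFree`, `isFinLocFree_iff_affine`.
-/
universe u
open CategoryTheory CategoryTheory.Limits AlgebraicGeometry TopologicalSpace

namespace Groth.Agent.Lib.Helper49

section AppAddHom

variable {X : Scheme.{u}}

/-- `φ ↦ φ.app U` as an additive map. -/
noncomputable def appAddHom (M N : X.Modules) (U : X.Opens) : (M ⟶ N) →+ (Γ(M, U) →+ Γ(N, U)) where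
  toFun φ := (φ.app U).hom
  map_zero' := rfl
  map_add' _ _ := rfl

theorem sum_app_apply {M N : X.Modules} {ι : Type*} (s : Finset ι) (φ : ι → (M ⟶ N)) (U : X.Opens)
    (m : Γ(M, U)) : (∑ i ∈ s, φ i).app U m = ∑ i ∈ s, (φ i).app U m := by
  have h := map_sum (appAddHom M N U) φ s
  have h2 := congrArg (fun g : Γ(M, U) →+ Γ(N, U) => g m) h
  rw [AddMonoidHom.finsetSum_apply] at h2
  exact h2

end AppAddHom

variable (X : Scheme.{u})

/-- Sections of the structure sheaf module are the sections of the structure sheaf. -/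
noncomputable def unitSectionsEquiv (U : X.Opens) :
    Γ(Coh.structureModule X, U) ≃ₗ[Γ(X, U)] Γ(X, U) :=
  LinearEquiv.refl Γ(X, U) Γ(X, U)

variable (n : ℕ)

/-- The inclusion of the `i`-th summand of `O_X^n`. -/
noncomputable abbrev freeι (i : Fin n) : Coh.structureModule X ⟶ FlatMod.freeMod X n :=
  Sigma.ι (fun _ : Fin n => Coh.structureModule X) i

/-- The projection to the `i`-th summand of `O_X^n`. -/
noncomputable def freeπ (i : Fin n) : FlatMod.freeMod X n ⟶ Coh.structureModule X :=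
  Sigma.desc (fun j => if j = i then 𝟙 _ else 0)

@[reassoc]
theorem freeι_π (i j : Fin n) :
    freeι X n j ≫ freeπ X n i = if j = i then 𝟙 _ else 0 := by
  simp [freeπ]

theorem sum_freeπ_ι : ∑ i, freeπ X n i ≫ freeι X n i = 𝟙 (FlatMod.freeMod X n) := by
  apply Sigma.hom_ext
  intro j
  rw [Preadditive.comp_sum]
  simp only [freeι_π_assoc, Category.comp_id]
  rw [Finset.sum_eq_single j]
  · simp
  · intro b _ hb
    rw [if_neg (Ne.symm hb)]
    simp
  · intro h
    exact absurd (Finset.mem_univ j) h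

/-- Sections of `O_X^n` over `U` are `Γ(X, U)^n`. -/
noncomputable def sectionsFreeEquiv (U : X.Opens) :
    Γ(FlatMod.freeMod X n, U) ≃ₗ[Γ(X, U)] (Fin n → Γ(X, U)) where
  toFun s := fun i => (freeπ X n i).app U s
  invFun a := ∑ i, (freeι X n i).app U (a i)
  map_add' s t := by
    funext i
    exact map_add _ s t
  map_smul' r s := by
    funext i
    exact Scheme.Modules.Hom.app_smul (freeπ X n i) r s
  left_inv s := by
    have h := sum_app_apply Finset.univ (fun i => freeπ X n i ≫ freeι X n i) U s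
    rw [sum_freeπ_ι] at h
    exact h.symm
  right_inv a := by
    funext i
    change (freeπ X n i).app U (∑ j, (freeι X n j).app U (a j)) = a i
    rw [map_sum]
    have : ∀ j, (freeπ X n i).app U ((freeι X n j).app U (a j)) =
        (freeι X n j ≫ freeπ X n i).app U (a j) := fun j => rfl
    simp only [this, freeι_π]
    rw [Finset.sum_eq_single i]
    · simp
    · intro b _ hb
      rw [if_neg hb]
      simp
    · intro h
      exact absurd (Finset.mem_univ i) h

section Restrict

variable {X} {Y : Scheme.{u}} (f : Y ⟶ X) [IsOpenImmersion f]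

/-- Restriction along an open immersion of `O_X^n` is `O_Y^n`. -/
noncomputable def restrictFreeIso : (FlatMod.freeMod X n).restrict f ≅ FlatMod.freeMod Y n :=
  PreservesCoproduct.iso (Scheme.Modules.restrictFunctor f) (fun _ : Fin n => Coh.structureModule X) ≪≫
    Sigma.mapIso (fun _ => Scheme.Modules.restrictUnitIso f)

end Restrict

/-- `O_X^n` as a Mathlib free sheaf of modules. -/
noncomputable def freeModIsoFree :
    FlatMod.freeMod X n ≅ SheafOfModules.free (R := X.ringCatSheaf) (ULift.{u} (Fin n)) :=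
  Sigma.whiskerEquiv (f := fun _ : Fin n => Coh.structureModule X)
    (g := fun _ : ULift.{u} (Fin n) => SheafOfModules.unit X.ringCatSheaf)
    (Equiv.ulift.symm : Fin n ≃ ULift.{u} (Fin n)) (fun _ => Iso.refl _)

instance isQuasicoherent_freeMod : (FlatMod.freeMod X n).IsQuasicoherent :=
  (SheafOfModules.isQuasicoherent X.ringCatSheaf).prop_of_iso (freeModIsoFree X n).symm
    (inferInstanceAs
      (SheafOfModules.free (R := X.ringCatSheaf) (ULift.{u} (Fin n))).IsQuasicoherent)

section Bridge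

variable {X}

/-- An isomorphism `P|_U ≅ Q|_U` induces a `Γ(X, U)`-linear isomorphism `Γ(P, U) ≃ Γ(Q, U)`. -/
noncomputable def sectionsEquivOfRestrictIso {U : X.Opens} {P Q : X.Modules}
    (e : P.restrict U.ι ≅ Q.restrict U.ι) : Γ(P, U) ≃ₗ[Γ(X, U)] Γ(Q, U) where
  toFun m := Q.presheaf.map (eqToHom U.ι_image_top.symm).op
    (e.hom.app ⊤ (P.presheaf.map (eqToHom U.ι_image_top).op m))
  invFun m := P.presheaf.map (eqToHom U.ι_image_top.symm).op
    (e.inv.app ⊤ (Q.presheaf.map (eqToHom U.ι_image_top).op m))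
  map_add' a b := by
    let fwd : Γ(P, U) →+ Γ(Q, U) := (Q.presheaf.map (eqToHom U.ι_image_top.symm).op).hom.comp
      ((e.hom.app ⊤).hom.comp (P.presheaf.map (eqToHom U.ι_image_top).op).hom)
    exact fwd.map_add a b
  map_smul' r m := by
    simp only [RingHom.id_apply]
    rw [Scheme.Modules.map_smul]
    have h1 := app_smul_image U.ι e.hom ⊤ (X.presheaf.map (eqToHom U.ι_image_top).op r)
      (P.presheaf.map (eqToHom U.ι_image_top).op m)
    rw [h1, Scheme.Modules.map_smul]
    congr 1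
    rw [← ConcreteCategory.comp_apply, ← Functor.map_comp]
    exact congrFun (congrArg DFunLike.coe (congrArg CommRingCat.Hom.hom (X.presheaf.map_id _))) r
  left_inv m := by
    simp only
    rw [map_map_id Q (eqToHom U.ι_image_top) (eqToHom U.ι_image_top.symm)]
    have : e.inv.app ⊤ (e.hom.app ⊤ (P.presheaf.map (eqToHom U.ι_image_top).op m)) =
        P.presheaf.map (eqToHom U.ι_image_top).op m := by
      have := congrArg (fun g => (g.app ⊤) (P.presheaf.map (eqToHom U.ι_image_top).op m))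
        e.hom_inv_id
      exact this
    rw [this]
    exact map_map_id P _ _ m
  right_inv m := by
    simp only
    rw [map_map_id P (eqToHom U.ι_image_top) (eqToHom U.ι_image_top.symm)]
    have : e.hom.app ⊤ (e.inv.app ⊤ (Q.presheaf.map (eqToHom U.ι_image_top).op m)) =
        Q.presheaf.map (eqToHom U.ι_image_top).op m := by
      have := congrArg (fun g => (g.app ⊤) (Q.presheaf.map (eqToHom U.ι_image_top).op m))
        e.inv_hom_id
      exact this
    rw [this]
    exact map_map_id Q _ _ m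

/-- If `Γ(F, U)` is free of rank `n` for an affine open `U` and `F` is quasi-coherent, then
`F|_U ≅ O_U^n`. -/
theorem nonempty_iso_restrict_freeMod_of_linearEquiv {U : X.Opens} (hU : IsAffineOpen U)
    (F : X.Modules) [F.IsQuasicoherent] (n : ℕ)
    (h : Γ(F, U) ≃ₗ[Γ(X, U)] (Fin n → Γ(X, U))) :
    Nonempty (F.restrict U.ι ≅ FlatMod.freeMod (↑U) n) := by
  obtain ⟨φ, -⟩ := exists_iso_restrict_of_linearEquiv hU F (FlatMod.freeMod X n)
    (h.trans (sectionsFreeEquiv X n U).symm)
  exact ⟨φ ≪≫ restrictFreeIso n U.ι⟩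

/-- If `F|_U ≅ O_U^n` then `Γ(F, U)` is free of rank `n`. -/
noncomputable def sectionsEquivOfIsoFree {U : X.Opens} (F : X.Modules) (n : ℕ)
    (e : F.restrict U.ι ≅ FlatMod.freeMod (↑U) n) : Γ(F, U) ≃ₗ[Γ(X, U)] (Fin n → Γ(X, U)) :=
  (sectionsEquivOfRestrictIso (e ≪≫ (restrictFreeIso n U.ι).symm)).trans (sectionsFreeEquiv X n U)

/-- If `F|_U ≅ O_U^n` and `V ≤ U` then `F|_V ≅ O_V^n`. -/
noncomputable def isoFreeOfLE {U V : X.Opens} (hVU : V ≤ U) (F : X.Modules) (n : ℕ)
    (e : F.restrict U.ι ≅ FlatMod.freeMod (↑U) n) : F.restrict V.ι ≅ FlatMod.freeMod (↑V) n :=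
  (Scheme.Modules.restrictFunctorCongr (X.homOfLE_ι hVU).symm ≪≫
      Scheme.Modules.restrictFunctorComp (X.homOfLE hVU) U.ι).app F ≪≫
    (Scheme.Modules.restrictFunctor (X.homOfLE hVU)).mapIso e ≪≫
    restrictFreeIso n (X.homOfLE hVU)

/-- A finite locally free module is quasi-coherent. -/
theorem isQuasicoherent_of_isFinLocFree (F : X.Modules) (h : FlatMod.IsFinLocFree F) :
    F.IsQuasicoherent := by
  choose U n hxU e using h
  refine isQuasicoherent_of_forall_restrict F (fun x : X => ((U x : X.Opens) : Scheme.{u}))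
    (fun x => (U x).ι) (fun x => ⟨x, ?_⟩) fun x => ?_
  · rw [Scheme.Opens.range_ι]
    exact hxU x
  · exact isQuasicoherent_of_iso (e x).some.symm (isQuasicoherent_freeMod _ _)

/-- For a quasi-coherent module, being finite locally free can be tested on sections over affine
opens. -/
theorem isFinLocFree_iff_affine (F : X.Modules) [F.IsQuasicoherent] :
    FlatMod.IsFinLocFree F ↔ ∀ x : X, ∃ (U : X.Opens) (n : ℕ), IsAffineOpen U ∧ x ∈ U ∧
      Nonempty (Γ(F, U) ≃ₗ[Γ(X, U)] (Fin n → Γ(X, U))) := by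
  constructor
  · intro h x
    obtain ⟨U, n, hxU, ⟨e⟩⟩ := h x
    obtain ⟨_, ⟨V, hV : IsAffineOpen V, rfl⟩, hxV, hVU⟩ :=
      X.isBasis_affineOpens.exists_subset_of_mem_open hxU U.2
    exact ⟨V, n, hV, hxV, ⟨sectionsEquivOfIsoFree F n (isoFreeOfLE hVU F n e)⟩⟩
  · intro h x
    obtain ⟨U, n, hU, hxU, ⟨e⟩⟩ := h x
    exact ⟨U, n, hxU, nonempty_iso_restrict_freeMod_of_linearEquiv hU F n e⟩

end Bridge

end Groth.Agent.Lib.Helper49
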