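import Mathlib
import Groth.Agent.Lib.Helper49.FreeMod
import Groth.Agent.Lib.Helper49.FinitePresentation2
/-!
# Finitely presented modules with a free stalk are free on a neighbourhood

* `exists_linearEquiv_of_free_localizedModule_away` (algebra: transfer of freeness between models of
  the localization away from an element).
* `exists_iso_restrict_freeMod_of_stalk_free`: if `F` is a finitely presented `O_X`-module and the
  stalk `F_x` is free over `O_{X,x}`, then `F|_U ≅ O_U^n` for some open neighbourhood `U` of `x`.
* `isFinitePresentation_of_isFinLocFree`, `free_stalk_of_isFinLocFree`.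
-/
universe u
open CategoryTheory CategoryTheory.Limits AlgebraicGeometry TopologicalSpace

namespace Groth.Agent.Lib.Helper49

/-- Freeness of `LocalizedModule.Away r N` over `Localization.Away r` transfers to any other model
of the localization away from `r`. -/
theorem exists_linearEquiv_of_free_localizedModule_away {A : Type*} [CommRing A] (r : A)
    {N : Type*} [AddCommGroup N] [Module A N]
    (Ar : Type*) [CommRing Ar] [Algebra A Ar] [IsLocalization.Away r Ar]
    {Nr : Type*} [AddCommGroup Nr] [Module A Nr] [Module Ar Nr] [IsScalarTower A Ar Nr]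
    (ρ : N →ₗ[A] Nr) [IsLocalizedModule.Away r ρ]
    [Module.Free (Localization.Away r) (LocalizedModule.Away r N)]
    [Module.Finite (Localization.Away r) (LocalizedModule.Away r N)] :
    ∃ n : ℕ, Nonempty (Nr ≃ₗ[Ar] (Fin n → Ar)) := by
  let σ : Localization.Away r ≃ₐ[A] Ar := IsLocalization.algEquiv (Submonoid.powers r) _ _
  let _ : Module (Localization.Away r) Nr := Module.compHom Nr (σ : Localization.Away r →+* Ar)
  have : IsScalarTower A (Localization.Away r) Nr := by
    constructor
    intro a c x
    change σ (a • c) • x = a • (σ c • x)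
    rw [map_smul, smul_assoc]
  let τ : LocalizedModule.Away r N ≃ₗ[A] Nr := IsLocalizedModule.iso (Submonoid.powers r) ρ
  let τ' : LocalizedModule.Away r N ≃ₗ[Localization.Away r] Nr :=
    τ.extendScalarsOfIsLocalization (Submonoid.powers r) (Localization.Away r)
  by_cases hnt : Nontrivial (Localization.Away r)
  · let B := Module.Free.chooseBasis (Localization.Away r) (LocalizedModule.Away r N)
    have hfin : Finite (Module.Free.ChooseBasisIndex (Localization.Away r)
        (LocalizedModule.Away r N)) := Module.Finite.finite_basis B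
    have := Fintype.ofFinite (Module.Free.ChooseBasisIndex (Localization.Away r)
        (LocalizedModule.Away r N))
    let B' := B.map τ'
    let B'' : Module.Basis _ Ar Nr := B'.mapCoeffs σ.toRingEquiv (fun c x => rfl)
    exact ⟨_, ⟨B''.equivFun.trans (LinearEquiv.funCongrLeft Ar Ar (Fintype.equivFin _).symm)⟩⟩
  · rw [not_nontrivial_iff_subsingleton] at hnt
    have h1 : Subsingleton Ar := σ.symm.injective.subsingleton
    have h2 : Subsingleton Nr := Module.subsingleton Ar Nr
    exact ⟨0, ⟨LinearEquiv.ofSubsingleton _ _⟩⟩

section

attribute [local instance] Helper45.stalkModuleSections Helper45.sectionsBasicOpenModule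

variable {X : Scheme.{u}}

theorem isQuasicoherent_of_isFinitePresentation (F : X.Modules)
    (hF : SheafOfModules.IsFinitePresentation (R := X.ringCatSheaf) F) : F.IsQuasicoherent := by
  obtain ⟨σ, -⟩ := SheafOfModules.IsFinitePresentation.exists_quasicoherentData
    (R := X.ringCatSheaf) F
  exact σ.isQuasicoherent

/-- A finitely presented module whose stalk at `x` is free is free of finite rank on a
neighbourhood of `x`. -/
theorem exists_iso_restrict_freeMod_of_stalk_free (F : X.Modules)
    (hF : SheafOfModules.IsFinitePresentation (R := X.ringCatSheaf) F) (x : X)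
    (hfree : Module.Free (X.presheaf.stalk x) ↑(F.presheaf.stalk x)) :
    ∃ (U : X.Opens) (n : ℕ), x ∈ U ∧ Nonempty (F.restrict U.ι ≅ FlatMod.freeMod (↑U) n) := by
  have := isQuasicoherent_of_isFinitePresentation F hF
  obtain ⟨_, ⟨W, hW : IsAffineOpen W, rfl⟩, hxW, -⟩ :=
    X.isBasis_affineOpens.exists_subset_of_mem_open (Set.mem_univ x) isOpen_univ
  obtain ⟨xW, rfl⟩ : ∃ xW : W, (xW : X) = x := ⟨⟨x, hxW⟩, rfl⟩
  have := finitePresentation_sections_of_isFinitePresentation F hF hW
  have := Helper45.isLocalizedModule_germₗ hW F xW
  have := hW.isLocalization_stalk xW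
  obtain ⟨r, hr, hfr, -⟩ := Module.FinitePresentation.exists_free_localizedModule_powers
    (hW.primeIdealOf xW).asIdeal.primeCompl (Helper45.germₗ F xW) (X.presheaf.stalk (xW : X))
  have hx : (xW : X) ∈ X.basicOpen r :=
    (Helper45.mem_basicOpen_iff_not_mem_primeIdealOf hW xW r).mpr hr
  have := hW.isLocalization_basicOpen r
  have := Helper45.isLocalizedModule_restrictBasicOpenₗ hW F r
  obtain ⟨n, ⟨e⟩⟩ := exists_linearEquiv_of_free_localizedModule_away r Γ(X, X.basicOpen r)
    (Helper45.restrictBasicOpenₗ F r)
  exact ⟨X.basicOpen r, n, hx,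
    nonempty_iso_restrict_freeMod_of_linearEquiv (hW.basicOpen r) F n e⟩

end

end Groth.Agent.Lib.Helper49
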