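import Mathlib
import Groth.Agent.Lib.Helper49.FreeNear
/-!
# Finite locally free modules: finite presentation, free / flat stalks, characterizations

* `isFinitePresentation_of_affine_cover`: a quasi-coherent module whose sections over the members
  of an affine open cover are finitely presented is of finite presentation.
* `isFinitePresentation_of_isFinLocFree`, `free_stalk_of_isFinLocFree`, `isFlat_of_isFinLocFree`.
* `finite_stalk_of_isFiniteType`, `finitePresentation_stalk_of_isFinitePresentation`.
* `isFinLocFree_iff_isFinitePresentation_and_free_stalk`,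
  `isFinLocFree_iff_isFlat_and_isFinitePresentation`.
-/
universe u
open CategoryTheory CategoryTheory.Limits AlgebraicGeometry TopologicalSpace

namespace Groth.Agent.Lib.Helper49

section

attribute [local instance] Helper45.stalkModuleSections Helper45.sectionsBasicOpenModule

variable {X : Scheme.{u}}

/-- A quasi-coherent module whose sections over the members of an affine open cover are finitely
presented is of finite presentation. -/
theorem isFinitePresentation_of_affine_cover (F : X.Modules) [F.IsQuasicoherent]
    (h : ∀ x : X, ∃ U : X.Opens, IsAffineOpen U ∧ x ∈ U ∧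
      Module.FinitePresentation Γ(X, U) Γ(F, U)) :
    SheafOfModules.IsFinitePresentation (R := X.ringCatSheaf) F := by
  choose U hU hxU hfp using h
  refine isFinitePresentation_of_forall_restrict F (fun x : X => Spec Γ(X, U x))
    (fun x => (hU x).fromSpec) (fun x => ⟨x, ?_⟩) fun x => ?_
  · rw [(hU x).range_fromSpec]; exact hxU x
  · have : (F.restrict (hU x).fromSpec).IsQuasicoherent :=
      Scheme.Modules.isQuasicoherent_restrictFunctor _ _
    have := hfp x
    have : Module.FinitePresentation Γ(X, U x)
        Γ(F.restrict (hU x).fromSpec, (⊤ : (Spec Γ(X, U x)).Opens)) :=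
      Module.FinitePresentation.of_equiv (sectionsFromSpecTopEquiv (hU x) F).symm
    exact @exists_finite_presentation_of_finitePresentation_Γ Γ(X, U x)
      (F.restrict (hU x).fromSpec) _ this

/-- A finite locally free module is of finite presentation. -/
theorem isFinitePresentation_of_isFinLocFree (F : X.Modules) (h : FlatMod.IsFinLocFree F) :
    SheafOfModules.IsFinitePresentation (R := X.ringCatSheaf) F := by
  have := isQuasicoherent_of_isFinLocFree F h
  refine isFinitePresentation_of_affine_cover F fun x => ?_
  obtain ⟨U, n, hU, hxU, ⟨e⟩⟩ := (isFinLocFree_iff_affine F).mp h x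
  have : Module.FinitePresentation Γ(X, U) (Fin n → Γ(X, U)) :=
    Module.finitePresentation_of_projective _ _
  exact ⟨U, hU, hxU, Module.FinitePresentation.of_equiv e.symm⟩

/-- The stalks of a finite locally free module are free. -/
theorem free_stalk_of_isFinLocFree (F : X.Modules) (h : FlatMod.IsFinLocFree F) (x : X) :
    Module.Free (X.presheaf.stalk x) ↑(F.presheaf.stalk x) := by
  have := isQuasicoherent_of_isFinLocFree F h
  obtain ⟨U, n, hU, hxU, ⟨e⟩⟩ := (isFinLocFree_iff_affine F).mp h x
  obtain ⟨xU, rfl⟩ : ∃ xU : U, (xU : X) = x := ⟨⟨x, hxU⟩, rfl⟩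
  have := Helper45.isLocalizedModule_germₗ hU F xU
  have := hU.isLocalization_stalk xU
  have : Module.Free Γ(X, U) Γ(F, U) := Module.Free.of_equiv e.symm
  exact Module.free_of_isLocalizedModule (hU.primeIdealOf xU).asIdeal.primeCompl
    (Helper45.germₗ F xU)

/-- A finite locally free module is flat. -/
theorem isFlat_of_isFinLocFree (F : X.Modules) (h : FlatMod.IsFinLocFree F) :
    FlatMod.IsFlat F := fun x =>
  have := free_stalk_of_isFinLocFree F h x
  Module.Flat.of_free

/-- The stalks of a quasi-coherent module of finite presentation are finitely presented. -/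
theorem finitePresentation_stalk_of_isFinitePresentation (F : X.Modules)
    (hF : SheafOfModules.IsFinitePresentation (R := X.ringCatSheaf) F) (x : X) :
    Module.FinitePresentation (X.presheaf.stalk x) ↑(F.presheaf.stalk x) := by
  have := isQuasicoherent_of_isFinitePresentation F hF
  obtain ⟨_, ⟨W, hW : IsAffineOpen W, rfl⟩, hxW, -⟩ :=
    X.isBasis_affineOpens.exists_subset_of_mem_open (Set.mem_univ x) isOpen_univ
  obtain ⟨xW, rfl⟩ : ∃ xW : W, (xW : X) = x := ⟨⟨x, hxW⟩, rfl⟩
  have := finitePresentation_sections_of_isFinitePresentation F hF hW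
  have := Helper45.isLocalizedModule_germₗ hW F xW
  have := hW.isLocalization_stalk xW
  exact FinitePresentation.of_isBaseChange (Helper45.germₗ F xW)
    (IsLocalizedModule.isBaseChange (hW.primeIdealOf xW).asIdeal.primeCompl
      (X.presheaf.stalk (xW : X)) (Helper45.germₗ F xW))

/-- Quasi-coherent: finitely presented with free stalks iff finite locally free. -/
theorem isFinLocFree_iff_isFinitePresentation_and_free_stalk (F : X.Modules) :
    FlatMod.IsFinLocFree F ↔
      SheafOfModules.IsFinitePresentation (R := X.ringCatSheaf) F ∧
        ∀ x : X, Module.Free (X.presheaf.stalk x) ↑(F.presheaf.stalk x) :=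
  ⟨fun h => ⟨isFinitePresentation_of_isFinLocFree F h, free_stalk_of_isFinLocFree F h⟩,
    fun h x => exists_iso_restrict_freeMod_of_stalk_free F h.1 x (h.2 x)⟩

/-- Flat and finitely presented iff finite locally free. -/
theorem isFinLocFree_iff_isFlat_and_isFinitePresentation (F : X.Modules) :
    FlatMod.IsFinLocFree F ↔
      FlatMod.IsFlat F ∧ SheafOfModules.IsFinitePresentation (R := X.ringCatSheaf) F := by
  constructor
  · intro h
    exact ⟨isFlat_of_isFinLocFree F h, isFinitePresentation_of_isFinLocFree F h⟩
  · rintro ⟨hflat, hfp⟩
    refine (isFinLocFree_iff_isFinitePresentation_and_free_stalk F).mpr ⟨hfp, fun x => ?_⟩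
    have := finitePresentation_stalk_of_isFinitePresentation F hfp x
    have : Module.Flat (X.presheaf.stalk x) ↑(F.presheaf.stalk x) := hflat x
    exact Module.free_of_flat_of_isLocalRing

end

end Groth.Agent.Lib.Helper49
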