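import Mathlib
import Groth.Agent.Lib.Helper49.FinLocFree
/-!
# Finite locally free modules: the criterion on sections over affine opens

* `free_of_isLocalizedModule_of_free`: freeness transfers between two models of a localization.
* `finite_projective_sections_of_isFinLocFree`: sections of a finite locally free module over an
  affine open form a finite projective module.
* `isFinLocFree_of_finite_projective_cover`: conversely, a quasi-coherent module whose sections
  over the members of an affine open cover are finite projective is finite locally free.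
* `isFinLocFree_iff_sections`.
-/
universe u
open CategoryTheory CategoryTheory.Limits AlgebraicGeometry TopologicalSpace

namespace Groth.Agent.Lib.Helper49

/-- Freeness transfers between two models of the localization of a module. -/
theorem free_of_isLocalizedModule_of_free {R : Type*} [CommRing R] (S : Submonoid R)
    {M : Type*} [AddCommGroup M] [Module R M]
    {Rs : Type*} [CommRing Rs] [Algebra R Rs] [IsLocalization S Rs]
    {Ms : Type*} [AddCommGroup Ms] [Module R Ms] [Module Rs Ms] [IsScalarTower R Rs Ms]
    (f : M →ₗ[R] Ms) [IsLocalizedModule S f]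
    {Rs' : Type*} [CommRing Rs'] [Algebra R Rs'] [IsLocalization S Rs']
    {Ms' : Type*} [AddCommGroup Ms'] [Module R Ms'] [Module Rs' Ms'] [IsScalarTower R Rs' Ms']
    (f' : M →ₗ[R] Ms') [IsLocalizedModule S f'] [Module.Free Rs Ms] : Module.Free Rs' Ms' := by
  let σ : Rs' ≃ₐ[R] Rs := IsLocalization.algEquiv S Rs' Rs
  let _ : Module Rs' Ms := Module.compHom Ms (σ : Rs' →+* Rs)
  have : IsScalarTower R Rs' Ms := by
    constructor
    intro a c x
    change σ (a • c) • x = a • (σ c • x)
    rw [map_smul, smul_assoc]
  let τ : Ms' ≃ₗ[R] Ms := IsLocalizedModule.linearEquiv S f' f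
  let τ' : Ms' ≃ₗ[Rs'] Ms := τ.extendScalarsOfIsLocalization S Rs'
  let B := Module.Free.chooseBasis Rs Ms
  let B' : Module.Basis _ Rs' Ms := B.mapCoeffs σ.symm.toRingEquiv (fun c x => by
    change σ (σ.symm c) • x = c • x
    rw [AlgEquiv.apply_symm_apply])
  have : Module.Free Rs' Ms := Module.Free.of_basis B'
  exact Module.Free.of_equiv τ'.symm

section

attribute [local instance] Helper45.stalkModuleSections Helper45.sectionsBasicOpenModule

variable {X : Scheme.{u}}

theorem primeIdealOf_isoSpec_inv {U : X.Opens} (hU : IsAffineOpen U)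
    (p : PrimeSpectrum Γ(X, U)) : hU.primeIdealOf (hU.isoSpec.inv p) = p := by
  rw [IsAffineOpen.primeIdealOf, ← Scheme.Hom.comp_apply, Iso.inv_hom_id]
  rfl

/-- The sections of a finite locally free module over an affine open form a finite projective
module. -/
theorem finite_projective_sections_of_isFinLocFree (F : X.Modules) (h : FlatMod.IsFinLocFree F)
    {U : X.Opens} (hU : IsAffineOpen U) :
    Module.Finite Γ(X, U) Γ(F, U) ∧ Module.Projective Γ(X, U) Γ(F, U) := by
  have := isQuasicoherent_of_isFinLocFree F h
  have hfp : Module.FinitePresentation Γ(X, U) Γ(F, U) :=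
    finitePresentation_sections_of_isFinitePresentation F
      (isFinitePresentation_of_isFinLocFree F h) hU
  refine ⟨inferInstance, Module.projective_of_localization_maximal fun I hI => ?_⟩
  have hp : I.IsPrime := hI.isPrime
  obtain ⟨x, hx⟩ : ∃ x : U, hU.primeIdealOf x = ⟨I, hp⟩ :=
    ⟨hU.isoSpec.inv ⟨I, hp⟩, primeIdealOf_isoSpec_inv hU _⟩
  have h1 := Helper45.isLocalizedModule_germₗ hU F x
  have h2 := hU.isLocalization_stalk x
  rw [hx] at h1 h2
  have h3 : IsLocalization I.primeCompl (X.presheaf.stalk (x : X)) := h2
  have := free_stalk_of_isFinLocFree F h (x : X)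
  have : Module.Free (Localization.AtPrime I) (LocalizedModule I.primeCompl Γ(F, U)) :=
    free_of_isLocalizedModule_of_free I.primeCompl (Rs := X.presheaf.stalk (x : X))
      (Helper45.germₗ F x) (LocalizedModule.mkLinearMap I.primeCompl Γ(F, U))
  infer_instance

/-- A quasi-coherent module whose sections over the members of an affine open cover are finite
projective is finite locally free. -/
theorem isFinLocFree_of_finite_projective_cover (F : X.Modules) [F.IsQuasicoherent]
    (h : ∀ x : X, ∃ U : X.Opens, IsAffineOpen U ∧ x ∈ U ∧
      Module.Finite Γ(X, U) Γ(F, U) ∧ Module.Projective Γ(X, U) Γ(F, U)) :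
    FlatMod.IsFinLocFree F := by
  refine (isFinLocFree_iff_isFinitePresentation_and_free_stalk F).mpr ⟨?_, fun x => ?_⟩
  · refine isFinitePresentation_of_affine_cover F fun x => ?_
    obtain ⟨U, hU, hxU, hfin, hproj⟩ := h x
    exact ⟨U, hU, hxU, Module.finitePresentation_of_projective _ _⟩
  · obtain ⟨U, hU, hxU, hfin, hproj⟩ := h x
    obtain ⟨xU, rfl⟩ : ∃ xU : U, (xU : X) = x := ⟨⟨x, hxU⟩, rfl⟩
    have := Helper45.isLocalizedModule_germₗ hU F xU
    have := hU.isLocalization_stalk xU
    have : Module.Projective (X.presheaf.stalk (xU : X)) ↑(F.presheaf.stalk (xU : X)) :=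
      Module.projective_of_isLocalizedModule (hU.primeIdealOf xU).asIdeal.primeCompl
        (Helper45.germₗ F xU)
    have : Module.Finite (X.presheaf.stalk (xU : X)) ↑(F.presheaf.stalk (xU : X)) :=
      Module.Finite.of_isLocalizedModule (hU.primeIdealOf xU).asIdeal.primeCompl
        (Helper45.germₗ F xU)
    exact Module.free_of_flat_of_isLocalRing

/-- A quasi-coherent module is finite locally free iff its sections over every affine open form
a finite projective module. -/
theorem isFinLocFree_iff_sections (F : X.Modules) [F.IsQuasicoherent] :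
    FlatMod.IsFinLocFree F ↔ ∀ U : X.affineOpens,
      Module.Finite Γ(X, U.1) Γ(F, U.1) ∧ Module.Projective Γ(X, U.1) Γ(F, U.1) := by
  constructor
  · intro h U
    exact finite_projective_sections_of_isFinLocFree F h U.2
  · intro h
    refine isFinLocFree_of_finite_projective_cover F fun x => ?_
    obtain ⟨_, ⟨W, hW : IsAffineOpen W, rfl⟩, hxW, -⟩ :=
      X.isBasis_affineOpens.exists_subset_of_mem_open (Set.mem_univ x) isOpen_univ
    exact ⟨W, hW, hxW, h ⟨W, hW⟩⟩

end

end Groth.Agent.Lib.Helper49
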