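import Mathlib
import Groth.Agent.Lib.Helper49.FinLocFreeSections
/-!
# The fibre rank of a quasi-coherent module of finite type and local freeness

* algebra: `exists_span_eq_top_of_finrank` (Nakayama), `finrank_fibre_le_card`,
  `span_localized_eq_top`, `exists_smul_mem_span_of_span_localized_eq_top`.
* `fibreRank M x = dim_{κ(x)} κ(x) ⊗ M_x`.
* `fibreRank_eq_of_linearEquiv`, `isLocallyConstant_fibreRank_of_isFinLocFree`.
* `exists_affine_generators`: a quasi-coherent module of finite type is generated, on an affine
  neighbourhood of `x`, by `fibreRank M x` sections.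
* `isFinLocFree_of_free_stalks_of_isLocallyConstant_fibreRank`,
  `isFinLocFree_of_isReduced_of_isLocallyConstant_fibreRank`.
-/
universe u
open CategoryTheory CategoryTheory.Limits AlgebraicGeometry TopologicalSpace TensorProduct IsLocalRing

namespace Groth.Agent.Lib.Helper49

section Alg

variable {R : Type*} [CommRing R] [IsLocalRing R] {P : Type*} [AddCommGroup P] [Module R P]

/-- Nakayama: a finite module over a local ring is generated by as many elements as the dimension
of its fibre. -/
theorem exists_span_eq_top_of_finrank [Module.Finite R P] :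
    ∃ v : Fin (Module.finrank (ResidueField R) (ResidueField R ⊗[R] P)) → P,
      Submodule.span R (Set.range v) = ⊤ := by
  let b := Module.finBasis (ResidueField R) (ResidueField R ⊗[R] P)
  have hs := TensorProduct.mk_surjective R P (ResidueField R) Ideal.Quotient.mk_surjective
  choose v hv using fun i => hs (b i)
  exact ⟨v, span_eq_top_of_tmul_eq_basis v b hv⟩

/-- The dimension of the fibre is at most the number of generators. -/
theorem finrank_fibre_le_card {ι : Type*} [Fintype ι] (v : ι → P)
    (hv : Submodule.span R (Set.range v) = ⊤) :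
    Module.finrank (ResidueField R) (ResidueField R ⊗[R] P) ≤ Fintype.card ι := by
  have hs := TensorProduct.mk_surjective R P (ResidueField R) Ideal.Quotient.mk_surjective
  refine finrank_le_of_span_eq_top (v := fun i => (1 : ResidueField R) ⊗ₜ[R] v i) ?_
  rw [eq_top_iff]
  rintro z -
  obtain ⟨p, rfl⟩ := hs z
  have hp : p ∈ Submodule.span R (Set.range v) := hv ▸ Submodule.mem_top
  induction hp using Submodule.span_induction with
  | mem x hx =>
    obtain ⟨i, rfl⟩ := hx
    exact Submodule.subset_span ⟨i, rfl⟩
  | zero => simp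
  | add x y _ _ hx hy =>
    rw [map_add]
    exact Submodule.add_mem _ hx hy
  | smul a x _ hx =>
    have : (TensorProduct.mk R (ResidueField R) P 1) (a • x) =
        (algebraMap R (ResidueField R) a) • (TensorProduct.mk R (ResidueField R) P 1) x := by
      rw [map_smul, algebraMap_smul]
    rw [this]
    exact Submodule.smul_mem _ _ hx

end Alg

section LocSpan

variable {A : Type*} [CommRing A] (S : Submonoid A) {As : Type*} [CommRing As] [Algebra A As]
  [IsLocalization S As] {N : Type*} [AddCommGroup N] [Module A N]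
  {Ns : Type*} [AddCommGroup Ns] [Module A Ns] [Module As Ns] [IsScalarTower A As Ns]
  (f : N →ₗ[A] Ns) [IsLocalizedModule S f]

include S in
/-- If every element of `N` has a multiple by an element of `S` in the span of `t`, then the images
of the `t i` span the localization. -/
theorem span_localized_eq_top {ι : Type*} (t : ι → N)
    (h : ∀ n : N, ∃ s ∈ S, s • n ∈ Submodule.span A (Set.range t)) :
    Submodule.span As (Set.range fun i => f (t i)) = ⊤ := by
  rw [eq_top_iff]
  rintro z -
  obtain ⟨⟨n, s⟩, hs⟩ := IsLocalizedModule.surj S f z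
  obtain ⟨s', hs', hn⟩ := h n
  have h1 : ∀ m ∈ Submodule.span A (Set.range t),
      f m ∈ Submodule.span As (Set.range fun i => f (t i)) := by
    intro m hm
    induction hm using Submodule.span_induction with
    | mem x hx =>
      obtain ⟨i, rfl⟩ := hx
      exact Submodule.subset_span ⟨i, rfl⟩
    | zero => simp
    | add x y _ _ hx hy =>
      rw [map_add]
      exact Submodule.add_mem _ hx hy
    | smul a x _ hx =>
      rw [map_smul, ← algebraMap_smul As a]
      exact Submodule.smul_mem _ _ hx
  have h2 := h1 _ hn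
  have hu : IsUnit (algebraMap A As (s' * s)) :=
    IsLocalization.map_units As (⟨s', hs'⟩ * s : S)
  obtain ⟨u, hu⟩ := hu
  have h3 : z = (↑u⁻¹ : As) • f (s' • n) := by
    have h4 : f (s' • n) = (u : As) • z := by
      rw [hu, map_smul, ← hs, Submonoid.smul_def, ← mul_smul, algebraMap_smul]
    rw [h4, ← mul_smul, Units.inv_mul, one_smul]
  rw [h3]
  exact Submodule.smul_mem _ _ h2

include S in
/-- Conversely, if the images of finitely many `t i` span the localization of a finite module, some
element of `S` multiplies all of `N` into the span of `t`. -/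
theorem exists_smul_mem_span_of_span_localized_eq_top [Module.Finite A N] {ι : Type*} [Fintype ι]
    (t : ι → N) (h : Submodule.span As (Set.range fun i => f (t i)) = ⊤) :
    ∃ g ∈ S, ∀ n : N, g • n ∈ Submodule.span A (Set.range t) := by
  classical
  have key : ∀ n : N, ∃ s ∈ S, s • n ∈ Submodule.span A (Set.range t) := by
    intro n
    have hn : f n ∈ Submodule.span As (Set.range fun i => f (t i)) := h ▸ Submodule.mem_top
    obtain ⟨c, hc⟩ := (Submodule.mem_span_range_iff_exists_fun As).mp hn
    obtain ⟨b, hb⟩ := IsLocalization.exist_integer_multiples S Finset.univ c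
    choose a ha using fun i => hb i (Finset.mem_univ i)
    have h1 : f ((b : A) • n) = f (∑ i, a i • t i) := by
      rw [map_smul, ← hc, Finset.smul_sum, map_sum]
      refine Finset.sum_congr rfl fun i _ => ?_
      rw [map_smul, ← algebraMap_smul As (a i), ha i, smul_assoc]
    have h2 : f ((b : A) • n - ∑ i, a i • t i) = 0 := by rw [map_sub, h1, sub_self]
    obtain ⟨s', hs'⟩ := (IsLocalizedModule.eq_zero_iff S f).mp h2
    refine ⟨(s' : A) * (b : A), S.mul_mem s'.2 b.2, ?_⟩
    have h3 : ((s' : A) * (b : A)) • n = ∑ i, ((s' : A) * a i) • t i := by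
      rw [Submonoid.smul_def, smul_sub, sub_eq_zero] at hs'
      rw [mul_smul, hs', Finset.smul_sum]
      exact Finset.sum_congr rfl fun i _ => (mul_smul _ _ _).symm
    rw [h3]
    exact Submodule.sum_mem _ fun i _ => Submodule.smul_mem _ _ (Submodule.subset_span ⟨i, rfl⟩)
  obtain ⟨G, hG⟩ := (inferInstance : Module.Finite A N).fg_top
  choose s hsS hs using key
  refine ⟨∏ x ∈ G, s x, Submonoid.prod_mem S fun x _ => hsS x, fun n => ?_⟩
  have hn : n ∈ Submodule.span A (G : Set N) := hG ▸ Submodule.mem_top
  have hle : Submodule.span A (G : Set N) ≤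
      (Submodule.span A (Set.range t)).comap (LinearMap.lsmul A N (∏ x ∈ G, s x)) := by
    rw [Submodule.span_le]
    intro x hx
    change (∏ x ∈ G, s x) • x ∈ Submodule.span A (Set.range t)
    rw [← Finset.mul_prod_erase G s hx, mul_comm, mul_smul]
    exact Submodule.smul_mem _ _ (hs x)
  exact hle hn

end LocSpan

section Sheaf

attribute [local instance] Helper45.stalkModuleSections Helper45.sectionsBasicOpenModule

variable {X : Scheme.{u}}

/-- The fibre rank `dim_{κ(x)} κ(x) ⊗ M_x` of an `O_X`-module at a point. -/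
noncomputable abbrev fibreRank (M : X.Modules) (x : X) : ℕ :=
  Module.finrank (IsLocalRing.ResidueField (X.presheaf.stalk x))
    (TensorProduct (X.presheaf.stalk x) (IsLocalRing.ResidueField (X.presheaf.stalk x))
      (M.presheaf.stalk x))

theorem fibreRank_eq_finrank_of_free (M : X.Modules) (x : X)
    [Module.Free (X.presheaf.stalk x) ↑(M.presheaf.stalk x)] :
    fibreRank M x = Module.finrank (X.presheaf.stalk x) ↑(M.presheaf.stalk x) :=
  Module.finrank_baseChange

/-- Generators of the sections over an affine open generate every stalk. -/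
theorem span_germ_eq_top {U : X.Opens} (hU : IsAffineOpen U) (M : X.Modules) [M.IsQuasicoherent]
    {ι : Type*} (t : ι → Γ(M, U)) (ht : Submodule.span Γ(X, U) (Set.range t) = ⊤) (y : U) :
    Submodule.span (X.presheaf.stalk (y : X))
      (Set.range fun i => Helper45.germₗ M y (t i)) = ⊤ := by
  have := Helper45.isLocalizedModule_germₗ hU M y
  have := hU.isLocalization_stalk y
  exact span_localized_eq_top (hU.primeIdealOf y).asIdeal.primeCompl (Helper45.germₗ M y) t
    fun n => ⟨1, Submonoid.one_mem _, by rw [one_smul, ht]; exact Submodule.mem_top⟩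

/-- If `Γ(M, U) ≃ Γ(X, U)^n` on an affine open `U` then the fibre rank is `n` on `U`. -/
theorem fibreRank_eq_of_linearEquiv {U : X.Opens} (hU : IsAffineOpen U) (M : X.Modules)
    [M.IsQuasicoherent] (n : ℕ) (e : Γ(M, U) ≃ₗ[Γ(X, U)] (Fin n → Γ(X, U))) (y : U) :
    fibreRank M (y : X) = n := by
  have := Helper45.isLocalizedModule_germₗ hU M y
  have := hU.isLocalization_stalk y
  have : Module.Free Γ(X, U) Γ(M, U) := Module.Free.of_equiv e.symm
  have hfree : Module.Free (X.presheaf.stalk (y : X)) ↑(M.presheaf.stalk (y : X)) :=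
    Module.free_of_isLocalizedModule (hU.primeIdealOf y).asIdeal.primeCompl (Helper45.germₗ M y)
  have hnt : Nontrivial Γ(X, U) :=
    (algebraMap Γ(X, U) (X.presheaf.stalk (y : X))).domain_nontrivial
  have h1 : Module.finrank (X.presheaf.stalk (y : X)) ↑(M.presheaf.stalk (y : X)) =
      Module.finrank Γ(X, U) Γ(M, U) :=
    Module.finrank_of_isLocalizedModule_of_free _ (hU.primeIdealOf y).asIdeal.primeCompl
      (Helper45.germₗ M y)
  have h2 : Module.finrank Γ(X, U) Γ(M, U) = n := by
    rw [e.finrank_eq, Module.finrank_fin_fun]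
  rw [fibreRank_eq_finrank_of_free, h1, h2]

/-- The fibre rank of a finite locally free module is locally constant. -/
theorem isLocallyConstant_fibreRank_of_isFinLocFree (M : X.Modules) (h : FlatMod.IsFinLocFree M) :
    IsLocallyConstant (fibreRank M) := by
  have := isQuasicoherent_of_isFinLocFree M h
  refine (IsLocallyConstant.iff_exists_open _).mpr fun x => ?_
  obtain ⟨U, n, hU, hxU, ⟨e⟩⟩ := (isFinLocFree_iff_affine M).mp h x
  refine ⟨U, U.2, hxU, fun y hy => ?_⟩
  rw [fibreRank_eq_of_linearEquiv hU M n e ⟨y, hy⟩, fibreRank_eq_of_linearEquiv hU M n e ⟨x, hxU⟩]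

/-- A quasi-coherent module of finite type is generated, on an affine neighbourhood of `x`, by
`fibreRank M x` sections. -/
theorem exists_affine_generators (M : X.Modules) [M.IsQuasicoherent]
    (hM : SheafOfModules.IsFiniteType (R := X.ringCatSheaf) M) (x : X) (W : X.Opens)
    (hxW : x ∈ W) :
    ∃ U : X.Opens, IsAffineOpen U ∧ x ∈ U ∧ U ≤ W ∧
      ∃ t : Fin (fibreRank M x) → Γ(M, U), Submodule.span Γ(X, U) (Set.range t) = ⊤ := by
  obtain ⟨_, ⟨V, hV : IsAffineOpen V, rfl⟩, hxV, hVW⟩ :=
    X.isBasis_affineOpens.exists_subset_of_mem_open hxW W.2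
  obtain ⟨xV, rfl⟩ : ∃ xV : V, (xV : X) = x := ⟨⟨x, hxV⟩, rfl⟩
  have := Helper45.isLocalizedModule_germₗ hV M xV
  have := hV.isLocalization_stalk xV
  have hfin : Module.Finite Γ(X, V) Γ(M, V) := finite_sections_of_isFiniteType M hM hV
  have hfin' : Module.Finite (X.presheaf.stalk (xV : X)) ↑(M.presheaf.stalk (xV : X)) :=
    Module.Finite.of_isLocalizedModule (hV.primeIdealOf xV).asIdeal.primeCompl
      (Helper45.germₗ M xV)
  obtain ⟨v, hv⟩ := exists_span_eq_top_of_finrank (R := X.presheaf.stalk (xV : X))
    (P := ↑(M.presheaf.stalk (xV : X)))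
  choose ns hns using fun i => IsLocalizedModule.surj (hV.primeIdealOf xV).asIdeal.primeCompl
    (Helper45.germₗ M xV) (v i)
  let t : Fin (fibreRank M (xV : X)) → Γ(M, V) := fun i => (ns i).1
  have hspan : Submodule.span (X.presheaf.stalk (xV : X))
      (Set.range fun i => Helper45.germₗ M xV (t i)) = ⊤ := by
    rw [eq_top_iff, ← hv, Submodule.span_le]
    rintro _ ⟨i, rfl⟩
    have hu : IsUnit (algebraMap Γ(X, V) (X.presheaf.stalk (xV : X)) (ns i).2) :=
      IsLocalization.map_units _ (ns i).2
    obtain ⟨u, hu⟩ := hu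
    have h1 : v i = (↑u⁻¹ : X.presheaf.stalk (xV : X)) • Helper45.germₗ M xV (t i) := by
      have h2 : Helper45.germₗ M xV (t i) = (u : X.presheaf.stalk (xV : X)) • v i := by
        rw [hu, ← hns i, Submonoid.smul_def, algebraMap_smul]
      rw [h2, ← mul_smul, Units.inv_mul, one_smul]
    rw [h1]
    exact Submodule.smul_mem _ _ (Submodule.subset_span ⟨i, rfl⟩)
  obtain ⟨g, hgS, hg⟩ := exists_smul_mem_span_of_span_localized_eq_top
    (hV.primeIdealOf xV).asIdeal.primeCompl (Helper45.germₗ M xV) t hspan
  have hxg : (xV : X) ∈ X.basicOpen g :=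
    (Helper45.mem_basicOpen_iff_not_mem_primeIdealOf hV xV g).mpr hgS
  have := hV.isLocalization_basicOpen g
  have := Helper45.isLocalizedModule_restrictBasicOpenₗ hV M g
  refine ⟨X.basicOpen g, hV.basicOpen g, hxg, (X.basicOpen_le g).trans hVW,
    fun i => Helper45.restrictBasicOpenₗ M g (t i), ?_⟩
  exact span_localized_eq_top (Submonoid.powers g) (Helper45.restrictBasicOpenₗ M g) t
    fun n => ⟨g, Submonoid.mem_powers g, hg n⟩

/-- The germ of a linear combination. -/
theorem germₗ_linearCombination {U : X.Opens} (M : X.Modules) {n : ℕ} (t : Fin n → Γ(M, U))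
    (a : Fin n → Γ(X, U)) (y : U) :
    Helper45.germₗ M y (∑ i, a i • t i) =
      ∑ i, algebraMap Γ(X, U) (X.presheaf.stalk (y : X)) (a i) • Helper45.germₗ M y (t i) := by
  rw [map_sum]
  refine Finset.sum_congr rfl fun i _ => ?_
  rw [map_smul, algebraMap_smul]

/-- Free stalks of constant rank `n` and `n` generators on an affine open: the module is free. -/
theorem linearEquiv_of_span_of_free_stalks {U : X.Opens} (hU : IsAffineOpen U) (M : X.Modules)
    [M.IsQuasicoherent] (n : ℕ) (t : Fin n → Γ(M, U))
    (ht : Submodule.span Γ(X, U) (Set.range t) = ⊤)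
    (hfree : ∀ y : U, Module.Free (X.presheaf.stalk (y : X)) ↑(M.presheaf.stalk (y : X)))
    (hr : ∀ y : U, fibreRank M (y : X) = n) :
    Nonempty (Γ(M, U) ≃ₗ[Γ(X, U)] (Fin n → Γ(X, U))) := by
  let L : (Fin n → Γ(X, U)) →ₗ[Γ(X, U)] Γ(M, U) := Fintype.linearCombination Γ(X, U) t
  have hsurj : Function.Surjective L := by
    rw [← LinearMap.range_eq_top, Fintype.range_linearCombination, ht]
  have hinj : Function.Injective L := by
    rw [injective_iff_map_eq_zero]
    intro a ha
    have ha' : ∑ i, a i • t i = 0 := by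
      rw [← ha]; exact (Fintype.linearCombination_apply Γ(X, U) t a).symm
    funext i
    refine TopCat.Presheaf.section_ext X.sheaf U (a i) 0 fun y hy => ?_
    obtain ⟨yU, rfl⟩ : ∃ yU : U, (yU : X) = y := ⟨⟨y, hy⟩, rfl⟩
    have := hfree yU
    let ψ : (Fin n → X.presheaf.stalk (yU : X)) →ₗ[X.presheaf.stalk (yU : X)]
        ↑(M.presheaf.stalk (yU : X)) :=
      Fintype.linearCombination (X.presheaf.stalk (yU : X)) fun i => Helper45.germₗ M yU (t i)
    have hψs : Function.Surjective ψ := by
      rw [← LinearMap.range_eq_top, Fintype.range_linearCombination]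
      exact span_germ_eq_top hU M t ht yU
    have : Module.Finite (X.presheaf.stalk (yU : X)) ↑(M.presheaf.stalk (yU : X)) :=
      Module.Finite.of_surjective ψ hψs
    have hrank : Module.finrank (X.presheaf.stalk (yU : X))
        (Fin n → X.presheaf.stalk (yU : X)) ≤
        Module.finrank (X.presheaf.stalk (yU : X)) ↑(M.presheaf.stalk (yU : X)) := by
      rw [Module.finrank_fin_fun, ← fibreRank_eq_finrank_of_free, hr yU]
    have hψ := OrzechProperty.bijective_of_surjective_of_finrank_le ψ hψs hrank
    have h0 : ψ (fun i => algebraMap Γ(X, U) (X.presheaf.stalk (yU : X)) (a i)) = 0 := by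
      rw [Fintype.linearCombination_apply, ← germₗ_linearCombination, ha', map_zero]
    have h1 := hψ.1 (h0.trans (map_zero ψ).symm)
    have h2 := congrFun h1 i
    rw [map_zero]
    exact h2
  exact ⟨(LinearEquiv.ofBijective L ⟨hinj, hsurj⟩).symm⟩

/-- On a reduced scheme: constant fibre rank `n` and `n` generators on an affine open imply that
the module is free there. -/
theorem linearEquiv_of_span_of_isReduced [IsReduced X] {U : X.Opens} (hU : IsAffineOpen U)
    (M : X.Modules) [M.IsQuasicoherent] (n : ℕ) (t : Fin n → Γ(M, U))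
    (ht : Submodule.span Γ(X, U) (Set.range t) = ⊤)
    (hr : ∀ y : U, fibreRank M (y : X) = n) :
    Nonempty (Γ(M, U) ≃ₗ[Γ(X, U)] (Fin n → Γ(X, U))) := by
  classical
  let L : (Fin n → Γ(X, U)) →ₗ[Γ(X, U)] Γ(M, U) := Fintype.linearCombination Γ(X, U) t
  have hsurj : Function.Surjective L := by
    rw [← LinearMap.range_eq_top, Fintype.range_linearCombination, ht]
  have hinj : Function.Injective L := by
    rw [injective_iff_map_eq_zero]
    intro a ha
    have ha' : ∑ i, a i • t i = 0 := by
      rw [← ha]; exact (Fintype.linearCombination_apply Γ(X, U) t a).symm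
    funext i
    refine (basicOpen_eq_bot_iff (a i)).mp ?_
    by_contra hne
    obtain ⟨y, hy⟩ : ∃ y : X, y ∈ X.basicOpen (a i) := by
      by_contra hcon
      push Not at hcon
      exact hne (TopologicalSpace.Opens.ext (Set.eq_empty_of_forall_notMem hcon))
    have hyU : y ∈ U := X.basicOpen_le (a i) hy
    obtain ⟨yU, rfl⟩ : ∃ yU : U, (yU : X) = y := ⟨⟨y, hyU⟩, rfl⟩
    have hunit : IsUnit (algebraMap Γ(X, U) (X.presheaf.stalk (yU : X)) (a i)) :=
      (X.mem_basicOpen (a i) yU yU.2).mp hy
    obtain ⟨u, hu⟩ := hunit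
    have hsum := germₗ_linearCombination M t a yU
    rw [ha', map_zero] at hsum
    -- the germs of `t j`, `j ≠ i`, generate the stalk
    have hspan := span_germ_eq_top hU M t ht yU
    have hspan' : Submodule.span (X.presheaf.stalk (yU : X))
        (Set.range fun j : {j : Fin n // j ≠ i} => Helper45.germₗ M yU (t j)) = ⊤ := by
      rw [eq_top_iff, ← hspan, Submodule.span_le]
      rintro _ ⟨j, rfl⟩
      by_cases hji : j = i
      · subst hji
        have h1 : (u : X.presheaf.stalk (yU : X)) • Helper45.germₗ M yU (t j) =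
            -∑ k ∈ Finset.univ.erase j,
              algebraMap Γ(X, U) (X.presheaf.stalk (yU : X)) (a k) • Helper45.germₗ M yU (t k) := by
          rw [eq_neg_iff_add_eq_zero, hu]
          exact (Finset.add_sum_erase Finset.univ (fun k =>
            algebraMap Γ(X, U) (X.presheaf.stalk (yU : X)) (a k) • Helper45.germₗ M yU (t k))
            (Finset.mem_univ j)).trans hsum.symm
        have h2 : Helper45.germₗ M yU (t j) = (↑u⁻¹ : X.presheaf.stalk (yU : X)) •
            ((u : X.presheaf.stalk (yU : X)) • Helper45.germₗ M yU (t j)) := by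
          rw [← mul_smul, Units.inv_mul, one_smul]
        change Helper45.germₗ M yU (t j) ∈ _
        rw [h2, h1]
        refine Submodule.smul_mem _ _ (Submodule.neg_mem _ (Submodule.sum_mem _ fun k hk => ?_))
        exact Submodule.smul_mem _ _
          (Submodule.subset_span ⟨⟨k, Finset.ne_of_mem_erase hk⟩, rfl⟩)
      · exact Submodule.subset_span ⟨⟨j, hji⟩, rfl⟩
    have hle := finrank_fibre_le_card (R := X.presheaf.stalk (yU : X))
      (fun j : {j : Fin n // j ≠ i} => Helper45.germₗ M yU (t j)) hspan'
    have hcard : Fintype.card {j : Fin n // j ≠ i} = n - 1 := by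
      rw [Fintype.card_subtype_compl, Fintype.card_fin, Fintype.card_unique]
    have hn := hr yU
    have hpos : 0 < n := i.pos
    change fibreRank M (yU : X) ≤ _ at hle
    omega
  exact ⟨(LinearEquiv.ofBijective L ⟨hinj, hsurj⟩).symm⟩

/-- Finite type, free stalks and locally constant fibre rank imply finite locally free. -/
theorem isFinLocFree_of_free_stalks_of_isLocallyConstant_fibreRank (M : X.Modules)
    [M.IsQuasicoherent] (hM : SheafOfModules.IsFiniteType (R := X.ringCatSheaf) M)
    (hfree : ∀ x : X, Module.Free (X.presheaf.stalk x) ↑(M.presheaf.stalk x))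
    (hlc : IsLocallyConstant (fibreRank M)) : FlatMod.IsFinLocFree M := by
  intro x
  obtain ⟨W, hW, hxW, hconst⟩ := (IsLocallyConstant.iff_exists_open _).mp hlc x
  obtain ⟨U, hU, hxU, hUW, t, ht⟩ := exists_affine_generators M hM x ⟨W, hW⟩ hxW
  obtain ⟨e⟩ := linearEquiv_of_span_of_free_stalks hU M _ t ht (fun y => hfree y)
    (fun y => hconst y (hUW y.2))
  exact ⟨U, _, hxU, nonempty_iso_restrict_freeMod_of_linearEquiv hU M _ e⟩

/-- On a reduced scheme, finite type and locally constant fibre rank imply finite locally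
free. -/
theorem isFinLocFree_of_isReduced_of_isLocallyConstant_fibreRank [IsReduced X] (M : X.Modules)
    [M.IsQuasicoherent] (hM : SheafOfModules.IsFiniteType (R := X.ringCatSheaf) M)
    (hlc : IsLocallyConstant (fibreRank M)) : FlatMod.IsFinLocFree M := by
  intro x
  obtain ⟨W, hW, hxW, hconst⟩ := (IsLocallyConstant.iff_exists_open _).mp hlc x
  obtain ⟨U, hU, hxU, hUW, t, ht⟩ := exists_affine_generators M hM x ⟨W, hW⟩ hxW
  obtain ⟨e⟩ := linearEquiv_of_span_of_isReduced hU M _ t ht (fun y => hconst y (hUW y.2))
  exact ⟨U, _, hxU, nonempty_iso_restrict_freeMod_of_linearEquiv hU M _ e⟩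

/-- A finite locally free module is of finite type. -/
theorem isFiniteType_of_isFinLocFree (M : X.Modules) (h : FlatMod.IsFinLocFree M) :
    SheafOfModules.IsFiniteType (R := X.ringCatSheaf) M := by
  have := isFinitePresentation_of_isFinLocFree M h
  infer_instance

end Sheaf

end Groth.Agent.Lib.Helper49
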