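import Mathlib
import Groth.Agent.Lib.Helper49.FinLocFreeSections
/-!
# Direct summands of finite locally free modules are finite locally free

* `isQuasicoherent_of_retract`: a retract of a quasi-coherent module is quasi-coherent.
* `isFinLocFree_freeMod`.
* `isFinLocFree_of_retract`: a retract (direct summand) of a finite locally free module is finite
  locally free.
* `isFinLocFree_of_biprod_iso_freeMod`: `M ⊞ N ≅ O_X^n` implies `M` finite locally free.
-/
universe u
open CategoryTheory CategoryTheory.Limits AlgebraicGeometry TopologicalSpace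

namespace Groth.Agent.Lib.Helper49

variable {X : Scheme.{u}}

/-- A retract is the kernel of the complementary idempotent. -/
noncomputable def retractIsoKernel {M P : X.Modules} (i : M ⟶ P) (p : P ⟶ M) (h : i ≫ p = 𝟙 M) :
    M ≅ kernel (𝟙 P - p ≫ i) where
  hom := kernel.lift _ i (by
    rw [Preadditive.comp_sub, Category.comp_id, ← Category.assoc, h, Category.id_comp, sub_self])
  inv := kernel.ι _ ≫ p
  hom_inv_id := by rw [← Category.assoc, kernel.lift_ι, h]
  inv_hom_id := by
    apply equalizer.hom_ext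
    have h0 : kernel.ι (𝟙 P - p ≫ i) ≫ (𝟙 P - p ≫ i) = 0 := kernel.condition _
    rw [Preadditive.comp_sub, Category.comp_id, sub_eq_zero] at h0
    rw [Category.assoc, kernel.lift_ι, Category.id_comp, Category.assoc]
    exact h0.symm

/-- A retract of a quasi-coherent module is quasi-coherent. -/
theorem isQuasicoherent_of_retract {M P : X.Modules} (i : M ⟶ P) (p : P ⟶ M) (h : i ≫ p = 𝟙 M)
    (hP : P.IsQuasicoherent) : M.IsQuasicoherent :=
  isQuasicoherent_of_iso (retractIsoKernel i p h).symm (isQuasicoherent_kernel _ hP hP)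

/-- `O_X^n` is finite locally free. -/
theorem isFinLocFree_freeMod (X : Scheme.{u}) (n : ℕ) : FlatMod.IsFinLocFree (FlatMod.freeMod X n) :=
  fun _ => ⟨⊤, n, trivial, ⟨restrictFreeIso n (⊤ : X.Opens).ι⟩⟩

/-- A retract of a finite locally free module is finite locally free. -/
theorem isFinLocFree_of_retract {M P : X.Modules} (i : M ⟶ P) (p : P ⟶ M) (h : i ≫ p = 𝟙 M)
    (hP : FlatMod.IsFinLocFree P) : FlatMod.IsFinLocFree M := by
  have hPq := isQuasicoherent_of_isFinLocFree P hP
  have hMq := isQuasicoherent_of_retract i p h hPq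
  refine (isFinLocFree_iff_sections M).mpr fun U => ?_
  obtain ⟨h1, h2⟩ := finite_projective_sections_of_isFinLocFree P hP U.2
  let iU : Γ(M, U.1) →ₗ[Γ(X, U.1)] Γ(P, U.1) := appₗ i U.1
  let pU : Γ(P, U.1) →ₗ[Γ(X, U.1)] Γ(M, U.1) := appₗ p U.1
  have hip : ∀ m, pU (iU m) = m := fun m => by
    have := congrArg (fun φ : M ⟶ M => φ.app U.1 m) h
    exact this
  have hsurj : Function.Surjective pU := fun m => ⟨iU m, hip m⟩
  refine ⟨Module.Finite.of_surjective pU hsurj, ?_⟩
  exact Module.Projective.of_split iU pU (LinearMap.ext hip)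

/-- `M ⊞ N ≅ O_X^n` implies `M` finite locally free. -/
theorem isFinLocFree_of_biprod_iso_freeMod (M N : X.Modules) [HasBinaryBiproduct M N] (n : ℕ)
    (e : M ⊞ N ≅ FlatMod.freeMod X n) : FlatMod.IsFinLocFree M :=
  isFinLocFree_of_retract (biprod.inl ≫ e.hom) (e.inv ≫ biprod.fst) (by simp)
    (isFinLocFree_freeMod X n)

end Groth.Agent.Lib.Helper49
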