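import Mathlib
import Groth.Agent.Lib.Helper45.LocalizingOn
import Groth.Agent.Lib.Helper49.FiniteTypeAffine
/-!
# The qcqs lemma for quasi-coherent modules; a module localizing on all affine opens is
quasi-coherent; direct images of quasi-coherent modules along qcqs morphisms are quasi-coherent.
(Builds on `Groth.Agent.Lib.Helper45.IsLocalizingOn`.)
-/
universe u
open AlgebraicGeometry CategoryTheory Limits TopologicalSpace

namespace Groth.Agent.Lib.Helper49
open Groth.Agent.Lib.Helper45

variable {X : Scheme.{u}}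

/-- Restriction of sections of a module, as an additive map. -/
noncomputable def mres (F : X.Modules) {V W : X.Opens} (h : V ≤ W) : Γ(F, W) →+ Γ(F, V) :=
  (F.presheaf.map (homOfLE h).op).hom

/-- Restriction of functions, as a ring map. -/
noncomputable def fres {V W : X.Opens} (h : V ≤ W) : Γ(X, W) →+* Γ(X, V) :=
  (X.presheaf.map (homOfLE h).op).hom

variable (F : X.Modules)

theorem mres_apply {V W : X.Opens} (h : V ≤ W) (s : Γ(F, W)) :
    mres F h s = F.presheaf.map (homOfLE h).op s := rfl

theorem fres_apply {V W : X.Opens} (h : V ≤ W) (r : Γ(X, W)) :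
    fres h r = X.presheaf.map (homOfLE h).op r := rfl

@[simp] theorem mres_mres {V W Z : X.Opens} (h₁ : V ≤ W) (h₂ : W ≤ Z) (s : Γ(F, Z)) :
    mres F h₁ (mres F h₂ s) = mres F (h₁.trans h₂) s := by
  simp only [mres_apply]
  rw [← ConcreteCategory.comp_apply, ← Functor.map_comp]
  rfl

@[simp] theorem fres_fres {V W Z : X.Opens} (h₁ : V ≤ W) (h₂ : W ≤ Z) (r : Γ(X, Z)) :
    fres h₁ (fres h₂ r) = fres (h₁.trans h₂) r := by
  simp only [fres_apply]
  rw [← ConcreteCategory.comp_apply, ← Functor.map_comp]
  rfl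

@[simp] theorem mres_smul {V W : X.Opens} (h : V ≤ W) (r : Γ(X, W)) (s : Γ(F, W)) :
    mres F h (r • s) = fres h r • mres F h s :=
  Scheme.Modules.map_smul F (homOfLE h) r s

theorem basicOpen_fres {V W : X.Opens} (h : V ≤ W) (f : Γ(X, W)) :
    X.basicOpen (fres h f) = V ⊓ X.basicOpen f :=
  Scheme.basicOpen_res X f (homOfLE h).op


theorem smul_pow_eq_zero_of_le {M R : Type*} [CommRing R] [AddCommGroup M] [Module R M]
    {r : R} {m : M} {n N : ℕ} (h : r ^ n • m = 0) (hn : n ≤ N) : r ^ N • m = 0 := by
  rw [← Nat.sub_add_cancel hn, pow_add, mul_smul, h, smul_zero]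

/-- Sections of a quasi-coherent module over a quasi-compact open `U` which vanish on `D(f)` are
killed by a power of `f`. -/
theorem exists_pow_smul_eq_zero_of_isCompact [F.IsQuasicoherent] {U : X.Opens}
    (hU : IsCompact (U : Set X)) (f : Γ(X, U)) (t : Γ(F, U))
    (ht : mres F (X.basicOpen_le f) t = 0) : ∃ n : ℕ, f ^ n • t = 0 := by
  obtain ⟨S, hS, e⟩ := isCompact_and_isOpen_iff_finite_and_eq_biUnion_affineOpens.mp ⟨hU, U.2⟩
  replace e : U = iSup fun i : S => (i : X.Opens) := by
    ext1; simpa using e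
  have h₁ (i : S) : i.1.1 ≤ U := by
    rw [e]
    exact le_iSup (fun (i : S) => (i : Opens (X.toPresheafedSpace))) _
  have H (i : S) : ∃ n : ℕ, (fres (h₁ i) f) ^ n • mres F (h₁ i) t = 0 := by
    apply exists_pow_smul_eq_zero_of_restrict_eq_zero i.1.2 F
    change mres F (X.basicOpen_le _) (mres F (h₁ i) t) = 0
    have hle : X.basicOpen (fres (h₁ i) f) ≤ X.basicOpen f := by
      rw [basicOpen_fres]; exact inf_le_right
    rw [mres_mres, ← mres_mres F hle (X.basicOpen_le f), ht, map_zero]
  choose n hn using H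
  have := hS.to_subtype
  cases nonempty_fintype S
  refine ⟨Finset.univ.sup n, ?_⟩
  apply TopCat.Sheaf.eq_of_locally_eq' ⟨F.presheaf, F.isSheaf⟩ (fun i : S => (i : X.Opens)) U
    (fun i => homOfLE (h₁ i)) (le_of_eq e)
  intro i
  change mres F (h₁ i) _ = mres F (h₁ i) 0
  rw [map_zero, mres_smul, map_pow]
  exact smul_pow_eq_zero_of_le (hn i) (Finset.le_sup (Finset.mem_univ i))


/-- Sections of a quasi-coherent module over `D(f)`, `f` a function on a quasi-compact and
quasi-separated open `U`, extend to `U` after multiplication by a power of `f`. -/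
theorem exists_restrict_eq_pow_smul_of_qcqs [F.IsQuasicoherent] {U : X.Opens}
    (hU : IsCompact (U : Set X)) (hU' : IsQuasiSeparated (U : Set X)) (f : Γ(X, U))
    (s : Γ(F, X.basicOpen f)) :
    ∃ (n : ℕ) (t : Γ(F, U)), mres F (X.basicOpen_le f) t = (fres (X.basicOpen_le f) f) ^ n • s := by
  obtain ⟨S, hS, e⟩ := isCompact_and_isOpen_iff_finite_and_eq_biUnion_affineOpens.mp ⟨hU, U.2⟩
  replace e : U = iSup fun i : S => (i : X.Opens) := by
    ext1; simpa using e
  have h₁ (i : S) : i.1.1 ≤ U := by
    rw [e]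
    exact le_iSup (fun (i : S) => (i : Opens (X.toPresheafedSpace))) _
  have := hS.to_subtype
  cases nonempty_fintype S
  -- the basic opens `D_i = D(f|_i)`
  have hD (i : S) : X.basicOpen (fres (h₁ i) f) ≤ X.basicOpen f := by
    rw [basicOpen_fres]; exact inf_le_right
  -- step 1: local extensions
  have H (i : S) : ∃ (n : ℕ) (t : Γ(F, i.1.1)), mres F (X.basicOpen_le (fres (h₁ i) f)) t =
      (fres (X.basicOpen_le (fres (h₁ i) f)) (fres (h₁ i) f)) ^ n • mres F (hD i) s :=
    exists_restrict_eq_pow_smul i.1.2 F (fres (h₁ i) f) (mres F (hD i) s)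
  choose n t ht using H
  set N := Finset.univ.sup n with hN
  let t' (i : S) : Γ(F, i.1.1) := (fres (h₁ i) f) ^ (N - n i) • t i
  have ht' (i : S) : mres F (X.basicOpen_le (fres (h₁ i) f)) (t' i) =
      (fres ((X.basicOpen_le (fres (h₁ i) f)).trans (h₁ i)) f) ^ N • mres F (hD i) s := by
    have hle : n i ≤ N := Finset.le_sup (Finset.mem_univ i)
    simp only [t', mres_smul, map_pow, ht, fres_fres, smul_smul, ← pow_add]
    rw [Nat.sub_add_cancel hle]
  -- step 2: agreement on overlaps after multiplying by a power of `f`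
  have hW (i j : S) : i.1.1 ⊓ j.1.1 ≤ U := inf_le_left.trans (h₁ i)
  have hc (i j : S) : IsCompact ((i.1.1 ⊓ j.1.1 : X.Opens) : Set X) :=
    hU' _ _ (h₁ i) i.1.1.2 i.1.2.isCompact (h₁ j) j.1.1.2 j.1.2.isCompact
  have H2 (i j : S) : ∃ m : ℕ, (fres (hW i j) f) ^ m •
      (mres F inf_le_left (t' i) - mres F inf_le_right (t' j)) = 0 := by
    apply exists_pow_smul_eq_zero_of_isCompact F (hc i j)
    have hB : X.basicOpen (fres (hW i j) f) = (i.1.1 ⊓ j.1.1) ⊓ X.basicOpen f := basicOpen_fres _ _
    have hBi : X.basicOpen (fres (hW i j) f) ≤ X.basicOpen (fres (h₁ i) f) := by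
      rw [hB, basicOpen_fres]; exact inf_le_inf_right _ inf_le_left
    have hBj : X.basicOpen (fres (hW i j) f) ≤ X.basicOpen (fres (h₁ j) f) := by
      rw [hB, basicOpen_fres]; exact inf_le_inf_right _ inf_le_right
    rw [map_sub, mres_mres, mres_mres, sub_eq_zero,
      ← mres_mres F hBi (X.basicOpen_le _), ← mres_mres F hBj (X.basicOpen_le _), ht', ht']
    simp only [mres_smul, map_pow, fres_fres, mres_mres]
  choose m hm using H2
  set M := Finset.univ.sup (fun p : S × S => m p.1 p.2) with hM
  let t'' (i : S) : Γ(F, i.1.1) := (fres (h₁ i) f) ^ M • t' i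
  -- step 3: glue
  obtain ⟨T, hT, -⟩ := TopCat.Sheaf.existsUnique_gluing' ⟨F.presheaf, F.isSheaf⟩
    (fun i : S => (i : X.Opens)) U (fun i => homOfLE (h₁ i)) (le_of_eq e) t'' (by
      intro i j
      change mres F inf_le_left (t'' i) = mres F inf_le_right (t'' j)
      have hle : m i j ≤ M := Finset.le_sup (f := fun p : S × S => m p.1 p.2) (Finset.mem_univ (i, j))
      have := smul_pow_eq_zero_of_le (hm i j) hle
      rw [smul_sub, sub_eq_zero] at this
      simp only [t'', mres_smul, map_pow, fres_fres]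
      exact this)
  refine ⟨N + M, T, ?_⟩
  have hcov : X.basicOpen f ≤ ⨆ i : S, X.basicOpen (fres (h₁ i) f) := by
    intro x hx
    have hxU : x ∈ (⨆ i : S, (i : X.Opens)) := e ▸ X.basicOpen_le f hx
    obtain ⟨i, hi⟩ := Opens.mem_iSup.mp hxU
    refine Opens.mem_iSup.mpr ⟨i, ?_⟩
    rw [basicOpen_fres]
    exact ⟨hi, hx⟩
  apply TopCat.Sheaf.eq_of_locally_eq' ⟨F.presheaf, F.isSheaf⟩
    (fun i : S => X.basicOpen (fres (h₁ i) f)) (X.basicOpen f) (fun i => homOfLE (hD i)) hcov
  intro i
  change mres F (hD i) (mres F (X.basicOpen_le f) T) = mres F (hD i) _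
  have hTi : mres F (h₁ i) T = t'' i := hT i
  rw [mres_mres, ← mres_mres F (X.basicOpen_le (fres (h₁ i) f)) (h₁ i), hTi]
  simp only [t'', mres_smul, map_pow, fres_fres, ht', smul_smul, ← pow_add]
  rw [add_comm]


/-- A quasi-coherent module localizes correctly on every quasi-compact quasi-separated open. -/
theorem isLocalizingOn_of_qcqs [F.IsQuasicoherent] {U : X.Opens}
    (hU : IsCompact (U : Set X)) (hU' : IsQuasiSeparated (U : Set X)) : IsLocalizingOn F U :=
  ⟨fun f s => exists_restrict_eq_pow_smul_of_qcqs F hU hU' f s,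
    fun f t ht => exists_pow_smul_eq_zero_of_isCompact F hU f t ht⟩

@[simp] theorem mres_self {V : X.Opens} (s : Γ(F, V)) : mres F le_rfl s = s := by
  rw [mres_apply]
  have : (homOfLE (le_refl V)).op = 𝟙 (Opposite.op V) := rfl
  rw [this, F.presheaf.map_id]
  rfl

theorem mres_injective_of_eq {V W : X.Opens} (h : V = W) :
    Function.Injective (mres F h.le) := by
  intro a b hab
  have := congrArg (mres F h.symm.le) hab
  simpa using this

section
variable {U : X.Opens} (hU : IsAffineOpen U)

theorem restrictAppIso_hom_smul (V : (Spec Γ(X, U)).Opens) (r : Γ(X, U))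
    (m : Γ(F.restrict hU.fromSpec, V)) :
    (F.restrictAppIso hU.fromSpec V).hom (r • m) =
      fres (fromSpec_image_le hU V) r • (F.restrictAppIso hU.fromSpec V).hom m := by
  rw [smul_restrict_fromSpec' hU F V r m, Iso.inv_hom_id_apply]
  rfl

theorem restrictAppIso_hom_map {V W : (Spec Γ(X, U)).Opens} (h : V ≤ W)
    (m : Γ(F.restrict hU.fromSpec, W)) :
    (F.restrictAppIso hU.fromSpec V).hom ((F.restrict hU.fromSpec).presheaf.map (homOfLE h).op m) =
      mres F (hU.fromSpec.image_mono h) ((F.restrictAppIso hU.fromSpec W).hom m) := rfl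

theorem restrictAppIso_hom_injective (V : (Spec Γ(X, U)).Opens) :
    Function.Injective (F.restrictAppIso hU.fromSpec V).hom :=
  (ConcreteCategory.bijective_of_isIso (F.restrictAppIso hU.fromSpec V).hom).1

theorem sectionsFromSpecTopEquiv_apply (m : Γ(F.restrict hU.fromSpec, (⊤ : (Spec Γ(X, U)).Opens))) :
    sectionsFromSpecTopEquiv hU F m =
      mres F (fromSpec_image_top hU).symm.le ((F.restrictAppIso hU.fromSpec ⊤).hom m) := rfl

/-- The key step: localizing on an affine open implies the restriction to `Spec` is localizing. -/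
theorem isLocalizedModule_away_of_isLocalizingOn (h : IsLocalizingOn F U) (a : Γ(X, U)) :
    IsLocalizedModule.Away a
      ((modulesSpecToSheaf.obj (F.restrict hU.fromSpec)).obj.map
        (PrimeSpectrum.basicOpen a).leTop.op).hom := by
  have eT : hU.fromSpec ''ᵁ ⊤ = U := fromSpec_image_top hU
  have eD : hU.fromSpec ''ᵁ (PrimeSpectrum.basicOpen a) = X.basicOpen a :=
    hU.fromSpec_image_basicOpen a
  let V : (Spec Γ(X, U)).Opens := PrimeSpectrum.basicOpen a
  have hVT : V ≤ (⊤ : (Spec Γ(X, U)).Opens) := le_top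
  refine IsLocalizedModule.Away.mk_of_addCommGroup ?_ ?_ ?_
  · exact Scheme.Modules.isUnit_algebraMap_end_of_le_basicOpen a le_rfl
  · intro x
    let x' : Γ(F.restrict hU.fromSpec, V) := x
    obtain ⟨n, t, ht⟩ := h.exists_restrict_eq_pow_smul a
      (mres F eD.symm.le ((F.restrictAppIso hU.fromSpec V).hom x'))
    let y' : Γ(F.restrict hU.fromSpec, (⊤ : (Spec Γ(X, U)).Opens)) :=
      (F.restrictAppIso hU.fromSpec ⊤).inv (mres F eT.le t)
    refine ⟨n, y', ?_⟩
    change a ^ n • x' = (F.restrict hU.fromSpec).presheaf.map (homOfLE hVT).op y'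
    apply restrictAppIso_hom_injective F hU V
    apply mres_injective_of_eq F eD.symm
    rw [restrictAppIso_hom_smul, restrictAppIso_hom_map, Iso.inv_hom_id_apply, mres_smul,
      mres_mres, mres_mres, fres_fres, map_pow]
    exact ht.symm
  · intro y hy
    let y' : Γ(F.restrict hU.fromSpec, (⊤ : (Spec Γ(X, U)).Opens)) := y
    have hy' : (F.restrict hU.fromSpec).presheaf.map (homOfLE hVT).op y' = 0 := hy
    obtain ⟨n, hn⟩ := h.exists_pow_smul_eq_zero a (sectionsFromSpecTopEquiv hU F y') (by
      change mres F _ (sectionsFromSpecTopEquiv hU F y') = 0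
      rw [sectionsFromSpecTopEquiv_apply, mres_mres]
      have h2 := congrArg (fun z => mres F eD.symm.le ((F.restrictAppIso hU.fromSpec V).hom z)) hy'
      simp only [restrictAppIso_hom_map, mres_mres, map_zero] at h2
      exact h2)
    refine ⟨n, ?_⟩
    change a ^ n • y' = 0
    apply (sectionsFromSpecTopEquiv hU F).injective
    rw [map_smul, hn, map_zero]

end

/-- A module which localizes correctly on every affine open is quasi-coherent. -/
theorem isQuasicoherent_of_isLocalizingOn
    (h : ∀ U : X.affineOpens, IsLocalizingOn F U.1) : F.IsQuasicoherent := by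
  refine isQuasicoherent_of_forall_fromSpec F fun U => ?_
  rw [isQuasicoherent_iff_isIso_fromTildeΓ, isIso_fromTildeΓ_iff_isLocalizing]
  intro a
  exact isLocalizedModule_away_of_isLocalizingOn F U.2 (h U) a


section Pushforward
variable {S : Scheme.{u}} (f : X ⟶ S)

/-- (Generalises `Groth.Agent.Lib.Helper45.isLocalizingOn_pushforward`, same proof.) If `F`
localizes correctly on `f ⁻¹ᵁ V` then `f_* F` localizes correctly on `V`. -/
theorem isLocalizingOn_pushforward_of {V : S.Opens} (hF : IsLocalizingOn F (f ⁻¹ᵁ V)) :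
    IsLocalizingOn ((Scheme.Modules.pushforward f).obj F) V := by
  constructor
  · intro g s
    have e : f ⁻¹ᵁ (S.basicOpen g) = X.basicOpen (f.app V g) := Scheme.preimage_basicOpen f g
    obtain ⟨n, t, ht⟩ := hF.exists_restrict_eq_pow_smul (f.app V g)
      (F.presheaf.map (eqToHom e.symm).op (show Γ(F, f ⁻¹ᵁ (S.basicOpen g)) from s))
    refine ⟨n, t, ?_⟩
    have hinj : Function.Injective (F.presheaf.map (eqToHom e.symm).op) := by
      have : IsIso (F.presheaf.map (eqToHom e.symm).op) := inferInstance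
      exact ((ConcreteCategory.isIso_iff_bijective _).mp this).1
    apply hinj
    rw [pushforward_smul, Scheme.Modules.map_smul]
    have h1 : F.presheaf.map (eqToHom e.symm).op
        (((Scheme.Modules.pushforward f).obj F).presheaf.map (homOfLE (S.basicOpen_le g)).op t) =
        F.presheaf.map (homOfLE (X.basicOpen_le (f.app V g))).op t := by
      change F.presheaf.map (eqToHom e.symm).op (F.presheaf.map _ t) = _
      rw [← ConcreteCategory.comp_apply, ← Functor.map_comp]
      rfl
    rw [h1, ht]
    congr 1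
    rw [map_pow, map_pow]
    congr 1
    have h2 := congrArg (fun φ => (ConcreteCategory.hom φ) g)
      (f.naturality (homOfLE (S.basicOpen_le g)).op)
    simp only [CommRingCat.comp_apply] at h2
    rw [h2]
    conv_rhs => rw [← ConcreteCategory.comp_apply, ← Functor.map_comp]
    rfl
  · intro g (t : Γ(F, f ⁻¹ᵁ V)) ht
    have e : f ⁻¹ᵁ (S.basicOpen g) = X.basicOpen (f.app V g) := Scheme.preimage_basicOpen f g
    have h0 : F.presheaf.map (homOfLE (X.basicOpen_le (f.app V g))).op t = 0 := by
      have h1 : F.presheaf.map (eqToHom e.symm).op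
          (((Scheme.Modules.pushforward f).obj F).presheaf.map (homOfLE (S.basicOpen_le g)).op t) =
          F.presheaf.map (homOfLE (X.basicOpen_le (f.app V g))).op t := by
        change F.presheaf.map (eqToHom e.symm).op (F.presheaf.map _ t) = _
        rw [← ConcreteCategory.comp_apply, ← Functor.map_comp]
        rfl
      rw [← h1, ht]
      exact map_zero _
    obtain ⟨n, hn⟩ := hF.exists_pow_smul_eq_zero (f.app V g) t h0
    refine ⟨n, ?_⟩
    change (f.app V (g ^ n)) • t = 0
    rw [map_pow]
    exact hn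

/-- The direct image of a quasi-coherent module along a quasi-compact quasi-separated morphism is
quasi-coherent. -/
theorem isQuasicoherent_pushforward [QuasiCompact f] [QuasiSeparated f] [F.IsQuasicoherent] :
    ((Scheme.Modules.pushforward f).obj F).IsQuasicoherent := by
  refine isQuasicoherent_of_isLocalizingOn _ fun V => ?_
  refine isLocalizingOn_pushforward_of F f (isLocalizingOn_of_qcqs F ?_ ?_)
  · exact QuasiCompact.isCompact_preimage (f := f) _ V.1.2 V.2.isCompact
  · exact Scheme.Hom.isQuasiSeparated_preimage f V.2.isQuasiSeparated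

end Pushforward

end Groth.Agent.Lib.Helper49
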