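import Mathlib
import Groth.Agent.Lib.Helper49.StalkNbhd2
import Groth.Agent.Lib.Helper49.QcqsModules
import Groth.Agent.Lib.Helper49.QCohLocal
import Groth.Agent.Lib.Helper49.FiniteTypeLocal
/-!
# Sections supported on a closed subset: the map `M ⟶ j_* (M|_U)`

* `stalkMap_comp`, `stalkMap_zero`, `subsingleton_sections_of_stalk`.
* `toPushRestrict M U : M ⟶ j_* (M|_U)` for an open `U` with inclusion `j`; it is injective on the
  stalks at points of `U` (`stalkMap_toPushRestrict_injective`); the stalks of `j_* (M|_U)` vanish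
  at points having a neighbourhood `W` with `M` zero on `W ∩ U`
  (`subsingleton_stalk_pushRestrict`).
* `exists_shortExact_support`: on a Noetherian scheme, for coherent `M` with
  `Supp M ⊆ Z ∪ Z'`, `Z` closed and `Z'` closed, there is `0 → K → M → Q → 0` with `K`, `Q`
  coherent, `Supp K ⊆ Z'`, `Supp Q ⊆ Z`.
-/
universe u
open CategoryTheory CategoryTheory.Limits AlgebraicGeometry TopologicalSpace

namespace Groth.Agent.Lib.Helper49

variable {X : Scheme.{u}}

theorem stalkMap_comp {M N P : X.Modules} (φ : M ⟶ N) (ψ : N ⟶ P) (x : X) :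
    stalkMap (φ ≫ ψ) x = stalkMap φ x ≫ stalkMap ψ x :=
  (TopCat.Presheaf.stalkFunctor Ab x).map_comp φ.mapPresheaf ψ.mapPresheaf

theorem stalkMap_zero {M N : X.Modules} (x : X) (a : ↑(M.presheaf.stalk x)) :
    (stalkMap (0 : M ⟶ N) x).hom a = 0 := by
  obtain ⟨V, hxV, a', rfl⟩ := TopCat.Presheaf.exists_germ_eq M.presheaf a
  rw [stalkMap_germ]
  have : (0 : M ⟶ N).app V a' = 0 := rfl
  rw [this, map_zero]

/-- Sections over an open on which all stalks vanish are trivial. -/
theorem subsingleton_sections_of_stalk (M : X.Modules) (W : X.Opens)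
    (h : ∀ x ∈ W, Subsingleton ↑(M.presheaf.stalk x)) : Subsingleton Γ(M, W) :=
  ⟨fun s t => Helper45.section_ext_germ M W s t fun x hx => (h x hx).elim _ _⟩

section

variable (M : X.Modules) (U : X.Opens)

/-- The restriction map `M ⟶ j_* (M|_U)`. -/
noncomputable abbrev toPushRestrict :
    M ⟶ (Scheme.Modules.pushforward U.ι).obj (M.restrict U.ι) :=
  (Scheme.Modules.restrictAdjunction U.ι).unit.app M

theorem isIso_restrict_toPushRestrict :
    IsIso ((Scheme.Modules.restrictFunctor U.ι).map (toPushRestrict M U)) := by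
  have h := (Scheme.Modules.restrictAdjunction U.ι).left_triangle_components M
  have h2 : IsIso ((Scheme.Modules.restrictFunctor U.ι).map (toPushRestrict M U) ≫
      (Scheme.Modules.restrictAdjunction U.ι).counit.app
        ((Scheme.Modules.restrictFunctor U.ι).obj M)) := by
    rw [h]; infer_instance
  exact IsIso.of_isIso_comp_right _ ((Scheme.Modules.restrictAdjunction U.ι).counit.app
        ((Scheme.Modules.restrictFunctor U.ι).obj M))

theorem stalkMap_toPushRestrict_injective (x : X) (hx : x ∈ U) :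
    Function.Injective (stalkMap (toPushRestrict M U) x).hom := by
  obtain ⟨z, rfl⟩ := exists_ι_eq U x hx
  have := isIso_restrict_toPushRestrict M U
  exact stalkMap_injective_of_restrict U.ι _ z (stalkMap_bijective_of_isIso _ z).1

theorem subsingleton_stalk_pushRestrict (x : X) (W : X.Opens) (hxW : x ∈ W)
    (h : ∀ y ∈ W ⊓ U, Subsingleton ↑(M.presheaf.stalk y)) :
    Subsingleton
      ↑(((Scheme.Modules.pushforward U.ι).obj (M.restrict U.ι)).presheaf.stalk x) := by
  refine ⟨fun a b => ?_⟩
  have key : ∀ a : ↑(((Scheme.Modules.pushforward U.ι).obj (M.restrict U.ι)).presheaf.stalk x),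
      a = 0 := by
    intro a
    obtain ⟨V, hxV, n, rfl⟩ := TopCat.Presheaf.exists_germ_eq _ a
    have hxVW : x ∈ V ⊓ W := ⟨hxV, hxW⟩
    rw [← TopCat.Presheaf.germ_res_apply _ (homOfLE (inf_le_left : V ⊓ W ≤ V)) x hxVW n]
    have hsub : Subsingleton Γ(M, U.ι ''ᵁ U.ι ⁻¹ᵁ (V ⊓ W)) := by
      refine subsingleton_sections_of_stalk M _ fun y hy => h y ?_
      have h1 : y ∈ V ⊓ W := U.ι.image_preimage_le (V ⊓ W) hy
      have h2 : y ∈ U := by
        obtain ⟨z, -, rfl⟩ := hy
        exact ι_mem U z
      exact ⟨h1.2, h2⟩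
    have hsub' : Subsingleton
        Γ((Scheme.Modules.pushforward U.ι).obj (M.restrict U.ι), V ⊓ W) := hsub
    rw [hsub'.elim (((Scheme.Modules.pushforward U.ι).obj (M.restrict U.ι)).presheaf.map
      (homOfLE (inf_le_left : V ⊓ W ≤ V)).op n) 0, map_zero]
  rw [key a, key b]

end

/-- On a Noetherian scheme, a coherent module with support in `Z ∪ Z'` (both closed) is an
extension of a coherent module supported in `Z` by a coherent module supported in `Z'`. -/
theorem exists_shortExact_support [IsNoetherian X] (M : X.Modules) [M.IsQuasicoherent]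
    (hM : SheafOfModules.IsFiniteType (R := X.ringCatSheaf) M) (Z Z' : Set X)
    (hZ : IsClosed Z) (hZ' : IsClosed Z')
    (h : ∀ x : X, ¬ Subsingleton ↑(M.presheaf.stalk x) → x ∈ Z ∪ Z') :
    ∃ S : ShortComplex X.Modules, S.ShortExact ∧ S.X₂ = M ∧
      S.X₁.IsQuasicoherent ∧ SheafOfModules.IsFiniteType (R := X.ringCatSheaf) S.X₁ ∧
      S.X₃.IsQuasicoherent ∧ SheafOfModules.IsFiniteType (R := X.ringCatSheaf) S.X₃ ∧
      (∀ x : X, ¬ Subsingleton ↑(S.X₁.presheaf.stalk x) → x ∈ Z') ∧
      (∀ x : X, ¬ Subsingleton ↑(S.X₃.presheaf.stalk x) → x ∈ Z) := by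
  let U : X.Opens := ⟨Z'ᶜ, hZ'.isOpen_compl⟩
  let η := toPushRestrict M U
  have hqr : (M.restrict U.ι).IsQuasicoherent := Scheme.Modules.isQuasicoherent_restrictFunctor _ _
  have hqN : ((Scheme.Modules.pushforward U.ι).obj (M.restrict U.ι)).IsQuasicoherent :=
    isQuasicoherent_pushforward (M.restrict U.ι) U.ι
  have hqK : (kernel η).IsQuasicoherent := isQuasicoherent_kernel η inferInstance hqN
  have hqQ : (cokernel (kernel.ι η)).IsQuasicoherent :=
    isQuasicoherent_cokernel (kernel.ι η) hqK inferInstance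
  refine ⟨ShortComplex.mk (kernel.ι η) (cokernel.π (kernel.ι η)) (cokernel.condition _),
    ⟨ShortComplex.exact_of_g_is_cokernel _ (cokernelIsCokernel _)⟩, rfl, hqK,
    isFiniteType_of_mono (kernel.ι η) hM, hqQ,
    @isFiniteType_of_epi _ _ _ (cokernel.π (kernel.ι η)) coequalizer.π_epi hM, ?_, ?_⟩
  · intro x hx
    by_contra hxZ'
    apply hx
    have hxU : x ∈ U := hxZ'
    refine ⟨fun a b => ?_⟩
    apply stalkMap_injective_of_mono (kernel.ι η) x
    apply stalkMap_toPushRestrict_injective M U x hxU
    have h0 : ∀ c, (stalkMap η x).hom ((stalkMap (kernel.ι η) x).hom c) = 0 := by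
      intro c
      have := stalkMap_comp (kernel.ι η) η x
      rw [kernel.condition] at this
      have h2 := congrArg (fun φ => φ.hom c) this
      simp only [AddCommGrpCat.hom_comp] at h2
      rw [stalkMap_zero] at h2
      exact h2.symm
    change (stalkMap η x).hom _ = (stalkMap η x).hom _
    rw [h0, h0]
  · intro x hx
    by_contra hxZ
    apply hx
    have hN : Subsingleton
        ↑(((Scheme.Modules.pushforward U.ι).obj (M.restrict U.ι)).presheaf.stalk x) := by
      refine subsingleton_stalk_pushRestrict M U x ⟨Zᶜ, hZ.isOpen_compl⟩ hxZ fun y hy => ?_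
      by_contra hy'
      rcases h y hy' with h1 | h1
      · exact hy.1 h1
      · exact hy.2 h1
    have hmono : Mono (Abelian.factorThruCoimage η) := inferInstance
    exact (stalkMap_injective_of_mono (Abelian.factorThruCoimage η) x).subsingleton

end Groth.Agent.Lib.Helper49
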