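import Mathlib
import Groth.Agent.Lib.Helper30.ModEpi
import Groth.Agent.Lib.Helper45.ModulesExact
import Groth.Agent.Lib.Helper49.SupportSplit
/-!
# Stalks of exact sequences of `O_X`-modules

* `exists_app_eq_of_epi`: an epimorphism of `O_X`-modules is locally surjective.
* `stalkMap_surjective_of_epi`: an epimorphism of `O_X`-modules is surjective on stalks.
* `stalkMap_exact_of_shortExact`: a short exact sequence of `O_X`-modules is exact on stalks.
-/
universe u
open CategoryTheory CategoryTheory.Limits AlgebraicGeometry TopologicalSpace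

namespace Groth.Agent.Lib.Helper49

variable {X : Scheme.{u}}

/-- An epimorphism of `O_X`-modules is locally surjective. -/
theorem exists_app_eq_of_epi {M N : X.Modules} (φ : M ⟶ N) [Epi φ] (U : X.Opens) (n : Γ(N, U))
    (x : X) (hx : x ∈ U) :
    ∃ (V : X.Opens) (hVU : V ≤ U) (_ : x ∈ V) (m : Γ(M, V)),
      φ.app V m = N.presheaf.map (homOfLE hVU).op n := by
  have hepi : Epi (C := SheafOfModules X.ringCatSheaf) φ := ‹Epi φ›
  have h := Helper30.ModEpi.isLocallySurjective_of_epi (R := X.ringCatSheaf) φ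
  have h2 : TopCat.Presheaf.IsLocallySurjective (X := X.toTopCat) φ.mapPresheaf := h
  obtain ⟨V, hVU, ⟨m, hm⟩, hxV⟩ := (TopCat.Presheaf.isLocallySurjective_iff _).mp h2 U n x hx
  exact ⟨V, hVU, hxV, m, hm⟩

/-- An epimorphism of `O_X`-modules is surjective on stalks. -/
theorem stalkMap_surjective_of_epi {M N : X.Modules} (φ : M ⟶ N) [Epi φ] (x : X) :
    Function.Surjective (stalkMap φ x).hom := by
  intro b
  obtain ⟨U, hxU, n, rfl⟩ := TopCat.Presheaf.exists_germ_eq N.presheaf b
  obtain ⟨V, hVU, hxV, m, hm⟩ := exists_app_eq_of_epi φ U n x hxU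
  refine ⟨M.presheaf.germ V x hxV m, ?_⟩
  rw [stalkMap_germ, hm, TopCat.Presheaf.germ_res_apply]

/-- A short exact sequence of `O_X`-modules is exact on stalks. -/
theorem stalkMap_exact_of_shortExact (S : ShortComplex X.Modules) (hS : S.ShortExact) (x : X) :
    Function.Exact (stalkMap S.f x).hom (stalkMap S.g x).hom := by
  intro b
  constructor
  · intro hb
    obtain ⟨U, hxU, n, rfl⟩ := TopCat.Presheaf.exists_germ_eq S.X₂.presheaf b
    rw [stalkMap_germ] at hb
    have hb' : S.X₃.presheaf.germ U x hxU (S.g.app U n) = S.X₃.presheaf.germ U x hxU 0 := by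
      rw [hb, map_zero]
    obtain ⟨V, hxV, iU, iU', hV⟩ := TopCat.Presheaf.germ_eq S.X₃.presheaf x hxU hxU _ _ hb'
    rw [map_zero] at hV
    have hnat : S.g.app V (S.X₂.presheaf.map iU.op n) = S.X₃.presheaf.map iU.op (S.g.app U n) :=
      congrArg (fun g => g.hom n) (S.g.mapPresheaf.naturality iU.op)
    rw [← hnat] at hV
    obtain ⟨m, hm⟩ := (Helper45.app_exact_of_shortExact S hS V _).mp hV
    refine ⟨S.X₁.presheaf.germ V x hxV m, ?_⟩
    rw [stalkMap_germ, hm, TopCat.Presheaf.germ_res_apply]
  · rintro ⟨a, rfl⟩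
    have := stalkMap_comp S.f S.g x
    rw [S.zero] at this
    have h2 := congrArg (fun φ => φ.hom a) this
    simp only [AddCommGrpCat.hom_comp] at h2
    rw [stalkMap_zero] at h2
    exact h2.symm

end Groth.Agent.Lib.Helper49
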