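import Mathlib
import Groth.Agent.Lib.Helper49.SupportSplit
/-!
# The kernel of `M ⟶ j_*(M|_U)` and its cokernel: stalks

* `subsingleton_stalk_kernel_toPushRestrict`: the kernel of `M ⟶ j_*(M|_U)` has zero stalks on `U`.
* `subsingleton_stalk_cokernel_kernel_toPushRestrict`: the cokernel of that kernel has zero stalk at
  points having a neighbourhood `W` with `M` zero on `W ∩ U`.
* `subsingleton_stalk_of_isZero_restrict`, `isZero_restrict_of_stalk`.
-/
universe u
open CategoryTheory CategoryTheory.Limits AlgebraicGeometry TopologicalSpace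

namespace Groth.Agent.Lib.Helper49

variable {X : Scheme.{u}} (M : X.Modules) (U : X.Opens)

theorem subsingleton_stalk_kernel_toPushRestrict (x : X) (hxU : x ∈ U) :
    Subsingleton ↑((kernel (toPushRestrict M U)).presheaf.stalk x) := by
  set η := toPushRestrict M U
  refine ⟨fun a b => ?_⟩
  apply stalkMap_injective_of_mono (kernel.ι η) x
  apply stalkMap_toPushRestrict_injective M U x hxU
  have h0 : ∀ c, (stalkMap η x).hom ((stalkMap (kernel.ι η) x).hom c) = 0 := by
    intro c
    have := stalkMap_comp (kernel.ι η) η x
    rw [kernel.condition] at this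
    have h2 := congrArg (fun φ => φ.hom c) this
    simp only [AddCommGrpCat.hom_comp] at h2
    rw [stalkMap_zero] at h2
    exact h2.symm
  change (stalkMap η x).hom _ = (stalkMap η x).hom _
  rw [h0, h0]

theorem subsingleton_stalk_cokernel_kernel_toPushRestrict (x : X) (W : X.Opens) (hxW : x ∈ W)
    (h : ∀ y ∈ W ⊓ U, Subsingleton ↑(M.presheaf.stalk y)) :
    Subsingleton ↑((cokernel (kernel.ι (toPushRestrict M U))).presheaf.stalk x) := by
  set η := toPushRestrict M U
  have hN : Subsingleton
      ↑(((Scheme.Modules.pushforward U.ι).obj (M.restrict U.ι)).presheaf.stalk x) :=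
    subsingleton_stalk_pushRestrict M U x W hxW h
  have hmono : Mono (Abelian.factorThruCoimage η) := inferInstance
  exact (stalkMap_injective_of_mono (Abelian.factorThruCoimage η) x).subsingleton

theorem subsingleton_stalk_of_isZero_restrict (h : IsZero (M.restrict U.ι)) (x : X) (hx : x ∈ U) :
    Subsingleton ↑(M.presheaf.stalk x) := by
  have h1 := (Helper45.isZero_iff_stalk_subsingleton _).mp h ⟨x, hx⟩
  exact (restrictStalkIso_hom_bijective U.ι M ⟨x, hx⟩).2.subsingleton

theorem isZero_restrict_of_stalk (h : ∀ x ∈ U, Subsingleton ↑(M.presheaf.stalk x)) :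
    IsZero (M.restrict U.ι) := by
  rw [Helper45.isZero_iff_stalk_subsingleton]
  intro z
  have := h (U.ι z) z.2
  exact (restrictStalkIso_hom_bijective U.ι M z).1.subsingleton

end Groth.Agent.Lib.Helper49
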