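import Mathlib
import Groth.Agent.Lib.Helper49.StalkExact
import Groth.Agent.Lib.Helper49.SupportSplit2
/-!
# Stalks of kernels and cokernels; isomorphisms after restriction to an open

* `subsingleton_stalk_kernel_iff`: `(ker φ)_x = 0` iff `φ_x` is injective.
* `subsingleton_stalk_cokernel_iff`: `(coker φ)_x = 0` iff `φ_x` is surjective.
* `isIso_restrict_iff`: `φ|_U` is an isomorphism iff `φ_x` is bijective for all `x ∈ U`.
-/
universe u
open CategoryTheory CategoryTheory.Limits AlgebraicGeometry TopologicalSpace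

namespace Groth.Agent.Lib.Helper49

variable {X : Scheme.{u}} {A B : X.Modules} (φ : A ⟶ B)

theorem stalkMap_comp_apply' {M N P : X.Modules} (α : M ⟶ N) (β : N ⟶ P) (x : X)
    (a : ↑(M.presheaf.stalk x)) :
    (stalkMap (α ≫ β) x).hom a = (stalkMap β x).hom ((stalkMap α x).hom a) := by
  rw [stalkMap_comp]; rfl

theorem stalkMap_eq_zero_of_comp_eq_zero {M N P : X.Modules} (α : M ⟶ N) (β : N ⟶ P)
    (h : α ≫ β = 0) (x : X) (a : ↑(M.presheaf.stalk x)) :
    (stalkMap β x).hom ((stalkMap α x).hom a) = 0 := by
  rw [← stalkMap_comp_apply', h, stalkMap_zero]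

theorem subsingleton_stalk_kernel_iff (x : X) :
    Subsingleton ↑((kernel φ).presheaf.stalk x) ↔ Function.Injective (stalkMap φ x).hom := by
  constructor
  · intro h
    rw [injective_iff_map_eq_zero]
    intro a ha
    -- the short exact sequence `0 → ker φ → A → coim φ → 0`
    have hS : (ShortComplex.mk (kernel.ι φ) (cokernel.π (kernel.ι φ))
        (cokernel.condition _)).ShortExact :=
      ⟨ShortComplex.exact_of_g_is_cokernel _ (cokernelIsCokernel _)⟩
    have hmono : Mono (Abelian.factorThruCoimage φ) := inferInstance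
    have h1 : (stalkMap (cokernel.π (kernel.ι φ)) x).hom a = 0 := by
      apply stalkMap_injective_of_mono (Abelian.factorThruCoimage φ) x
      rw [map_zero, ← stalkMap_comp_apply']
      have : cokernel.π (kernel.ι φ) ≫ Abelian.factorThruCoimage φ = φ := Abelian.coimage.fac φ
      rw [this, ha]
    obtain ⟨c, rfl⟩ := (stalkMap_exact_of_shortExact _ hS x a).mp h1
    rw [h.elim c 0, map_zero]
  · intro h
    refine ⟨fun a b => ?_⟩
    apply stalkMap_injective_of_mono (kernel.ι φ) x
    apply h
    rw [stalkMap_eq_zero_of_comp_eq_zero _ _ (kernel.condition φ),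
      stalkMap_eq_zero_of_comp_eq_zero _ _ (kernel.condition φ)]

theorem subsingleton_stalk_cokernel_iff (x : X) :
    Subsingleton ↑((cokernel φ).presheaf.stalk x) ↔ Function.Surjective (stalkMap φ x).hom := by
  constructor
  · intro h b
    have hS : (ShortComplex.mk (kernel.ι (cokernel.π φ)) (cokernel.π φ)
        (kernel.condition _)).ShortExact :=
      ⟨ShortComplex.exact_of_f_is_kernel _ (kernelIsKernel _)⟩
    have h1 : (stalkMap (cokernel.π φ) x).hom b = 0 := h.elim _ _
    obtain ⟨c, rfl⟩ := (stalkMap_exact_of_shortExact _ hS x b).mp h1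
    have hepi : Epi (Abelian.factorThruImage φ) := inferInstance
    obtain ⟨a, rfl⟩ := stalkMap_surjective_of_epi (Abelian.factorThruImage φ) x c
    refine ⟨a, ?_⟩
    have h2 : (stalkMap φ x).hom a =
        (stalkMap (Abelian.factorThruImage φ ≫ kernel.ι (cokernel.π φ)) x).hom a := by
      rw [show Abelian.factorThruImage φ ≫ kernel.ι (cokernel.π φ) = φ from Abelian.image.fac φ]
    exact h2.trans (stalkMap_comp_apply' _ _ x a)
  · intro h
    have key : ∀ c : ↑((cokernel φ).presheaf.stalk x), c = 0 := by
      intro c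
      have hepi : Epi (cokernel.π φ) := inferInstance
      obtain ⟨b, rfl⟩ := stalkMap_surjective_of_epi (cokernel.π φ) x c
      obtain ⟨a, rfl⟩ := h b
      exact stalkMap_eq_zero_of_comp_eq_zero _ _ (cokernel.condition φ) x a
    exact ⟨fun a b => (key a).trans (key b).symm⟩

theorem isIso_restrict_iff (U : X.Opens) :
    IsIso ((Scheme.Modules.restrictFunctor U.ι).map φ) ↔
      ∀ x ∈ U, Function.Bijective (stalkMap φ x).hom := by
  constructor
  · intro h x hx
    have h1 := stalkMap_bijective_of_isIso ((Scheme.Modules.restrictFunctor U.ι).map φ) ⟨x, hx⟩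
    exact ⟨stalkMap_injective_of_restrict U.ι φ ⟨x, hx⟩ h1.1,
      stalkMap_surjective_of_restrict U.ι φ ⟨x, hx⟩ h1.2⟩
  · intro h
    refine isIso_of_stalkMap_bijective _ fun z => ?_
    exact ⟨stalkMap_restrict_injective U.ι φ z (h _ z.2).1,
      stalkMap_restrict_surjective U.ι φ z (h _ z.2).2⟩

end Groth.Agent.Lib.Helper49
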