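import Mathlib
import Groth.Agent.Lib.Helper49.QcqsModules
/-!
# Direct images along finite morphisms and finite type
-/
universe u
open AlgebraicGeometry CategoryTheory Limits TopologicalSpace

namespace Groth.Agent.Lib.Helper49
open Groth.Agent.Lib.Helper45

variable {X Y : Scheme.{u}} (f : X ⟶ Y) (F : X.Modules)

/-- Sections of `f_* F` over `V`, as a `Γ(Y, V)`-module, versus `Γ(F, f ⁻¹ᵁ V)` with scalars
restricted along `f.app V`. -/
theorem finite_sections_pushforward_iff (V : Y.Opens) :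
    Module.Finite Γ(Y, V) Γ((Scheme.Modules.pushforward f).obj F, V) ↔
      (letI : Module Γ(Y, V) Γ(F, f ⁻¹ᵁ V) := Module.compHom _ (f.app V).hom
       Module.Finite Γ(Y, V) Γ(F, f ⁻¹ᵁ V)) := by
  let _ : Module Γ(Y, V) Γ(F, f ⁻¹ᵁ V) := Module.compHom _ (f.app V).hom
  let e : Γ((Scheme.Modules.pushforward f).obj F, V) ≃ₗ[Γ(Y, V)] Γ(F, f ⁻¹ᵁ V) :=
    { toFun := fun m => m
      invFun := fun m => m
      map_add' := fun _ _ => rfl
      map_smul' := fun a m => pushforward_smul f F V a m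
      left_inv := fun _ => rfl
      right_inv := fun _ => rfl }
  exact ⟨fun h => Module.Finite.equiv e, fun h => Module.Finite.equiv e.symm⟩


/-- Finite type can be checked on sections over an affine open cover. -/
theorem isFiniteType_of_finite_sections_cover {X : Scheme.{u}} (F : X.Modules) [F.IsQuasicoherent]
    {ι : Type u} (U : ι → X.Opens) (hU : ∀ i, IsAffineOpen (U i)) (hcov : ∀ x : X, ∃ i, x ∈ U i)
    (h : ∀ i, Module.Finite Γ(X, U i) Γ(F, U i)) :
    SheafOfModules.IsFiniteType (R := X.ringCatSheaf) F := by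
  refine isFiniteType_of_forall_restrict F (fun i => Spec Γ(X, U i)) (fun i => (hU i).fromSpec)
    (fun x => ?_) fun i => ?_
  · obtain ⟨i, hi⟩ := hcov x
    exact ⟨i, by rw [(hU i).range_fromSpec]; exact hi⟩
  · have : (F.restrict (hU i).fromSpec).IsQuasicoherent :=
      Scheme.Modules.isQuasicoherent_restrictFunctor _ _
    refine (isFiniteType_iff_finite_Γ Γ(X, U i) (F.restrict (hU i).fromSpec)).mpr ?_
    have := h i
    exact Module.Finite.equiv (sectionsFromSpecTopEquiv (hU i) F).symm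

/-- The direct image of a quasi-coherent module of finite type along a finite morphism is of
finite type. -/
theorem isFiniteType_pushforward_of_isFinite [IsFinite f] [F.IsQuasicoherent]
    (hF : SheafOfModules.IsFiniteType (R := X.ringCatSheaf) F) :
    SheafOfModules.IsFiniteType (R := Y.ringCatSheaf) ((Scheme.Modules.pushforward f).obj F) := by
  have : ((Scheme.Modules.pushforward f).obj F).IsQuasicoherent := isQuasicoherent_pushforward F f
  refine isFiniteType_of_finite_sections _ fun V => ?_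
  rw [finite_sections_pushforward_iff]
  have hU : IsAffineOpen (f ⁻¹ᵁ V.1) := V.2.preimage f
  have h1 := finite_sections_of_isFiniteType F hF hU
  have h2 : (f.app V.1).hom.Finite := IsFinite.finite_app f V.1 V.2
  let _ : Algebra Γ(Y, V.1) Γ(X, f ⁻¹ᵁ V.1) := (f.app V.1).hom.toAlgebra
  let _ : Module Γ(Y, V.1) Γ(F, f ⁻¹ᵁ V.1) := Module.compHom _ (f.app V.1).hom
  have : IsScalarTower Γ(Y, V.1) Γ(X, f ⁻¹ᵁ V.1) Γ(F, f ⁻¹ᵁ V.1) :=
    IsScalarTower.of_compHom _ _ _
  have : Module.Finite Γ(Y, V.1) Γ(X, f ⁻¹ᵁ V.1) := h2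
  exact Module.Finite.trans Γ(X, f ⁻¹ᵁ V.1) Γ(F, f ⁻¹ᵁ V.1)

/-- Conversely, a quasi-coherent module whose direct image along a finite (or just affine)
morphism is of finite type is of finite type. -/
theorem isFiniteType_of_pushforward_of_isAffineHom [IsAffineHom f] [F.IsQuasicoherent]
    (h : SheafOfModules.IsFiniteType (R := Y.ringCatSheaf) ((Scheme.Modules.pushforward f).obj F)) :
    SheafOfModules.IsFiniteType (R := X.ringCatSheaf) F := by
  have : ((Scheme.Modules.pushforward f).obj F).IsQuasicoherent := isQuasicoherent_pushforward F f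
  refine isFiniteType_of_finite_sections_cover F (fun V : Y.affineOpens => f ⁻¹ᵁ V.1)
    (fun V => V.2.preimage f) (fun x => ?_) fun V => ?_
  · have hx : f x ∈ (⨆ i : Y.affineOpens, (i : Y.Opens)) := by
      rw [iSup_affineOpens_eq_top]; trivial
    obtain ⟨V, hV⟩ := Opens.mem_iSup.mp hx
    exact ⟨V, hV⟩
  · have h1 := finite_sections_of_isFiniteType _ h V.2
    rw [finite_sections_pushforward_iff] at h1
    let _ : Algebra Γ(Y, V.1) Γ(X, f ⁻¹ᵁ V.1) := (f.app V.1).hom.toAlgebra
    let _ : Module Γ(Y, V.1) Γ(F, f ⁻¹ᵁ V.1) := Module.compHom _ (f.app V.1).hom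
    have : IsScalarTower Γ(Y, V.1) Γ(X, f ⁻¹ᵁ V.1) Γ(F, f ⁻¹ᵁ V.1) :=
      IsScalarTower.of_compHom _ _ _
    have : Module.Finite Γ(Y, V.1) Γ(F, f ⁻¹ᵁ V.1) := h1
    exact Module.Finite.of_restrictScalars_finite Γ(Y, V.1) Γ(X, f ⁻¹ᵁ V.1) Γ(F, f ⁻¹ᵁ V.1)

end Groth.Agent.Lib.Helper49
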