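import Mathlib
import Groth.Agent.Lib.Helper49.PushforwardFinite
import Groth.Agent.Lib.Helper49.FinitePresentation2
universe u
open TensorProduct AlgebraicGeometry CategoryTheory Limits TopologicalSpace

namespace Groth.Agent.Lib.Helper49

/-- If `B` is a finite `A`-algebra and `M` is a `B`-module finitely presented over `A`, then `M` is
finitely presented over `B`. -/
theorem finitePresentation_of_restrictScalars (A B M : Type*) [CommRing A] [CommRing B]
    [Algebra A B] [Module.Finite A B] [AddCommGroup M] [Module A M] [Module B M]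
    [IsScalarTower A B M] [Module.FinitePresentation A M] : Module.FinitePresentation B M := by
  classical
  -- the multiplication map `B ⊗[A] M → M`
  let μ : B ⊗[A] M →ₗ[B] M :=
    TensorProduct.AlgebraTensorModule.lift
      ((LinearMap.restrictScalarsₗ A B M M B) ∘ₗ (LinearMap.lsmul B M))
  have hμ : ∀ (b : B) (m : M), μ (b ⊗ₜ m) = b • m := fun b m => rfl
  have hsurj : Function.Surjective μ := fun m => ⟨1 ⊗ₜ m, by rw [hμ, one_smul]⟩
  obtain ⟨s, hs⟩ := (Module.Finite.fg_top : (⊤ : Submodule A B).FG)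
  obtain ⟨t, ht⟩ := (Module.Finite.fg_top : (⊤ : Submodule A M).FG)
  refine Module.finitePresentation_of_surjective μ hsurj ?_
  -- the bilinear map `(b, m) ↦ b ⊗ m - 1 ⊗ b m`
  let Φ : B →ₗ[A] M →ₗ[A] B ⊗[A] M :=
    LinearMap.mk₂ A (fun b m => b ⊗ₜ[A] m - (1 : B) ⊗ₜ[A] (b • m))
      (fun b b' m => by simp only [add_tmul, add_smul, tmul_add]; abel)
      (fun a b m => by
        simp only [smul_assoc, smul_sub, TensorProduct.smul_tmul', tmul_smul])
      (fun b m m' => by simp only [tmul_add, smul_add]; abel)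
      (fun a b m => by
        simp only [tmul_smul, smul_sub]
        rw [smul_comm b a m, tmul_smul])
  let G : Set (B ⊗[A] M) := (fun p : B × M => Φ p.1 p.2) '' ((s : Set B) ×ˢ (t : Set M))
  have hGfin : G.Finite := (s.finite_toSet.prod t.finite_toSet).image _
  refine ⟨hGfin.toFinset, ?_⟩
  rw [Set.Finite.coe_toFinset]
  apply le_antisymm
  · rw [Submodule.span_le]
    rintro _ ⟨⟨b, m⟩, -, rfl⟩
    change μ (b ⊗ₜ[A] m - (1 : B) ⊗ₜ[A] (b • m)) = 0
    rw [map_sub, hμ, hμ, one_smul, sub_self]
  · have key : ∀ (b : B) (m : M), Φ b m ∈ (Submodule.span B G).restrictScalars A := by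
      intro b m
      refine LinearMap.BilinMap.apply_apply_mem_of_mem_span _ (s : Set B) (t : Set M) Φ ?_ b m
        (by rw [hs]; trivial) (by rw [ht]; trivial)
      intro x hx y hy
      exact Submodule.subset_span ⟨(x, y), ⟨hx, hy⟩, rfl⟩
    have key2 : ∀ x : B ⊗[A] M, x - (1 : B) ⊗ₜ[A] μ x ∈ Submodule.span B G := by
      intro x
      induction x using TensorProduct.induction_on with
      | zero => simp
      | tmul b m => rw [hμ]; exact key b m
      | add x y hx hy =>
        have : x + y - (1 : B) ⊗ₜ[A] μ (x + y) =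
            (x - (1 : B) ⊗ₜ[A] μ x) + (y - (1 : B) ⊗ₜ[A] μ y) := by
          rw [map_add, tmul_add]; abel
        rw [this]
        exact add_mem hx hy
    intro x hx
    have h1 := key2 x
    rw [LinearMap.mem_ker.mp hx, tmul_zero, sub_zero] at h1
    exact h1

open Groth.Agent.Lib.Helper45

variable {X Y : Scheme.{u}} (f : X ⟶ Y) (F : X.Modules)

theorem finitePresentation_sections_pushforward_iff (V : Y.Opens) :
    Module.FinitePresentation Γ(Y, V) Γ((Scheme.Modules.pushforward f).obj F, V) ↔
      (letI : Module Γ(Y, V) Γ(F, f ⁻¹ᵁ V) := Module.compHom _ (f.app V).hom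
       Module.FinitePresentation Γ(Y, V) Γ(F, f ⁻¹ᵁ V)) := by
  let _ : Module Γ(Y, V) Γ(F, f ⁻¹ᵁ V) := Module.compHom _ (f.app V).hom
  let e : Γ((Scheme.Modules.pushforward f).obj F, V) ≃ₗ[Γ(Y, V)] Γ(F, f ⁻¹ᵁ V) :=
    { toFun := fun m => m
      invFun := fun m => m
      map_add' := fun _ _ => rfl
      map_smul' := fun a m => pushforward_smul f F V a m
      left_inv := fun _ => rfl
      right_inv := fun _ => rfl }
  exact ⟨fun h => Module.FinitePresentation.of_equiv e,
    fun h => Module.FinitePresentation.of_equiv e.symm⟩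

/-- Finite presentation can be checked on sections over an affine open cover. -/
theorem isFinitePresentation_of_finitePresentation_sections_cover {X : Scheme.{u}} (F : X.Modules)
    [F.IsQuasicoherent] {ι : Type u} (U : ι → X.Opens) (hU : ∀ i, IsAffineOpen (U i))
    (hcov : ∀ x : X, ∃ i, x ∈ U i)
    (h : ∀ i, Module.FinitePresentation Γ(X, U i) Γ(F, U i)) :
    SheafOfModules.IsFinitePresentation (R := X.ringCatSheaf) F := by
  refine isFinitePresentation_of_forall_restrict F (fun i => Spec Γ(X, U i))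
    (fun i => (hU i).fromSpec) (fun x => ?_) fun i => ?_
  · obtain ⟨i, hi⟩ := hcov x
    exact ⟨i, by rw [(hU i).range_fromSpec]; exact hi⟩
  · have : (F.restrict (hU i).fromSpec).IsQuasicoherent :=
      Scheme.Modules.isQuasicoherent_restrictFunctor _ _
    have := h i
    have : Module.FinitePresentation Γ(X, U i)
        Γ(F.restrict (hU i).fromSpec, (⊤ : (Spec Γ(X, U i)).Opens)) :=
      Module.FinitePresentation.of_equiv (sectionsFromSpecTopEquiv (hU i) F).symm
    exact @exists_finite_presentation_of_finitePresentation_Γ Γ(X, U i)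
      (F.restrict (hU i).fromSpec) _ this

/-- The direct image of a finitely presented quasi-coherent module along a finite morphism locally
of finite presentation is finitely presented. -/
theorem isFinitePresentation_pushforward_of_isFinite [IsFinite f] [LocallyOfFinitePresentation f]
    [F.IsQuasicoherent]
    (hF : SheafOfModules.IsFinitePresentation (R := X.ringCatSheaf) F) :
    SheafOfModules.IsFinitePresentation (R := Y.ringCatSheaf)
      ((Scheme.Modules.pushforward f).obj F) := by
  have : ((Scheme.Modules.pushforward f).obj F).IsQuasicoherent := isQuasicoherent_pushforward F f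
  refine isFinitePresentation_of_finitePresentation_sections _ fun V => ?_
  rw [finitePresentation_sections_pushforward_iff]
  have hU : IsAffineOpen (f ⁻¹ᵁ V.1) := V.2.preimage f
  have h1 := finitePresentation_sections_of_isFinitePresentation F hF hU
  have h2 : (f.app V.1).hom.Finite := IsFinite.finite_app f V.1 V.2
  have h3 : (f.app V.1).hom.FinitePresentation := by
    rw [Scheme.Hom.app_eq_appLE]
    exact HasRingHomProperty.appLE (P := @LocallyOfFinitePresentation) f inferInstance V
      ⟨f ⁻¹ᵁ V.1, hU⟩ _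
  let _ : Algebra Γ(Y, V.1) Γ(X, f ⁻¹ᵁ V.1) := (f.app V.1).hom.toAlgebra
  let _ : Module Γ(Y, V.1) Γ(F, f ⁻¹ᵁ V.1) := Module.compHom _ (f.app V.1).hom
  have : IsScalarTower Γ(Y, V.1) Γ(X, f ⁻¹ᵁ V.1) Γ(F, f ⁻¹ᵁ V.1) :=
    IsScalarTower.of_compHom _ _ _
  have : Module.Finite Γ(Y, V.1) Γ(X, f ⁻¹ᵁ V.1) := h2
  have : Algebra.FinitePresentation Γ(Y, V.1) Γ(X, f ⁻¹ᵁ V.1) := h3
  have : Module.FinitePresentation Γ(Y, V.1) Γ(X, f ⁻¹ᵁ V.1) :=
    Module.FinitePresentation.of_finite_of_finitePresentation _ _
  exact Module.FinitePresentation.trans Γ(Y, V.1) Γ(F, f ⁻¹ᵁ V.1) Γ(X, f ⁻¹ᵁ V.1)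

/-- Conversely, a quasi-coherent module whose direct image along a finite morphism is finitely
presented is finitely presented. -/
theorem isFinitePresentation_of_pushforward_of_isFinite [IsFinite f] [F.IsQuasicoherent]
    (h : SheafOfModules.IsFinitePresentation (R := Y.ringCatSheaf)
      ((Scheme.Modules.pushforward f).obj F)) :
    SheafOfModules.IsFinitePresentation (R := X.ringCatSheaf) F := by
  have : ((Scheme.Modules.pushforward f).obj F).IsQuasicoherent := isQuasicoherent_pushforward F f
  refine isFinitePresentation_of_finitePresentation_sections_cover F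
    (fun V : Y.affineOpens => f ⁻¹ᵁ V.1) (fun V => V.2.preimage f) (fun x => ?_) fun V => ?_
  · have hx : f x ∈ (⨆ i : Y.affineOpens, (i : Y.Opens)) := by
      rw [iSup_affineOpens_eq_top]; trivial
    obtain ⟨V, hV⟩ := Opens.mem_iSup.mp hx
    exact ⟨V, hV⟩
  · have h1 := finitePresentation_sections_of_isFinitePresentation _ h V.2
    rw [finitePresentation_sections_pushforward_iff] at h1
    have h2 : (f.app V.1).hom.Finite := IsFinite.finite_app f V.1 V.2
    let _ : Algebra Γ(Y, V.1) Γ(X, f ⁻¹ᵁ V.1) := (f.app V.1).hom.toAlgebra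
    let _ : Module Γ(Y, V.1) Γ(F, f ⁻¹ᵁ V.1) := Module.compHom _ (f.app V.1).hom
    have : IsScalarTower Γ(Y, V.1) Γ(X, f ⁻¹ᵁ V.1) Γ(F, f ⁻¹ᵁ V.1) :=
      IsScalarTower.of_compHom _ _ _
    have : Module.Finite Γ(Y, V.1) Γ(X, f ⁻¹ᵁ V.1) := h2
    have : Module.FinitePresentation Γ(Y, V.1) Γ(F, f ⁻¹ᵁ V.1) := h1
    exact finitePresentation_of_restrictScalars Γ(Y, V.1) Γ(X, f ⁻¹ᵁ V.1) Γ(F, f ⁻¹ᵁ V.1)

end Groth.Agent.Lib.Helper49
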