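import Mathlib
import Groth.Agent.Lib.Helper49.StalkExact
import Groth.Prelude.Def_FlatMod2
/-!
# Flatness in short exact sequences

* `flat_iff_of_exact_of_flat`: for `0 → M₁ → M₂ → M₃ → 0` exact with `M₃` flat, `M₂` is flat iff
  `M₁` is.
* `isFlatOverAt_iff_of_shortExact`, `isFlatOver_iff_of_shortExact`: the same for `O_X`-modules flat
  over a base.
-/
set_option linter.style.haveILetI false
universe u v
open CategoryTheory CategoryTheory.Limits AlgebraicGeometry TopologicalSpace TensorProduct

namespace Groth.Agent.Lib.Helper49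

theorem flat_iff_of_exact_of_flat {R : Type u} {M₁ M₂ M₃ : Type v} [CommRing R]
    [AddCommGroup M₁] [Module R M₁] [AddCommGroup M₂] [Module R M₂] [AddCommGroup M₃] [Module R M₃]
    (i : M₁ →ₗ[R] M₂) (p : M₂ →ₗ[R] M₃) (hi : Function.Injective i) (hp : Function.Surjective p)
    (H : Function.Exact i p) [Module.Flat R M₃] :
    Module.Flat R M₂ ↔ Module.Flat R M₁ := by
  have hinj : ∀ (A : Type (max u v)) [AddCommGroup A] [Module R A],
      Function.Injective (i.lTensor A) := fun A _ _ =>
    LinearMap.lTensor_injective_of_exact_of_flat p hp i hi H A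
  have hcomm : ∀ {A B : Type (max u v)} [AddCommGroup A] [Module R A] [AddCommGroup B] [Module R B]
      (j : A →ₗ[R] B) (x : A ⊗[R] M₁), j.rTensor M₂ (i.lTensor A x) = i.lTensor B (j.rTensor M₁ x) := by
    intro A B _ _ _ _ j x
    rw [← LinearMap.comp_apply, ← LinearMap.comp_apply, LinearMap.rTensor_comp_lTensor,
      LinearMap.lTensor_comp_rTensor]
  have hcomm' : ∀ {A B : Type (max u v)} [AddCommGroup A] [Module R A] [AddCommGroup B] [Module R B]
      (j : A →ₗ[R] B) (x : A ⊗[R] M₂), j.rTensor M₃ (p.lTensor A x) = p.lTensor B (j.rTensor M₂ x) := by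
    intro A B _ _ _ _ j x
    rw [← LinearMap.comp_apply, ← LinearMap.comp_apply, LinearMap.rTensor_comp_lTensor,
      LinearMap.lTensor_comp_rTensor]
  constructor
  · intro h2
    rw [Module.Flat.iff_rTensor_preserves_injective_linearMap]
    intro A B _ _ _ _ j hj
    rw [injective_iff_map_eq_zero]
    intro x hx
    apply hinj A
    rw [map_zero]
    apply Module.Flat.rTensor_preserves_injective_linearMap (M := M₂) j hj
    rw [hcomm, hx, map_zero, map_zero]
  · intro h1
    rw [Module.Flat.iff_rTensor_preserves_injective_linearMap]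
    intro A B _ _ _ _ j hj
    rw [injective_iff_map_eq_zero]
    intro x hx
    have h3 : p.lTensor A x = 0 := by
      apply Module.Flat.rTensor_preserves_injective_linearMap (M := M₃) j hj
      rw [hcomm', hx, map_zero, map_zero]
    obtain ⟨y, rfl⟩ := (lTensor_exact A H hp x).mp h3
    have h4 : j.rTensor M₁ y = 0 := by
      apply hinj B
      rw [← hcomm, hx, map_zero]
    have h5 : y = 0 := by
      apply Module.Flat.rTensor_preserves_injective_linearMap (M := M₁) j hj
      rw [h4, map_zero]
    rw [h5, map_zero]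

/-- The stalk map of a morphism of `O_X`-modules, as a linear map over the local ring of the base. -/
noncomputable def stalkMapOver {X Y : Scheme.{u}} (f : X ⟶ Y) {M N : X.Modules} (φ : M ⟶ N)
    (x : X) :
    letI := FlatMod.moduleStalkOver f M x
    letI := FlatMod.moduleStalkOver f N x
    ↑(M.presheaf.stalk x) →ₗ[Y.presheaf.stalk (f.base x)] ↑(N.presheaf.stalk x) :=
  letI := FlatMod.moduleStalkOver f M x
  letI := FlatMod.moduleStalkOver f N x
  { toFun := (stalkMap φ x).hom
    map_add' := map_add _
    map_smul' := fun r a => stalkMap_smul φ x ((f.stalkMap x).hom r) a }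

theorem isFlatOverAt_iff_of_shortExact {X Y : Scheme.{u}} (f : X ⟶ Y) (S : ShortComplex X.Modules)
    (hS : S.ShortExact) (x : X) (hflat : FlatMod.IsFlatOverAt f S.X₃ x) :
    FlatMod.IsFlatOverAt f S.X₂ x ↔ FlatMod.IsFlatOverAt f S.X₁ x := by
  letI := FlatMod.moduleStalkOver f S.X₁ x
  letI := FlatMod.moduleStalkOver f S.X₂ x
  letI := FlatMod.moduleStalkOver f S.X₃ x
  have : Mono S.f := hS.mono_f
  have : Epi S.g := hS.epi_g
  haveI : Module.Flat (Y.presheaf.stalk (f.base x)) ↑(S.X₃.presheaf.stalk x) := hflat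
  exact flat_iff_of_exact_of_flat (stalkMapOver f S.f x) (stalkMapOver f S.g x)
    (stalkMap_injective_of_mono S.f x) (stalkMap_surjective_of_epi S.g x)
    (stalkMap_exact_of_shortExact S hS x)

theorem isFlatOver_iff_of_shortExact {X Y : Scheme.{u}} (f : X ⟶ Y) (S : ShortComplex X.Modules)
    (hS : S.ShortExact) (hflat : FlatMod.IsFlatOver f S.X₃) :
    FlatMod.IsFlatOver f S.X₂ ↔ FlatMod.IsFlatOver f S.X₁ :=
  forall_congr' fun x => isFlatOverAt_iff_of_shortExact f S hS x (hflat x)

end Groth.Agent.Lib.Helper49
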