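import Mathlib
import Groth.Prelude.Def_FlatMod2
import Groth.Prelude.Def_CohB1
import Groth.Agent.Lib.Helper45.LocalizingOn
import Groth.Agent.Lib.Helper45.QCohStalk
import Groth.Agent.Lib.Helper49.FreeMod

/-!
# Stalks of direct images: vanishing, non-vanishing of `g_* O_W`, annihilation at generic points

* `subsingleton_stalk_of_forall_le`: vanishing of a stalk from vanishing of local sections.
* `subsingleton_stalk_push_push`: stalks of `f_* j_* G` vanish off the closure of the image.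
* `not_subsingleton_stalk_push_push_unit`: stalks of `f_* j_* O_W` are nonzero on the image.
* `smul_stalk_push_push_eq_zero`: if `j ≫ f = f' ≫ i` with `i : Z ⟶ X` a closed immersion from
  an integral scheme with generic point `ξ`, then `𝔪_{X, i ξ}` kills the stalk of `f_* j_* G`
  at `i ξ`.
-/

set_option autoImplicit false
universe u

open CategoryTheory CategoryTheory.Limits AlgebraicGeometry Opposite

namespace Groth.Agent.Lib.Helper49.PushStructure

variable {X : Scheme.{u}}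

/-- a stalk vanishes if all sections over small opens inside a neighbourhood vanish. -/
theorem subsingleton_stalk_of_forall_le (M : X.Modules) (V : X.Opens) (x : X) (hx : x ∈ V)
    (h : ∀ V' : X.Opens, V' ≤ V → Subsingleton Γ(M, V')) :
    Subsingleton (M.presheaf.stalk x) := by
  refine ⟨fun a b => ?_⟩
  have key : ∀ t : M.presheaf.stalk x, t = 0 := by
    intro t
    obtain ⟨U, hxU, s, rfl⟩ := TopCat.Presheaf.exists_germ_eq _ t
    have h1 := TopCat.Presheaf.germ_res_apply M.presheaf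
      (homOfLE (inf_le_left : U ⊓ V ≤ U)) x ⟨hxU, hx⟩ s
    rw [← h1]
    have : Subsingleton Γ(M, U ⊓ V) := h _ inf_le_right
    rw [Subsingleton.elim (M.presheaf.map (homOfLE (inf_le_left : U ⊓ V ≤ U)).op s) 0, map_zero]
  rw [key a, key b]

/-- if a stalk vanishes, every section restricts to zero on a neighbourhood. -/
theorem exists_res_eq_zero (M : X.Modules) (x : X) [Subsingleton (M.presheaf.stalk x)]
    (U : X.Opens) (hx : x ∈ U) (s : Γ(M, U)) :
    ∃ (U' : X.Opens) (h : U' ≤ U), x ∈ U' ∧ M.presheaf.map (homOfLE h).op s = 0 := by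
  have h0 : M.presheaf.germ U x hx s = M.presheaf.germ U x hx 0 := Subsingleton.elim _ _
  obtain ⟨W, hxW, iU, iV, hW⟩ := TopCat.Presheaf.germ_eq M.presheaf x hx hx s 0 h0
  refine ⟨W, leOfHom iU, hxW, ?_⟩
  rw [map_zero] at hW
  exact hW

variable {W Y : Scheme.{u}} (j : W ⟶ Y) (f : Y ⟶ X)

/-- the stalks of `f_* j_* G` vanish off the closure of the image of `j ≫ f`. -/
theorem subsingleton_stalk_push_push (G : W.Modules) (x : X)
    (hx : x ∉ closure (Set.range (j ≫ f))) :
    Subsingleton (((Scheme.Modules.pushforward f).obj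
      ((Scheme.Modules.pushforward j).obj G)).presheaf.stalk x) := by
  let V : X.Opens := ⟨(closure (Set.range (j ≫ f)))ᶜ, isClosed_closure.isOpen_compl⟩
  refine subsingleton_stalk_of_forall_le _ V x hx fun V' hV' => ?_
  have hbot : j ⁻¹ᵁ (f ⁻¹ᵁ V') = ⊥ := by
    ext w
    constructor
    · intro hw
      have h1 : f (j w) ∈ V := hV' hw
      exact (h1 (subset_closure ⟨w, by simp⟩)).elim
    · intro hw
      exact hw.elim
  have hT : IsTerminal (G.presheaf.obj (op (j ⁻¹ᵁ (f ⁻¹ᵁ V')))) :=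
    TopCat.Sheaf.isTerminalOfEqEmpty (X := W.toTopCat) ⟨G.presheaf, G.isSheaf⟩ hbot
  have hz : IsZero (G.presheaf.obj (op (j ⁻¹ᵁ (f ⁻¹ᵁ V')))) := by
    rw [IsZero.iff_id_eq_zero]
    exact hT.hom_ext _ _
  exact AddCommGrpCat.subsingleton_of_isZero hz

/-- the stalks of `f_* j_* O_W` are nonzero at the points of the image of `j ≫ f`. -/
theorem not_subsingleton_stalk_push_push_unit (w : W) :
    ¬ Subsingleton (((Scheme.Modules.pushforward f).obj
      ((Scheme.Modules.pushforward j).obj (Coh.structureModule W))).presheaf.stalk (f (j w))) := by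
  intro hsub
  let s : Γ((Scheme.Modules.pushforward f).obj
      ((Scheme.Modules.pushforward j).obj (Coh.structureModule W)), ⊤) :=
    (1 : Γ(W, j ⁻¹ᵁ (f ⁻¹ᵁ ⊤)))
  obtain ⟨U', hle, hxU', hs⟩ := exists_res_eq_zero _ (f (j w)) ⊤ trivial s
  have h1 : (1 : Γ(W, j ⁻¹ᵁ (f ⁻¹ᵁ U'))) = 0 := by
    have h2 : ((Scheme.Modules.pushforward f).obj
        ((Scheme.Modules.pushforward j).obj (Coh.structureModule W))).presheaf.map
        (homOfLE hle).op s = W.presheaf.map ((TopologicalSpace.Opens.map j.base).map ((TopologicalSpace.Opens.map f.base).map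
          (homOfLE hle))).op (1 : Γ(W, j ⁻¹ᵁ (f ⁻¹ᵁ ⊤))) := rfl
    rw [h2, map_one] at hs
    exact hs
  have h3 : W.basicOpen (1 : Γ(W, j ⁻¹ᵁ (f ⁻¹ᵁ U'))) = j ⁻¹ᵁ (f ⁻¹ᵁ U') :=
    W.basicOpen_of_isUnit isUnit_one
  rw [h1, Scheme.basicOpen_zero] at h3
  have hw : w ∈ j ⁻¹ᵁ (f ⁻¹ᵁ U') := hxU'
  rw [← h3] at hw
  exact hw

/-- if `j ≫ f = f' ≫ i` for a closed immersion `i : Z ⟶ X` from an integral scheme with generic
point `ξ`, then the maximal ideal of `O_{X, i ξ}` kills the stalk of `f_* j_* G` at `i ξ`. -/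
theorem smul_stalk_push_push_eq_zero {Z : Scheme.{u}} (i : Z ⟶ X) [IsClosedImmersion i]
    [IsIntegral Z] (f' : W ⟶ Z) (hsq : j ≫ f = f' ≫ i) (G : W.Modules)
    (a : X.presheaf.stalk (i (genericPoint Z)))
    (ha : a ∈ IsLocalRing.maximalIdeal (X.presheaf.stalk (i (genericPoint Z))))
    (m : ((Scheme.Modules.pushforward f).obj
      ((Scheme.Modules.pushforward j).obj G)).presheaf.stalk (i (genericPoint Z))) :
    a • m = 0 := by
  obtain ⟨U₁, hξ₁, α₁, rfl⟩ := TopCat.Presheaf.exists_germ_eq X.presheaf a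
  obtain ⟨U₂, hξ₂, s₂, rfl⟩ := TopCat.Presheaf.exists_germ_eq _ m
  -- `i^# α₁` vanishes at the generic point of `Z`
  have hfield : Z.presheaf.germ (i ⁻¹ᵁ U₁) (genericPoint Z) hξ₁ (i.app U₁ α₁) = 0 := by
    rw [← Scheme.Hom.germ_stalkMap_apply]
    have hF : IsField (Z.presheaf.stalk (genericPoint Z)) :=
      isField_stalk_of_closure_mem_irreducibleComponents Z _
        (by simp [irreducibleComponents_eq_singleton])
    have hnu : ¬ IsUnit (X.presheaf.germ U₁ (i (genericPoint Z)) hξ₁ α₁) := ha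
    by_contra hne
    obtain ⟨b, hb⟩ := hF.mul_inv_cancel hne
    have hu : IsUnit ((i.stalkMap (genericPoint Z)).hom
        (X.presheaf.germ U₁ (i (genericPoint Z)) hξ₁ α₁)) := IsUnit.of_mul_eq_one b hb
    exact hnu (isUnit_of_map_unit (i.stalkMap (genericPoint Z)).hom _ hu)
  have h0 : Z.presheaf.germ (i ⁻¹ᵁ U₁) (genericPoint Z) hξ₁ (i.app U₁ α₁) =
      Z.presheaf.germ (i ⁻¹ᵁ U₁) (genericPoint Z) hξ₁ 0 := by rw [hfield, map_zero]
  obtain ⟨V, hξV, iU, iV, hV⟩ := TopCat.Presheaf.germ_eq Z.presheaf (genericPoint Z) hξ₁ hξ₁ _ _ h0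
  rw [map_zero] at hV
  -- `V = i⁻¹ O`
  obtain ⟨O, hO, hOV⟩ := i.isClosedEmbedding.isInducing.isOpen_iff.mp V.2
  let O' : X.Opens := ⟨O, hO⟩
  have hOV' : i ⁻¹ᵁ O' = V := TopologicalSpace.Opens.ext hOV
  let U : X.Opens := U₁ ⊓ O' ⊓ U₂
  have hξU : i (genericPoint Z) ∈ U :=
    ⟨⟨hξ₁, by change genericPoint Z ∈ i ⁻¹ᵁ O'; rw [hOV']; exact hξV⟩, hξ₂⟩
  have hUU₁ : U ≤ U₁ := inf_le_left.trans inf_le_left
  have hUU₂ : U ≤ U₂ := inf_le_right
  have hUV : i ⁻¹ᵁ U ≤ V := by
    rw [← hOV']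
    exact i.preimage_mono (inf_le_left.trans inf_le_right)
  set α : Γ(X, U) := X.presheaf.map (homOfLE hUU₁).op α₁ with hα
  have hiα : i.app U α = 0 := by
    have hnat := i.naturality (homOfLE hUU₁).op
    have h1 : i.app U α = Z.presheaf.map ((TopologicalSpace.Opens.map i.base).map
        (homOfLE hUU₁)).op (i.app U₁ α₁) := by
      exact congrArg (fun φ => φ.hom α₁) hnat
    rw [h1]
    have h2 : ((TopologicalSpace.Opens.map i.base).map (homOfLE hUU₁)).op =
        iU.op ≫ (homOfLE hUV).op := Subsingleton.elim _ _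
    rw [h2, Functor.map_comp, CommRingCat.comp_apply, hV, map_zero]
  have hgα : (j.app (f ⁻¹ᵁ U)) (f.app U α) = 0 := by
    have h1 : (j.app (f ⁻¹ᵁ U)) (f.app U α) = (j ≫ f).app U α := rfl
    have h2 : (f' ≫ i).app U α = f'.app (i ⁻¹ᵁ U) (i.app U α) := rfl
    have h3 := congrArg (fun φ => φ.hom α) (Scheme.Hom.congr_app hsq U)
    simp only [CommRingCat.hom_comp, RingHom.coe_comp, Function.comp_apply] at h3
    have h4 : (f' ≫ i).app U α = 0 := by
      refine h2.trans ?_
      rw [hiα]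
      exact map_zero _
    rw [h1]
    refine h3.trans ?_
    exact (congrArg _ h4).trans (map_zero _)
  -- conclude
  rw [← TopCat.Presheaf.germ_res_apply X.presheaf (homOfLE hUU₁) _ hξU α₁,
    ← TopCat.Presheaf.germ_res_apply _ (homOfLE hUU₂) _ hξU s₂,
    ← Groth.Agent.Lib.Helper45.germ_smul]
  have hzero : α • (((Scheme.Modules.pushforward f).obj
      ((Scheme.Modules.pushforward j).obj G)).presheaf.map (homOfLE hUU₂).op s₂) = 0 := by
    rw [Groth.Agent.Lib.Helper45.pushforward_smul, Groth.Agent.Lib.Helper45.pushforward_smul,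
      hgα, zero_smul]
    rfl
  rw [hzero, map_zero]

end Groth.Agent.Lib.Helper49.PushStructure
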