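import Mathlib
import Groth.Agent.Lib.Helper16.FlatPull.Chart
import Groth.Agent.Lib.Helper49.QcqsModules
import Groth.Agent.Lib.Helper45.FiniteType
import Groth.Agent.S0045

/-!
# Unit and counit of `i^* ⊣ i_*` for a closed immersion, on finite type quasi-coherent modules

For a closed immersion `i : Z ⟶ X`:
* `isIso_counit_of_isFiniteType` : the counit `i^* i_* H ⟶ H` is an isomorphism for every
  quasi-coherent `O_Z`-module of finite type `H`;
* `isIso_unit_of_killed` : the unit `F ⟶ i_* i^* F` is an isomorphism for every quasi-coherent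
  `O_X`-module of finite type `F` killed by the ideal of `i`.

The proofs avoid computing the unit/counit on sections: they only use that sections of a pullback
are *abstractly* a base change (helper16) and that a surjective endomorphism of a finite module is
injective.
-/

set_option autoImplicit false
set_option linter.style.haveILetI false
universe u

open AlgebraicGeometry CategoryTheory Limits TensorProduct

namespace Groth.Agent.Lib.Helper49.ClosedImmUnit

section algebra

variable {R S : Type*} [CommRing R] [CommRing S] [Algebra R S]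
  {M N : Type*} [AddCommGroup M] [Module R M] [AddCommGroup N] [Module R N] [Module S N]
  [IsScalarTower R S N]

/-- If `R → S` is surjective and its kernel kills `M`, then a base change map `M → N` along
`R → S` is bijective. -/
theorem bijective_of_isBaseChange_of_killed (hs : Function.Surjective (algebraMap R S))
    (hM : ∀ a ∈ RingHom.ker (algebraMap R S), ∀ m : M, a • m = 0)
    (f : M →ₗ[R] N) (hf : IsBaseChange S f) : Function.Bijective f := by
  have hmk : Function.Bijective (TensorProduct.mk R S M 1) := by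
    constructor
    · rw [injective_iff_map_eq_zero]
      intro m hm
      have h1 := Groth.Agent.Lib.Helper11.PullbackChart.mem_ker_smul_top_of_one_tmul_eq_zero
        (R := R) (S := S) hs m hm
      have h2 : RingHom.ker (algebraMap R S) • (⊤ : Submodule R M) = ⊥ := by
        rw [eq_bot_iff]
        refine Submodule.smul_le.mpr fun a ha m _ => ?_
        rw [hM a ha m]
        exact Submodule.zero_mem _
      rw [h2] at h1
      exact (Submodule.mem_bot R).mp h1
    · intro t
      induction t using TensorProduct.induction_on with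
      | zero => exact ⟨0, map_zero _⟩
      | tmul s m =>
        obtain ⟨r, rfl⟩ := hs s
        refine ⟨r • m, ?_⟩
        rw [TensorProduct.mk_apply, TensorProduct.tmul_smul, TensorProduct.smul_tmul',
          Algebra.smul_def, mul_one]
      | add x y hx hy =>
        obtain ⟨a, rfl⟩ := hx
        obtain ⟨b, rfl⟩ := hy
        exact ⟨a + b, map_add _ _ _⟩
  have hcomp : ∀ m, f m = hf.equiv (TensorProduct.mk R S M 1 m) := fun m => by
    rw [TensorProduct.mk_apply, IsBaseChange.equiv_tmul, one_smul]
  have : (f : M → N) = hf.equiv ∘ (TensorProduct.mk R S M 1) := funext hcomp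
  rw [this]
  exact hf.equiv.bijective.comp hmk

/-- every element of `S ⊗[R] P` is of the form `1 ⊗ p` when `R → S` is surjective. -/
theorem exists_one_tmul_eq (hs : Function.Surjective (algebraMap R S))
    {P : Type*} [AddCommGroup P] [Module R P] (t : S ⊗[R] P) : ∃ p : P, (1 : S) ⊗ₜ[R] p = t := by
  induction t using TensorProduct.induction_on with
  | zero => exact ⟨0, TensorProduct.tmul_zero _ _⟩
  | tmul s m =>
    obtain ⟨r, rfl⟩ := hs s
    refine ⟨r • m, ?_⟩
    rw [TensorProduct.tmul_smul, TensorProduct.smul_tmul', Algebra.smul_def, mul_one]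
  | add x y hx hy =>
    obtain ⟨a, rfl⟩ := hx
    obtain ⟨b, rfl⟩ := hy
    exact ⟨a + b, TensorProduct.tmul_add _ _ _⟩

/-- If `R → S` is surjective with kernel killing `Q`, and `S ⊗ v` is surjective, then `v` is
surjective. -/
theorem surjective_of_lTensor_surjective (hs : Function.Surjective (algebraMap R S))
    {P Q : Type*} [AddCommGroup P] [Module R P] [AddCommGroup Q] [Module R Q]
    (hQ : ∀ a ∈ RingHom.ker (algebraMap R S), ∀ q : Q, a • q = 0)
    (v : P →ₗ[R] Q) (hv : Function.Surjective (v.lTensor S)) : Function.Surjective v := by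
  intro q
  obtain ⟨t, ht⟩ := hv ((1 : S) ⊗ₜ[R] q)
  obtain ⟨p, rfl⟩ := exists_one_tmul_eq (R := R) (S := S) hs t
  rw [LinearMap.lTensor_tmul] at ht
  have h0 : (1 : S) ⊗ₜ[R] (q - v p) = 0 := by
    rw [TensorProduct.tmul_sub, ht, sub_self]
  have h1 := Groth.Agent.Lib.Helper11.PullbackChart.mem_ker_smul_top_of_one_tmul_eq_zero
    (R := R) (S := S) hs (q - v p) h0
  have h2 : RingHom.ker (algebraMap R S) • (⊤ : Submodule R Q) = ⊥ := by
    rw [eq_bot_iff]
    refine Submodule.smul_le.mpr fun a ha m _ => ?_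
    rw [hQ a ha m]
    exact Submodule.zero_mem _
  rw [h2] at h1
  refine ⟨p, ?_⟩
  have := (Submodule.mem_bot R).mp h1
  exact (sub_eq_zero.mp this).symm

end algebra

/-- If `f : R → S` is surjective with kernel killing `Q` and `S ⊗ v` is an epimorphism, then `v`
is surjective. -/
theorem surjective_of_epi_extendScalars_map {R S : Type u} [CommRing R] [CommRing S]
    (f : R →+* S) (hf : Function.Surjective f) {P Q : ModuleCat.{u} R} (v : P ⟶ Q)
    (hQ : ∀ a : R, f a = 0 → ∀ q : Q, a • q = 0)
    (h : Epi ((ModuleCat.extendScalars f).map v)) : Function.Surjective v.hom := by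
  let _ := f.toAlgebra
  have hs : Function.Surjective (algebraMap R S) := hf
  have hsurj := (ModuleCat.epi_iff_surjective _).mp h
  intro q
  obtain ⟨t, ht⟩ := hsurj ((1 : S) ⊗ₜ[R] q)
  obtain ⟨p, rfl⟩ := exists_one_tmul_eq (R := R) (S := S) hs (P := P) t
  have ht' : (1 : S) ⊗ₜ[R] (v.hom p) = (1 : S) ⊗ₜ[R] q := ht
  have h0 : (1 : S) ⊗ₜ[R] (q - v.hom p) = 0 := by
    rw [TensorProduct.tmul_sub, ht', sub_self]
  have h1 := Groth.Agent.Lib.Helper11.PullbackChart.mem_ker_smul_top_of_one_tmul_eq_zero
    (R := R) (S := S) hs (q - v.hom p) h0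
  have h2 : RingHom.ker (algebraMap R S) • (⊤ : Submodule R Q) = ⊥ := by
    rw [eq_bot_iff]
    refine Submodule.smul_le.mpr fun a ha m _ => ?_
    rw [hQ a (RingHom.mem_ker.mp ha) m]
    exact Submodule.zero_mem _
  rw [h2] at h1
  refine ⟨p, ?_⟩
  have := (Submodule.mem_bot R).mp h1
  exact (sub_eq_zero.mp this).symm

section sheaf

variable {Z X : Scheme.{u}} (i : Z ⟶ X)

/-- scalar multiplication on sections of a pushforward. -/
theorem smul_pushforward (H : Z.Modules) (U : X.Opens) (r : Γ(X, U))
    (t : Γ((Scheme.Modules.pushforward i).obj H, U)) :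
    r • t = (show Γ(H, i ⁻¹ᵁ U) from ((i.app U).hom r • (show Γ(H, i ⁻¹ᵁ U) from t))) := rfl

/-- sections of a pushforward, as an explicit additive equivalence -/
noncomputable def pushEquiv (H : Z.Modules) (U : X.Opens) :
    Γ(H, i ⁻¹ᵁ U) ≃+ Γ((Scheme.Modules.pushforward i).obj H, U) := AddEquiv.refl _

theorem pushEquiv_smul (H : Z.Modules) (U : X.Opens) (r : Γ(X, U)) (t : Γ(H, i ⁻¹ᵁ U)) :
    pushEquiv i H U ((i.app U).hom r • t) = r • pushEquiv i H U t := rfl

theorem pushEquiv_symm_smul (H : Z.Modules) (U : X.Opens) (r : Γ(X, U))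
    (t : Γ((Scheme.Modules.pushforward i).obj H, U)) :
    (pushEquiv i H U).symm (r • t) = (i.app U).hom r • (pushEquiv i H U).symm t := rfl

theorem pushforward_map_app_apply {H H' : Z.Modules} (φ : H ⟶ H') (U : X.Opens)
    (t : Γ(H, i ⁻¹ᵁ U)) :
    (((Scheme.Modules.pushforward i).map φ).app U).hom (pushEquiv i H U t) =
      pushEquiv i H' U ((φ.app (i ⁻¹ᵁ U)).hom t) := rfl

variable [IsClosedImmersion i]

/-- For a quasi-coherent `G` on `X` whose sections over the affine open `U` are killed by the
kernel of `Γ(X, U) → Γ(Z, i⁻¹U)`, the sections of `i^* G` over `i⁻¹ U` are (abstractly,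
semilinearly) the sections of `G` over `U`. -/
theorem exists_addEquiv_sections_pullback (G : X.Modules) [G.IsQuasicoherent] {U : X.Opens}
    (hU : IsAffineOpen U)
    (hG : ∀ a : Γ(X, U), (i.app U).hom a = 0 → ∀ m : Γ(G, U), a • m = 0) :
    ∃ e : Γ(G, U) ≃+ Γ((Scheme.Modules.pullback i).obj G, i ⁻¹ᵁ U),
      ∀ (r : Γ(X, U)) (m : Γ(G, U)), e (r • m) = (i.app U).hom r • e m := by
  have hW : IsAffineOpen (i ⁻¹ᵁ U) := hU.preimage i
  obtain ⟨f, hf⟩ := Groth.Agent.Lib.Helper16.FlatPull.exists_isBaseChange_sections i hU hW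
    le_rfl G
  letI := (i.appLE U (i ⁻¹ᵁ U) le_rfl).hom.toAlgebra
  letI : Module Γ(X, U) Γ((Scheme.Modules.pullback i).obj G, i ⁻¹ᵁ U) :=
    Module.compHom _ (i.appLE U (i ⁻¹ᵁ U) le_rfl).hom
  haveI : IsScalarTower Γ(X, U) Γ(Z, i ⁻¹ᵁ U) Γ((Scheme.Modules.pullback i).obj G, i ⁻¹ᵁ U) :=
    IsScalarTower.of_compHom _ _ _
  have happ : i.appLE U (i ⁻¹ᵁ U) le_rfl = i.app U := i.appLE_eq_app
  have halg : ∀ a : Γ(X, U), algebraMap Γ(X, U) Γ(Z, i ⁻¹ᵁ U) a = (i.app U).hom a := fun a => by
    rw [← happ]; rfl
  have hs : Function.Surjective (algebraMap Γ(X, U) Γ(Z, i ⁻¹ᵁ U)) := by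
    intro s
    obtain ⟨r, hr⟩ := i.app_surjective U hU s
    exact ⟨r, (halg r).trans hr⟩
  have hbij := bijective_of_isBaseChange_of_killed (R := Γ(X, U)) (S := Γ(Z, i ⁻¹ᵁ U)) hs
    (fun a ha m => hG a ((halg a).symm.trans (RingHom.mem_ker.mp ha)) m) f hf
  refine ⟨AddEquiv.ofBijective f.toAddMonoidHom hbij, fun r m => ?_⟩
  have h1 : f (r • m) = r • f m := f.map_smul r m
  have h2 : r • f m = (i.app U).hom r • f m := by
    rw [← halg r]; rfl
  exact h1.trans h2

omit [IsClosedImmersion i] in
/-- every point of `Z` lies in the preimage of an affine open of `X` -/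
theorem exists_isAffineOpen_mem (z : Z) : ∃ U : X.Opens, IsAffineOpen U ∧ i z ∈ U := by
  obtain ⟨_, ⟨U, hU, rfl⟩, hzU, -⟩ := X.isBasis_affineOpens.exists_subset_of_mem_open
    (Set.mem_univ (i z)) isOpen_univ
  exact ⟨U, hU, hzU⟩

/-- The counit `i^* i_* H ⟶ H` is an isomorphism for `H` quasi-coherent of finite type. -/
theorem isIso_counit_of_isFiniteType (H : Z.Modules) [H.IsQuasicoherent]
    (hH : SheafOfModules.IsFiniteType (R := Z.ringCatSheaf) H) :
    IsIso ((Scheme.Modules.pullbackPushforwardAdjunction i).counit.app H) := by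
  have hq1 : ((Scheme.Modules.pushforward i).obj H).IsQuasicoherent :=
    Groth.Agent.Lib.Helper49.isQuasicoherent_pushforward H i
  have hq2 : ((Scheme.Modules.pullback i).obj
      ((Scheme.Modules.pushforward i).obj H)).IsQuasicoherent :=
    Groth.Agent.Lib.Helper16.FlatPull.isQuasicoherent_pullback i _
  let ε : (Scheme.Modules.pullback i).obj ((Scheme.Modules.pushforward i).obj H) ⟶ H :=
    (Scheme.Modules.pullbackPushforwardAdjunction i).counit.app H
  change IsIso ε
  refine Groth.Agent.S0045.isIso_of_app_bijective_of_cover ε fun z => ?_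
  obtain ⟨U, hU, hzU⟩ := exists_isAffineOpen_mem i z
  have hW : IsAffineOpen (i ⁻¹ᵁ U) := hU.preimage i
  refine ⟨i ⁻¹ᵁ U, hW, hzU, ?_⟩
  -- surjectivity from the triangle identity
  have hsurj : Function.Surjective (ε.app (i ⁻¹ᵁ U)) := by
    intro t
    have h := (Scheme.Modules.pullbackPushforwardAdjunction i).right_triangle_components H
    refine ⟨(((Scheme.Modules.pullbackPushforwardAdjunction i).unit.app
      ((Scheme.Modules.pushforward i).obj H)).app U).hom t, ?_⟩
    have h2 := congrArg (fun φ : (Scheme.Modules.pushforward i).obj H ⟶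
      (Scheme.Modules.pushforward i).obj H => (φ.app U).hom t) h
    exact h2
  refine ⟨?_, hsurj⟩
  -- abstract identification of the sections of `i^* i_* H`
  obtain ⟨e, he⟩ := exists_addEquiv_sections_pullback i ((Scheme.Modules.pushforward i).obj H) hU
    (fun a ha m => by
      obtain ⟨m, rfl⟩ := (pushEquiv i H U).surjective m
      rw [← pushEquiv_smul, ha, zero_smul, map_zero])
  have hfin : Module.Finite Γ(Z, i ⁻¹ᵁ U) Γ(H, i ⁻¹ᵁ U) :=
    Groth.Agent.Lib.Helper49.finite_sections_of_isFiniteType H hH hW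
  -- the composite `Γ(H, W) → Γ(i^* i_* H, W) → Γ(H, W)` is a surjective linear endomorphism
  let g : Γ(H, i ⁻¹ᵁ U) →ₗ[Γ(Z, i ⁻¹ᵁ U)] Γ(H, i ⁻¹ᵁ U) :=
    { toFun := fun m => (ε.app (i ⁻¹ᵁ U)).hom (e (pushEquiv i H U m))
      map_add' := fun a b => by rw [map_add, map_add, map_add]
      map_smul' := fun s m => by
        obtain ⟨r, rfl⟩ := i.app_surjective U hU s
        rw [pushEquiv_smul, he r]
        exact Scheme.Modules.Hom.app_smul ε _ _ }
  have hg : Function.Surjective g := fun t => by
    obtain ⟨t', ht'⟩ := hsurj t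
    obtain ⟨m, rfl⟩ := e.surjective t'
    obtain ⟨m, rfl⟩ := (pushEquiv i H U).surjective m
    exact ⟨m, ht'⟩
  have hginj : Function.Injective g := OrzechProperty.injective_of_surjective_endomorphism g hg
  intro a b hab
  obtain ⟨a', rfl⟩ := e.surjective a
  obtain ⟨b', rfl⟩ := e.surjective b
  obtain ⟨a', rfl⟩ := (pushEquiv i H U).surjective a'
  obtain ⟨b', rfl⟩ := (pushEquiv i H U).surjective b'
  have : a' = b' := hginj hab
  rw [this]

/-- the pullback of a quasi-coherent module of finite type along a closed immersion (in fact any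
affine morphism) is of finite type. -/
theorem isFiniteType_pullback (F : X.Modules) [F.IsQuasicoherent]
    (hF : SheafOfModules.IsFiniteType (R := X.ringCatSheaf) F) :
    SheafOfModules.IsFiniteType (R := Z.ringCatSheaf) ((Scheme.Modules.pullback i).obj F) := by
  have hq : ((Scheme.Modules.pullback i).obj F).IsQuasicoherent :=
    Groth.Agent.Lib.Helper16.FlatPull.isQuasicoherent_pullback i F
  have : ∀ U : X.affineOpens, IsOpenImmersion ((U.2.preimage i).fromSpec) :=
    fun U => IsAffineOpen.isOpenImmersion_fromSpec _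
  refine Groth.Agent.Lib.Helper49.isFiniteType_of_forall_restrict _ (ι := X.affineOpens)
    (fun U => Spec Γ(Z, i ⁻¹ᵁ U.1)) (fun U => (U.2.preimage i).fromSpec) (fun z => ?_)
    (fun U => ?_)
  · obtain ⟨U, hU, hzU⟩ := exists_isAffineOpen_mem i z
    refine ⟨⟨U, hU⟩, ?_⟩
    rw [(hU.preimage i).range_fromSpec]
    exact hzU
  · have hW : IsAffineOpen (i ⁻¹ᵁ U.1) := U.2.preimage i
    have : (((Scheme.Modules.pullback i).obj F).restrict hW.fromSpec).IsQuasicoherent :=
      Scheme.Modules.isQuasicoherent_restrictFunctor _ _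
    refine (Groth.Agent.Lib.Helper49.isFiniteType_iff_finite_Γ Γ(Z, i ⁻¹ᵁ U.1) _).mpr ?_
    have hfin : Module.Finite Γ(Z, i ⁻¹ᵁ U.1) Γ((Scheme.Modules.pullback i).obj F, i ⁻¹ᵁ U.1) := by
      obtain ⟨f, hf⟩ := Groth.Agent.Lib.Helper16.FlatPull.exists_isBaseChange_sections i U.2 hW
        le_rfl F
      letI := (i.appLE U.1 (i ⁻¹ᵁ U.1) le_rfl).hom.toAlgebra
      letI : Module Γ(X, U.1) Γ((Scheme.Modules.pullback i).obj F, i ⁻¹ᵁ U.1) :=
        Module.compHom _ (i.appLE U.1 (i ⁻¹ᵁ U.1) le_rfl).hom
      haveI : IsScalarTower Γ(X, U.1) Γ(Z, i ⁻¹ᵁ U.1)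
          Γ((Scheme.Modules.pullback i).obj F, i ⁻¹ᵁ U.1) := IsScalarTower.of_compHom _ _ _
      haveI : Module.Finite Γ(X, U.1) Γ(F, U.1) :=
        Groth.Agent.Lib.Helper49.finite_sections_of_isFiniteType F hF U.2
      exact Module.Finite.equiv hf.equiv
    exact Module.Finite.equiv (Groth.Agent.Lib.Helper49.sectionsFromSpecTopEquiv hW _).symm

/-- The unit `F ⟶ i_* i^* F` is an isomorphism for `F` quasi-coherent of finite type killed by
the ideal of `i`. -/
theorem isIso_unit_of_killed (F : X.Modules) [F.IsQuasicoherent]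
    (hF : SheafOfModules.IsFiniteType (R := X.ringCatSheaf) F)
    (hk : ∀ (U : X.Opens), IsAffineOpen U → ∀ a : Γ(X, U), (i.app U).hom a = 0 →
      ∀ m : Γ(F, U), a • m = 0) :
    IsIso ((Scheme.Modules.pullbackPushforwardAdjunction i).unit.app F) := by
  have hqH : ((Scheme.Modules.pullback i).obj F).IsQuasicoherent :=
    Groth.Agent.Lib.Helper16.FlatPull.isQuasicoherent_pullback i F
  have hHft := isFiniteType_pullback i F hF
  have hqG : ((Scheme.Modules.pushforward i).obj
      ((Scheme.Modules.pullback i).obj F)).IsQuasicoherent :=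
    Groth.Agent.Lib.Helper49.isQuasicoherent_pushforward _ i
  let η : F ⟶ (Scheme.Modules.pushforward i).obj ((Scheme.Modules.pullback i).obj F) :=
    (Scheme.Modules.pullbackPushforwardAdjunction i).unit.app F
  change IsIso η
  have hε : IsIso ((Scheme.Modules.pullbackPushforwardAdjunction i).counit.app
      ((Scheme.Modules.pullback i).obj F)) := isIso_counit_of_isFiniteType i _ hHft
  have htri : (Scheme.Modules.pullback i).map η ≫
      (Scheme.Modules.pullbackPushforwardAdjunction i).counit.app
        ((Scheme.Modules.pullback i).obj F) = 𝟙 _ :=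
    (Scheme.Modules.pullbackPushforwardAdjunction i).left_triangle_components F
  have hiη : IsIso ((Scheme.Modules.pullback i).map η) := by
    have : (Scheme.Modules.pullback i).map η =
        inv ((Scheme.Modules.pullbackPushforwardAdjunction i).counit.app
          ((Scheme.Modules.pullback i).obj F)) := by
      rw [← cancel_mono ((Scheme.Modules.pullbackPushforwardAdjunction i).counit.app
        ((Scheme.Modules.pullback i).obj F)), htri, IsIso.inv_hom_id]
    rw [this]; infer_instance
  refine Groth.Agent.S0045.isIso_of_app_bijective_of_cover η fun x => ?_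
  obtain ⟨_, ⟨U, hU, rfl⟩, hxU, -⟩ := X.isBasis_affineOpens.exists_subset_of_mem_open
    (Set.mem_univ x) isOpen_univ
  have hU : IsAffineOpen U := hU
  refine ⟨U, hU, hxU, ?_⟩
  have hW : IsAffineOpen (i ⁻¹ᵁ U) := hU.preimage i
  have happ : i.appLE U (i ⁻¹ᵁ U) le_rfl = i.app U := i.appLE_eq_app
  have hkill : ∀ (a : Γ(X, U)), (i.app U).hom a = 0 →
      ∀ q' : Γ(((Scheme.Modules.pushforward i).obj ((Scheme.Modules.pullback i).obj F)).restrict
        hU.fromSpec, (⊤ : (Spec Γ(X, U)).Opens)), a • q' = 0 := fun a ha' q' => by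
    apply (Groth.Agent.Lib.Helper49.sectionsFromSpecTopEquiv hU _).injective
    rw [map_smul, map_zero]
    obtain ⟨t, ht⟩ := (pushEquiv i _ U).surjective
      (Groth.Agent.Lib.Helper49.sectionsFromSpecTopEquiv hU _ q')
    rw [← ht, ← pushEquiv_smul, ha', zero_smul, map_zero]
  -- surjectivity
  have hsurj : Function.Surjective (η.app U) := by
    have hepi := Groth.Agent.Lib.Helper11.PullbackChart.epi_extendScalars_map_ΓU i hU hW le_rfl η
      (inferInstance : Epi ((Scheme.Modules.pullback i).map η))
    have hv := surjective_of_epi_extendScalars_map (i.appLE U (i ⁻¹ᵁ U) le_rfl).hom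
      (by rw [happ]; exact i.app_surjective U hU)
      ((Groth.Agent.Lib.Helper11.PullbackChart.ΓU hU).map η)
      (fun a ha q => by
        have ha' : (i.app U).hom a = 0 := by rw [← happ]; exact ha
        exact hkill a ha' q) hepi
    intro n
    obtain ⟨n', rfl⟩ := (Groth.Agent.Lib.Helper49.sectionsFromSpecTopEquiv hU _).surjective n
    obtain ⟨m', hm'⟩ := hv n'
    refine ⟨Groth.Agent.Lib.Helper49.sectionsFromSpecTopEquiv hU F m', ?_⟩
    have hnat := Groth.Agent.Lib.Helper11.PullbackChart.sectionsFromSpecTopEquiv_naturality hU η m'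
    rw [← hm']
    exact hnat.symm
  refine ⟨?_, hsurj⟩
  -- injectivity: a surjective endomorphism of a finite module is injective
  obtain ⟨e, he⟩ := exists_addEquiv_sections_pullback i F hU (hk U hU)
  have hfin : Module.Finite Γ(X, U) Γ(F, U) :=
    Groth.Agent.Lib.Helper49.finite_sections_of_isFiniteType F hF hU
  have hesymm : ∀ (r : Γ(X, U)) (y : Γ((Scheme.Modules.pullback i).obj F, i ⁻¹ᵁ U)),
      e.symm ((i.app U).hom r • y) = r • e.symm y := fun r y => by
    apply e.injective
    rw [he, e.apply_symm_apply, e.apply_symm_apply]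
  let g : Γ(F, U) →ₗ[Γ(X, U)] Γ(F, U) :=
    { toFun := fun m => e.symm ((pushEquiv i _ U).symm ((η.app U).hom m))
      map_add' := fun a b => by rw [map_add, map_add, map_add]
      map_smul' := fun r m => by
        have h1 : (η.app U).hom (r • m) = r • (η.app U).hom m :=
          Scheme.Modules.Hom.app_smul η r m
        rw [h1, pushEquiv_symm_smul, hesymm]
        rfl }
  have hg : Function.Surjective g := fun t => by
    obtain ⟨m, hm⟩ := hsurj (pushEquiv i _ U (e t))
    refine ⟨m, ?_⟩
    change e.symm ((pushEquiv i _ U).symm ((η.app U).hom m)) = t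
    have hm' : (η.app U).hom m = pushEquiv i _ U (e t) := hm
    rw [hm', AddEquiv.symm_apply_apply, AddEquiv.symm_apply_apply]
  have hginj : Function.Injective g := OrzechProperty.injective_of_surjective_endomorphism g hg
  intro a b hab
  apply hginj
  change e.symm ((pushEquiv i _ U).symm ((η.app U).hom a)) =
    e.symm ((pushEquiv i _ U).symm ((η.app U).hom b))
  have hab' : (η.app U).hom a = (η.app U).hom b := hab
  rw [hab']

end sheaf

end Groth.Agent.Lib.Helper49.ClosedImmUnit
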