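import Mathlib
import Groth.Agent.Lib.Helper49.QcqsModules
import Groth.Agent.Lib.Helper49.QCohLocal
/-!
# Finite products of quasi-coherent modules, direct images along quasi-compact open immersions
-/
universe u
open CategoryTheory CategoryTheory.Limits AlgebraicGeometry TopologicalSpace Opposite

namespace Groth.Agent.Lib.Helper49

variable {X : Scheme.{u}}

/-- A finite product of quasi-coherent modules is quasi-coherent. -/
theorem isQuasicoherent_piObj {α : Type u} [Finite α] (G : α → X.Modules)
    (h : ∀ a, (G a).IsQuasicoherent) : (∏ᶜ G).IsQuasicoherent := by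
  obtain ⟨n, ⟨e⟩⟩ := Finite.exists_equiv_fin α
  have h1 : (∏ᶜ (G ∘ e.symm)).IsQuasicoherent :=
    isQuasicoherent_finite_limit (Discrete.functor (G ∘ e.symm)) fun j => h _
  exact isQuasicoherent_of_iso (Pi.reindex e.symm G) h1

/-- In a quasi-separated scheme, the inclusion of a quasi-compact open is quasi-compact. -/
theorem quasiCompact_ι_of_isCompact [QuasiSeparatedSpace X] (W : X.Opens)
    (hW : IsCompact (W : Set X)) : QuasiCompact W.ι := by
  rw [quasiCompact_iff_forall_isAffineOpen]
  intro V hV
  rw [W.ι.isOpenEmbedding.isEmbedding.isCompact_iff]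
  have : (W.ι.base '' (W.ι ⁻¹ᵁ V : Set W)) = (V : Set X) ∩ (W : Set X) := by
    rw [Scheme.Hom.coe_preimage, Set.image_preimage_eq_inter_range, Scheme.Opens.range_ι]
  rw [this]
  exact hV.isCompact.inter_of_isOpen hW V.2 W.2

/-- `j_*(F|_W)` is quasi-coherent for `W` a quasi-compact open of a quasi-separated scheme. -/
theorem isQuasicoherent_pushforward_restrict [QuasiSeparatedSpace X] (W : X.Opens)
    (hW : IsCompact (W : Set X)) (F : X.Modules) [F.IsQuasicoherent] :
    ((Scheme.Modules.pushforward W.ι).obj ((Scheme.Modules.restrictFunctor W.ι).obj F)).IsQuasicoherent := by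
  have := quasiCompact_ι_of_isCompact W hW
  have : (F.restrict W.ι).IsQuasicoherent := Scheme.Modules.isQuasicoherent_restrictFunctor _ _
  exact isQuasicoherent_pushforward (F.restrict W.ι) W.ι

end Groth.Agent.Lib.Helper49
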