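import Mathlib
import Groth.Prelude.Def_SecTwist
/-!
# Morphisms out of the tensor product of `O_X`-modules

`BilinFamily M N P`: a family of `Γ(X, U)`-bilinear maps `M(U) × N(U) → P(U)` compatible with restriction.
`BilinFamily.desc : CohB1.tensorMod M N ⟶ P` with `desc_tmul`: on the section `a ⊗ b` it is `β a b`.
-/
universe u
open CategoryTheory AlgebraicGeometry TopologicalSpace Opposite TensorProduct MonoidalCategory

namespace Groth.Agent.Lib.Helper49

variable {X : Scheme.{u}}

/-- a family of bilinear maps on sections, compatible with restriction -/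
structure BilinFamily (M N P : X.Modules) where
  /-- the bilinear maps -/
  β : ∀ U : X.Opens, Γ(M, U) → Γ(N, U) → Γ(P, U)
  add_left : ∀ U a a' b, β U (a + a') b = β U a b + β U a' b
  smul_left : ∀ U (r : Γ(X, U)) a b, β U (r • a) b = r • β U a b
  add_right : ∀ U a b b', β U a (b + b') = β U a b + β U a b'
  smul_right : ∀ U (r : Γ(X, U)) a b, β U a (r • b) = r • β U a b
  res : ∀ {U V : X.Opens} (i : V ⟶ U) (a : Γ(M, U)) (b : Γ(N, U)),
    P.presheaf.map i.op (β U a b) = β V (M.presheaf.map i.op a) (N.presheaf.map i.op b)

namespace BilinFamily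

variable {M N P : X.Modules} (B : BilinFamily M N P)

/-- the components of `pre` -/
noncomputable def preApp (U : X.Opensᵒᵖ) :
    (CohB1.toPMod M).obj U ⊗ (CohB1.toPMod N).obj U ⟶ (CohB1.toPMod P).obj U :=
  ModuleCat.MonoidalCategory.tensorLift (fun a b => B.β U.unop a b)
    (fun a a' b => B.add_left U.unop a a' b)
    (fun r a b => B.smul_left U.unop r a b)
    (fun a b b' => B.add_right U.unop a b b')
    (fun r a b => B.smul_right U.unop r a b)

/-- the morphism from the sectionwise tensor product -/
noncomputable def pre : (CohB1.tensorPre M N : CohB1.PMod X) ⟶ (CohB1.toPMod P : CohB1.PMod X) where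
  app U := B.preApp U
  naturality {U V} f := by
    refine ModuleCat.MonoidalCategory.tensor_ext (fun s t => ?_)
    exact (B.res f.unop s t).symm

theorem pre_app_tmul (U : X.Opens) (a : Γ(M, U)) (b : Γ(N, U)) :
    ((B.pre).app (op U)).hom (a ⊗ₜ b) = B.β U a b := rfl

/-- `pre`, retyped as a morphism of presheaves of modules on `X`. -/
noncomputable def pre' : (CohB1.tensorPre M N : X.PresheafOfModules) ⟶ P.val := B.pre

/-- the morphism out of the tensor product -/
noncomputable def desc : CohB1.tensorMod M N ⟶ P :=
  (CohB1.sheafifyMod X).map B.pre' ≫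
    (PresheafOfModules.sheafificationAdjunction.{u, u, u, u}
      (J := Opens.grothendieckTopology X) (𝟙 X.ringCatSheaf.obj)).counit.app P

theorem desc_tmul (U : X.Opens) (a : M.val.obj (op U)) (b : N.val.obj (op U)) :
    ((B.desc).val.app (op U)).hom (SecTwist.tmul M N U a b) = B.β U a b := by
  let adj := PresheafOfModules.sheafificationAdjunction.{u, u, u, u}
    (J := Opens.grothendieckTopology X) (𝟙 X.ringCatSheaf.obj)
  let Q : X.PresheafOfModules := CohB1.tensorPre M N
  let x : ↥((CohB1.tensorPre M N).obj (op U)) := a ⊗ₜ b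
  have natU : ((adj.unit.app P.val).app (op U)).hom ((B.pre'.app (op U)).hom x) =
      ((((CohB1.sheafifyMod X).map B.pre').val.app (op U)).hom
        (((adj.unit.app Q).app (op U)).hom x)) :=
    congrArg (fun φ => (PresheafOfModules.Hom.app φ (op U)).hom x) (adj.unit.naturality B.pre')
  have hpre : (B.pre'.app (op U)).hom x = B.β U a b := rfl
  rw [hpre] at natU
  have triU : (((adj.counit.app P).val.app (op U)).hom
      (((adj.unit.app P.val).app (op U)).hom (B.β U a b))) = B.β U a b :=
    congrArg (fun φ => (PresheafOfModules.Hom.app φ (op U)).hom (B.β U a b))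
      (adj.right_triangle_components P)
  change ((((CohB1.sheafifyMod X).map B.pre' ≫ adj.counit.app P).val.app (op U)).hom
      (((adj.unit.app Q).app (op U)).hom x)) = B.β U a b
  rw [← triU, natU]
  rfl

end BilinFamily

end Groth.Agent.Lib.Helper49
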