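import Mathlib
/-!
# Faithfully flat descent along a finite jointly surjective family of flat algebras

Let `A` be a ring and `B j`, `j : ι` (`ι` finite), flat `A`-algebras such that every prime of `A`
is the contraction of a prime of some `B j`.

* `subsingleton_of_forall_subsingleton_tensorProduct`: `B j ⊗ Q = 0` for all `j` implies `Q = 0`.
* `surjective_of_forall_lTensor_surjective`, `injective_of_forall_lTensor_injective`.
* `finite_of_forall_finite_tensorProduct`, `finitePresentation_of_forall_finitePresentation_tensorProduct`,
  `flat_of_forall_flat_tensorProduct`, `projective_of_forall_tensorProduct`.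
-/
universe u
open TensorProduct

namespace Groth.Agent.Lib.Helper49.FamilyDescent

/-- The family `B` is jointly surjective on prime spectra. -/
def JointlySurjective (A : Type*) [CommRing A] {ι : Type*} (B : ι → Type*) [∀ j, CommRing (B j)]
    [∀ j, Algebra A (B j)] : Prop :=
  ∀ p : PrimeSpectrum A, ∃ j, ∃ q : PrimeSpectrum (B j), q.comap (algebraMap A (B j)) = p

variable {A : Type*} [CommRing A] {ι : Type*} {B : ι → Type*} [∀ j, CommRing (B j)]
  [∀ j, Algebra A (B j)] [∀ j, Module.Flat A (B j)]

theorem subsingleton_of_forall_subsingleton_tensorProduct (hB : JointlySurjective A B)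
    (Q : Type*) [AddCommGroup Q] [Module A Q] (h : ∀ j, Subsingleton (B j ⊗[A] Q)) :
    Subsingleton Q := by
  by_contra hQ
  rw [not_subsingleton_iff_nontrivial] at hQ
  obtain ⟨x, hx⟩ := exists_ne (0 : Q)
  let φ : A →ₗ[A] Q := LinearMap.toSpanSingleton A Q x
  let I : Ideal A := LinearMap.ker φ
  have hI : I ≠ ⊤ := by
    intro hI
    have h1 : (1 : A) ∈ I := hI ▸ Submodule.mem_top
    have h2 : φ 1 = 0 := h1
    rw [LinearMap.toSpanSingleton_apply, one_smul] at h2
    exact hx h2
  obtain ⟨m, hm, hIm⟩ := Ideal.exists_le_maximal I hI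
  obtain ⟨j, q, hq⟩ := hB ⟨m, hm.isPrime⟩
  -- the injection `A ⧸ I → Q`
  let ψ : (A ⧸ I) →ₗ[A] Q := Submodule.liftQ I φ le_rfl
  have hψ : Function.Injective ψ := by
    rw [← LinearMap.ker_eq_bot]
    exact Submodule.ker_liftQ_eq_bot _ _ _ le_rfl
  have hinj : Function.Injective (ψ.lTensor (B j)) :=
    Module.Flat.lTensor_preserves_injective_linearMap ψ hψ
  have := h j
  have hsub : Subsingleton (B j ⊗[A] (A ⧸ I)) := hinj.subsingleton
  have hsub2 : Subsingleton (B j ⧸ (I • ⊤ : Submodule A (B j))) :=
    (TensorProduct.tensorQuotEquivQuotSMul (B j) I).symm.injective.subsingleton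
  rw [Submodule.Quotient.subsingleton_iff] at hsub2
  have hle : (I • ⊤ : Submodule A (B j)) ≤ q.asIdeal.restrictScalars A := by
    rw [Submodule.smul_le]
    intro a ha b _
    change a • b ∈ q.asIdeal
    rw [Algebra.smul_def]
    refine Ideal.mul_mem_right _ _ ?_
    have h1 : a ∈ (q.comap (algebraMap A (B j))).asIdeal := by
      rw [hq]; exact hIm ha
    exact h1
  have h0 : (1 : B j) ∈ (I • ⊤ : Submodule A (B j)) := by
    rw [hsub2]; exact Submodule.mem_top
  have h1 : (1 : B j) ∈ q.asIdeal := hle h0
  exact q.isPrime.ne_top ((Ideal.eq_top_iff_one _).mpr h1)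

theorem surjective_of_forall_lTensor_surjective (hB : JointlySurjective A B)
    {M N : Type*} [AddCommGroup M] [Module A M] [AddCommGroup N] [Module A N] (u : M →ₗ[A] N)
    (h : ∀ j, Function.Surjective (u.lTensor (B j))) : Function.Surjective u := by
  rw [← LinearMap.range_eq_top, ← Submodule.Quotient.subsingleton_iff]
  refine subsingleton_of_forall_subsingleton_tensorProduct hB _ fun j => ?_
  refine ⟨fun a b => ?_⟩
  have hs : Function.Surjective ((LinearMap.range u).mkQ.lTensor (B j)) :=
    LinearMap.lTensor_surjective _ (Submodule.mkQ_surjective _)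
  have hz : ∀ z, (LinearMap.range u).mkQ.lTensor (B j) z = 0 := by
    intro z
    obtain ⟨y, rfl⟩ := h j z
    rw [← LinearMap.comp_apply, ← LinearMap.lTensor_comp]
    have : (LinearMap.range u).mkQ ∘ₗ u = 0 := by
      ext m
      simp
    rw [this, LinearMap.lTensor_zero, LinearMap.zero_apply]
  obtain ⟨a', rfl⟩ := hs a
  obtain ⟨b', rfl⟩ := hs b
  rw [hz, hz]

theorem injective_of_forall_lTensor_injective (hB : JointlySurjective A B)
    {M N : Type*} [AddCommGroup M] [Module A M] [AddCommGroup N] [Module A N] (u : M →ₗ[A] N)
    (h : ∀ j, Function.Injective (u.lTensor (B j))) : Function.Injective u := by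
  rw [← LinearMap.ker_eq_bot, ← Submodule.subsingleton_iff_eq_bot]
  refine subsingleton_of_forall_subsingleton_tensorProduct hB _ fun j => ?_
  refine ⟨fun a b => ?_⟩
  have hι : Function.Injective ((LinearMap.ker u).subtype.lTensor (B j)) :=
    Module.Flat.lTensor_preserves_injective_linearMap _ (Submodule.injective_subtype _)
  have hz : ∀ z, (LinearMap.ker u).subtype.lTensor (B j) z = 0 := by
    intro z
    apply h j
    rw [map_zero, ← LinearMap.comp_apply, ← LinearMap.lTensor_comp]
    have : u ∘ₗ (LinearMap.ker u).subtype = 0 := by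
      ext m
      exact m.2
    rw [this, LinearMap.lTensor_zero, LinearMap.zero_apply]
  apply hι
  rw [hz, hz]

/-- Descent of finiteness. -/
theorem finite_of_forall_finite_tensorProduct [Finite ι] (hB : JointlySurjective A B)
    (N : Type*) [AddCommGroup N] [Module A N] (h : ∀ j, Module.Finite (B j) (B j ⊗[A] N)) :
    Module.Finite A N := by
  classical
  have := Fintype.ofFinite ι
  choose n s hs using fun j => Module.Finite.exists_fin (R := B j) (M := B j ⊗[A] N)
  choose k t m hm using fun (j : ι) (i : Fin (n j)) => TensorProduct.exists_sum_tmul_eq (s j i)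
  let f₀ : ((Σ j, Σ i : Fin (n j), Fin (k j i)) → A) →ₗ[A] N :=
    (Pi.basisFun A _).constr A fun x => m x.1 x.2.1 x.2.2
  apply Module.Finite.of_surjective f₀
  refine surjective_of_forall_lTensor_surjective hB f₀ fun j => ?_
  have : Function.Surjective (AlgebraTensorModule.lTensor (B j) (B j) f₀) := by
    rw [← LinearMap.range_eq_top, eq_top_iff, ← hs j, Submodule.span_le, Set.range_subset_iff]
    intro i
    use ∑ (l : Fin (k j i)), t j i l ⊗ₜ Pi.basisFun A _ ⟨j, i, l⟩
    simp [f₀, -Pi.basisFun_equivFun, -Pi.basisFun_apply, hm j i]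
  exact this

/-- Descent of finite presentation. -/
theorem finitePresentation_of_forall_finitePresentation_tensorProduct [Finite ι]
    (hB : JointlySurjective A B) (N : Type*) [AddCommGroup N] [Module A N]
    (h : ∀ j, Module.FinitePresentation (B j) (B j ⊗[A] N)) :
    Module.FinitePresentation A N := by
  have hfin : Module.Finite A N :=
    finite_of_forall_finite_tensorProduct hB N fun j => inferInstance
  obtain ⟨n, f, hf⟩ := Module.Finite.exists_fin' A N
  refine Module.finitePresentation_of_surjective f hf ?_
  rw [← Module.Finite.iff_fg]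
  refine finite_of_forall_finite_tensorProduct hB _ fun j => ?_
  -- `B j ⊗ ker f ≅ ker (B j ⊗ f)` is finitely generated
  have hex : Function.Exact ((LinearMap.ker f).subtype.baseChange (B j)) (f.baseChange (B j)) :=
    lTensor_exact (B j) f.exact_subtype_ker_map hf
  have hinj : Function.Injective ((LinearMap.ker f).subtype.baseChange (B j)) :=
    Module.Flat.lTensor_preserves_injective_linearMap _ (Submodule.injective_subtype _)
  have hsurj : Function.Surjective (f.baseChange (B j)) := LinearMap.lTensor_surjective _ hf
  have hfg : (LinearMap.ker (f.baseChange (B j))).FG :=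
    Module.FinitePresentation.fg_ker (f.baseChange (B j)) hsurj
  rw [LinearMap.exact_iff] at hex
  rw [hex] at hfg
  have : Module.Finite (B j) (LinearMap.range ((LinearMap.ker f).subtype.baseChange (B j))) :=
    Module.Finite.iff_fg.mpr hfg
  exact Module.Finite.equiv (LinearEquiv.ofInjective _ hinj).symm

/-- Descent of flatness. -/
theorem flat_of_forall_flat_tensorProduct (hB : JointlySurjective A B)
    (N : Type*) [AddCommGroup N] [Module A N] (h : ∀ j, Module.Flat (B j) (B j ⊗[A] N)) :
    Module.Flat A N := by
  rw [Module.Flat.iff_lTensor_preserves_injective_linearMap]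
  intro P P' _ _ _ _ f hf
  refine injective_of_forall_lTensor_injective hB _ fun j => ?_
  have := h j
  have : Module.Flat A (B j ⊗[A] N) := Module.Flat.trans _ (B j) _
  have h2 : LinearMap.lTensor (B j) (LinearMap.lTensor N f) =
      (TensorProduct.assoc _ _ _ _).toLinearMap ∘ₗ LinearMap.lTensor (B j ⊗[A] N) f ∘ₗ
        (TensorProduct.assoc _ _ _ _).symm.toLinearMap := by
    ext
    simp
  simpa [h2] using Module.Flat.lTensor_preserves_injective_linearMap f hf

/-- Descent of "finite projective". -/
theorem projective_of_forall_tensorProduct [Finite ι] (hB : JointlySurjective A B)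
    (N : Type*) [AddCommGroup N] [Module A N]
    (h1 : ∀ j, Module.Finite (B j) (B j ⊗[A] N))
    (h2 : ∀ j, Module.Projective (B j) (B j ⊗[A] N)) :
    Module.Finite A N ∧ Module.Projective A N := by
  have hfp : Module.FinitePresentation A N :=
    finitePresentation_of_forall_finitePresentation_tensorProduct hB N fun j =>
      have := h1 j
      have := h2 j
      Module.finitePresentation_of_projective _ _
  have hflat : Module.Flat A N := flat_of_forall_flat_tensorProduct hB N fun j =>
    have := h2 j
    inferInstance
  exact ⟨inferInstance, Module.Flat.projective_of_finitePresentation⟩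

end Groth.Agent.Lib.Helper49.FamilyDescent
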