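import Mathlib
import Groth.Agent.Lib.Helper11.PullbackChart
import Groth.Agent.Lib.Helper49.FinLocFreeSections
import Groth.Agent.Lib.Helper49.FamilyDescent
/-!
# Sections of a pullback on affine charts; fpqc descent of finiteness properties of modules

* `pullbackSectionsIso`: `Γ(g^*F, W) ≅ Γ(X', W) ⊗_{Γ(X, U)} Γ(F, U)` for `F` quasi-coherent and
  affine opens `W ≤ g⁻¹U` (as an isomorphism in `ModuleCat Γ(X', W)` onto `extendScalars`).
* `extendScalarsEquiv`, `pullbackSectionsEquiv`: the same as a linear equivalence onto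
  `Γ(X', W) ⊗[Γ(X, U)] Γ(F, U)`.
* `exists_descent_cover`: for `g` flat, surjective and quasi-compact and `U ⊆ X` affine, finitely
  many affine opens `W j ≤ g⁻¹U` with `Γ(X, U) → Γ(X', W j)` flat and jointly surjective on spectra.
* `isFiniteType_of_pullback`, `isFinitePresentation_of_pullback`, `isFinLocFree_of_pullback`:
  descent of finite type, finite presentation, finite local freeness along fpqc morphisms.
-/
universe u
open CategoryTheory CategoryTheory.Limits AlgebraicGeometry TopologicalSpace TensorProduct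

namespace Groth.Agent.Lib.Helper49

open Groth.Agent.Lib.Helper11.PullbackChart

section Chart

variable {X' X : Scheme.{u}} (g : X' ⟶ X) {U : X.Opens} (hU : IsAffineOpen U) {W : X'.Opens}
  (hW : IsAffineOpen W) (hWU : W ≤ g ⁻¹ᵁ U) (F : X.Modules) [F.IsQuasicoherent]

/-- The sections of `F` over an affine open `U`, as an object of `ModuleCat Γ(X, U)`. -/
noncomputable def sectionsModuleIso (F : X.Modules) :
    (ΓU hU).obj F ≅ ModuleCat.of Γ(X, U) Γ(F, U) :=
  (sectionsFromSpecTopEquiv hU F).toModuleIso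

/-- **Sections of a pullback on affine charts**: `Γ(g^*F, W) ≅ Γ(X', W) ⊗_{Γ(X, U)} Γ(F, U)`. -/
noncomputable def pullbackSectionsIso :
    ModuleCat.of Γ(X', W) Γ((Scheme.Modules.pullback g).obj F, W) ≅
      (ModuleCat.extendScalars (g.appLE U W hWU).hom).obj (ModuleCat.of Γ(X, U) Γ(F, U)) :=
  (sectionsModuleIso hW ((Scheme.Modules.pullback g).obj F)).symm ≪≫
    (moduleSpecΓFunctor (R := Γ(X', W))).mapIso
      ((Scheme.Modules.restrictFunctorIsoPullback hW.fromSpec).app _ ≪≫
        Arrow.leftFunc.mapIso (chartArrowIso g hU hW hWU (𝟙 F))) ≪≫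
    (tilde.toTildeΓNatIso.app _).symm ≪≫
    (ModuleCat.extendScalars (g.appLE U W hWU).hom).mapIso (sectionsModuleIso hU F)

set_option backward.isDefEq.respectTransparency false in
/-- The carrier of `extendScalars` is the tensor product. -/
noncomputable def extendScalarsEquiv {A B : Type u} [CommRing A] [CommRing B] (φ : A →+* B)
    (N : Type u) [AddCommGroup N] [Module A N] :
    letI := φ.toAlgebra
    ↑((ModuleCat.extendScalars φ).obj (ModuleCat.of A N)) ≃ₗ[B] (B ⊗[A] N) :=
  letI := φ.toAlgebra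
  LinearEquiv.refl B _

/-- `Γ(g^*F, W) ≃ Γ(X', W) ⊗[Γ(X, U)] Γ(F, U)`, where `Γ(X', W)` is a `Γ(X, U)`-algebra through
`g.appLE U W`. -/
noncomputable def pullbackSectionsEquiv :
    letI := (g.appLE U W hWU).hom.toAlgebra
    Γ((Scheme.Modules.pullback g).obj F, W) ≃ₗ[Γ(X', W)] (Γ(X', W) ⊗[Γ(X, U)] Γ(F, U)) :=
  letI := (g.appLE U W hWU).hom.toAlgebra
  (pullbackSectionsIso g hU hW hWU F).toLinearEquiv ≪≫ₗ
    extendScalarsEquiv (g.appLE U W hWU).hom Γ(F, U)

end Chart

section Descent

variable {X' X : Scheme.{u}} (g : X' ⟶ X) [Flat g] [Surjective g] [QuasiCompact g]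

/-- For `g` flat, surjective and quasi-compact and `U ⊆ X` affine there are finitely many affine
opens `W j ≤ g⁻¹U` such that the `Γ(X, U)`-algebras `Γ(X', W j)` are flat and jointly surjective on
prime spectra. -/
theorem exists_descent_cover {U : X.Opens} (hU : IsAffineOpen U) :
    ∃ (ι : Type u) (_ : Finite ι) (W : ι → X'.Opens) (hW : ∀ j, IsAffineOpen (W j))
      (hWU : ∀ j, W j ≤ g ⁻¹ᵁ U),
      letI : ∀ j, Algebra Γ(X, U) Γ(X', W j) := fun j => (g.appLE U (W j) (hWU j)).hom.toAlgebra
      (∀ j, Module.Flat Γ(X, U) Γ(X', W j)) ∧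
        FamilyDescent.JointlySurjective Γ(X, U) (fun j => Γ(X', W j)) := by
  have hc : IsCompact (X := X') (g ⁻¹ᵁ U) :=
    QuasiCompact.isCompact_preimage (f := g) _ U.2 hU.isCompact
  obtain ⟨s, hs, hsU⟩ := isCompact_iff_finite_and_eq_biUnion_affineOpens.mp hc
  have hle : ∀ j : s, (j.1 : X'.Opens) ≤ g ⁻¹ᵁ U := fun j => by
    rw [hsU]; exact le_iSup₂ (f := fun (i : X'.affineOpens) (_ : i ∈ s) => (i : X'.Opens)) j.1 j.2
  refine ⟨s, hs.to_subtype, fun j => (j.1 : X'.Opens), fun j => j.1.2, hle, fun j => ?_, ?_⟩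
  · exact HasRingHomProperty.appLE (P := @Flat) g inferInstance ⟨U, hU⟩ j.1 (hle j)
  · intro p
    let y : U := hU.isoSpec.inv p
    obtain ⟨x', hx'⟩ := Surjective.surj (f := g) (y : X)
    have hx'U : x' ∈ g ⁻¹ᵁ U := by
      change g x' ∈ U
      rw [hx']; exact y.2
    rw [hsU] at hx'U
    obtain ⟨i, hi⟩ := TopologicalSpace.Opens.mem_iSup.mp hx'U
    obtain ⟨his, hx'i⟩ := TopologicalSpace.Opens.mem_iSup.mp hi
    refine ⟨⟨i, his⟩, i.2.primeIdealOf ⟨x', hx'i⟩, ?_⟩
    have h1 := IsAffineOpen.comap_primeIdealOf_appLE (f := g) U hU i.1 i.2 (hle ⟨i, his⟩) hx'i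
    have h2 : (⟨g x', (hle ⟨i, his⟩) hx'i⟩ : U) = y := Subtype.ext hx'
    rw [h2] at h1
    exact h1.trans (primeIdealOf_isoSpec_inv hU p)

variable (F : X.Modules) [F.IsQuasicoherent] [((Scheme.Modules.pullback g).obj F).IsQuasicoherent]

/-- Descent of finite type along a flat, surjective, quasi-compact morphism. -/
theorem isFiniteType_of_pullback
    (h : SheafOfModules.IsFiniteType (R := X'.ringCatSheaf) ((Scheme.Modules.pullback g).obj F)) :
    SheafOfModules.IsFiniteType (R := X.ringCatSheaf) F := by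
  refine isFiniteType_of_finite_sections F fun U => ?_
  obtain ⟨ι, hι, W, hW, hWU, hflat, hsurj⟩ := exists_descent_cover g U.2
  let _ : ∀ j, Algebra Γ(X, U.1) Γ(X', W j) := fun j => (g.appLE U.1 (W j) (hWU j)).hom.toAlgebra
  refine FamilyDescent.finite_of_forall_finite_tensorProduct hsurj Γ(F, U.1) fun j => ?_
  have := finite_sections_of_isFiniteType _ h (hW j)
  exact Module.Finite.equiv (pullbackSectionsEquiv g U.2 (hW j) (hWU j) F)

omit [((Scheme.Modules.pullback g).obj F).IsQuasicoherent] in
/-- Descent of finite presentation along a flat, surjective, quasi-compact morphism. -/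
theorem isFinitePresentation_of_pullback
    (h : SheafOfModules.IsFinitePresentation (R := X'.ringCatSheaf)
      ((Scheme.Modules.pullback g).obj F)) :
    SheafOfModules.IsFinitePresentation (R := X.ringCatSheaf) F := by
  refine isFinitePresentation_of_finitePresentation_sections F fun U => ?_
  obtain ⟨ι, hι, W, hW, hWU, hflat, hsurj⟩ := exists_descent_cover g U.2
  let _ : ∀ j, Algebra Γ(X, U.1) Γ(X', W j) := fun j => (g.appLE U.1 (W j) (hWU j)).hom.toAlgebra
  refine FamilyDescent.finitePresentation_of_forall_finitePresentation_tensorProduct hsurj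
    Γ(F, U.1) fun j => ?_
  have := finitePresentation_sections_of_isFinitePresentation _ h (hW j)
  exact Module.FinitePresentation.of_equiv (pullbackSectionsEquiv g U.2 (hW j) (hWU j) F)

omit [((Scheme.Modules.pullback g).obj F).IsQuasicoherent] in
/-- Descent of finite local freeness along a flat, surjective, quasi-compact morphism. -/
theorem isFinLocFree_of_pullback
    (h : FlatMod.IsFinLocFree ((Scheme.Modules.pullback g).obj F)) : FlatMod.IsFinLocFree F := by
  have := isQuasicoherent_of_isFinLocFree _ h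
  refine (isFinLocFree_iff_sections F).mpr fun U => ?_
  obtain ⟨ι, hι, W, hW, hWU, hflat, hsurj⟩ := exists_descent_cover g U.2
  let _ : ∀ j, Algebra Γ(X, U.1) Γ(X', W j) := fun j => (g.appLE U.1 (W j) (hWU j)).hom.toAlgebra
  refine FamilyDescent.projective_of_forall_tensorProduct hsurj Γ(F, U.1) (fun j => ?_)
    (fun j => ?_)
  · have := (finite_projective_sections_of_isFinLocFree _ h (hW j)).1
    exact Module.Finite.equiv (pullbackSectionsEquiv g U.2 (hW j) (hWU j) F)
  · have := (finite_projective_sections_of_isFinLocFree _ h (hW j)).2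
    exact Module.Projective.of_equiv' (pullbackSectionsEquiv g U.2 (hW j) (hWU j) F)

end Descent

end Groth.Agent.Lib.Helper49
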