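import Mathlib
import Groth.Agent.Lib.Helper45.FiniteType
import Groth.Agent.Lib.Helper45.QCohStalk
import Groth.Agent.Lib.Helper49.FiniteTypeAffine
import Groth.Agent.Lib.Helper16.FlatPull.Chart
import Groth.Agent.Lib.Helper24.SupportBaseChange

/-!
# The support of the pullback of a quasi-coherent module of finite type

* `not_subsingleton_stalk_iff`: for quasi-coherent `F`, affine `U ∋ x`:
  `F_x ≠ 0 ↔ 𝔭_x ∈ Supp Γ(F, U)`.
* `support_pullback`: for quasi-coherent `F` of finite type and any `g : Y ⟶ X`,
  `{y | (g^* F)_y ≠ 0} = g ⁻¹' {x | F_x ≠ 0}`.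
-/

set_option autoImplicit false
set_option linter.style.haveILetI false
universe u

open AlgebraicGeometry CategoryTheory

namespace Groth.Agent.Lib.Helper49.SupportPullback

open Groth.Agent.Lib.Helper45

attribute [local instance] sectionsBasicOpenModule stalkModuleSections

/-- the stalk at `x ∈ U` (affine) is nonzero iff the prime of `x` lies in the support of the
module of sections over `U`. -/
theorem not_subsingleton_stalk_iff {X : Scheme.{u}} (F : X.Modules) [F.IsQuasicoherent]
    {U : X.Opens} (hU : IsAffineOpen U) (x : X) (hxU : x ∈ U) :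
    ¬ Subsingleton (F.presheaf.stalk x) ↔
      hU.primeIdealOf ⟨x, hxU⟩ ∈ Module.support Γ(X, U) Γ(F, U) := by
  obtain ⟨x', rfl⟩ : ∃ x' : U, (x' : X) = x := ⟨⟨x, hxU⟩, rfl⟩
  have hloc := isLocalizedModule_germₗ hU F x'
  rw [Module.mem_support_iff, ← not_subsingleton_iff_nontrivial]
  have e := IsLocalizedModule.iso (hU.primeIdealOf x').asIdeal.primeCompl (germₗ F x')
  exact not_congr e.toEquiv.subsingleton_congr.symm

/-- The support of the pullback of a quasi-coherent module of finite type is the preimage of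
the support. -/
theorem support_pullback {Y X : Scheme.{u}} (g : Y ⟶ X) (F : X.Modules) [F.IsQuasicoherent]
    (hF : SheafOfModules.IsFiniteType (R := X.ringCatSheaf) F) :
    {y : Y | ¬ Subsingleton (((Scheme.Modules.pullback g).obj F).presheaf.stalk y)} =
      g ⁻¹' {x : X | ¬ Subsingleton (F.presheaf.stalk x)} := by
  have hq : ((Scheme.Modules.pullback g).obj F).IsQuasicoherent :=
    Groth.Agent.Lib.Helper16.FlatPull.isQuasicoherent_pullback g F
  ext y
  obtain ⟨U, V, hU, hV, hVU, hyV⟩ := Groth.Agent.Lib.Helper16.FlatPull.exists_charts g y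
  rw [Set.mem_ofPred_eq, Set.mem_preimage, Set.mem_ofPred_eq,
    not_subsingleton_stalk_iff _ hV y hyV, not_subsingleton_stalk_iff F hU (g y) (hVU hyV),
    ← IsAffineOpen.comap_primeIdealOf_appLE U hU V hV hVU hyV]
  obtain ⟨f, hf⟩ := Groth.Agent.Lib.Helper16.FlatPull.exists_isBaseChange_sections g hU hV hVU F
  letI := (g.appLE U V hVU).hom.toAlgebra
  letI : Module Γ(X, U) Γ((Scheme.Modules.pullback g).obj F, V) :=
    Module.compHom _ (g.appLE U V hVU).hom
  haveI : IsScalarTower Γ(X, U) Γ(Y, V) Γ((Scheme.Modules.pullback g).obj F, V) :=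
    IsScalarTower.of_compHom _ _ _
  haveI : Module.Finite Γ(X, U) Γ(F, U) :=
    Groth.Agent.Lib.Helper49.finite_sections_of_isFiniteType F hF hU
  rw [← hf.equiv.support_eq]
  exact Groth.Agent.Lib.Helper24.mem_support_baseChange_iff Γ(F, U) _

end Groth.Agent.Lib.Helper49.SupportPullback
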