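import Mathlib
import Groth.Agent.Lib.Helper11.PullbackBasis
import Groth.Agent.Lib.Helper20.PullbackUnit
import Groth.Agent.Lib.Helper16.FlatPull.Chart

/-!
# The unit `L ⟶ f_* f^* L` on sections over charts (helper49)

`pullSLE f L V W h : Γ(L, V) → Γ(f^* L, W)` for `W ≤ f⁻¹ V`: the unit of the pullback–pushforward
adjunction on sections over `V`, followed by restriction to `W`.  Basic API: naturality,
restriction, semilinearity, composition (`pullbackComp`), congruence (`pullbackCongr`), open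
immersions (`restrictFunctorIsoPullback`).
-/

set_option autoImplicit false
set_option linter.style.haveILetI false
set_option linter.unusedSectionVars false
universe u
open AlgebraicGeometry CategoryTheory Limits TopologicalSpace Opposite TensorProduct ChangeOfRings

namespace Groth.Agent.Lib.Helper49.UnitChart

open Groth.Agent.Lib.Helper49 Groth.Agent.Lib.Helper11.PullbackBasis
  Groth.Agent.Lib.Helper20.PullbackUnit Groth.Agent.Lib.Helper11.GenLocus
  Groth.Agent.Lib.Helper11 Groth.Agent.Lib.Helper11.PullbackChart Groth.Agent.Lib.Helper16.FlatPull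

variable {X Y Z : Scheme.{u}}

/-- The unit of the pullback–pushforward adjunction on sections over `V`, restricted to an open
`W ≤ f⁻¹ V`. -/
noncomputable def pullSLE (f : X ⟶ Y) (L : Y.Modules) (V : Y.Opens) (W : X.Opens)
    (h : W ≤ f ⁻¹ᵁ V) (t : Γ(L, V)) : Γ((Scheme.Modules.pullback f).obj L, W) :=
  mres ((Scheme.Modules.pullback f).obj L) h (pullS f L V t)

theorem pullSLE_add (f : X ⟶ Y) (L : Y.Modules) (V : Y.Opens) (W : X.Opens)
    (h : W ≤ f ⁻¹ᵁ V) (s t : Γ(L, V)) :
    pullSLE f L V W h (s + t) = pullSLE f L V W h s + pullSLE f L V W h t := by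
  have h1 : pullS f L V (s + t) = pullS f L V s + pullS f L V t :=
    map_add (((Scheme.Modules.pullbackPushforwardAdjunction f).unit.app L).app V).hom s t
  unfold pullSLE
  rw [h1]
  exact map_add (mres ((Scheme.Modules.pullback f).obj L) h) _ _

theorem app_mres {F G : X.Modules} (u : F ⟶ G) {O O' : X.Opens} (h : O' ≤ O) (s : Γ(F, O)) :
    (u.app O').hom (mres F h s) = mres G h ((u.app O).hom s) :=
  (app_res u h s).symm

theorem pullSLE_naturality (f : X ⟶ Y) {L L' : Y.Modules} (φ : L ⟶ L') (V : Y.Opens)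
    (W : X.Opens) (h : W ≤ f ⁻¹ᵁ V) (t : Γ(L, V)) :
    (((Scheme.Modules.pullback f).map φ).app W).hom (pullSLE f L V W h t) =
      pullSLE f L' V W h ((φ.app V).hom t) := by
  unfold pullSLE
  rw [app_mres, pullS_naturality]

theorem mres_pullSLE (f : X ⟶ Y) (L : Y.Modules) (V : Y.Opens) {W W' : X.Opens}
    (h : W ≤ f ⁻¹ᵁ V) (h' : W' ≤ W) (t : Γ(L, V)) :
    mres ((Scheme.Modules.pullback f).obj L) h' (pullSLE f L V W h t) =
      pullSLE f L V W' (h'.trans h) t := by
  unfold pullSLE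
  rw [mres_mres]

theorem pullSLE_mres (f : X ⟶ Y) (L : Y.Modules) {V V' : Y.Opens} (hV : V' ≤ V) (W : X.Opens)
    (h : W ≤ f ⁻¹ᵁ V') (t : Γ(L, V)) :
    pullSLE f L V' W h (mres L hV t) =
      pullSLE f L V W (h.trans (fun _ hx => hV hx)) t := by
  unfold pullSLE
  have h1 := pullS_res (f := f) L hV t
  change mres ((Scheme.Modules.pullback f).obj L) _ (pullS f L V t) = pullS f L V' (mres L hV t)
    at h1
  rw [← h1, mres_mres]

theorem pullSLE_smul (f : X ⟶ Y) (L : Y.Modules) (V : Y.Opens) (W : X.Opens)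
    (h : W ≤ f ⁻¹ᵁ V) (r : Γ(Y, V)) (t : Γ(L, V)) :
    pullSLE f L V W h (r • t) = (f.appLE V W h).hom r • pullSLE f L V W h t := by
  unfold pullSLE
  rw [pullS_smul, mres_smul]
  rfl

theorem pullSLE_comp (f : X ⟶ Y) (g : Y ⟶ Z) (L : Z.Modules) (V : Z.Opens) (W : Y.Opens)
    (T : X.Opens) (h₁ : W ≤ g ⁻¹ᵁ V) (h₂ : T ≤ f ⁻¹ᵁ W) (t : Γ(L, V)) :
    pullSLE f ((Scheme.Modules.pullback g).obj L) W T h₂ (pullSLE g L V W h₁ t) =
      (((Scheme.Modules.pullbackComp f g).inv.app L).app T).hom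
        (pullSLE (f ≫ g) L V T (h₂.trans (fun _ hx => h₁ hx)) t) := by
  have h := unitApp_comp f g L V
  have h' : pullS f ((Scheme.Modules.pullback g).obj L) (g ⁻¹ᵁ V) (pullS g L V t) =
      (((Scheme.Modules.pullbackComp f g).inv.app L).app ((f ≫ g) ⁻¹ᵁ V)).hom
        (pullS (f ≫ g) L V t) :=
    congrArg (fun k => k.hom t) h
  have e1 : pullSLE g L V W h₁ t = mres _ h₁ (pullS g L V t) := rfl
  rw [e1, pullSLE_mres]
  unfold pullSLE
  rw [h', app_mres]
  rfl

theorem pullSLE_congr {f f' : X ⟶ Y} (e : f = f') (L : Y.Modules) (V : Y.Opens) (W : X.Opens)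
    (h : W ≤ f ⁻¹ᵁ V) (t : Γ(L, V)) :
    (((Scheme.Modules.pullbackCongr e).hom.app L).app W).hom (pullSLE f L V W h t) =
      pullSLE f' L V W (e ▸ h) t := by
  subst e
  rfl

/-- For an open immersion `j`, the unit on sections is the restriction, under
`restrictFunctorIsoPullback`. -/
theorem pullSLE_openImmersion (j : X ⟶ Y) [IsOpenImmersion j] (L : Y.Modules) (V : Y.Opens)
    (W : X.Opens) (h : W ≤ j ⁻¹ᵁ V) (t : Γ(L, V)) :
    (((Scheme.Modules.restrictFunctorIsoPullback j).hom.app L).app W).hom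
      (show Γ(L.restrict j, W) from
        mres L (show j ''ᵁ W ≤ V from (j.image_mono h).trans (j.image_preimage_le V)) t) =
      pullSLE j L V W h t := by
  have h1 := Adjunction.unit_leftAdjointUniq_hom_app (Scheme.Modules.restrictAdjunction j)
    (Scheme.Modules.pullbackPushforwardAdjunction j) L
  have h2 := congrArg (fun φ => (Scheme.Modules.Hom.app φ V).hom t) h1
  have h3 : (((Scheme.Modules.restrictFunctorIsoPullback j).hom.app L).app (j ⁻¹ᵁ V)).hom
      (show Γ(L.restrict j, j ⁻¹ᵁ V) from mres L (j.image_preimage_le V) t) = pullS j L V t := h2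
  unfold pullSLE
  rw [← h3, ← app_mres]
  congr 1
  exact (mres_mres L (j.image_mono h) (j.image_preimage_le V) t).symm


section Chart

variable {X Y : Scheme.{u}} (h : X ⟶ Y) {U : Y.Opens} (hU : IsAffineOpen U) {W : X.Opens}
  (hW : IsAffineOpen W) (hWU : W ≤ h ⁻¹ᵁ U) (G : Y.Modules) [G.IsQuasicoherent]

theorem tildePullbackIso_unit_cat {R S : CommRingCat.{u}} (φ : R ⟶ S) (M : ModuleCat.{u} R) :
    (((tilde.adjunction (R := R)).comp
        (Scheme.Modules.pullbackPushforwardAdjunction (Spec.map φ))).ofNatIsoRight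
          (pushΓIso φ)).unit.app M ≫
      (moduleSpecΓFunctor (R := S) ⋙ ModuleCat.restrictScalars φ.hom).map
        ((tildePullbackIso φ).hom.app M) =
    ((ModuleCat.extendRestrictScalarsAdj.{u} φ.hom).comp (tilde.adjunction (R := S))).unit.app M :=
  Adjunction.unit_leftAdjointUniq_hom_app _ _ M

theorem tildePullbackIso_unit {R S : CommRingCat.{u}} (φ : R ⟶ S) (M : ModuleCat.{u} R) (m : M) :
    (((tildePullbackIso φ).hom.app M).app ⊤).hom
      (pullSLE (Spec.map φ) (tilde M) ⊤ ⊤ le_top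
        (show Γ(tilde M, ⊤) from (tilde.toOpen M ⊤).hom m)) =
    (show Γ(tilde ((ModuleCat.extendScalars φ.hom).obj M), ⊤) from
      (tilde.toOpen ((ModuleCat.extendScalars φ.hom).obj M) ⊤).hom ((1 : S) ⊗ₜ[R, φ.hom] m)) := by
  have h := tildePullbackIso_unit_cat φ M
  have h2 := congrArg (fun k => k.hom m) h
  have hR : (ModuleCat.Hom.hom
        (((ModuleCat.extendRestrictScalarsAdj (CommRingCat.Hom.hom φ)).comp
          (tilde.adjunction (R := S))).unit.app M)) m =
      (tilde.toOpen ((ModuleCat.extendScalars φ.hom).obj M) ⊤).hom ((1 : S) ⊗ₜ[R, φ.hom] m) := by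
    rw [Adjunction.comp_unit_app]
    rfl
  have hL : (ModuleCat.Hom.hom
        (((tilde.adjunction.comp (Scheme.Modules.pullbackPushforwardAdjunction
          (Spec.map φ))).ofNatIsoRight (pushΓIso φ)).unit.app M)) m =
      (show Γ((Scheme.Modules.pullback (Spec.map φ)).obj (tilde M), ⊤) from
        pullS (Spec.map φ) (tilde M) ⊤ (show Γ(tilde M, ⊤) from (tilde.toOpen M ⊤).hom m)) := by
    rw [Adjunction.ofNatIsoRight_unit]
    rfl
  have h3 : (ModuleCat.Hom.hom ((moduleSpecΓFunctor (R := S) ⋙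
        ModuleCat.restrictScalars φ.hom).map ((tildePullbackIso φ).hom.app M)))
      ((ModuleCat.Hom.hom
        (((tilde.adjunction.comp (Scheme.Modules.pullbackPushforwardAdjunction
          (Spec.map φ))).ofNatIsoRight (pushΓIso φ)).unit.app M)) m) =
      (tilde.toOpen ((ModuleCat.extendScalars φ.hom).obj M) ⊤).hom ((1 : S) ⊗ₜ[R, φ.hom] m) :=
    h2.trans hR
  rw [hL] at h3
  have h4 : pullSLE (Spec.map φ) (tilde M) ⊤ ⊤ le_top
        (show Γ(tilde M, ⊤) from (tilde.toOpen M ⊤).hom m) =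
      pullS (Spec.map φ) (tilde M) ⊤ (show Γ(tilde M, ⊤) from (tilde.toOpen M ⊤).hom m) := by
    unfold pullSLE
    exact mres_self _ _
  rw [h4]
  exact h3


theorem chartIso_hom_eq :
    (chartIso h hU hW hWU G).hom =
      (Scheme.Modules.pullbackComp hW.fromSpec h).hom.app G ≫
      (Scheme.Modules.pullbackCongr
        (IsAffineOpen.SpecMap_appLE_fromSpec h hU hW hWU).symm).hom.app G ≫
      (Scheme.Modules.pullbackComp (Spec.map (h.appLE U W hWU)) hU.fromSpec).inv.app G ≫
      (Scheme.Modules.pullback (Spec.map (h.appLE U W hWU))).map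
        ((Scheme.Modules.restrictFunctorIsoPullback hU.fromSpec).inv.app G ≫
          (asIso (Scheme.Modules.fromTildeΓ (R := Γ(Y, U))
              ((Scheme.Modules.restrictFunctor hU.fromSpec).obj G))).inv) ≫
      (tildePullbackIso (h.appLE U W hWU)).hom.app ((ΓU hU).obj G) := by
  rfl


theorem natIso_hom_inv_apply {F F' : Y.Modules ⥤ X.Modules} (e : F ≅ F') (L : Y.Modules)
    (T : X.Opens) (z : Γ(F'.obj L, T)) :
    ((e.hom.app L).app T).hom (((e.inv.app L).app T).hom z) = z := by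
  have h1 : e.inv.app L ≫ e.hom.app L = 𝟙 _ := e.inv_hom_id_app L
  exact congrArg (fun k => (Scheme.Modules.Hom.app k T).hom z) h1

theorem natIso_inv_hom_apply {F F' : Y.Modules ⥤ X.Modules} (e : F ≅ F') (L : Y.Modules)
    (T : X.Opens) (z : Γ(F.obj L, T)) :
    ((e.inv.app L).app T).hom (((e.hom.app L).app T).hom z) = z := by
  have h1 : e.hom.app L ≫ e.inv.app L = 𝟙 _ := e.hom_inv_id_app L
  exact congrArg (fun k => (Scheme.Modules.Hom.app k T).hom z) h1

theorem top_le_fromSpec_preimage : (⊤ : (Spec Γ(X, W)).Opens) ≤ hW.fromSpec ⁻¹ᵁ W := by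
  rw [hW.fromSpec_preimage_self]

include hW hWU in
theorem top_le_comp_preimage :
    (⊤ : (Spec Γ(X, W)).Opens) ≤ (hW.fromSpec ≫ h) ⁻¹ᵁ U :=
  (top_le_fromSpec_preimage hW).trans (fun _ hx => hWU hx)

theorem stepA (x : Γ(G, U)) :
    (((Scheme.Modules.pullbackComp hW.fromSpec h).hom.app G).app ⊤).hom
      (pullSLE hW.fromSpec ((Scheme.Modules.pullback h).obj G) W ⊤ (top_le_fromSpec_preimage hW)
        (pullSLE h G U W hWU x)) =
    pullSLE (hW.fromSpec ≫ h) G U ⊤ (top_le_comp_preimage h hW hWU) x := by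
  rw [pullSLE_comp]
  exact natIso_hom_inv_apply _ _ _ _


include hU hW hWU in
theorem top_le_comp_preimage' :
    (⊤ : (Spec Γ(X, W)).Opens) ≤ (Spec.map (h.appLE U W hWU) ≫ hU.fromSpec) ⁻¹ᵁ U := by
  rw [IsAffineOpen.SpecMap_appLE_fromSpec h hU hW hWU]
  exact top_le_comp_preimage h hW hWU

omit [G.IsQuasicoherent] in
theorem stepB (x : Γ(G, U)) :
    (((Scheme.Modules.pullbackCongr
        (IsAffineOpen.SpecMap_appLE_fromSpec h hU hW hWU).symm).hom.app G).app ⊤).hom
      (pullSLE (hW.fromSpec ≫ h) G U ⊤ (top_le_comp_preimage h hW hWU) x) =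
    pullSLE (Spec.map (h.appLE U W hWU) ≫ hU.fromSpec) G U ⊤
      (top_le_comp_preimage' h hU hW hWU) x :=
  pullSLE_congr _ G U ⊤ _ x

omit [G.IsQuasicoherent] in
theorem stepC (x : Γ(G, U)) :
    (((Scheme.Modules.pullbackComp (Spec.map (h.appLE U W hWU)) hU.fromSpec).inv.app G).app ⊤).hom
      (pullSLE (Spec.map (h.appLE U W hWU) ≫ hU.fromSpec) G U ⊤
        (top_le_comp_preimage' h hU hW hWU) x) =
    pullSLE (Spec.map (h.appLE U W hWU)) ((Scheme.Modules.pullback hU.fromSpec).obj G) ⊤ ⊤ le_top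
      (pullSLE hU.fromSpec G U ⊤ (top_le_fromSpec_preimage hU) x) := by
  rw [pullSLE_comp]


omit [G.IsQuasicoherent] in
/-- E1+E2: under `restrictFunctorIsoPullback`, the unit for `fromSpec` is `sectionsFromSpecTopEquiv`. -/
theorem stepE1 (x : Γ(G, U)) :
    (((Scheme.Modules.restrictFunctorIsoPullback hU.fromSpec).inv.app G).app ⊤).hom
      (pullSLE hU.fromSpec G U ⊤ (top_le_fromSpec_preimage hU) x) =
    (sectionsFromSpecTopEquiv hU G).symm x := by
  rw [← pullSLE_openImmersion]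
  rw [natIso_inv_hom_apply]
  rfl

/-- E3: the inverse of `fromTildeΓ` on global sections is `toOpen`. -/
theorem stepE3 {R : CommRingCat.{u}} (F : (Spec R).Modules) [F.IsQuasicoherent]
    (y : Γ(F, ⊤)) :
    (((asIso (Scheme.Modules.fromTildeΓ (R := R) F)).inv).app ⊤).hom y =
      (show Γ(tilde ((modulesSpecToSheaf.obj F).presheaf.obj (.op ⊤)), ⊤) from
        (tilde.toOpen ((modulesSpecToSheaf.obj F).presheaf.obj (.op ⊤)) ⊤).hom y) := by
  have h1 := Scheme.Modules.toOpen_fromTildeΓ_app (R := R) F ⊤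
  have h2 := congrArg (fun k => k.hom y) h1
  have h3 : ((Scheme.Modules.fromTildeΓ (R := R) F).app ⊤).hom
      (show Γ(tilde ((modulesSpecToSheaf.obj F).presheaf.obj (.op ⊤)), ⊤) from
        (tilde.toOpen ((modulesSpecToSheaf.obj F).presheaf.obj (.op ⊤)) ⊤).hom y) = y := by
    refine Eq.trans ?_ (h2.trans ?_)
    · rfl
    · exact congrArg (fun k => k.hom y) ((modulesSpecToSheaf.obj F).1.map_id _)
  have h4 : (asIso (Scheme.Modules.fromTildeΓ (R := R) F)).hom ≫
      (asIso (Scheme.Modules.fromTildeΓ (R := R) F)).inv = 𝟙 _ := Iso.hom_inv_id _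
  have h5 := congrArg (fun k => (Scheme.Modules.Hom.app k ⊤).hom
    (show Γ(tilde ((modulesSpecToSheaf.obj F).presheaf.obj (.op ⊤)), ⊤) from
        (tilde.toOpen ((modulesSpecToSheaf.obj F).presheaf.obj (.op ⊤)) ⊤).hom y)) h4
  exact (congrArg (fun z => (((asIso (Scheme.Modules.fromTildeΓ (R := R) F)).inv).app ⊤).hom z)
    h3.symm).trans h5


theorem chartIso_pullSLE (x : Γ(G, U)) :
    (((chartIso h hU hW hWU G).hom).app ⊤).hom
      (pullSLE hW.fromSpec ((Scheme.Modules.pullback h).obj G) W ⊤ (top_le_fromSpec_preimage hW)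
        (pullSLE h G U W hWU x)) =
    (show Γ(tilde ((ModuleCat.extendScalars (h.appLE U W hWU).hom).obj ((ΓU hU).obj G)), ⊤) from
      (tilde.toOpen ((ModuleCat.extendScalars (h.appLE U W hWU).hom).obj ((ΓU hU).obj G)) ⊤).hom
        ((1 : Γ(X, W)) ⊗ₜ[Γ(Y, U), (h.appLE U W hWU).hom]
          (show ((ΓU hU).obj G) from (sectionsFromSpecTopEquiv hU G).symm x))) := by
  rw [chartIso_hom_eq]
  show (((tildePullbackIso (h.appLE U W hWU)).hom.app ((ΓU hU).obj G)).app ⊤).hom
    ((((Scheme.Modules.pullback (Spec.map (h.appLE U W hWU))).map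
        ((Scheme.Modules.restrictFunctorIsoPullback hU.fromSpec).inv.app G ≫
          (asIso (Scheme.Modules.fromTildeΓ (R := Γ(Y, U))
              ((Scheme.Modules.restrictFunctor hU.fromSpec).obj G))).inv)).app ⊤).hom
      ((((Scheme.Modules.pullbackComp (Spec.map (h.appLE U W hWU)) hU.fromSpec).inv.app G).app
          ⊤).hom
        ((((Scheme.Modules.pullbackCongr
          (IsAffineOpen.SpecMap_appLE_fromSpec h hU hW hWU).symm).hom.app G).app ⊤).hom
          ((((Scheme.Modules.pullbackComp hW.fromSpec h).hom.app G).app ⊤).hom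
            (pullSLE hW.fromSpec ((Scheme.Modules.pullback h).obj G) W ⊤
              (top_le_fromSpec_preimage hW) (pullSLE h G U W hWU x)))))) = _
  rw [stepA, stepB (hW := hW), stepC (hW := hW), pullSLE_naturality]
  have hE : (((Scheme.Modules.restrictFunctorIsoPullback hU.fromSpec).inv.app G ≫
      (asIso (Scheme.Modules.fromTildeΓ (R := Γ(Y, U))
        ((Scheme.Modules.restrictFunctor hU.fromSpec).obj G))).inv).app ⊤).hom
      (pullSLE hU.fromSpec G U ⊤ (top_le_fromSpec_preimage hU) x) =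
      (show Γ(tilde ((ΓU hU).obj G), ⊤) from
        (tilde.toOpen ((ΓU hU).obj G) ⊤).hom
          (show ((ΓU hU).obj G) from (sectionsFromSpecTopEquiv hU G).symm x)) := by
    show (((asIso (Scheme.Modules.fromTildeΓ (R := Γ(Y, U))
        ((Scheme.Modules.restrictFunctor hU.fromSpec).obj G))).inv).app ⊤).hom
      ((((Scheme.Modules.restrictFunctorIsoPullback hU.fromSpec).inv.app G).app ⊤).hom
        (pullSLE hU.fromSpec G U ⊤ (top_le_fromSpec_preimage hU) x)) = _
    rw [stepE1, stepE3]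
    rfl
  rw [hE]
  exact tildePullbackIso_unit (h.appLE U W hWU) ((ΓU hU).obj G) _


theorem sectionsIso_pullSLE (x : Γ(G, U)) :
    (sectionsIso h hU hW hWU G).hom.hom
      (show ((ΓU hW).obj ((Scheme.Modules.pullback h).obj G)) from
        (sectionsFromSpecTopEquiv hW ((Scheme.Modules.pullback h).obj G)).symm
          (pullSLE h G U W hWU x)) =
    ((1 : Γ(X, W)) ⊗ₜ[Γ(Y, U), (h.appLE U W hWU).hom]
      (show ((ΓU hU).obj G) from (sectionsFromSpecTopEquiv hU G).symm x)) := by
  have h1 : (((Scheme.Modules.restrictFunctorIsoPullback hW.fromSpec).hom.app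
      ((Scheme.Modules.pullback h).obj G)).app ⊤).hom
      (show Γ(((Scheme.Modules.pullback h).obj G).restrict hW.fromSpec, ⊤) from
        (sectionsFromSpecTopEquiv hW ((Scheme.Modules.pullback h).obj G)).symm
          (pullSLE h G U W hWU x)) =
      pullSLE hW.fromSpec ((Scheme.Modules.pullback h).obj G) W ⊤ (top_le_fromSpec_preimage hW)
        (pullSLE h G U W hWU x) := by
    rw [← pullSLE_openImmersion hW.fromSpec]
    rfl
  have h2 := chartIso_pullSLE h hU hW hWU G x
  rw [← h1] at h2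
  have h3 : (tilde.toTildeΓNatIso.app
      ((ModuleCat.extendScalars (h.appLE U W hWU).hom).obj ((ΓU hU).obj G))).hom ≫
      (tilde.toTildeΓNatIso.app
      ((ModuleCat.extendScalars (h.appLE U W hWU).hom).obj ((ΓU hU).obj G))).inv = 𝟙 _ :=
    Iso.hom_inv_id _
  have h4 := congrArg (fun k => k.hom ((1 : Γ(X, W)) ⊗ₜ[Γ(Y, U), (h.appLE U W hWU).hom]
      (show ((ΓU hU).obj G) from (sectionsFromSpecTopEquiv hU G).symm x))) h3
  refine Eq.trans ?_ h4
  show (tilde.toTildeΓNatIso.app
      ((ModuleCat.extendScalars (h.appLE U W hWU).hom).obj ((ΓU hU).obj G))).inv.hom _ =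
    (tilde.toTildeΓNatIso.app
      ((ModuleCat.extendScalars (h.appLE U W hWU).hom).obj ((ΓU hU).obj G))).inv.hom _
  congr 1


include hU hW in
/-- **Unit on charts is a base change.**  For affine opens `U ⊆ Y`, `W ⊆ h⁻¹ U` and `G`
quasi-coherent, the canonical map `Γ(G, U) → Γ(h^* G, W)` (unit of the adjunction, then
restriction) exhibits `Γ(h^* G, W)` as the base change of `Γ(G, U)` along `Γ(Y, U) → Γ(X, W)`. -/
theorem exists_isBaseChange_pullSLE :
    letI := (h.appLE U W hWU).hom.toAlgebra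
    letI : Module Γ(Y, U) Γ((Scheme.Modules.pullback h).obj G, W) :=
      Module.compHom _ (h.appLE U W hWU).hom
    haveI : IsScalarTower Γ(Y, U) Γ(X, W) Γ((Scheme.Modules.pullback h).obj G, W) :=
      IsScalarTower.of_compHom _ _ _
    ∃ f : Γ(G, U) →ₗ[Γ(Y, U)] Γ((Scheme.Modules.pullback h).obj G, W),
      (∀ x, f x = pullSLE h G U W hWU x) ∧ IsBaseChange Γ(X, W) f := by
  letI := (h.appLE U W hWU).hom.toAlgebra
  letI : Module Γ(Y, U) Γ((Scheme.Modules.pullback h).obj G, W) :=
    Module.compHom _ (h.appLE U W hWU).hom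
  haveI : IsScalarTower Γ(Y, U) Γ(X, W) Γ((Scheme.Modules.pullback h).obj G, W) :=
    IsScalarTower.of_compHom _ _ _
  let eU := sectionsFromSpecTopEquiv hU G
  let eW := sectionsFromSpecTopEquiv hW ((Scheme.Modules.pullback h).obj G)
  let sI := (sectionsIso h hU hW hWU G).toLinearEquiv
  let e : Γ(X, W) ⊗[Γ(Y, U)] Γ(G, U) ≃ₗ[Γ(X, W)] Γ((Scheme.Modules.pullback h).obj G, W) :=
    (TensorProduct.AlgebraTensorModule.congr (LinearEquiv.refl Γ(X, W) Γ(X, W)) eU.symm) ≪≫ₗ
      (extEquiv (h.appLE U W hWU).hom ((ΓU hU).obj G)).symm ≪≫ₗ sI.symm ≪≫ₗ eW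
  let f : Γ(G, U) →ₗ[Γ(Y, U)] Γ((Scheme.Modules.pullback h).obj G, W) :=
    { toFun := pullSLE h G U W hWU
      map_add' := pullSLE_add h G U W hWU
      map_smul' := fun r x => by
        rw [pullSLE_smul]
        rfl }
  have he : ∀ x, e (1 ⊗ₜ x) = f x := fun x => by
    have h1 := sectionsIso_pullSLE h hU hW hWU G x
    show eW (sI.symm _) = pullSLE h G U W hWU x
    apply eW.symm.injective
    rw [LinearEquiv.symm_apply_apply]
    apply sI.injective
    rw [LinearEquiv.apply_symm_apply]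
    exact h1.symm
  exact ⟨f, fun x => rfl, IsBaseChange.of_equiv e he⟩


end Chart

end Groth.Agent.Lib.Helper49.UnitChart
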