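import Mathlib
import Groth.Agent.Lib.Helper49.FinLocFreeSections
/-!
# `M~` is finite locally free iff `M` is finite projective

* `finite_iff_of_surjective_algebraMap`, `projective_iff_of_bijective_algebraMap`: transfer of
  finiteness / projectivity of a module along a bijective `algebraMap`.
* `algebraMap_Spec_top_bijective`.
* `isFinLocFree_tilde_iff`.
-/
universe u
open CategoryTheory CategoryTheory.Limits AlgebraicGeometry TopologicalSpace

namespace Groth.Agent.Lib.Helper49

theorem finite_iff_of_surjective_algebraMap {R A M : Type*} [CommRing R] [CommRing A]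
    [Algebra R A] [AddCommGroup M] [Module R M] [Module A M] [IsScalarTower R A M]
    (h : Function.Surjective (algebraMap R A)) : Module.Finite R M ↔ Module.Finite A M := by
  constructor
  · intro _
    exact Module.Finite.of_restrictScalars_finite R A M
  · intro _
    have : Module.Finite R A := Module.Finite.of_surjective (Algebra.linearMap R A) h
    exact Module.Finite.trans A M

section

attribute [local instance] RingHomInvPair.of_ringEquiv RingHomInvPair.of_ringEquiv_symm

theorem projective_iff_of_bijective_algebraMap {R A M : Type*} [CommRing R] [CommRing A]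
    [Algebra R A] [AddCommGroup M] [Module R M] [Module A M] [IsScalarTower R A M]
    (h : Function.Bijective (algebraMap R A)) :
    Module.Projective R M ↔ Module.Projective A M := by
  let σ : R ≃+* A := RingEquiv.ofBijective (algebraMap R A) h
  let e₂ : M ≃ₛₗ[(σ : R →+* A)] M :=
    { toFun := id
      invFun := id
      map_add' := fun _ _ => rfl
      map_smul' := fun r m => (algebraMap_smul A r m).symm
      left_inv := fun _ => rfl
      right_inv := fun _ => rfl }
  constructor
  · intro _
    exact Module.Projective.of_equiv e₂
  · intro _
    exact Module.Projective.of_equiv e₂.symm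

end

theorem algebraMap_Spec_top_bijective (R : CommRingCat.{u}) :
    Function.Bijective (algebraMap R Γ(Spec R, ⊤)) := by
  rw [IsAffineOpen.algebraMap_Spec_obj]
  have h : (homOfLE (le_top : (⊤ : (Spec R).Opens) ≤ ⊤)) = 𝟙 _ := Subsingleton.elim _ _
  rw [h, op_id, CategoryTheory.Functor.map_id, Category.comp_id]
  exact (ConcreteCategory.isIso_iff_bijective (Scheme.ΓSpecIso R).inv).mp inferInstance

/-- `M~` is finite locally free iff `M` is finite projective. -/
theorem isFinLocFree_tilde_iff {R : CommRingCat.{u}} (M : ModuleCat.{u} R) :
    FlatMod.IsFinLocFree (tilde M) ↔ Module.Finite R M ∧ Module.Projective R M := by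
  have hbij := algebraMap_Spec_top_bijective R
  have e : M ≃ₗ[R] Γ(tilde M, (⊤ : (Spec R).Opens)) := (tilde.isoTop M).toLinearEquiv
  have hfin : Module.Finite R M ↔ Module.Finite Γ(Spec R, ⊤) Γ(tilde M, (⊤ : (Spec R).Opens)) :=
    (Module.Finite.equiv_iff e).trans (finite_iff_of_surjective_algebraMap hbij.2)
  have hproj : Module.Projective R M ↔
      Module.Projective Γ(Spec R, ⊤) Γ(tilde M, (⊤ : (Spec R).Opens)) :=
    ⟨fun _ => (projective_iff_of_bijective_algebraMap hbij).mp (Module.Projective.of_equiv' e),
      fun h => by
        have := (projective_iff_of_bijective_algebraMap hbij).mpr h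
        exact Module.Projective.of_equiv' e.symm⟩
  rw [hfin, hproj]
  constructor
  · intro h
    exact finite_projective_sections_of_isFinLocFree (tilde M) h (isAffineOpen_top (Spec R))
  · intro h
    exact isFinLocFree_of_finite_projective_cover (tilde M) fun x =>
      ⟨⊤, isAffineOpen_top (Spec R), trivial, h⟩

end Groth.Agent.Lib.Helper49
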