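import Mathlib
/-!
# Gluing morphisms of `O_X`-modules from a basis of opens

`LocalHom M N B`: a family of additive maps `φ_V : Γ(M, V) → Γ(N, V)` for `V` in a set `B` of opens,
linear over `Γ(X, V)` and compatible with restriction between members of `B`.
`LocalHom.glue`: for `B` a basis, the morphism `M ⟶ N` of `O_X`-modules with these components,
and `LocalHom.glue_app`.
-/

set_option autoImplicit false
universe u
open CategoryTheory AlgebraicGeometry TopologicalSpace Opposite

namespace Groth.Agent.Lib.Helper49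

namespace ModGlue

variable {X : Scheme.{u}}

/-- restriction of sections of an `O_X`-module -/
noncomputable abbrev res (M : X.Modules) {U V : X.Opens} (h : V ≤ U) : Γ(M, U) →+ Γ(M, V) :=
  (M.presheaf.map (homOfLE h).op).hom

lemma res_res (M : X.Modules) {U V W : X.Opens} (h : V ≤ U) (h' : W ≤ V) (t : Γ(M, U)) :
    res M h' (res M h t) = res M (h'.trans h) t := by
  simp only [res]
  rw [← AddCommGrpCat.comp_apply, ← Functor.map_comp]
  rfl

lemma res_smul (M : X.Modules) {U V : X.Opens} (h : V ≤ U) (r : Γ(X, U)) (t : Γ(M, U)) :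
    res M h (r • t) = (X.presheaf.map (homOfLE h).op).hom r • res M h t :=
  Scheme.Modules.map_smul M (homOfLE h) r t

/-- two sections of `N` over `U` agreeing on all members of a basis contained in `U` are equal -/
lemma eq_of_basis {B : Set X.Opens} (hB : Opens.IsBasis B) (N : X.Modules) {U : X.Opens}
    (s t : Γ(N, U)) (h : ∀ V : B, ∀ hV : V.1 ≤ U, res N hV s = res N hV t) : s = t := by
  refine TopCat.Sheaf.eq_of_locally_eq' ⟨N.presheaf, N.isSheaf⟩
    (fun V : {V : B // V.1 ≤ U} => V.1.1) U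
    (fun V => homOfLE V.2) ?_ s t (fun V => h V.1 V.2)
  intro y hy
  obtain ⟨V, hVB, hyV, hVU⟩ := (Opens.isBasis_iff_nbhd.mp hB) hy
  exact Opens.mem_iSup.mpr ⟨⟨⟨V, hVB⟩, hVU⟩, hyV⟩

end ModGlue

open ModGlue

/-- local linear maps on a set of opens, compatible with restriction -/
structure LocalHom {X : Scheme.{u}} (M N : X.Modules) (B : Set X.Opens) where
  /-- the maps on members of `B` -/
  φ : ∀ V : B, Γ(M, V.1) →+ Γ(N, V.1)
  smul : ∀ (V : B) (r : Γ(X, V.1)) (s : Γ(M, V.1)), φ V (r • s) = r • φ V s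
  compat : ∀ (V W : B) (h : W.1 ≤ V.1) (s : Γ(M, V.1)), res N h (φ V s) = φ W (res M h s)

namespace LocalHom

variable {X : Scheme.{u}} {M N : X.Modules} {B : Set X.Opens} (L : LocalHom M N B)

lemma exists_glue (hB : Opens.IsBasis B) (U : X.Opens) (s : Γ(M, U)) :
    ∃ t : Γ(N, U), ∀ V : B, ∀ hV : V.1 ≤ U, res N hV t = L.φ V (res M hV s) := by
  let ι := {V : B // V.1 ≤ U}
  let sf : ∀ V : ι, Γ(N, V.1.1) := fun V => L.φ V.1 (res M V.2 s)
  have hcompat : TopCat.Presheaf.IsCompatible N.presheaf (fun V : ι => V.1.1) sf := by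
    intro V V'
    refine eq_of_basis hB N _ _ (fun W hW => ?_)
    have hWV : W.1 ≤ V.1.1 := hW.trans inf_le_left
    have hWV' : W.1 ≤ V'.1.1 := hW.trans inf_le_right
    have e1 : res N hW ((N.presheaf.map (Opens.infLELeft V.1.1 V'.1.1).op).hom (sf V)) =
        res N hWV (sf V) := res_res N inf_le_left hW (sf V)
    have e2 : res N hW ((N.presheaf.map (Opens.infLERight V.1.1 V'.1.1).op).hom (sf V')) =
        res N hWV' (sf V') := res_res N inf_le_right hW (sf V')
    refine e1.trans (Eq.trans ?_ e2.symm)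
    simp only [sf]
    rw [L.compat V.1 W hWV, L.compat V'.1 W hWV', res_res, res_res]
  obtain ⟨t, ht, -⟩ := TopCat.Sheaf.existsUnique_gluing' ⟨N.presheaf, N.isSheaf⟩
    (fun V : ι => V.1.1) U
    (fun V => homOfLE V.2) (by
      intro y hy
      obtain ⟨V, hVB, hyV, hVU⟩ := (Opens.isBasis_iff_nbhd.mp hB) hy
      exact Opens.mem_iSup.mpr ⟨⟨⟨V, hVB⟩, hVU⟩, hyV⟩) sf hcompat
  exact ⟨t, fun V hV => ht ⟨V, hV⟩⟩

/-- the glued map as a function -/
noncomputable def glueFun (hB : Opens.IsBasis B) (U : X.Opens) (s : Γ(M, U)) : Γ(N, U) :=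
  (L.exists_glue hB U s).choose

lemma glueFun_spec (hB : Opens.IsBasis B) (U : X.Opens) (s : Γ(M, U)) (V : B)
    (hV : V.1 ≤ U) : res N hV (L.glueFun hB U s) = L.φ V (res M hV s) :=
  (L.exists_glue hB U s).choose_spec V hV

lemma glueFun_eq (hB : Opens.IsBasis B) (U : X.Opens) (s : Γ(M, U)) (t : Γ(N, U))
    (ht : ∀ V : B, ∀ hV : V.1 ≤ U, res N hV t = L.φ V (res M hV s)) :
    L.glueFun hB U s = t :=
  eq_of_basis hB N _ _ (fun V hV => (L.glueFun_spec hB U s V hV).trans (ht V hV).symm)

/-- the glued additive map -/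
noncomputable def glueAdd (hB : Opens.IsBasis B) (U : X.Opens) : Γ(M, U) →+ Γ(N, U) where
  toFun := L.glueFun hB U
  map_zero' := L.glueFun_eq hB U 0 0 (fun V hV => by rw [map_zero, map_zero, map_zero])
  map_add' s t := L.glueFun_eq hB U (s + t) _ (fun V hV => by
    rw [map_add, map_add, map_add, L.glueFun_spec, L.glueFun_spec])

lemma glueAdd_smul (hB : Opens.IsBasis B) (U : X.Opens) (r : Γ(X, U)) (s : Γ(M, U)) :
    L.glueAdd hB U (r • s) = r • L.glueAdd hB U s := by
  refine L.glueFun_eq hB U _ _ (fun V hV => ?_)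
  rw [res_smul, res_smul, L.smul]
  exact congrArg _ (L.glueFun_spec hB U s V hV)

lemma glueAdd_res (hB : Opens.IsBasis B) {U V : X.Opens} (h : V ≤ U) (s : Γ(M, U)) :
    L.glueAdd hB V (res M h s) = res N h (L.glueAdd hB U s) := by
  refine L.glueFun_eq hB V _ _ (fun W hW => ?_)
  rw [res_res, res_res]
  exact L.glueFun_spec hB U s W (hW.trans h)

lemma glueAdd_basis (hB : Opens.IsBasis B) (V : B) (s : Γ(M, V.1)) :
    L.glueAdd hB V.1 s = L.φ V s := by
  refine L.glueFun_eq hB V.1 _ _ (fun W hW => ?_)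
  exact L.compat V W hW s

/-- the glued morphism of abelian presheaves -/
noncomputable def gluePresheaf (hB : Opens.IsBasis B) : M.presheaf ⟶ N.presheaf where
  app U := AddCommGrpCat.ofHom (L.glueAdd hB U.unop)
  naturality U V i := by
    ext s
    exact L.glueAdd_res hB (leOfHom i.unop) s

/-- the glued morphism of `O_X`-modules -/
noncomputable def glue (hB : Opens.IsBasis B) : M ⟶ N :=
  ⟨PresheafOfModules.homMk (L.gluePresheaf hB) (fun U r m => L.glueAdd_smul hB U.unop r m)⟩

lemma glue_app (hB : Opens.IsBasis B) (V : B) (s : Γ(M, V.1)) :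
    (L.glue hB).app V.1 s = L.φ V s :=
  L.glueAdd_basis hB V s

lemma glue_val_app (hB : Opens.IsBasis B) (V : B) (s : M.val.obj (op V.1)) :
    ((L.glue hB).val.app (op V.1)).hom s = L.φ V s :=
  L.glueAdd_basis hB V s

end LocalHom

end Groth.Agent.Lib.Helper49
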