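import Mathlib
import Groth.Agent.Lib.Helper49.FinLocFreeSections
import Groth.Agent.Lib.Helper49.PushforwardFinite
/-!
# `f` is finite, flat and locally of finite presentation iff `f` is affine and `f_* O_X` is
finite locally free
-/
universe u
open CategoryTheory CategoryTheory.Limits AlgebraicGeometry TopologicalSpace

namespace Groth.Agent.Lib.Helper49

variable {X S : Scheme.{u}} (f : X ⟶ S)

/-- Sections of `f_* O_X` over `V` are `Γ(X, f⁻¹V)` as a `Γ(S, V)`-module through `f.app V`. -/
noncomputable def sectionsPushforwardUnitEquiv (V : S.Opens) :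
    letI : Algebra Γ(S, V) Γ(X, f ⁻¹ᵁ V) := (f.app V).hom.toAlgebra
    Γ((Scheme.Modules.pushforward f).obj (Coh.structureModule X), V) ≃ₗ[Γ(S, V)]
      Γ(X, f ⁻¹ᵁ V) :=
  letI : Algebra Γ(S, V) Γ(X, f ⁻¹ᵁ V) := (f.app V).hom.toAlgebra
  { toFun := fun m => m
    invFun := fun m => m
    map_add' := fun _ _ => rfl
    map_smul' := fun a m => Helper45.pushforward_smul f (Coh.structureModule X) V a m
    left_inv := fun _ => rfl
    right_inv := fun _ => rfl }

/-- Finite projective sections of `f_* O_X` over `V` versus the ring map `f.app V` being finite,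
flat and of finite presentation. -/
theorem finite_projective_sections_pushforward_unit_iff (V : S.Opens) :
    (Module.Finite Γ(S, V) Γ((Scheme.Modules.pushforward f).obj (Coh.structureModule X), V) ∧
      Module.Projective Γ(S, V)
        Γ((Scheme.Modules.pushforward f).obj (Coh.structureModule X), V)) ↔
      (f.app V).hom.Finite ∧ (f.app V).hom.Flat ∧ (f.app V).hom.FinitePresentation := by
  let _ : Algebra Γ(S, V) Γ(X, f ⁻¹ᵁ V) := (f.app V).hom.toAlgebra
  have e := sectionsPushforwardUnitEquiv f V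
  constructor
  · rintro ⟨h1, h2⟩
    have h1' : Module.Finite Γ(S, V) Γ(X, f ⁻¹ᵁ V) := Module.Finite.equiv e
    have h2' : Module.Projective Γ(S, V) Γ(X, f ⁻¹ᵁ V) := Module.Projective.of_equiv' e
    have h3 : Module.FinitePresentation Γ(S, V) Γ(X, f ⁻¹ᵁ V) :=
      Module.finitePresentation_of_projective _ _
    refine ⟨h1', ?_, ?_⟩
    · change Module.Flat Γ(S, V) Γ(X, f ⁻¹ᵁ V)
      infer_instance
    · change Algebra.FinitePresentation Γ(S, V) Γ(X, f ⁻¹ᵁ V)
      infer_instance
  · rintro ⟨h1, h2, h3⟩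
    have h1' : Module.Finite Γ(S, V) Γ(X, f ⁻¹ᵁ V) := h1
    have h2' : Module.Flat Γ(S, V) Γ(X, f ⁻¹ᵁ V) := h2
    have h3' : Algebra.FinitePresentation Γ(S, V) Γ(X, f ⁻¹ᵁ V) := h3
    have h4 : Module.FinitePresentation Γ(S, V) Γ(X, f ⁻¹ᵁ V) :=
      Module.FinitePresentation.of_finite_of_finitePresentation _ _
    have h5 : Module.Projective Γ(S, V) Γ(X, f ⁻¹ᵁ V) :=
      Module.Flat.projective_of_finitePresentation
    exact ⟨Module.Finite.equiv e.symm, Module.Projective.of_equiv' e.symm⟩

/-- For an affine morphism, flatness can be checked on the maps `f.app V`, `V` affine. -/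
theorem flat_of_app_of_isAffineHom [IsAffineHom f]
    (h : ∀ V : S.affineOpens, (f.app V.1).hom.Flat) : Flat f := by
  rw [HasRingHomProperty.iff_appLE (P := @Flat)]
  intro U V e
  have hU : IsAffineOpen (f ⁻¹ᵁ U.1) := U.2.preimage f
  have h1 : (f.app U.1).hom.Flat := h U
  have h2 : ((𝟙 X : X ⟶ X).appLE (f ⁻¹ᵁ U.1) V.1 e).hom.Flat :=
    HasRingHomProperty.appLE (P := @Flat) (𝟙 X) inferInstance ⟨_, hU⟩ V e
  have h3 : f.appLE U.1 V.1 e = f.app U.1 ≫ (𝟙 X : X ⟶ X).appLE (f ⁻¹ᵁ U.1) V.1 e := by
    simp only [Scheme.Hom.appLE, Scheme.Hom.id_app]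
    erw [Category.id_comp]
    rfl
  rw [h3, CommRingCat.hom_comp]
  exact RingHom.Flat.comp h1 h2

/-- For an affine morphism, local finite presentation can be checked on the maps `f.app V`,
`V` affine. -/
theorem locallyOfFinitePresentation_of_app_of_isAffineHom [IsAffineHom f]
    (h : ∀ V : S.affineOpens, (f.app V.1).hom.FinitePresentation) :
    LocallyOfFinitePresentation f := by
  rw [HasRingHomProperty.iff_appLE (P := @LocallyOfFinitePresentation)]
  intro U V e
  have hU : IsAffineOpen (f ⁻¹ᵁ U.1) := U.2.preimage f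
  have h1 : (f.app U.1).hom.FinitePresentation := h U
  have h2 : ((𝟙 X : X ⟶ X).appLE (f ⁻¹ᵁ U.1) V.1 e).hom.FinitePresentation :=
    HasRingHomProperty.appLE (P := @LocallyOfFinitePresentation) (𝟙 X) inferInstance
      ⟨_, hU⟩ V e
  have h3 : f.appLE U.1 V.1 e = f.app U.1 ≫ (𝟙 X : X ⟶ X).appLE (f ⁻¹ᵁ U.1) V.1 e := by
    simp only [Scheme.Hom.appLE, Scheme.Hom.id_app]
    erw [Category.id_comp]
    rfl
  rw [h3, CommRingCat.hom_comp]
  exact RingHom.FinitePresentation.comp h2 h1

/-- `f` is affine with `f_* O_X` finite locally free iff `f` is finite, flat and locally of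
finite presentation. -/
theorem isAffineHom_and_isFinLocFree_pushforward_iff :
    (IsAffineHom f ∧
      FlatMod.IsFinLocFree ((Scheme.Modules.pushforward f).obj (Coh.structureModule X))) ↔
      IsFinite f ∧ Flat f ∧ LocallyOfFinitePresentation f := by
  constructor
  · rintro ⟨haff, hflf⟩
    have hq := isQuasicoherent_of_isFinLocFree _ hflf
    have key : ∀ V : S.affineOpens,
        (f.app V.1).hom.Finite ∧ (f.app V.1).hom.Flat ∧ (f.app V.1).hom.FinitePresentation :=
      fun V => (finite_projective_sections_pushforward_unit_iff f V.1).mp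
        (finite_projective_sections_of_isFinLocFree _ hflf V.2)
    refine ⟨?_, ?_, ?_⟩
    · exact (isFinite_iff f).mpr ⟨haff, fun U hU => (key ⟨U, hU⟩).1⟩
    · exact flat_of_app_of_isAffineHom f fun V => (key V).2.1
    · exact locallyOfFinitePresentation_of_app_of_isAffineHom f fun V => (key V).2.2
  · rintro ⟨hfin, hflat, hfp⟩
    refine ⟨inferInstance, ?_⟩
    have hq0 : (Coh.structureModule X).IsQuasicoherent := Helper45.isQuasicoherent_structureModule X
    have hq : ((Scheme.Modules.pushforward f).obj (Coh.structureModule X)).IsQuasicoherent :=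
      isQuasicoherent_pushforward (Coh.structureModule X) f
    refine (isFinLocFree_iff_sections _).mpr fun V => ?_
    refine (finite_projective_sections_pushforward_unit_iff f V.1).mpr ⟨?_, ?_, ?_⟩
    · exact IsFinite.finite_app f V.1 V.2
    · have := HasRingHomProperty.appLE (P := @Flat) f hflat V ⟨_, V.2.preimage f⟩ le_rfl
      rwa [Scheme.Hom.appLE_eq_app] at this
    · have := HasRingHomProperty.appLE (P := @LocallyOfFinitePresentation) f hfp V
        ⟨_, V.2.preimage f⟩ le_rfl
      rwa [Scheme.Hom.appLE_eq_app] at this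

end Groth.Agent.Lib.Helper49
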