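import Mathlib
import Groth.Agent.Lib.Helper49.PushforwardFinLocFree
import Groth.Prelude.Def_Mor2
universe u
open CategoryTheory CategoryTheory.Limits AlgebraicGeometry TopologicalSpace

namespace Groth.Agent.Lib.Helper49

variable {X Y : Scheme.{u}} (f : X ⟶ Y)

theorem exists_finrank_eq [IsFinite f] [Flat f] {W : Y.Opens} (hW : IsAffineOpen W) (y : Y)
    (hy : y ∈ W) :
    ∃ p : PrimeSpectrum Γ(Y, W), f.finrank y = (f.app W).hom.finrank p := by
  have hpb := isPullback_morphismRestrict f W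
  have hfin : IsFinite (f ∣_ W) := MorphismProperty.of_isPullback hpb.flip inferInstance
  have hflat : Flat (f ∣_ W) := MorphismProperty.of_isPullback hpb.flip inferInstance
  have h1 := Scheme.Hom.finrank_of_isPullback _ _ f W.ι hpb.flip ⟨y, hy⟩
  have hWa : IsAffine (W : Scheme.{u}) := hW
  have hUa : IsAffine ((f ⁻¹ᵁ W : X.Opens) : Scheme.{u}) := hW.preimage f
  have hsq : IsPullback (Scheme.isoSpec _).hom (f ∣_ W) (Spec.map (f ∣_ W).appTop)
      (Scheme.isoSpec _).hom :=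
    IsPullback.of_horiz_isIso ⟨Scheme.isoSpec_hom_naturality (f ∣_ W)⟩
  have hfin' : IsFinite (Spec.map (f ∣_ W).appTop) :=
    (IsFinite.SpecMap_iff _).mpr (f ∣_ W).finite_appTop
  have hflat' : Flat (Spec.map (f ∣_ W).appTop) :=
    Flat.SpecMap_iff.mpr (f ∣_ W).flat_appTop
  have h2 := Scheme.Hom.finrank_of_isPullback _ _ _ _ hsq ⟨y, hy⟩
  rw [Scheme.Hom.finrank_SpecMap_eq_finrank (f ∣_ W).finite_appTop (f ∣_ W).flat_appTop] at h2
  have hb1 : (f.app W).hom.Finite := IsFinite.finite_app f W hW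
  have hb2 : (f.app W).hom.Flat := by
    have := HasRingHomProperty.appLE (P := @Flat) f inferInstance ⟨W, hW⟩ ⟨_, hW.preimage f⟩ le_rfl
    rwa [Scheme.Hom.appLE_eq_app] at this
  have happ : (f ∣_ W).appTop = W.topIso.hom ≫ f.app W ≫ (f ⁻¹ᵁ W).topIso.inv := by
    rw [Scheme.Hom.appTop, ← Scheme.Hom.resLE_eq_morphismRestrict, Scheme.Hom.resLE_app_top,
      Scheme.Hom.appLE_eq_app]
  have ha : Function.Bijective W.topIso.hom.hom :=
    ConcreteCategory.bijective_of_isIso W.topIso.hom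
  have hc : Function.Bijective (f ⁻¹ᵁ W).topIso.inv.hom :=
    ConcreteCategory.bijective_of_isIso (f ⁻¹ᵁ W).topIso.inv
  have h1' : Scheme.Hom.finrank (f ∣_ W) ⟨y, hy⟩ = Scheme.Hom.finrank f y := h1
  set q : PrimeSpectrum Γ((W : Scheme.{u}), ⊤) := (Scheme.isoSpec (W : Scheme.{u})).hom ⟨y, hy⟩ with hq
  refine ⟨PrimeSpectrum.comap W.topIso.inv.hom q, ?_⟩
  rw [← h1', h2, happ]
  have e1 : (W.topIso.hom ≫ f.app W ≫ (f ⁻¹ᵁ W).topIso.inv).hom =
      (((f ⁻¹ᵁ W).topIso.inv.hom).comp (f.app W).hom).comp W.topIso.hom.hom := rfl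
  rw [e1]
  rw [RingHom.finrank_comp_right_of_bijective W.topIso.hom.hom
    (((f ⁻¹ᵁ W).topIso.inv.hom).comp (f.app W).hom) ha
    (RingHom.Finite.comp (RingHom.Finite.of_surjective _ hc.2) hb1)
    (RingHom.Flat.comp hb2 (RingHom.Flat.of_bijective hc)) q
    (PrimeSpectrum.comap W.topIso.inv.hom q) ?_]
  · exact RingHom.finrank_comp_left_of_bijective _ _ hc hb1 hb2 _
  · rw [← PrimeSpectrum.comap_comp_apply]
    have : (W.topIso.inv.hom).comp W.topIso.hom.hom = RingHom.id _ := by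
      rw [← CommRingCat.hom_comp, Iso.hom_inv_id]; rfl
    rw [this]; rfl

/-- If `f` is finite flat and `f_* O_X` is free of rank `n` over an affine open `W`, then the rank
of `f` at the points of `W` is `n`. -/
theorem finrank_eq_of_iso_free [IsFinite f] [Flat f] {W : Y.Opens} (hW : IsAffineOpen W) (n : ℕ)
    (e : ((Scheme.Modules.pushforward f).obj (Coh.structureModule X)).restrict W.ι ≅
      FlatMod.freeMod (↑W) n) (y : Y) (hy : y ∈ W) :
    f.finrank y = n := by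
  obtain ⟨p, hp⟩ := exists_finrank_eq f hW y hy
  rw [hp]
  let _ : Algebra Γ(Y, W) Γ(X, f ⁻¹ᵁ W) := (f.app W).hom.toAlgebra
  have e1 : Γ(X, f ⁻¹ᵁ W) ≃ₗ[Γ(Y, W)] (Fin n → Γ(Y, W)) :=
    (sectionsPushforwardUnitEquiv f W).symm.trans (sectionsEquivOfIsoFree _ n e)
  have : Nontrivial Γ(Y, W) := p.nontrivial
  change Module.rankAtStalk (R := Γ(Y, W)) Γ(X, f ⁻¹ᵁ W) p = n
  rw [Module.rankAtStalk_eq_of_equiv e1, Module.rankAtStalk_eq_finrank_of_free]
  simp

/-- `f` is finite locally free of degree `d` iff `f` is affine and `f_* O_X` is locally free of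
rank `d`. -/
theorem isFinLocFreeOfDeg_iff (d : ℕ) :
    Mor2.IsFinLocFreeOfDeg d f ↔
      IsAffineHom f ∧ FlatMod.IsFinLocFreeOfRank d
        ((Scheme.Modules.pushforward f).obj (Coh.structureModule X)) := by
  constructor
  · rintro ⟨⟨hfin, hflat, hfp⟩, hrank⟩
    obtain ⟨haff, hflf⟩ := (isAffineHom_and_isFinLocFree_pushforward_iff f).mpr ⟨hfin, hflat, hfp⟩
    refine ⟨haff, fun y => ?_⟩
    obtain ⟨U, n, hyU, ⟨e⟩⟩ := hflf y
    obtain ⟨_, ⟨W, hW : IsAffineOpen W, rfl⟩, hyW, hWU⟩ :=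
      Y.isBasis_affineOpens.exists_subset_of_mem_open hyU U.2
    have hWU' : W ≤ U := hWU
    have hn := finrank_eq_of_iso_free f hW n (isoFreeOfLE hWU' _ n e) y hyW
    rw [hrank y] at hn
    subst hn
    exact ⟨U, hyU, ⟨e⟩⟩
  · rintro ⟨haff, hrk⟩
    have hflf : FlatMod.IsFinLocFree
        ((Scheme.Modules.pushforward f).obj (Coh.structureModule X)) := fun y => by
      obtain ⟨U, hyU, he⟩ := hrk y
      exact ⟨U, d, hyU, he⟩
    obtain ⟨hfin, hflat, hfp⟩ := (isAffineHom_and_isFinLocFree_pushforward_iff f).mp ⟨haff, hflf⟩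
    refine ⟨⟨hfin, hflat, hfp⟩, fun y => ?_⟩
    obtain ⟨U, hyU, ⟨e⟩⟩ := hrk y
    obtain ⟨_, ⟨W, hW : IsAffineOpen W, rfl⟩, hyW, hWU⟩ :=
      Y.isBasis_affineOpens.exists_subset_of_mem_open hyU U.2
    have hWU' : W ≤ U := hWU
    exact finrank_eq_of_iso_free f hW d (isoFreeOfLE hWU' _ d e) y hyW

end Groth.Agent.Lib.Helper49
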