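import Mathlib
import Groth.Prelude.Def_RelSpec
import Groth.Agent.Lib.Helper49.QcqsModules
import Groth.Agent.Lib.Helper49.FinrankFree
/-!
# The module underlying a quasi-coherent algebra is quasi-coherent

* `toSec'`, `toModule_smul`, `toModule_map`: sections of `A.toModule`.
* `isLocalizingOn_toModule`, `isQuasicoherent_toModule`.
-/
universe u
open CategoryTheory CategoryTheory.Limits AlgebraicGeometry TopologicalSpace Opposite

namespace Groth.Agent.Lib.Helper49
open Groth.Agent.Lib.Helper45 RelSpec

variable {S : Scheme.{u}} (A : QCAlg S)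

/-- sections of `A.toModule` are the sections of `A`. -/
def toSec' (U : S.Opens) (m : Γ(A.toModule, U)) : A.presheaf.obj (op U) := m

theorem toModule_smul (U : S.Opens) (r : Γ(S, U)) (m : Γ(A.toModule, U)) :
    toSec' A U (r • m) = (A.str.app (op U)).hom r * toSec' A U m := rfl

theorem toModule_map {U V : S.Opens} (i : U ⟶ V) (m : Γ(A.toModule, V)) :
    toSec' A U (A.toModule.presheaf.map i.op m) = (A.presheaf.map i.op).hom (toSec' A V m) := rfl

theorem str_res {U V : S.Opens} (i : U ⟶ V) (r : Γ(S, V)) :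
    (A.str.app (op U)).hom ((S.presheaf.map i.op).hom r) =
      (A.presheaf.map i.op).hom ((A.str.app (op V)).hom r) :=
  congrArg (fun ψ => ψ.hom r) (A.str.naturality i.op)

theorem isLocalizingOn_toModule {U : S.Opens} (hU : IsAffineOpen U) :
    IsLocalizingOn A.toModule U := by
  constructor
  · intro f s
    let _ := (A.presheaf.map (homOfLE (S.basicOpen_le f)).op).hom.toAlgebra
    have hloc : IsLocalization.Away ((A.str.app (op U)).hom f)
        (A.presheaf.obj (op (S.basicOpen f))) := A.isQC U hU f
    obtain ⟨n, t, ht⟩ := IsLocalization.Away.surj ((A.str.app (op U)).hom f) (toSec' A _ s)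
    refine ⟨n, t, ?_⟩
    change toSec' A _ (A.toModule.presheaf.map (homOfLE (S.basicOpen_le f)).op t) =
      toSec' A _ ((S.presheaf.map (homOfLE (S.basicOpen_le f)).op f) ^ n • s)
    rw [toModule_map, toModule_smul, map_pow, str_res]
    rw [mul_comm]
    exact ht.symm
  · intro f t ht
    let _ := (A.presheaf.map (homOfLE (S.basicOpen_le f)).op).hom.toAlgebra
    have hloc : IsLocalization.Away ((A.str.app (op U)).hom f)
        (A.presheaf.obj (op (S.basicOpen f))) := A.isQC U hU f
    have ht' : algebraMap (A.presheaf.obj (op U)) (A.presheaf.obj (op (S.basicOpen f)))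
        (toSec' A U t) = 0 := ht
    obtain ⟨⟨_, n, rfl⟩, hm⟩ := (IsLocalization.map_eq_zero_iff
      (Submonoid.powers ((A.str.app (op U)).hom f)) _ _).mp ht'
    refine ⟨n, ?_⟩
    change toSec' A U (f ^ n • t) = 0
    rw [toModule_smul, map_pow]
    exact hm

instance isQuasicoherent_toModule : A.toModule.IsQuasicoherent :=
  isQuasicoherent_of_isLocalizingOn _ fun U => isLocalizingOn_toModule A U.2


section Spec

theorem isIso_appLE_of_eq' {X Y : Scheme.{u}} (g : X ⟶ Y) [IsOpenImmersion g] (V : Y.Opens)
    (W : X.Opens) (h1 : V ≤ g.opensRange) (h2 : W = g ⁻¹ᵁ V) : IsIso (g.appLE V W h2.le) := by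
  subst h2
  rw [← Scheme.Hom.app_eq_appLE]
  exact Scheme.Hom.isIso_app g V h1

/-- (helper13, `Groth.Agent.S4837.isIso_gammaAff`) -/
theorem isIso_gammaAff' (U : S.Opens) (hU : IsAffineOpen U) : IsIso (A.gammaAff U hU) := by
  have := isIso_appLE_of_eq' (A.ι U hU) (A.π ⁻¹ᵁ U) ⊤ (by rw [A.π_preimage U hU])
    (by rw [A.π_preimage U hU]; simp)
  unfold RelSpec.QCAlg.gammaAff
  infer_instance

/-- Over an affine open `W`, the sections of `π_* O_{Spec A}` are the sections of `A`. -/
noncomputable def sectionsSpecEquiv {W : S.Opens} (hW : IsAffineOpen W) :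
    Γ((Scheme.Modules.pushforward A.π).obj (Coh.structureModule A.spec), W) ≃ₗ[Γ(S, W)]
      Γ(A.toModule, W) :=
  haveI := isIso_gammaAff' A W hW
  { toFun := fun m => (A.gammaAff W hW).hom m
    invFun := fun m => (inv (A.gammaAff W hW)).hom m
    map_add' := fun a b => map_add (A.gammaAff W hW).hom a b
    map_smul' := fun r m => by
      have h1 : (r • m : Γ((Scheme.Modules.pushforward A.π).obj (Coh.structureModule A.spec), W)) =
          (A.π.app W).hom r * (show Γ(A.spec, A.π ⁻¹ᵁ W) from m) :=
        Helper45.pushforward_smul A.π (Coh.structureModule A.spec) W r m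
      simp only [RingHom.id_apply]
      rw [h1]
      change (A.gammaAff W hW).hom ((A.π.app W).hom r * _) = _
      rw [map_mul]
      have h2 : (A.gammaAff W hW).hom ((A.π.app W).hom r) = (A.str.app (op W)).hom r :=
        congrArg (fun ψ => ψ.hom r) (A.π_app_gammaAff W hW)
      rw [h2]
      rfl
    left_inv := fun m => by
      change (A.gammaAff W hW ≫ inv (A.gammaAff W hW)).hom m = m
      rw [IsIso.hom_inv_id]; rfl
    right_inv := fun m => by
      change (inv (A.gammaAff W hW) ≫ A.gammaAff W hW).hom m = m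
      rw [IsIso.inv_hom_id]; rfl }

/-- If `A` is locally free of rank `d` then so is `π_* O_{Spec A}`. -/
theorem isFinLocFreeOfRank_pushforward_π (d : ℕ) (hA : FlatMod.IsFinLocFreeOfRank d A.toModule) :
    FlatMod.IsFinLocFreeOfRank d
      ((Scheme.Modules.pushforward A.π).obj (Coh.structureModule A.spec)) := by
  intro x
  obtain ⟨U, hxU, ⟨e⟩⟩ := hA x
  obtain ⟨_, ⟨W, hW : IsAffineOpen W, rfl⟩, hxW, hWU⟩ :=
    S.isBasis_affineOpens.exists_subset_of_mem_open hxU U.2
  have hWU' : W ≤ U := hWU
  have e1 := sectionsEquivOfIsoFree A.toModule d (isoFreeOfLE hWU' _ d e)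
  have hq0 : (Coh.structureModule A.spec).IsQuasicoherent :=
    Helper45.isQuasicoherent_structureModule A.spec
  have hq : ((Scheme.Modules.pushforward A.π).obj (Coh.structureModule A.spec)).IsQuasicoherent :=
    isQuasicoherent_pushforward (Coh.structureModule A.spec) A.π
  exact ⟨W, hxW, nonempty_iso_restrict_freeMod_of_linearEquiv hW _ d
    ((sectionsSpecEquiv A hW).trans e1)⟩

/-- The relative spectrum of an algebra locally free of rank `d` is finite locally free of
degree `d`. -/
theorem isFinLocFreeOfDeg_π (d : ℕ) (hA : FlatMod.IsFinLocFreeOfRank d A.toModule) :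
    Mor2.IsFinLocFreeOfDeg d A.π :=
  (isFinLocFreeOfDeg_iff A.π d).mpr ⟨inferInstance, isFinLocFreeOfRank_pushforward_π A d hA⟩

end Spec

end Groth.Agent.Lib.Helper49
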