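import Mathlib
import Groth.Prelude.Def_OmegaPn
import Groth.Agent.Lib.Helper2.UnivHomeoAffine
import Groth.Agent.Lib.Helper49.QcqsModules
import Groth.Agent.Lib.Helper16.FlatPull.Chart
/-!
# Principal parts: basic topology of the infinitesimal neighbourhoods of the diagonal (helper49)

* `isHomeomorph_pr1 f n`, `isHomeomorph_pr2 f n`: the projections `X^{(n)}_Δ ⟶ X` are homeomorphisms.
* `isAffineHom_pr1`, `isAffineHom_pr2`.
* `isQuasicoherent_PMod`: `P^n_{X/S}(F)` is quasi-coherent for quasi-coherent `F`.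
-/
set_option autoImplicit false
set_option linter.style.haveILetI false
universe u
open CategoryTheory AlgebraicGeometry TopologicalSpace

namespace Groth.Agent.Lib.Helper49.PrinPartBasic

open PrinPart

variable {X S : Scheme.{u}} (f : X ⟶ S) (n : ℕ)

/-- A morphism with a surjective section is a homeomorphism. -/
theorem isHomeomorph_of_section {N X : Scheme.{u}} (p : N ⟶ X) (q : X ⟶ N) (h : q ≫ p = 𝟙 X)
    (hq : Function.Surjective q) : IsHomeomorph p := by
  have hpq : ∀ x : X, p (q x) = x := fun x => by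
    rw [← Scheme.Hom.comp_apply, h]
    rfl
  have hqp : ∀ y : N, q (p y) = y := fun y => by
    obtain ⟨x, rfl⟩ := hq y
    rw [hpq]
  refine ⟨p.continuous, ?_, ⟨fun a b hab => ?_, fun x => ⟨q x, hpq x⟩⟩⟩
  · intro V hV
    have : p '' V = q ⁻¹' V := by
      ext x
      constructor
      · rintro ⟨y, hy, rfl⟩
        change q (p y) ∈ V
        rwa [hqp]
      · intro hx
        exact ⟨q x, hx, hpq x⟩
    rw [this]
    exact hV.preimage q.continuous
  · rw [← hqp a, ← hqp b, hab]

theorem isHomeomorph_pr1 : IsHomeomorph (pr1 f n) :=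
  isHomeomorph_of_section (pr1 f n) (toNbhd f n) (toNbhd_pr1 f n)
    (toInfNbhd_surjective (diagCl f) n)

theorem isHomeomorph_pr2 : IsHomeomorph (pr2 f n) :=
  isHomeomorph_of_section (pr2 f n) (toNbhd f n) (toNbhd_pr2 f n)
    (toInfNbhd_surjective (diagCl f) n)

instance isAffineHom_pr1 : IsAffineHom (pr1 f n) :=
  Groth.Agent.Lib.Helper2.isAffineHom_of_isHomeomorph _ (isHomeomorph_pr1 f n)

instance isAffineHom_pr2 : IsAffineHom (pr2 f n) :=
  Groth.Agent.Lib.Helper2.isAffineHom_of_isHomeomorph _ (isHomeomorph_pr2 f n)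

theorem isQuasicoherent_PMod (F : X.Modules) [F.IsQuasicoherent] :
    (PMod f n F).IsQuasicoherent := by
  haveI : ((Scheme.Modules.pullback (pr2 f n)).obj F).IsQuasicoherent :=
    Groth.Agent.Lib.Helper16.FlatPull.isQuasicoherent_pullback (pr2 f n) F
  exact isQuasicoherent_pushforward _ (pr1 f n)

end Groth.Agent.Lib.Helper49.PrinPartBasic
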