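import Mathlib
import Groth.Agent.Lib.Helper49.PrinPartBasic
/-!
# A morphism with a surjective section is integral (helper49)
-/
set_option autoImplicit false
set_option linter.style.haveILetI false
universe u
open CategoryTheory AlgebraicGeometry TopologicalSpace

namespace Groth.Agent.Lib.Helper49.SectionIntegral

theorem isIntegralElem_of_isNilpotent {R A : Type*} [CommRing R] [CommRing A] (f : R →+* A)
    {c : A} (hc : IsNilpotent c) : f.IsIntegralElem c := by
  obtain ⟨k, hk⟩ := hc
  exact ⟨Polynomial.X ^ k, Polynomial.monic_X_pow k, by simp [hk]⟩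

variable {X N : Scheme.{u}}

/-- A function killed by a morphism which is surjective on points is nilpotent (on a
quasi-compact open). -/
theorem isNilpotent_of_app_eq_zero (q : X ⟶ N) (hq : Function.Surjective q) (V : N.Opens)
    (hV : IsCompact (V : Set N)) (c : Γ(N, V)) (hc : q.app V c = 0) : IsNilpotent c := by
  rw [Scheme.isNilpotent_iff_basicOpen_eq_bot_of_isCompact hV]
  have h1 : q ⁻¹ᵁ N.basicOpen c = ⊥ := by
    rw [Scheme.preimage_basicOpen, hc, Scheme.basicOpen_zero]
  ext y
  simp only [TopologicalSpace.Opens.coe_bot, Set.mem_empty_iff_false, iff_false]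
  intro hy
  obtain ⟨y₀, rfl⟩ := hq y
  have : y₀ ∈ q ⁻¹ᵁ N.basicOpen c := hy
  rw [h1] at this
  exact this

/-- A morphism with a section which is surjective on points is integral. -/
theorem isIntegralHom_of_section (p : N ⟶ X) (q : X ⟶ N) (h : q ≫ p = 𝟙 X)
    (hq : Function.Surjective q) : IsIntegralHom p := by
  haveI : IsAffineHom p := Groth.Agent.Lib.Helper2.isAffineHom_of_isHomeomorph _
    (PrinPartBasic.isHomeomorph_of_section p q h hq)
  refine ⟨fun U hU b => ?_⟩
  have hiso : IsIso (q ≫ p) := by rw [h]; infer_instance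
  have hsurj : Function.Surjective ((q ≫ p).app U) :=
    (ConcreteCategory.bijective_of_isIso ((q ≫ p).app U)).2
  obtain ⟨a', ha'⟩ := hsurj (q.app (p ⁻¹ᵁ U) b)
  rw [Scheme.Hom.comp_app] at ha'
  have hc : q.app (p ⁻¹ᵁ U) (b - p.app U a') = 0 := by
    rw [map_sub, sub_eq_zero]
    exact ha'.symm
  have hV : IsCompact ((p ⁻¹ᵁ U : N.Opens) : Set N) := (hU.preimage p).isCompact
  have hnil := isNilpotent_of_app_eq_zero q hq _ hV _ hc
  have hb : b = (p.app U).hom a' + (b - p.app U a') := by
    change b = p.app U a' + (b - p.app U a')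
    ring
  rw [hb]
  exact RingHom.IsIntegralElem.add _ (RingHom.isIntegralElem_map _)
    (isIntegralElem_of_isNilpotent _ hnil)

end Groth.Agent.Lib.Helper49.SectionIntegral

namespace Groth.Agent.Lib.Helper49.SectionIntegral

open PrinPart

instance {X Y : Scheme.{u}} (i : Y ⟶ X) (n : ℕ) : IsClosedImmersion (infNbhdι i n) :=
  inferInstanceAs (IsClosedImmersion (i.ker ^ (n + 1)).subschemeι)

theorem isFinite_of_section {X N : Scheme.{u}} (p : N ⟶ X) (q : X ⟶ N) (h : q ≫ p = 𝟙 X)
    (hq : Function.Surjective q) [LocallyOfFiniteType p] : IsFinite p := by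
  rw [IsFinite.iff_isIntegralHom_and_locallyOfFiniteType]
  exact ⟨isIntegralHom_of_section p q h hq, inferInstance⟩

/-- S5965 -/
theorem isFinite_infNbhdι_comp {X Y : Scheme.{u}} (g : X ⟶ Y) [LocallyOfFiniteType g] (f : Y ⟶ X)
    [IsClosedImmersion f] (hf : f ≫ g = 𝟙 Y) (n : ℕ) : IsFinite (infNbhdι f n ≫ g) := by
  refine isFinite_of_section _ (toInfNbhd f n) ?_ (toInfNbhd_surjective f n)
  rw [toInfNbhd_ι_assoc, hf]

instance locallyOfFiniteType_pr1 {X S : Scheme.{u}} (f : X ⟶ S) [LocallyOfFiniteType f] (n : ℕ) :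
    LocallyOfFiniteType (pr1 f n) := by
  unfold pr1 nbhdι
  infer_instance

instance isFinite_pr1 {X S : Scheme.{u}} (f : X ⟶ S) [LocallyOfFiniteType f] (n : ℕ) :
    IsFinite (pr1 f n) :=
  isFinite_of_section _ (toNbhd f n) (toNbhd_pr1 f n) (toInfNbhd_surjective (diagCl f) n)

end Groth.Agent.Lib.Helper49.SectionIntegral
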