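import Mathlib
import Groth.Agent.Lib.Helper49.SectionIntegral
import Groth.Agent.Lib.Helper49.PushforwardFP
import Groth.Agent.Lib.Helper49.UnitChart
/-!
# Finite presentation and principal parts (helper49)
-/
set_option autoImplicit false
set_option linter.style.haveILetI false
universe u
open CategoryTheory AlgebraicGeometry TopologicalSpace

namespace Groth.Agent.Lib.Helper49.PrinPartFP

section General

/-- If `f ≫ g` is locally of finite presentation and `g` is locally of finite type, then `f` is
locally of finite presentation. -/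
theorem locallyOfFinitePresentation_of_comp {X Y Z : Scheme.{u}} {f : X ⟶ Y} {g : Y ⟶ Z}
    (hg : LocallyOfFiniteType g) (h : LocallyOfFinitePresentation (f ≫ g)) :
    LocallyOfFinitePresentation f := by
  wlog hZ : IsAffine Z generalizing X Y Z
  · rw [IsZariskiLocalAtTarget.iff_of_iSup_eq_top (P := @LocallyOfFinitePresentation) _
      (g.iSup_preimage_eq_top (iSup_affineOpens_eq_top Z))]
    intro U
    have H := IsZariskiLocalAtTarget.restrict h U.1
    rw [morphismRestrict_comp] at H
    exact this (inferInstance : LocallyOfFiniteType (g ∣_ U.1)) H inferInstance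
  wlog hY : IsAffine Y generalizing X Y
  · rw [IsZariskiLocalAtTarget.iff_of_iSup_eq_top (P := @LocallyOfFinitePresentation) _
      (iSup_affineOpens_eq_top Y)]
    intro U
    have H := HasRingHomProperty.comp_of_isOpenImmersion @LocallyOfFinitePresentation
      (f ⁻¹ᵁ U.1).ι (f ≫ g) h
    rw [← morphismRestrict_ι_assoc] at H
    exact this (g := U.1.ι ≫ g) inferInstance H U.2
  wlog hX : IsAffine X generalizing X
  · rw [IsZariskiLocalAtSource.iff_of_iSup_eq_top (P := @LocallyOfFinitePresentation) _
      (iSup_affineOpens_eq_top X)]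
    intro U
    have H := HasRingHomProperty.comp_of_isOpenImmersion @LocallyOfFinitePresentation
      U.1.ι (f ≫ g) h
    rw [← Category.assoc] at H
    exact this H U.2
  rw [HasRingHomProperty.iff_of_isAffine (P := @LocallyOfFinitePresentation)] at h ⊢
  rw [HasRingHomProperty.iff_of_isAffine (P := @LocallyOfFiniteType)] at hg
  have e : (f ≫ g).appTop.hom = f.appTop.hom.comp g.appTop.hom := by
    rw [Scheme.Hom.comp_appTop]; rfl
  rw [e] at h
  exact RingHom.FinitePresentation.of_comp_finiteType g.appTop.hom h hg

/-- The ideal of a closed immersion locally of finite presentation is finitely generated on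
affine opens. -/
theorem ker_ideal_fg {X Y : Scheme.{u}} (i : Y ⟶ X) [IsClosedImmersion i]
    [LocallyOfFinitePresentation i] (U : X.affineOpens) : (i.ker.ideal U).FG := by
  rw [Scheme.Hom.ker_apply]
  have hU : IsAffineOpen (i ⁻¹ᵁ U.1) := U.2.preimage i
  have h3 : (i.app U.1).hom.FinitePresentation := by
    rw [Scheme.Hom.app_eq_appLE]
    exact HasRingHomProperty.appLE (P := @LocallyOfFinitePresentation) i inferInstance U
      ⟨i ⁻¹ᵁ U.1, hU⟩ _
  have hs : Function.Surjective (i.app U.1).hom := Scheme.Hom.app_surjective i U.1 U.2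
  letI := (i.app U.1).hom.toAlgebra
  have : Algebra.FinitePresentation Γ(X, U.1) Γ(Y, i ⁻¹ᵁ U.1) := h3
  exact Algebra.FinitePresentation.ker_fG_of_surjective
    (Algebra.ofId Γ(X, U.1) Γ(Y, i ⁻¹ᵁ U.1)) hs

/-- The closed immersion of an ideal sheaf which is finitely generated on affine opens is locally
of finite presentation. -/
theorem locallyOfFinitePresentation_subschemeι {X : Scheme.{u}} (J : X.IdealSheafData)
    (h : ∀ U : X.affineOpens, (J.ideal U).FG) : LocallyOfFinitePresentation J.subschemeι := by
  rw [IsZariskiLocalAtSource.iff_of_openCover (P := @LocallyOfFinitePresentation)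
    J.subschemeCover.openCover]
  intro (U : X.affineOpens)
  change LocallyOfFinitePresentation (J.subschemeCover.f U ≫ J.subschemeι)
  rw [Scheme.IdealSheafData.subschemeCover_map_subschemeι,
    Scheme.IdealSheafData.glueDataObjι_ι]
  have h1 : LocallyOfFinitePresentation
      (Spec.map (CommRingCat.ofHom (Ideal.Quotient.mk (J.ideal U)))) := by
    rw [LocallyOfFinitePresentation.SpecMap_iff]
    exact RingHom.FinitePresentation.of_surjective _ Ideal.Quotient.mk_surjective
      (by
        change (RingHom.ker (Ideal.Quotient.mk (J.ideal U))).FG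
        rw [Ideal.mk_ker]; exact h U)
  exact MorphismProperty.comp_mem _ _ _ h1 inferInstance

end General


section Pullback

open Groth.Agent.Lib.Helper49.UnitChart

/-- The pullback of a finitely presented quasi-coherent module is finitely presented. -/
theorem isFinitePresentation_pullback {X Y : Scheme.{u}} (h : X ⟶ Y) (G : Y.Modules)
    [G.IsQuasicoherent] (hG : SheafOfModules.IsFinitePresentation (R := Y.ringCatSheaf) G) :
    SheafOfModules.IsFinitePresentation (R := X.ringCatSheaf)
      ((Scheme.Modules.pullback h).obj G) := by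
  haveI : ((Scheme.Modules.pullback h).obj G).IsQuasicoherent :=
    Groth.Agent.Lib.Helper16.FlatPull.isQuasicoherent_pullback h G
  refine isFinitePresentation_of_finitePresentation_sections_cover _
    (ι := {p : Y.affineOpens × X.affineOpens // p.2.1 ≤ h ⁻¹ᵁ p.1.1}) (fun p => p.1.2.1)
    (fun p => p.1.2.2) (fun x => ?_) fun p => ?_
  · obtain ⟨U, W, hU, hW, hWU, hxW⟩ := Groth.Agent.Lib.Helper16.FlatPull.exists_charts h x
    exact ⟨⟨(⟨U, hU⟩, ⟨W, hW⟩), hWU⟩, hxW⟩
  · obtain ⟨⟨U, W⟩, e⟩ := p
    letI := (h.appLE U.1 W.1 e).hom.toAlgebra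
    letI : Module Γ(Y, U.1) Γ((Scheme.Modules.pullback h).obj G, W.1) :=
      Module.compHom _ (h.appLE U.1 W.1 e).hom
    haveI : IsScalarTower Γ(Y, U.1) Γ(X, W.1) Γ((Scheme.Modules.pullback h).obj G, W.1) :=
      IsScalarTower.of_compHom _ _ _
    obtain ⟨g, -, hg⟩ := exists_isBaseChange_pullSLE h U.2 W.2 e G
    haveI : Module.FinitePresentation Γ(Y, U.1) Γ(G, U.1) :=
      finitePresentation_sections_of_isFinitePresentation G hG U.2
    exact FinitePresentation.of_isBaseChange g hg

end Pullback

section PrinPart

open PrinPart SectionIntegral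

variable {X S : Scheme.{u}} (f : X ⟶ S)

theorem locallyOfFinitePresentation_diagCl [LocallyOfFiniteType f] :
    LocallyOfFinitePresentation (diagCl f) := by
  have h1 : LocallyOfFinitePresentation (Limits.pullback.diagonal f) := by
    apply locallyOfFinitePresentation_of_comp (g := Limits.pullback.fst f f) inferInstance
    rw [Limits.pullback.diagonal_fst]
    infer_instance
  apply locallyOfFinitePresentation_of_comp
    (g := (Limits.pullback.diagonal f).coborderRange.ι) inferInstance
  rw [Scheme.Hom.liftCoborder_ι]
  exact h1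

theorem locallyOfFinitePresentation_infNbhdι {X Y : Scheme.{u}} (i : Y ⟶ X) [IsClosedImmersion i]
    [LocallyOfFinitePresentation i] (n : ℕ) : LocallyOfFinitePresentation (infNbhdι i n) := by
  refine locallyOfFinitePresentation_subschemeι _ fun U => ?_
  rw [Scheme.IdealSheafData.ideal_pow]
  exact (ker_ideal_fg i U).pow

instance locallyOfFinitePresentation_pr1 [LocallyOfFinitePresentation f] (n : ℕ) :
    LocallyOfFinitePresentation (pr1 f n) := by
  haveI := locallyOfFinitePresentation_diagCl f
  haveI := locallyOfFinitePresentation_infNbhdι (diagCl f) n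
  unfold pr1 nbhdι
  infer_instance

/-- S5971 -/
theorem isFinitePresentation_PMod [LocallyOfFinitePresentation f] (n : ℕ) (F : X.Modules)
    (hF : SheafOfModules.IsFinitePresentation (R := X.ringCatSheaf) F) :
    SheafOfModules.IsFinitePresentation (R := X.ringCatSheaf) (PMod f n F) := by
  haveI : F.IsQuasicoherent := inferInstance
  haveI h1 : ((Scheme.Modules.pullback (pr2 f n)).obj F).IsQuasicoherent :=
    Groth.Agent.Lib.Helper16.FlatPull.isQuasicoherent_pullback (pr2 f n) F
  have h2 := isFinitePresentation_pullback (pr2 f n) F hF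
  exact isFinitePresentation_pushforward_of_isFinite (pr1 f n) _ h2

end PrinPart

end Groth.Agent.Lib.Helper49.PrinPartFP
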