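import Mathlib

set_option autoImplicit false
set_option linter.style.haveILetI false
universe u
open TensorProduct

namespace Groth.Agent.Lib.Helper49.BaseChangeAlg

section Alg

variable {A A' B B' : Type u} [CommRing A] [CommRing A'] [CommRing B] [CommRing B']
  [Algebra A A'] [Algebra A B] [Algebra A' B'] [Algebra B B'] [Algebra A B']
  [IsScalarTower A A' B'] [IsScalarTower A B B'] [Algebra.IsPushout A A' B B']
  {N P₁ P₂ : Type u} [AddCommGroup N] [Module A N] [Module B N] [IsScalarTower A B N]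
  [AddCommGroup P₁] [Module A P₁] [Module A' P₁] [IsScalarTower A A' P₁]
  [AddCommGroup P₂] [Module B P₂] [Module B' P₂] [IsScalarTower B B' P₂]

/-- If `P₁ = A' ⊗[A] N`, `P₂ = B' ⊗[B] N` with `B' = A' ⊗[A] B`, then any `A'`-semilinear map
`P₁ → P₂` compatible with the structure maps from `N` is bijective. -/
theorem bijective_of_isBaseChange_of_isPushout
    (c₁ : N →ₗ[A] P₁) (h₁ : IsBaseChange A' c₁) (c₂ : N →ₗ[B] P₂) (h₂ : IsBaseChange B' c₂)
    (ū : P₁ →+ P₂) (hlin : ∀ (a' : A') (p : P₁), ū (a' • p) = algebraMap A' B' a' • ū p)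
    (hū : ∀ n, ū (c₁ n) = c₂ n) : Function.Bijective ū := by
  letI : Module A' P₂ := Module.compHom P₂ (algebraMap A' B')
  haveI : IsScalarTower A' B' P₂ := IsScalarTower.of_compHom _ _ _
  let Φ : P₁ ≃ₗ[A'] P₂ := h₁.equiv.symm ≪≫ₗ
    (Algebra.IsPushout.cancelBaseChange A A' B B' N).symm ≪≫ₗ (h₂.equiv.restrictScalars A')
  have hΦ : ∀ p, ū p = Φ p := by
    intro p
    refine h₁.inductionOn p (fun p => ū p = Φ p) ?_ ?_ ?_ ?_
    · simp
    · intro n
      have : Φ (c₁ n) = c₂ n := by
        simp [Φ, IsBaseChange.equiv_symm_apply, IsBaseChange.equiv_tmul]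
      rw [this, hū]
    · intro a' q hq
      show ū (a' • q) = Φ (a' • q)
      rw [hlin, hq, map_smul]
      rfl
    · intro x y hx hy
      show ū (x + y) = Φ (x + y)
      rw [map_add, map_add, hx, hy]
  have : (ū : P₁ → P₂) = Φ := funext hΦ
  rw [this]
  exact Φ.bijective

end Alg

end Groth.Agent.Lib.Helper49.BaseChangeAlg
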