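import Mathlib
import Groth.Agent.Lib.Helper49.UnitChart
import Groth.Agent.Lib.Helper49.BaseChangeAlg
import Groth.Agent.Lib.Helper49.QcqsModules
import Groth.Agent.Lib.Helper42.QCohAffineSections

set_option autoImplicit false
set_option linter.style.haveILetI false
set_option linter.unusedSectionVars false
universe u
open AlgebraicGeometry CategoryTheory TopologicalSpace Opposite TensorProduct

namespace Groth.Agent.Lib.Helper49.AffineBaseChange

open Groth.Agent.Lib.Helper49 Groth.Agent.Lib.Helper49.UnitChart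
  Groth.Agent.Lib.Helper11.PullbackBasis Groth.Agent.Lib.Helper49.BaseChangeAlg
  Scheme.Modules

variable {X S X' S' : Scheme.{u}} (f : X ⟶ S) (g : S' ⟶ S) (g' : X' ⟶ X) (f' : X' ⟶ S')

/-- The base change map `g^* f_* F ⟶ f'_* g'^* F` of a commutative square. -/
noncomputable def bcMap (hw : g' ≫ f = f' ≫ g) (F : X.Modules) :
    (pullback g).obj ((pushforward f).obj F) ⟶ (pushforward f').obj ((pullback g').obj F) :=
  ((pullbackPushforwardAdjunction g).homEquiv ((pushforward f).obj F)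
        ((pushforward f').obj ((pullback g').obj F))).symm
      ((pushforward f).map ((pullbackPushforwardAdjunction g').unit.app F) ≫
        (pushforwardComp g' f).hom.app ((pullback g').obj F) ≫
        (pushforwardCongr hw).hom.app ((pullback g').obj F) ≫
        (pushforwardComp f' g).inv.app ((pullback g').obj F))

variable {f g g' f'}

theorem preimage_le_of_comm (hw : g' ≫ f = f' ≫ g) {V : S.Opens} {V' : S'.Opens}
    (hV' : V' ≤ g ⁻¹ᵁ V) : f' ⁻¹ᵁ V' ≤ g' ⁻¹ᵁ (f ⁻¹ᵁ V) := by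
  intro x hx
  have h1 : (f' ≫ g).base x ∈ V := hV' hx
  rw [← hw] at h1
  exact h1

/-- The base change map on sections: it carries the unit for `g` to the unit for `g'`. -/
theorem bcMap_pullSLE (hw : g' ≫ f = f' ≫ g) (F : X.Modules) (V : S.Opens) (V' : S'.Opens)
    (hV' : V' ≤ g ⁻¹ᵁ V) (s : Γ(F, f ⁻¹ᵁ V)) :
    ((bcMap f g g' f' hw F).app V').hom
      (pullSLE g ((pushforward f).obj F) V V' hV' s) =
    pullSLE g' F (f ⁻¹ᵁ V) (f' ⁻¹ᵁ V') (preimage_le_of_comm hw hV') s := by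
  have e1 : (pullbackPushforwardAdjunction g).unit.app ((pushforward f).obj F) ≫
      (pushforward g).map (bcMap f g g' f' hw F) =
      ((pushforward f).map ((pullbackPushforwardAdjunction g').unit.app F) ≫
        (pushforwardComp g' f).hom.app ((pullback g').obj F) ≫
        (pushforwardCongr hw).hom.app ((pullback g').obj F) ≫
        (pushforwardComp f' g).inv.app ((pullback g').obj F)) := by
    have := Equiv.apply_symm_apply ((pullbackPushforwardAdjunction g).homEquiv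
      ((pushforward f).obj F) ((pushforward f').obj ((pullback g').obj F)))
      ((pushforward f).map ((pullbackPushforwardAdjunction g').unit.app F) ≫
        (pushforwardComp g' f).hom.app ((pullback g').obj F) ≫
        (pushforwardCongr hw).hom.app ((pullback g').obj F) ≫
        (pushforwardComp f' g).inv.app ((pullback g').obj F))
    rw [Adjunction.homEquiv_unit] at this
    exact this
  have e2 := congrArg (fun k => (Scheme.Modules.Hom.app k V).hom s) e1
  have e3 : ((bcMap f g g' f' hw F).app (g ⁻¹ᵁ V)).hom (pullS g ((pushforward f).obj F) V s) =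
      (((pullback g').obj F).presheaf.map (eqToHom (show f' ⁻¹ᵁ (g ⁻¹ᵁ V) = g' ⁻¹ᵁ (f ⁻¹ᵁ V) by
        show (f' ≫ g) ⁻¹ᵁ V = (g' ≫ f) ⁻¹ᵁ V
        rw [hw])).op).hom
        (pullS g' F (f ⁻¹ᵁ V) s) := e2
  unfold pullSLE
  rw [app_mres, e3]
  show (((pullback g').obj F).presheaf.map (homOfLE _).op).hom
      ((((pullback g').obj F).presheaf.map (eqToHom _).op).hom _) = _
  rw [← ConcreteCategory.comp_apply, ← Functor.map_comp]
  rfl


open Groth.Agent.Lib.Helper49 in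
/-- On affine charts `V' ⊆ g⁻¹ V` the base change map for an affine morphism `f` is bijective. -/
theorem bcMap_app_bijective (h : IsPullback g' f' f g) [IsAffineHom f]
    (F : X.Modules) [F.IsQuasicoherent] {V : S.Opens} (hV : IsAffineOpen V) {V' : S'.Opens}
    (hV'a : IsAffineOpen V') (hV' : V' ≤ g ⁻¹ᵁ V) :
    Function.Bijective ((bcMap f g g' f' h.w F).app V').hom := by
  have hf' : IsAffineHom f' := MorphismProperty.of_isPullback (P := @IsAffineHom) h inferInstance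
  have hU : IsAffineOpen (f ⁻¹ᵁ V) := hV.preimage f
  have hU' : IsAffineOpen (f' ⁻¹ᵁ V') := hV'a.preimage f'
  have hle : f' ⁻¹ᵁ V' ≤ g' ⁻¹ᵁ (f ⁻¹ᵁ V) := preimage_le_of_comm h.w hV'
  haveI : ((pushforward f).obj F).IsQuasicoherent := isQuasicoherent_pushforward F f
  -- rings
  have hUY : f' ⁻¹ᵁ V' = g' ⁻¹ᵁ (f ⁻¹ᵁ V) ⊓ f' ⁻¹ᵁ V' := (inf_eq_right.mpr hle).symm
  have hpo := (isIso_pushoutSection_iff h hV' (le_refl (f ⁻¹ᵁ V)) hUY).mp
    (isIso_pushoutSection_of_isAffineOpen h hV' (le_refl (f ⁻¹ᵁ V)) hUY hV hV'a hU)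
  -- algebra instances
  letI algAA' : Algebra Γ(S, V) Γ(S', V') := (g.appLE V V' hV').hom.toAlgebra
  letI algBB' : Algebra Γ(X, f ⁻¹ᵁ V) Γ(X', f' ⁻¹ᵁ V') :=
    (g'.appLE (f ⁻¹ᵁ V) (f' ⁻¹ᵁ V') hle).hom.toAlgebra
  letI algAB : Algebra Γ(S, V) Γ(X, f ⁻¹ᵁ V) := (f.appLE V (f ⁻¹ᵁ V) le_rfl).hom.toAlgebra
  letI algA'B' : Algebra Γ(S', V') Γ(X', f' ⁻¹ᵁ V') :=
    (f'.appLE V' (f' ⁻¹ᵁ V') le_rfl).hom.toAlgebra
  letI algAB' : Algebra Γ(S, V) Γ(X', f' ⁻¹ᵁ V') :=
    ((f.appLE V (f ⁻¹ᵁ V) le_rfl) ≫ (g'.appLE (f ⁻¹ᵁ V) (f' ⁻¹ᵁ V') hle)).hom.toAlgebra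
  haveI : IsScalarTower Γ(S, V) Γ(X, f ⁻¹ᵁ V) Γ(X', f' ⁻¹ᵁ V') :=
    IsScalarTower.of_algebraMap_eq (fun x => rfl)
  haveI : IsScalarTower Γ(S, V) Γ(S', V') Γ(X', f' ⁻¹ᵁ V') :=
    IsScalarTower.of_algebraMap_eq (fun x => congrArg (fun k => k.hom x) hpo.w)
  haveI hpush : Algebra.IsPushout Γ(S, V) Γ(S', V') Γ(X, f ⁻¹ᵁ V) Γ(X', f' ⁻¹ᵁ V') := by
    have h1 : Algebra.IsPushout Γ(S, V) Γ(X, f ⁻¹ᵁ V) Γ(S', V') Γ(X', f' ⁻¹ᵁ V') :=
      CommRingCat.isPushout_iff_isPushout.mp hpo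
    exact h1.symm
  -- modules
  letI modAN : Module Γ(S, V) Γ(F, f ⁻¹ᵁ V) :=
    (inferInstance : Module Γ(S, V) Γ((pushforward f).obj F, V))
  haveI : IsScalarTower Γ(S, V) Γ(X, f ⁻¹ᵁ V) Γ(F, f ⁻¹ᵁ V) :=
    IsScalarTower.of_algebraMap_smul (fun a n => by
      show (f.appLE V (f ⁻¹ᵁ V) le_rfl).hom a • n = _
      rw [← Scheme.Hom.app_eq_appLE]
      rfl)
  letI modAP₁ : Module Γ(S, V) Γ((pullback g).obj ((pushforward f).obj F), V') :=
    Module.compHom _ (g.appLE V V' hV').hom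
  haveI : IsScalarTower Γ(S, V) Γ(S', V') Γ((pullback g).obj ((pushforward f).obj F), V') :=
    IsScalarTower.of_compHom _ _ _
  letI modBP₂ : Module Γ(X, f ⁻¹ᵁ V) Γ((pullback g').obj F, f' ⁻¹ᵁ V') :=
    Module.compHom _ (g'.appLE (f ⁻¹ᵁ V) (f' ⁻¹ᵁ V') hle).hom
  haveI : IsScalarTower Γ(X, f ⁻¹ᵁ V) Γ(X', f' ⁻¹ᵁ V') Γ((pullback g').obj F, f' ⁻¹ᵁ V') :=
    IsScalarTower.of_compHom _ _ _
  obtain ⟨c₁, hc₁, hb₁⟩ := exists_isBaseChange_pullSLE g hV hV'a hV' ((pushforward f).obj F)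
  obtain ⟨c₂, hc₂, hb₂⟩ := exists_isBaseChange_pullSLE g' hU hU' hle F
  refine bijective_of_isBaseChange_of_isPushout (A := Γ(S, V)) (A' := Γ(S', V'))
    (B := Γ(X, f ⁻¹ᵁ V)) (B' := Γ(X', f' ⁻¹ᵁ V')) (N := Γ(F, f ⁻¹ᵁ V))
    (P₁ := Γ((pullback g).obj ((pushforward f).obj F), V'))
    (P₂ := Γ((pullback g').obj F, f' ⁻¹ᵁ V')) c₁ hb₁ c₂ hb₂
    ((bcMap f g g' f' h.w F).app V').hom ?_ ?_
  · intro a' p
    have h1 := Scheme.Modules.Hom.app_smul (bcMap f g g' f' h.w F) a' p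
    refine h1.trans ?_
    rw [Groth.Agent.Lib.Helper45.pushforward_smul]
    show _ = (f'.appLE V' (f' ⁻¹ᵁ V') le_rfl).hom a' • _
    rw [← Scheme.Hom.app_eq_appLE]
    rfl
  · intro n
    exact (congrArg ((bcMap f g g' f' h.w F).app V').hom (hc₁ n)).trans
      ((bcMap_pullSLE h.w F V V' hV' n).trans (hc₂ n).symm)


/-- **Affine base change.** For an affine morphism `f`, a cartesian square and a quasi-coherent
module `F`, the base change map `g^* f_* F ⟶ f'_* g'^* F` is an isomorphism. -/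
theorem isIso_bcMap (h : IsPullback g' f' f g) [IsAffineHom f]
    (F : X.Modules) [F.IsQuasicoherent] : IsIso (bcMap f g g' f' h.w F) := by
  have hf' : IsAffineHom f' := MorphismProperty.of_isPullback (P := @IsAffineHom) h inferInstance
  haveI : ((pushforward f).obj F).IsQuasicoherent := isQuasicoherent_pushforward F f
  haveI : ((pullback g).obj ((pushforward f).obj F)).IsQuasicoherent :=
    Groth.Agent.Lib.Helper16.FlatPull.isQuasicoherent_pullback g _
  haveI : ((pullback g').obj F).IsQuasicoherent :=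
    Groth.Agent.Lib.Helper16.FlatPull.isQuasicoherent_pullback g' _
  haveI : ((pushforward f').obj ((pullback g').obj F)).IsQuasicoherent :=
    isQuasicoherent_pushforward _ f'
  apply Groth.Agent.Lib.Helper42.isIso_of_app_bijective_of_cover
  intro x'
  obtain ⟨V, V', hV, hV'a, hV', hx'⟩ := Groth.Agent.Lib.Helper16.FlatPull.exists_charts g x'
  exact ⟨V', hV'a, hx', bcMap_app_bijective h F hV hV'a hV'⟩

end Groth.Agent.Lib.Helper49.AffineBaseChange
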