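import Mathlib

set_option autoImplicit false
universe u

open CategoryTheory CategoryTheory.Limits AlgebraicGeometry

namespace Groth.Agent.Lib.Helper49.ProperSupport

/-- separatedness can be checked after precomposing with a surjective closed immersion. -/
theorem isSeparated_of_comp_surjective_closedImmersion {T Z S : Scheme.{u}} (j : T ⟶ Z)
    [IsClosedImmersion j] [Surjective j] (g : Z ⟶ S) [IsSeparated (j ≫ g)] : IsSeparated g := by
  refine ⟨?_⟩
  refine IsClosedImmersion.of_isPreimmersion _ ?_
  let jj : pullback (j ≫ g) (j ≫ g) ⟶ pullback g g :=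
    pullback.map (j ≫ g) (j ≫ g) g g j j (𝟙 S) (by simp) (by simp)
  have hjj : IsClosedImmersion jj :=
    MorphismProperty.pullbackMap (P := @IsClosedImmersion) (f := j ≫ g) (g := j ≫ g)
      (f' := g) (g' := g) (i₁ := j) (i₂ := j) inferInstance inferInstance rfl rfl
  have hcomm : j ≫ pullback.diagonal g = pullback.diagonal (j ≫ g) ≫ jj := by
    have e1 : jj ≫ pullback.fst g g = pullback.fst _ _ ≫ j := pullback.lift_fst _ _ _
    have e2 : jj ≫ pullback.snd g g = pullback.snd _ _ ≫ j := pullback.lift_snd _ _ _
    apply pullback.hom_ext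
    · rw [Category.assoc, pullback.diagonal_fst, Category.comp_id, Category.assoc, e1,
        pullback.diagonal_fst_assoc]
    · rw [Category.assoc, pullback.diagonal_snd, Category.comp_id, Category.assoc, e2,
        pullback.diagonal_snd_assoc]
  have hrange : Set.range (pullback.diagonal g) =
      jj '' (Set.range (pullback.diagonal (j ≫ g))) := by
    have h1 : Set.range (pullback.diagonal g) = Set.range (j ≫ pullback.diagonal g) := by
      rw [Scheme.Hom.comp_base, TopCat.coe_comp, Set.range_comp,
        (j.surjective).range_eq, Set.image_univ]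
    rw [h1, hcomm, Scheme.Hom.comp_base, TopCat.coe_comp, Set.range_comp]
  rw [hrange]
  exact jj.isClosedEmbedding.isClosedMap _ (pullback.diagonal (j ≫ g)).isClosedEmbedding.isClosed_range

/-- properness can be checked after precomposing with a surjective closed immersion (e.g. on
the reduced induced closed subscheme). -/
theorem isProper_of_comp_surjective_closedImmersion {T Z S : Scheme.{u}} (j : T ⟶ Z)
    [IsClosedImmersion j] [Surjective j] (g : Z ⟶ S) [LocallyOfFiniteType g]
    [IsProper (j ≫ g)] : IsProper g := by
  have h1 : IsSeparated g := isSeparated_of_comp_surjective_closedImmersion j g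
  have h2 : UniversallyClosed g := UniversallyClosed.of_comp_surjective j g
  exact { }

/-- the inclusion of closed subschemes with the same support is surjective. -/
theorem surjective_inclusion {X : Scheme.{u}} {I J : X.IdealSheafData} (h : I ≤ J)
    (hs : (I.support : Set X) ⊆ J.support) :
    Surjective (Scheme.IdealSheafData.inclusion h) := by
  refine ⟨fun z => ?_⟩
  have hz : I.subschemeι z ∈ Set.range J.subschemeι := by
    rw [Scheme.IdealSheafData.range_subschemeι]
    apply hs
    rw [← Scheme.IdealSheafData.range_subschemeι]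
    exact ⟨z, rfl⟩
  obtain ⟨t, ht⟩ := hz
  refine ⟨t, ?_⟩
  apply I.subschemeι.isClosedEmbedding.injective
  rw [← ht, ← Scheme.IdealSheafData.inclusion_subschemeι h]
  rfl

/-- properness of a closed subscheme over a base only depends on the support. -/
theorem isProper_subschemeι_comp {X S : Scheme.{u}} {I J : X.IdealSheafData} (h : I ≤ J)
    (hs : (I.support : Set X) ⊆ J.support) (f : X ⟶ S) [LocallyOfFiniteType f]
    (hJ : IsProper (J.subschemeι ≫ f)) : IsProper (I.subschemeι ≫ f) := by
  have := surjective_inclusion h hs
  have : IsProper (Scheme.IdealSheafData.inclusion h ≫ I.subschemeι ≫ f) := by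
    rw [← Category.assoc, Scheme.IdealSheafData.inclusion_subschemeι]
    exact hJ
  exact isProper_of_comp_surjective_closedImmersion (Scheme.IdealSheafData.inclusion h) _

/-- sections of a module over an empty open set. -/
theorem subsingleton_sections_of_eq_bot {Z : Scheme.{u}} (G : Z.Modules) {W : Z.Opens}
    (h : W = ⊥) : Subsingleton Γ(G, W) := by
  have hT : IsTerminal (G.presheaf.obj (Opposite.op W)) :=
    TopCat.Sheaf.isTerminalOfEqEmpty (X := Z.toTopCat) ⟨G.presheaf, G.isSheaf⟩ h
  have hz : IsZero (G.presheaf.obj (Opposite.op W)) := by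
    rw [IsZero.iff_id_eq_zero]
    exact hT.hom_ext _ _
  exact AddCommGrpCat.subsingleton_of_isZero hz

/-- The stalks of `i_* G` vanish outside of the (closed) range of `i`. -/
theorem subsingleton_stalk_pushforward {Z X : Scheme.{u}} (i : Z ⟶ X) [IsClosedImmersion i]
    (G : Z.Modules) (x : X) (hx : x ∉ Set.range i) :
    Subsingleton (((Scheme.Modules.pushforward i).obj G).presheaf.stalk x) := by
  let W : X.Opens := ⟨(Set.range i)ᶜ, i.isClosedEmbedding.isClosed_range.isOpen_compl⟩
  have hxW : x ∈ W := hx
  have hW : i ⁻¹ᵁ W = ⊥ := by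
    ext z
    constructor
    · intro hz
      exact ((show i z ∈ W from hz) ⟨z, rfl⟩).elim
    · intro hz
      exact hz.elim
  have hsub : Subsingleton Γ((Scheme.Modules.pushforward i).obj G, W) :=
    subsingleton_sections_of_eq_bot G hW
  refine ⟨fun a b => ?_⟩
  have key : ∀ t : ((Scheme.Modules.pushforward i).obj G).presheaf.stalk x, t = 0 := by
    intro t
    obtain ⟨U, hxU, s, rfl⟩ := TopCat.Presheaf.exists_germ_eq _ t
    have h1 := TopCat.Presheaf.germ_res_apply ((Scheme.Modules.pushforward i).obj G).presheaf
      (homOfLE (inf_le_left : U ⊓ W ≤ U)) x ⟨hxU, hxW⟩ s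
    rw [← h1]
    have h2 := TopCat.Presheaf.germ_res_apply ((Scheme.Modules.pushforward i).obj G).presheaf
      (homOfLE (inf_le_right : U ⊓ W ≤ W)) x ⟨hxU, hxW⟩ 0
    have h3 : (((Scheme.Modules.pushforward i).obj G).presheaf.map
        (homOfLE (inf_le_left : U ⊓ W ≤ U)).op) s =
        (((Scheme.Modules.pushforward i).obj G).presheaf.map
        (homOfLE (inf_le_right : U ⊓ W ≤ W)).op) 0 := by
      have : Subsingleton Γ((Scheme.Modules.pushforward i).obj G, U ⊓ W) :=
        subsingleton_sections_of_eq_bot G (W := i ⁻¹ᵁ (U ⊓ W)) (by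
          rw [Scheme.Hom.preimage_inf, hW, inf_bot_eq])
      exact Subsingleton.elim _ _
    rw [h3, h2, map_zero]
  rw [key a, key b]

end Groth.Agent.Lib.Helper49.ProperSupport
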