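import Mathlib
import Groth.Prelude.Def_ClSub2
import Groth.Agent.Lib.Helper49.ProperSupport

/-!
# Closed subsets proper over a base: closed subsets and finite unions

* `isProper_of_comp_surjective_universallyClosed`: `g` is proper if `j ≫ g` is, for `j`
  universally closed and surjective and `g` locally of finite type.
* `isProper_coprodDesc`: `coprod.desc a b` is proper if `a` and `b` are.
* `isProperOver_of_subset`, `isProperOver_union` for `ClSub.IsProperOver`.
-/

set_option autoImplicit false
universe u

open CategoryTheory CategoryTheory.Limits AlgebraicGeometry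

namespace Groth.Agent.Lib.Helper49.ProperSupport

/-- separatedness can be checked after precomposing with a surjective universally closed
morphism. -/
theorem isSeparated_of_comp_surjective_universallyClosed {T Z S : Scheme.{u}} (j : T ⟶ Z)
    [UniversallyClosed j] [Surjective j] (g : Z ⟶ S) [IsSeparated (j ≫ g)] : IsSeparated g := by
  refine ⟨?_⟩
  refine IsClosedImmersion.of_isPreimmersion _ ?_
  let jj : pullback (j ≫ g) (j ≫ g) ⟶ pullback g g :=
    pullback.map (j ≫ g) (j ≫ g) g g j j (𝟙 S) (by simp) (by simp)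
  have hjj : UniversallyClosed jj :=
    MorphismProperty.pullbackMap (P := @UniversallyClosed) (f := j ≫ g) (g := j ≫ g)
      (f' := g) (g' := g) (i₁ := j) (i₂ := j) inferInstance inferInstance rfl rfl
  have hcomm : j ≫ pullback.diagonal g = pullback.diagonal (j ≫ g) ≫ jj := by
    have e1 : jj ≫ pullback.fst g g = pullback.fst _ _ ≫ j := pullback.lift_fst _ _ _
    have e2 : jj ≫ pullback.snd g g = pullback.snd _ _ ≫ j := pullback.lift_snd _ _ _
    apply pullback.hom_ext
    · rw [Category.assoc, pullback.diagonal_fst, Category.comp_id, Category.assoc, e1,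
        pullback.diagonal_fst_assoc]
    · rw [Category.assoc, pullback.diagonal_snd, Category.comp_id, Category.assoc, e2,
        pullback.diagonal_snd_assoc]
  have hrange : Set.range (pullback.diagonal g) =
      jj '' (Set.range (pullback.diagonal (j ≫ g))) := by
    have h1 : Set.range (pullback.diagonal g) = Set.range (j ≫ pullback.diagonal g) := by
      rw [Scheme.Hom.comp_base, TopCat.coe_comp, Set.range_comp,
        (j.surjective).range_eq, Set.image_univ]
    rw [h1, hcomm, Scheme.Hom.comp_base, TopCat.coe_comp, Set.range_comp]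
  rw [hrange]
  exact jj.isClosedMap _ (pullback.diagonal (j ≫ g)).isClosedEmbedding.isClosed_range

/-- properness can be checked after precomposing with a surjective universally closed
morphism. -/
theorem isProper_of_comp_surjective_universallyClosed {T Z S : Scheme.{u}} (j : T ⟶ Z)
    [UniversallyClosed j] [Surjective j] (g : Z ⟶ S) [LocallyOfFiniteType g]
    [IsProper (j ≫ g)] : IsProper g := by
  have h1 : IsSeparated g := isSeparated_of_comp_surjective_universallyClosed j g
  have h2 : UniversallyClosed g := UniversallyClosed.of_comp_surjective j g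
  exact { }

/-- the copairing of two proper morphisms is proper. -/
theorem isProper_coprodDesc {T₁ T₂ S : Scheme.{u}} (a : T₁ ⟶ S) (b : T₂ ⟶ S) [IsProper a]
    [IsProper b] : IsProper (coprod.desc a b) := by
  have h1 : IsProper (coprod.map a b) :=
    IsZariskiLocalAtTarget.coprodMap (P := @IsProper) a b inferInstance inferInstance
  have h2 : IsFinite (coprod.desc (𝟙 S) (𝟙 S)) := inferInstance
  have h3 : coprod.desc a b = coprod.map a b ≫ coprod.desc (𝟙 S) (𝟙 S) := by
    rw [coprod.map_desc, Category.comp_id, Category.comp_id]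
  rw [h3]
  infer_instance

variable {X S : Scheme.{u}}

/-- a closed subset of a closed subset proper over `S` is proper over `S`. -/
theorem isProperOver_of_subset (f : X ⟶ S) {Z Z' : Set X} (hZ : ClSub.IsProperOver f Z)
    (hcl : IsClosed Z') (hsub : Z' ⊆ Z) : ClSub.IsProperOver f Z' := by
  obtain ⟨hZcl, hprop⟩ := hZ
  refine ⟨hcl, ?_⟩
  have hle : Scheme.IdealSheafData.vanishingIdeal ⟨Z, hZcl⟩ ≤
      Scheme.IdealSheafData.vanishingIdeal ⟨Z', hcl⟩ :=
    Scheme.IdealSheafData.vanishingIdeal_antimono (S := ⟨Z', hcl⟩) (T := ⟨Z, hZcl⟩) hsub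
  rw [← Scheme.IdealSheafData.inclusion_subschemeι hle, Category.assoc]
  infer_instance

/-- the union of two closed subsets proper over `S` is proper over `S`. -/
theorem isProperOver_union (f : X ⟶ S) [LocallyOfFiniteType f] {Z₁ Z₂ : Set X}
    (h₁ : ClSub.IsProperOver f Z₁) (h₂ : ClSub.IsProperOver f Z₂) :
    ClSub.IsProperOver f (Z₁ ∪ Z₂) := by
  obtain ⟨hcl₁, hp₁⟩ := h₁
  obtain ⟨hcl₂, hp₂⟩ := h₂
  have hcl : IsClosed (Z₁ ∪ Z₂) := hcl₁.union hcl₂
  refine ⟨hcl, ?_⟩
  set J₁ := Scheme.IdealSheafData.vanishingIdeal ⟨Z₁, hcl₁⟩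
  set J₂ := Scheme.IdealSheafData.vanishingIdeal ⟨Z₂, hcl₂⟩
  set J := Scheme.IdealSheafData.vanishingIdeal ⟨Z₁ ∪ Z₂, hcl⟩
  have hle₁ : J ≤ J₁ :=
    Scheme.IdealSheafData.vanishingIdeal_antimono (S := ⟨Z₁, hcl₁⟩) (T := ⟨Z₁ ∪ Z₂, hcl⟩)
      Set.subset_union_left
  have hle₂ : J ≤ J₂ :=
    Scheme.IdealSheafData.vanishingIdeal_antimono (S := ⟨Z₂, hcl₂⟩) (T := ⟨Z₁ ∪ Z₂, hcl⟩)
      Set.subset_union_right
  let j₁ := Scheme.IdealSheafData.inclusion hle₁
  let j₂ := Scheme.IdealSheafData.inclusion hle₂
  let c : J₁.subscheme ⨿ J₂.subscheme ⟶ J.subscheme := coprod.desc j₁ j₂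
  have hc : UniversallyClosed c := by
    have : IsFinite c := inferInstance
    infer_instance
  have hsurj : Surjective c := by
    refine ⟨fun t => ?_⟩
    have ht : J.subschemeι t ∈ (J.support : Set X) := by
      rw [← Scheme.IdealSheafData.range_subschemeι]
      exact ⟨t, rfl⟩
    rw [Scheme.IdealSheafData.coe_support_vanishingIdeal] at ht
    rcases ht with ht | ht
    · have ht' : J.subschemeι t ∈ Set.range J₁.subschemeι := by
        rw [Scheme.IdealSheafData.range_subschemeι,
          Scheme.IdealSheafData.coe_support_vanishingIdeal]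
        exact ht
      obtain ⟨t₁, ht₁⟩ := ht'
      refine ⟨(coprod.inl : J₁.subscheme ⟶ J₁.subscheme ⨿ J₂.subscheme) t₁, ?_⟩
      apply J.subschemeι.isClosedEmbedding.injective
      rw [← ht₁, ← Scheme.Hom.comp_apply, ← Scheme.Hom.comp_apply, coprod.inl_desc_assoc,
        Scheme.IdealSheafData.inclusion_subschemeι]
    · have ht' : J.subschemeι t ∈ Set.range J₂.subschemeι := by
        rw [Scheme.IdealSheafData.range_subschemeι,
          Scheme.IdealSheafData.coe_support_vanishingIdeal]
        exact ht
      obtain ⟨t₂, ht₂⟩ := ht'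
      refine ⟨(coprod.inr : J₂.subscheme ⟶ J₁.subscheme ⨿ J₂.subscheme) t₂, ?_⟩
      apply J.subschemeι.isClosedEmbedding.injective
      rw [← ht₂, ← Scheme.Hom.comp_apply, ← Scheme.Hom.comp_apply, coprod.inr_desc_assoc,
        Scheme.IdealSheafData.inclusion_subschemeι]
  have hcomp : c ≫ J.subschemeι ≫ f = coprod.desc (J₁.subschemeι ≫ f) (J₂.subschemeι ≫ f) := by
    apply coprod.hom_ext
    · rw [coprod.inl_desc_assoc, coprod.inl_desc, ← Category.assoc,
        Scheme.IdealSheafData.inclusion_subschemeι]
    · rw [coprod.inr_desc_assoc, coprod.inr_desc, ← Category.assoc,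
        Scheme.IdealSheafData.inclusion_subschemeι]
  have hprop : IsProper (c ≫ J.subschemeι ≫ f) := by
    rw [hcomp]
    exact isProper_coprodDesc _ _
  exact isProper_of_comp_surjective_universallyClosed c _

end Groth.Agent.Lib.Helper49.ProperSupport
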