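import Mathlib

/-!
# Global sections of products and base changes over a field

* `isIso_iff_of_isPushout` : in a pushout square of commutative rings along a faithfully flat map,
  the other leg is an isomorphism iff its pushout is.
* `isPushout_appTop_of_field` : Künneth formula in degree zero for qcqs schemes over a field.
* `isIso_comp_iff_of_isPushout_of_isField` : `R → A ⊗_R B` is an isomorphism iff `R → A` and
  `R → B` are, for `R` a field.
-/

set_option autoImplicit false
universe u
open CategoryTheory CategoryTheory.Limits AlgebraicGeometry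

namespace Groth.Agent.Lib.Helper49.KunnethH0

open TensorProduct in
/-- faithfully flat descent of bijectivity of the structure map along `B → A ⊗ B`. -/
theorem bijective_algebraMap_of_includeRight (R A B : Type u) [CommRing R] [CommRing A] [CommRing B]
    [Algebra R A] [Algebra R B] [Module.FaithfullyFlat R B]
    (h : Function.Bijective (Algebra.TensorProduct.includeRight : B →ₐ[R] A ⊗[R] B)) :
    Function.Bijective (algebraMap R A) := by
  let f : R →ₗ[R] A := Algebra.linearMap R A
  have hf : Function.Bijective (f.lTensor B) := by
    have h1 : (TensorProduct.comm R B A) ∘ (f.lTensor B) ∘ (TensorProduct.rid R B).symm =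
        (Algebra.TensorProduct.includeRight : B →ₐ[R] A ⊗[R] B) := by
      funext b
      simp [f]
    have h2 : Function.Bijective
        ((TensorProduct.comm R B A) ∘ (f.lTensor B) ∘ (TensorProduct.rid R B).symm) := by
      rw [h1]; exact h
    have h3 := (Function.Bijective.of_comp_iff' (TensorProduct.comm R B A).bijective _).mp h2
    exact (Function.Bijective.of_comp_iff _ (TensorProduct.rid R B).symm.bijective).mp h3
  exact (Module.FaithfullyFlat.lTensor_bijective_iff_bijective (R := R) (M := B) (f := f)).mp hf

open TensorProduct in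
/-- In a pushout square of commutative rings along a faithfully flat map, the other leg is an
isomorphism iff its pushout is. -/
theorem isIso_iff_of_isPushout {R A B D : CommRingCat.{u}} {a : R ⟶ A} {b : R ⟶ B} {c : A ⟶ D}
    {d : B ⟶ D} (h : IsPushout a b c d) (hb : b.hom.FaithfullyFlat) : IsIso a ↔ IsIso d := by
  constructor
  · intro ha
    exact h.isIso_inr_of_isIso
  · intro hd
    let _ := a.hom.toAlgebra
    let _ := b.hom.toAlgebra
    have : Module.FaithfullyFlat R B := hb
    have h0 := CommRingCat.isPushout_tensorProduct R A B
    have h' : IsPushout (CommRingCat.ofHom (algebraMap R A)) (CommRingCat.ofHom (algebraMap R B)) c d := h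
    let e := h0.isoIsPushout _ _ h'
    have he : CommRingCat.ofHom (Algebra.TensorProduct.includeRight : B →ₐ[R] A ⊗[R] B).toRingHom ≫ e.hom = d :=
      h0.inr_isoIsPushout_hom _ _ h'
    have hiso : IsIso (CommRingCat.ofHom (Algebra.TensorProduct.includeRight : B →ₐ[R] A ⊗[R] B).toRingHom) := by
      have : CommRingCat.ofHom (Algebra.TensorProduct.includeRight : B →ₐ[R] A ⊗[R] B).toRingHom = d ≫ e.inv := by
        rw [← he, Category.assoc, Iso.hom_inv_id, Category.comp_id]
      rw [this]; infer_instance
    have hbij : Function.Bijective (Algebra.TensorProduct.includeRight : B →ₐ[R] A ⊗[R] B) :=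
      (ConcreteCategory.isIso_iff_bijective _).mp hiso
    have := bijective_algebraMap_of_includeRight R A B hbij
    exact (ConcreteCategory.isIso_iff_bijective a).mpr this

/-- a ring map out of a field into a nontrivial ring is faithfully flat. -/
theorem faithfullyFlat_of_isField {R B : CommRingCat.{u}} (hR : IsField R) (b : R ⟶ B)
    [Nontrivial B] : b.hom.FaithfullyFlat := by
  let _ := hR.toField
  let _ := b.hom.toAlgebra
  show Module.FaithfullyFlat R B
  infer_instance

/-- `R → A ⊗_R B` is an isomorphism iff `R → A` and `R → B` are, for `R` a field. -/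
theorem isIso_comp_iff_of_isPushout_of_isField {R A B D : CommRingCat.{u}} {a : R ⟶ A} {b : R ⟶ B}
    {c : A ⟶ D} {d : B ⟶ D} (h : IsPushout a b c d) (hR : IsField R) :
    IsIso (a ≫ c) ↔ IsIso a ∧ IsIso b := by
  constructor
  · intro hac
    have hbd : IsIso (b ≫ d) := by rw [← h.w]; exact hac
    have hRnt : Nontrivial R := hR.nontrivial
    have hD : Nontrivial D :=
      ((ConcreteCategory.isIso_iff_bijective (a ≫ c)).mp hac).injective.nontrivial
    have hA : Nontrivial A := c.hom.domain_nontrivial
    have hB : Nontrivial B := d.hom.domain_nontrivial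
    have hfa : a.hom.FaithfullyFlat := faithfullyFlat_of_isField hR a
    have hfb : b.hom.FaithfullyFlat := faithfullyFlat_of_isField hR b
    -- `d` is bijective
    have hd : IsIso d := by
      rw [ConcreteCategory.isIso_iff_bijective]
      constructor
      · have h1 := CommRingCat.inr_injective_of_flat a b hfa.injective hfb.flat
        have h2 : pushout.inr a b ≫ h.isoPushout.inv = d := h.inr_isoPushout_inv
        rw [← h2]
        exact ((ConcreteCategory.isIso_iff_bijective h.isoPushout.inv).mp
          inferInstance).injective.comp h1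
      · have h1 := ((ConcreteCategory.isIso_iff_bijective (b ≫ d)).mp hbd).surjective
        exact Function.Surjective.of_comp h1
    have hc : IsIso c := by
      rw [ConcreteCategory.isIso_iff_bijective]
      constructor
      · have h1 := CommRingCat.inl_injective_of_flat a b hfa.flat hfb.injective
        have h2 : pushout.inl a b ≫ h.isoPushout.inv = c := h.inl_isoPushout_inv
        rw [← h2]
        exact ((ConcreteCategory.isIso_iff_bijective h.isoPushout.inv).mp
          inferInstance).injective.comp h1
      · have h1 := ((ConcreteCategory.isIso_iff_bijective (a ≫ c)).mp hac).surjective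
        exact Function.Surjective.of_comp h1
    exact ⟨(isIso_iff_of_isPushout h hfb).mpr hd, (isIso_iff_of_isPushout h.flip hfa).mpr hc⟩
  · rintro ⟨ha, hb⟩
    have : IsIso c := h.isIso_inl_of_isIso
    infer_instance

/-- Künneth formula in degree zero: for qcqs schemes `X`, `Y` over a field `k`, the square of
global sections of `X ×_k Y` is a pushout of commutative rings. -/
theorem isPushout_appTop_of_field (k : Type u) [Field k] {X Y : Scheme.{u}}
    (p : X ⟶ Spec (CommRingCat.of k)) (q : Y ⟶ Spec (CommRingCat.of k))
    [CompactSpace X] [QuasiSeparatedSpace X] [CompactSpace Y] [QuasiSeparatedSpace Y] :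
    IsPushout p.appTop q.appTop (pullback.fst p q).appTop (pullback.snd p q).appTop := by
  have : Flat q := inferInstance
  have H : IsPullback (pullback.fst p q) (pullback.snd p q) p q := IsPullback.of_hasPullback _ _
  have hflat : (p.appLE ⊤ ⊤ le_top).hom.Flat := by
    have h1 : p.appLE ⊤ ⊤ le_top = (Scheme.ΓSpecIso (CommRingCat.of k)).hom ≫
        ((Scheme.ΓSpecIso (CommRingCat.of k)).inv ≫ p.appLE ⊤ ⊤ le_top) := by
      rw [Iso.hom_inv_id_assoc]
    rw [h1]
    refine RingHom.Flat.comp (RingHom.Flat.of_bijective
      ((ConcreteCategory.isIso_iff_bijective (Scheme.ΓSpecIso (CommRingCat.of k)).hom).mp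
        inferInstance)) ?_
    let ψ : k →+* Γ(X, ⊤) := ((Scheme.ΓSpecIso (CommRingCat.of k)).inv ≫ p.appLE ⊤ ⊤ le_top).hom
    show ψ.Flat
    let _ := ψ.toAlgebra
    exact (inferInstance : Module.Flat k Γ(X, ⊤))
  have hiso := isIso_pushoutSection_of_isCompact_of_flat_right_of_ringHomFlat H
    (US := ⊤) (UT := ⊤) (UX := ⊤) (UY := ⊤) le_top le_top (by simp)
    (isAffineOpen_top _) isCompact_univ isQuasiSeparated_univ isCompact_univ isQuasiSeparated_univ
    hflat
  have hpo := (isIso_pushoutSection_iff H (US := ⊤) (UT := ⊤) (UX := ⊤) (UY := ⊤)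
    le_top le_top (by simp)).mp hiso
  have e1 : p.appLE ⊤ ⊤ le_top = p.appTop := p.appLE_eq_app
  have e2 : q.appLE ⊤ ⊤ le_top = q.appTop := q.appLE_eq_app
  have e3 : (pullback.fst p q).appLE ⊤ ⊤ le_top = (pullback.fst p q).appTop :=
    (pullback.fst p q).appLE_eq_app
  have e4 : (pullback.snd p q).appLE ⊤ ⊤ le_top = (pullback.snd p q).appTop :=
    (pullback.snd p q).appLE_eq_app
  rw [e1, e2, e3, e4] at hpo
  exact hpo

/-- the ring of global sections of `Spec k` is a field. -/
theorem isField_Γ_Spec (k : Type u) [Field k] : IsField Γ(Spec (CommRingCat.of k), ⊤) :=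
  (Scheme.ΓSpecIso (CommRingCat.of k)).commRingCatIsoToRingEquiv.toMulEquiv.isField
    (Field.toIsField k)

end Groth.Agent.Lib.Helper49.KunnethH0
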