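import Mathlib
import Groth.Agent.Lib.Helper49.StalkExact
/-!
# Stalks of colimits of `O_X`-modules

* `toSheaf_preservesColimitsOfShape`: the forgetful functor from sheaves of modules to sheaves of
  abelian groups preserves colimits.
* `stalkFunctorMod x : X.Modules ⥤ Ab` preserves colimits.
* For a filtered diagram `D : K ⥤ X.Modules` and any colimit cocone `c`:
  `exists_stalk_rep` (every germ of the colimit comes from some `D k`),
  `exists_stalkMap_eq_zero` (a germ of `D k` dying in the colimit dies in some `D k'`).
-/
universe u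
open CategoryTheory CategoryTheory.Limits AlgebraicGeometry TopologicalSpace

namespace Groth.Agent.Lib.Helper49

section General

variable {C : Type u} [SmallCategory C] {J : GrothendieckTopology C} (R : Sheaf J RingCat.{u})
  (K : Type u) [SmallCategory K]

/-- The forgetful functor from sheaves of modules to sheaves of abelian groups preserves colimits. -/
theorem toSheaf_preservesColimitsOfShape :
    PreservesColimitsOfShape K (SheafOfModules.toSheaf.{u} R) := by
  let L := PresheafOfModules.sheafification.{u} (𝟙 R.obj)
  let G := SheafOfModules.forget.{u} R ⋙ PresheafOfModules.restrictScalars (𝟙 R.obj)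
  let adj : L ⊣ G := PresheafOfModules.sheafificationAdjunction (𝟙 R.obj)
  have hLF : PreservesColimitsOfShape K (L ⋙ SheafOfModules.toSheaf.{u} R) := by
    have e : L ⋙ SheafOfModules.toSheaf.{u} R ≅
        PresheafOfModules.toPresheaf _ ⋙ presheafToSheaf J AddCommGrpCat :=
      PresheafOfModules.sheafificationCompToSheaf (𝟙 R.obj)
    exact preservesColimitsOfShape_of_natIso e.symm
  constructor
  intro D
  have e : (D ⋙ G) ⋙ L ≅ D :=
    Functor.associator _ _ _ ≪≫ Functor.isoWhiskerLeft D (asIso adj.counit) ≪≫ D.rightUnitor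
  have h1 : PreservesColimit ((D ⋙ G) ⋙ L) (SheafOfModules.toSheaf.{u} R) := by
    have hc : IsColimit (L.mapCocone (colimit.cocone (D ⋙ G))) :=
      isColimitOfPreserves L (colimit.isColimit _)
    refine preservesColimit_of_preserves_colimit_cocone hc ?_
    exact isColimitOfPreserves (L ⋙ SheafOfModules.toSheaf.{u} R) (colimit.isColimit (D ⋙ G))
  exact preservesColimit_of_iso_diagram _ e

end General

variable {X : Scheme.{u}}

/-- The stalk functor on `O_X`-modules (valued in abelian groups). -/
noncomputable def stalkFunctorMod (x : X) : X.Modules ⥤ Ab.{u} :=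
  Scheme.Modules.toPresheaf X ⋙ TopCat.Presheaf.stalkFunctor Ab.{u} x

theorem stalkFunctorMod_map {M N : X.Modules} (φ : M ⟶ N) (x : X) :
    (stalkFunctorMod x).map φ = stalkMap φ x := rfl

/-- The stalk functor factors through sheaves of abelian groups. -/
noncomputable def stalkFunctorModIso (x : X) :
    stalkFunctorMod x ≅ SheafOfModules.toSheaf.{u} X.ringCatSheaf ⋙
      (TopCat.Sheaf.forget Ab.{u} X.toTopCat ⋙ TopCat.Presheaf.stalkFunctor Ab.{u} x) :=
  Iso.refl _

theorem stalkFunctorMod_preservesColimitsOfShape (x : X) (K : Type u)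
    [SmallCategory K] : PreservesColimitsOfShape K (stalkFunctorMod x) := by
  classical
  have h0 := toSheaf_preservesColimitsOfShape X.ringCatSheaf K
  have h1 : PreservesColimitsOfShape K
      (TopCat.Sheaf.forget Ab.{u} X.toTopCat ⋙ TopCat.Presheaf.stalkFunctor Ab.{u} x) :=
    (stalkSkyscraperSheafAdjunction (C := Ab.{u})
      x).leftAdjoint_preservesColimits.preservesColimitsOfShape
  have h2 : PreservesColimitsOfShape K (SheafOfModules.toSheaf.{u} X.ringCatSheaf ⋙
      (TopCat.Sheaf.forget Ab.{u} X.toTopCat ⋙ TopCat.Presheaf.stalkFunctor Ab.{u} x)) :=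
    @comp_preservesColimitsOfShape _ _ _ _ _ _ _ _ _ _ h0 h1
  exact @preservesColimitsOfShape_of_natIso _ _ _ _ _ _ _ _ (stalkFunctorModIso x).symm h2

section Filtered

variable {K : Type u} [SmallCategory K] [IsFiltered K] (D : K ⥤ X.Modules) (c : Cocone D)
  (hc : IsColimit c) (x : X)

/-- The colimit cocone of a diagram of `O_X`-modules stays a colimit cocone on stalks. -/
noncomputable def isColimitStalk : IsColimit ((stalkFunctorMod x).mapCocone c) :=
  have := stalkFunctorMod_preservesColimitsOfShape x K
  isColimitOfPreserves (stalkFunctorMod x) hc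

include hc in
/-- Every germ of a filtered colimit of `O_X`-modules comes from a member of the diagram. -/
theorem exists_stalk_rep (b : ↑(c.pt.presheaf.stalk x)) :
    ∃ (k : K) (a : ↑((D.obj k).presheaf.stalk x)), (stalkMap (c.ι.app k) x).hom a = b := by
  obtain ⟨k, a, ha⟩ := Concrete.isColimit_exists_rep (D ⋙ stalkFunctorMod x)
    (isColimitStalk D c hc x) b
  exact ⟨k, a, ha⟩

include hc in
/-- A germ of a member of a filtered diagram of `O_X`-modules which dies in the colimit dies in
some later member. -/
theorem exists_stalkMap_eq_zero (k : K) (a : ↑((D.obj k).presheaf.stalk x))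
    (h : (stalkMap (c.ι.app k) x).hom a = 0) :
    ∃ (k' : K) (f : k ⟶ k'), (stalkMap (D.map f) x).hom a = 0 := by
  have h' : ((stalkFunctorMod x).mapCocone c).ι.app k a =
      ((stalkFunctorMod x).mapCocone c).ι.app k (0 : ↑((D.obj k).presheaf.stalk x)) := by
    change (stalkMap (c.ι.app k) x).hom a = (stalkMap (c.ι.app k) x).hom 0
    rw [h, map_zero]
  obtain ⟨k', f, g, hfg⟩ := Concrete.isColimit_exists_of_rep_eq (D ⋙ stalkFunctorMod x)
    (isColimitStalk D c hc x) a (0 : ↑((D.obj k).presheaf.stalk x)) h'
  refine ⟨k', f, ?_⟩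
  change (stalkMap (D.map f) x).hom a = (stalkMap (D.map g) x).hom 0 at hfg
  rw [hfg, map_zero]

end Filtered

end Groth.Agent.Lib.Helper49
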