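import Mathlib
import Groth.Prelude.Def_OmegaPn

set_option autoImplicit false
universe u
open CategoryTheory CategoryTheory.Limits AlgebraicGeometry TopologicalSpace Opposite

namespace Groth.Agent.Lib.Helper49.PrinPartZero

open PrinPart

/-- Pushforward along an isomorphism of schemes is an equivalence. -/
noncomputable def pushforwardEquiv {X Y : Scheme.{u}} (h : X ⟶ Y) [IsIso h] :
    X.Modules ≌ Y.Modules :=
  CategoryTheory.Equivalence.mk (Scheme.Modules.pushforward h) (Scheme.Modules.pushforward (inv h))
    ((Scheme.Modules.pushforwardId X).symm ≪≫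
      (Scheme.Modules.pushforwardCongr (IsIso.hom_inv_id h).symm) ≪≫
      (Scheme.Modules.pushforwardComp h (inv h)).symm)
    ((Scheme.Modules.pushforwardComp (inv h) h) ≪≫
      (Scheme.Modules.pushforwardCongr (IsIso.inv_hom_id h)) ≪≫ Scheme.Modules.pushforwardId Y)

instance isEquivalence_pushforward {X Y : Scheme.{u}} (h : X ⟶ Y) [IsIso h] :
    (Scheme.Modules.pushforward h).IsEquivalence :=
  (pushforwardEquiv h).isEquivalence_functor

instance isEquivalence_pullback {X Y : Scheme.{u}} (h : X ⟶ Y) [IsIso h] :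
    (Scheme.Modules.pullback h).IsEquivalence :=
  (Scheme.Modules.pullbackPushforwardAdjunction h).isEquivalence_left_of_isEquivalence_right

theorem pullSect_bijective {X Y : Scheme.{u}} (h : X ⟶ Y) [IsIso h] (M : Y.Modules) (U : Y.Opens) :
    Function.Bijective (OmegaSh.pullSect h M U) := by
  have : IsIso ((Scheme.Modules.pullbackPushforwardAdjunction h).unit.app M) := inferInstance
  have h2 : IsIso (OmegaSh.pullSect h M U) := by
    exact Scheme.Modules.Hom.isIso_iff_isIso_app.mp this U
  exact (ConcreteCategory.isIso_iff_bijective _).mp h2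

theorem isIso_inclusion {X : Scheme.{u}} {I J : X.IdealSheafData} (h : I ≤ J) (h' : I = J) :
    IsIso (Scheme.IdealSheafData.inclusion h) := by
  subst h'
  rw [Scheme.IdealSheafData.inclusion_id]
  infer_instance

instance isIso_toInfNbhd_zero {X Y : Scheme.{u}} (i : Y ⟶ X) [IsClosedImmersion i] :
    IsIso (toInfNbhd i 0) := by
  unfold toInfNbhd
  have : IsIso (Scheme.IdealSheafData.inclusion (ker_pow_succ_le i 0)) :=
    isIso_inclusion _ (by rw [zero_add, pow_one])
  infer_instance

variable {X S : Scheme.{u}} (f : X ⟶ S)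

instance isIso_toNbhd_zero : IsIso (toNbhd f 0) := isIso_toInfNbhd_zero (diagCl f)

theorem pr1_zero : pr1 f 0 = inv (toNbhd f 0) := by
  rw [← cancel_epi (toNbhd f 0), toNbhd_pr1, IsIso.hom_inv_id]

theorem pr2_zero : pr2 f 0 = inv (toNbhd f 0) := by
  rw [← cancel_epi (toNbhd f 0), toNbhd_pr2, IsIso.hom_inv_id]

instance : IsIso (pr1 f 0) := by rw [pr1_zero]; infer_instance
instance : IsIso (pr2 f 0) := by rw [pr2_zero]; infer_instance

theorem dP_zero_bijective (F : X.Modules) (U : X.Opens) :
    Function.Bijective (dP f 0 F U) := by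
  have h1 : Function.Bijective (OmegaSh.pullSect (pr2 f 0) F U) := pullSect_bijective _ F U
  have h2 : IsIso (((Scheme.Modules.pullback (pr2 f 0)).obj F).presheaf.map
      (homOfLE (preimage_pr1 f 0 U).le).op) := by
    have : IsIso (homOfLE (preimage_pr1 f 0 U).le) :=
      ⟨homOfLE (preimage_pr1 f 0 U).ge, by apply Subsingleton.elim, by apply Subsingleton.elim⟩
    infer_instance
  have h3 := (ConcreteCategory.isIso_iff_bijective _).mp h2
  unfold dP
  exact h3.comp h1

end Groth.Agent.Lib.Helper49.PrinPartZero
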