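import Mathlib
import Groth.Prelude.Def_OmegaPn
import Groth.Agent.Lib.Helper18.IdealComap

set_option autoImplicit false
universe u
open CategoryTheory CategoryTheory.Limits AlgebraicGeometry TopologicalSpace Opposite

namespace Groth.Agent.Lib.Helper49.InfNbhdPullback

open PrinPart

variable {X Y : Scheme.{u}}

/-- Inverse image of ideal sheaves commutes with powers. -/
theorem comap_pow (v : X ⟶ Y) (I : Y.IdealSheafData) (k : ℕ) :
    (I ^ k).comap v = (I.comap v) ^ k := by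
  let ι := {U : X.affineOpens // ∃ V : Y.affineOpens, U.1 ≤ v ⁻¹ᵁ V.1}
  refine Scheme.IdealSheafData.ext_of_iSup_eq_top (ι := ι) (fun U => U.1) ?_ ?_
  · rw [eq_top_iff]
    intro x _
    obtain ⟨V, hV, hxV, -⟩ := exists_isAffineOpen_mem_and_subset (x := v x) (U := ⊤) trivial
    obtain ⟨U, hU, hxU, hUV⟩ := exists_isAffineOpen_mem_and_subset (x := x) (U := v ⁻¹ᵁ V) hxV
    exact Opens.mem_iSup.mpr ⟨⟨⟨U, hU⟩, ⟨⟨V, hV⟩, hUV⟩⟩, hxU⟩
  · rintro ⟨U, V, hUV⟩
    change ((I ^ k).comap v).ideal U = ((I.comap v) ^ k).ideal U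
    rw [Groth.Agent.Lib.Helper18.ideal_comap_of_le v (I ^ k) U V hUV,
      Scheme.IdealSheafData.ideal_pow, Scheme.IdealSheafData.ideal_pow, Pi.pow_apply, Pi.pow_apply,
      Groth.Agent.Lib.Helper18.ideal_comap_of_le v I U V hUV, Ideal.map_pow]

theorem ker_of_isPullback {Y X Y' X' : Scheme.{u}} (f : Y ⟶ X) [IsClosedImmersion f]
    (v : X' ⟶ X) (u : Y' ⟶ Y) (f' : Y' ⟶ X') (hsq : IsPullback u f' f v) :
    f'.ker = f.ker.comap v := by
  have h1 : hsq.flip.isoPullback.hom ≫ pullback.fst v f = f' := hsq.flip.isoPullback_hom_fst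
  rw [← h1, Scheme.Hom.ker_comp_of_isIso, Scheme.IdealSheafData.ker_fst_of_isClosedImmersion]

theorem isPullback_infNbhd {Y X Y' X' : Scheme.{u}} (f : Y ⟶ X) [IsClosedImmersion f]
    (v : X' ⟶ X) (u : Y' ⟶ Y) (f' : Y' ⟶ X') (hsq : IsPullback u f' f v) (n : ℕ)
    (w : PrinPart.infNbhd f' n ⟶ PrinPart.infNbhd f n)
    (hw : w ≫ PrinPart.infNbhdι f n = PrinPart.infNbhdι f' n ≫ v) :
    IsPullback w (PrinPart.infNbhdι f' n) (PrinPart.infNbhdι f n) v := by
  have : IsClosedImmersion (infNbhdι f n) := by unfold infNbhdι; infer_instance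
  have : IsClosedImmersion (infNbhdι f' n) := by unfold infNbhdι; infer_instance
  refine (isPullback_of_isClosedImmersion (infNbhdι f' n) (infNbhdι f n) w v hw.symm ?_).flip
  unfold infNbhdι
  rw [Scheme.IdealSheafData.ker_subschemeι, Scheme.IdealSheafData.ker_subschemeι, comap_pow,
    ker_of_isPullback f v u f' hsq]

end Groth.Agent.Lib.Helper49.InfNbhdPullback
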