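import Mathlib
import Groth.Prelude.Def_OmegaPn
import Groth.Agent.Lib.Helper49.InfNbhdPullback

set_option autoImplicit false
universe u
open CategoryTheory CategoryTheory.Limits AlgebraicGeometry TopologicalSpace Opposite

namespace Groth.Agent.Lib.Helper49.PrinPartInvol

open PrinPart Groth.Agent.Lib.Helper49.InfNbhdPullback

section General

variable {Y W : Scheme.{u}} (i : Y ⟶ W) [IsClosedImmersion i] (e : W ⟶ W) (he : i ≫ e = i)

include he in
theorem ker_le_map : i.ker ≤ i.ker.map e := by
  have h1 : i.ker.map e = i.ker := by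
    unfold Scheme.IdealSheafData.map
    have h3 : (i.toImage ≫ (i.ker.subschemeι ≫ e)).ker = (i.ker.subschemeι ≫ e).ker :=
      Scheme.Hom.ker_comp_of_isIso _ _
    have h4 : i.toImage ≫ i.ker.subschemeι = i := i.toImage_imageι
    rw [← h3, ← Category.assoc, h4, he]
  rw [h1]

include he in
theorem ker_pow_le_map (k : ℕ) : i.ker ^ k ≤ (i.ker ^ k).map e := by
  rw [Scheme.IdealSheafData.le_map_iff_comap_le, comap_pow]
  have h1 : i.ker.comap e ≤ i.ker := Scheme.IdealSheafData.le_map_iff_comap_le.mp (ker_le_map i e he)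
  intro U
  exact Ideal.pow_right_mono (h1 U) k

/-- The endomorphism of the `n`-th infinitesimal neighbourhood induced by an endomorphism of the
ambient scheme fixing the closed subscheme. -/
noncomputable def infNbhdEndo (n : ℕ) : infNbhd i n ⟶ infNbhd i n :=
  Scheme.IdealSheafData.subschemeMap _ _ e (ker_pow_le_map i e he (n + 1))

@[reassoc]
theorem infNbhdEndo_ι (n : ℕ) : infNbhdEndo i e he n ≫ infNbhdι i n = infNbhdι i n ≫ e :=
  Scheme.IdealSheafData.subschemeMap_subschemeι _ _ _ _

end General

variable {X S : Scheme.{u}} (f : X ⟶ S)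

theorem diagonal_symm :
    pullback.diagonal f ≫ (pullbackSymmetry f f).hom = pullback.diagonal f := by
  apply pullback.hom_ext <;> simp

theorem symm_symm : (pullbackSymmetry f f).hom ≫ (pullbackSymmetry f f).hom = 𝟙 _ := by
  apply pullback.hom_ext <;> simp

theorem symm_preimage_coborder :
    (pullbackSymmetry f f).hom ⁻¹ᵁ (pullback.diagonal f).coborderRange =
      (pullback.diagonal f).coborderRange := by
  set s := (pullbackSymmetry f f).hom with hs
  have hopen : IsOpenMap s := (Scheme.homeoOfIso (pullbackSymmetry f f)).isOpenMap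
  have hrange : s ⁻¹' (Set.range (pullback.diagonal f)) = Set.range (pullback.diagonal f) := by
    ext x
    constructor
    · rintro ⟨y, hy⟩
      refine ⟨y, ?_⟩
      have h1 : s (s x) = x := by
        rw [← Scheme.Hom.comp_apply, hs, symm_symm]; rfl
      rw [← h1, ← hy, ← Scheme.Hom.comp_apply, hs, diagonal_symm]
    · rintro ⟨y, rfl⟩
      refine ⟨y, ?_⟩
      rw [← Scheme.Hom.comp_apply, hs, diagonal_symm]
  ext x
  change x ∈ s ⁻¹' (coborder (Set.range (pullback.diagonal f))) ↔
    x ∈ coborder (Set.range (pullback.diagonal f))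
  rw [← coborder_preimage hopen s.continuous, hrange]

/-- The symmetry restricted to the open `coborderRange` of the diagonal. -/
noncomputable def symmW : ((pullback.diagonal f).coborderRange : Scheme.{u}) ⟶
    ((pullback.diagonal f).coborderRange : Scheme.{u}) :=
  (pullbackSymmetry f f).hom.resLE _ _ (symm_preimage_coborder f).ge

@[reassoc]
theorem symmW_ι : symmW f ≫ (pullback.diagonal f).coborderRange.ι =
    (pullback.diagonal f).coborderRange.ι ≫ (pullbackSymmetry f f).hom :=
  Scheme.Hom.resLE_comp_ι _ _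

theorem symmW_symmW : symmW f ≫ symmW f = 𝟙 _ := by
  rw [← cancel_mono (pullback.diagonal f).coborderRange.ι, Category.assoc, symmW_ι, symmW_ι_assoc,
    symm_symm, Category.comp_id, Category.id_comp]

theorem diagCl_symmW : diagCl f ≫ symmW f = diagCl f := by
  rw [← cancel_mono (pullback.diagonal f).coborderRange.ι, Category.assoc, symmW_ι,
    Scheme.Hom.liftCoborder_ι_assoc, diagonal_symm, Scheme.Hom.liftCoborder_ι]

/-- The involution of the `n`-th infinitesimal neighbourhood of the diagonal. -/
noncomputable def sigma (n : ℕ) : nbhd f n ⟶ nbhd f n :=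
  infNbhdEndo (diagCl f) (symmW f) (diagCl_symmW f) n

theorem sigma_spec (n : ℕ) :
    sigma f n ≫ nbhdι f n = nbhdι f n ≫ (pullbackSymmetry f f).hom ∧
    sigma f n ≫ sigma f n = 𝟙 (nbhd f n) ∧
    sigma f n ≫ pr1 f n = pr2 f n ∧ sigma f n ≫ pr2 f n = pr1 f n ∧
    toNbhd f n ≫ sigma f n = toNbhd f n := by
  have hmono : Mono (infNbhdι (diagCl f) n) := by unfold infNbhdι; infer_instance
  have h1 : sigma f n ≫ nbhdι f n = nbhdι f n ≫ (pullbackSymmetry f f).hom := by
    unfold nbhdι sigma
    rw [infNbhdEndo_ι_assoc, symmW_ι, Category.assoc]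
  refine ⟨h1, ?_, ?_, ?_, ?_⟩
  · rw [← cancel_mono (infNbhdι (diagCl f) n)]
    unfold sigma
    rw [Category.assoc, infNbhdEndo_ι, infNbhdEndo_ι_assoc, symmW_symmW, Category.comp_id,
      Category.id_comp]
  · unfold pr1 pr2
    rw [← Category.assoc, h1, Category.assoc, pullbackSymmetry_hom_comp_fst]
  · unfold pr1 pr2
    rw [← Category.assoc, h1, Category.assoc, pullbackSymmetry_hom_comp_snd]
  · rw [← cancel_mono (infNbhdι (diagCl f) n)]
    unfold sigma
    rw [Category.assoc, infNbhdEndo_ι, toInfNbhd_ι_assoc, toInfNbhd_ι, diagCl_symmW]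

end Groth.Agent.Lib.Helper49.PrinPartInvol
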