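import Mathlib
import Groth.Agent.Lib.Helper49.StalkColimit
import Groth.Agent.Lib.Helper49.AffineHom
/-!
# Sections of filtered colimits of `O_X`-modules over Noetherian opens

* `exists_gluing₂`: gluing two sections agreeing on the intersection.
* `germ_eq_zero_nhds`: a section with zero germ at `x` vanishes near `x`.
* For a filtered diagram `D : K ⥤ X.Modules` with colimit cocone `c`:
  `exists_map_app_eq_zero` (a section of `D k` over a quasi-compact open dying in the colimit dies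
  in some `D k'`), `exists_app_eq` (every section of the colimit over a Noetherian open comes from
  some `D k`).
-/
universe u
open CategoryTheory CategoryTheory.Limits AlgebraicGeometry TopologicalSpace Opposite

namespace Groth.Agent.Lib.Helper49

variable {X : Scheme.{u}}

theorem res_res' (F : X.Modules) {V W W' : X.Opens} (h : W ≤ V) (h' : W' ≤ W) (s : Γ(F, V)) :
    F.presheaf.map (homOfLE h').op (F.presheaf.map (homOfLE h).op s) =
      F.presheaf.map (homOfLE (h'.trans h)).op s :=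
  map_map F (homOfLE h') (homOfLE h) s

/-- Gluing two sections of an `O_X`-module agreeing on the intersection. -/
theorem exists_gluing₂ (F : X.Modules) {U₁ U₂ : X.Opens} (s₁ : Γ(F, U₁)) (s₂ : Γ(F, U₂))
    (h : F.presheaf.map (homOfLE (inf_le_left : U₁ ⊓ U₂ ≤ U₁)).op s₁ =
      F.presheaf.map (homOfLE (inf_le_right : U₁ ⊓ U₂ ≤ U₂)).op s₂) :
    ∃ s : Γ(F, U₁ ⊔ U₂), F.presheaf.map (homOfLE (le_sup_left : U₁ ≤ U₁ ⊔ U₂)).op s = s₁ ∧
      F.presheaf.map (homOfLE (le_sup_right : U₂ ≤ U₁ ⊔ U₂)).op s = s₂ := by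
  let Fs : TopCat.Sheaf Ab.{u} X.toTopCat := ⟨F.presheaf, F.isSheaf⟩
  let U : Bool → X.Opens := fun b => cond b U₁ U₂
  let sf : ∀ b : Bool, Γ(F, U b) := fun b =>
    Bool.rec (motive := fun b => Γ(F, U b)) s₂ s₁ b
  have hcompat : TopCat.Presheaf.IsCompatible Fs.1 U sf := by
    rintro (_ | _) (_ | _)
    · exact congrArg (fun i => F.presheaf.map (Quiver.Hom.op i) s₂) (Subsingleton.elim _ _)
    · have e : U₂ ⊓ U₁ ≤ U₁ ⊓ U₂ := le_of_eq (inf_comm _ _)
      have := congrArg (F.presheaf.map (homOfLE e).op) h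
      rw [res_res', res_res'] at this
      exact this.symm
    · exact h
    · exact congrArg (fun i => F.presheaf.map (Quiver.Hom.op i) s₁) (Subsingleton.elim _ _)
  have hcover : U₁ ⊔ U₂ ≤ iSup U := by
    rw [sup_le_iff]
    exact ⟨le_iSup U true, le_iSup U false⟩
  obtain ⟨s, hs, -⟩ := Fs.existsUnique_gluing' U (U₁ ⊔ U₂)
    (fun b => Bool.rec (motive := fun b => U b ⟶ U₁ ⊔ U₂) (homOfLE le_sup_right)
      (homOfLE le_sup_left) b) hcover sf hcompat
  exact ⟨s, hs true, hs false⟩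

theorem germ_eq_zero_nhds (F : X.Modules) (V : X.Opens) (x : X) (hx : x ∈ V) (t : Γ(F, V))
    (h : F.presheaf.germ V x hx t = 0) :
    ∃ W : X.Opens, x ∈ W ∧ ∃ hWV : W ≤ V, F.presheaf.map (homOfLE hWV).op t = 0 := by
  have h' : F.presheaf.germ V x hx t = F.presheaf.germ V x hx 0 := by rw [h, map_zero]
  obtain ⟨W, hxW, i, i', hi⟩ := TopCat.Presheaf.germ_eq F.presheaf x hx hx _ _ h'
  rw [map_zero] at hi
  exact ⟨W, hxW, i.le, hi⟩

section Filtered

variable {K : Type u} [SmallCategory K] [IsFiltered K] (D : K ⥤ X.Modules) (c : Cocone D)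
  (hc : IsColimit c)

omit [IsFiltered K] in
theorem map_comp_app {k k' k'' : K} (f : k ⟶ k') (g : k' ⟶ k'') (V : X.Opens)
    (t : Γ(D.obj k, V)) :
    (D.map (f ≫ g)).app V t = (D.map g).app V ((D.map f).app V t) := by
  rw [D.map_comp]; rfl

omit [IsFiltered K] in
theorem ι_map_app {k k' : K} (f : k ⟶ k') (V : X.Opens) (t : Γ(D.obj k, V)) :
    (c.ι.app k').app V ((D.map f).app V t) = (c.ι.app k).app V t := by
  rw [← c.w f]; rfl

include hc in
/-- A section of a member of a filtered diagram of `O_X`-modules over a quasi-compact open which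
dies in the colimit dies in a later member. -/
theorem exists_map_app_eq_zero (V : X.Opens) (hV : IsCompact (V : Set X)) (k : K)
    (t : Γ(D.obj k, V)) (h : (c.ι.app k).app V t = 0) :
    ∃ (k' : K) (f : k ⟶ k'), (D.map f).app V t = 0 := by
  have key : ∃ (k' : K) (f : k ⟶ k'), ∀ x ∈ (V : Set X), ∀ hx : x ∈ V,
      (D.obj k').presheaf.germ V x hx ((D.map f).app V t) = 0 := by
    refine hV.induction_on (p := fun S => ∃ (k' : K) (f : k ⟶ k'), ∀ x ∈ S, ∀ hx : x ∈ V,
      (D.obj k').presheaf.germ V x hx ((D.map f).app V t) = 0) ?_ ?_ ?_ ?_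
    · exact ⟨k, 𝟙 k, fun x hx => (Set.notMem_empty x hx).elim⟩
    · rintro S S' hSS' ⟨k', f, hf⟩
      exact ⟨k', f, fun x hx => hf x (hSS' hx)⟩
    · rintro S₁ S₂ ⟨k₁, f₁, h₁⟩ ⟨k₂, f₂, h₂⟩
      obtain ⟨k', g₁, g₂, hg⟩ := IsFiltered.span f₁ f₂
      refine ⟨k', f₁ ≫ g₁, ?_⟩
      rintro x (hx | hx) hxV
      · rw [map_comp_app, ← stalkMap_germ, h₁ x hx hxV, map_zero]
      · rw [hg, map_comp_app, ← stalkMap_germ, h₂ x hx hxV, map_zero]
    · intro x hx
      have h1 : (stalkMap (c.ι.app k) x).hom ((D.obj k).presheaf.germ V x hx t) = 0 := by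
        rw [stalkMap_germ, h, map_zero]
      obtain ⟨k', f, hf⟩ := exists_stalkMap_eq_zero D c hc x k _ h1
      rw [stalkMap_germ] at hf
      obtain ⟨W, hxW, hWV, hW⟩ := germ_eq_zero_nhds _ V x hx _ hf
      refine ⟨(W : Set X), mem_nhdsWithin_of_mem_nhds (W.2.mem_nhds hxW), k', f, ?_⟩
      intro y hyW hyV
      rw [← TopCat.Presheaf.germ_res_apply _ (homOfLE hWV) y hyW, hW, map_zero]
  obtain ⟨k', f, hf⟩ := key
  exact ⟨k', f, Helper45.section_ext_germ _ V _ 0 fun x hx => by rw [hf x hx hx, map_zero]⟩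

omit [IsFiltered K] in
theorem ι_app_res (k : K) {V W : X.Opens} (h : W ≤ V) (t : Γ(D.obj k, V)) :
    (c.ι.app k).app W ((D.obj k).presheaf.map (homOfLE h).op t) =
      c.pt.presheaf.map (homOfLE h).op ((c.ι.app k).app V t) :=
  app_map (c.ι.app k) (homOfLE h) t

omit [IsFiltered K] in
theorem map_app_res {k k' : K} (f : k ⟶ k') {V W : X.Opens} (h : W ≤ V) (t : Γ(D.obj k, V)) :
    (D.map f).app W ((D.obj k).presheaf.map (homOfLE h).op t) =
      (D.obj k').presheaf.map (homOfLE h).op ((D.map f).app V t) :=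
  app_map (D.map f) (homOfLE h) t

include hc in
/-- Every section of a filtered colimit of `O_X`-modules over a Noetherian open comes from a
member of the diagram. -/
theorem exists_app_eq (V : X.Opens) (hV : NoetherianSpace ↥(V : Set X)) (s : Γ(c.pt, V)) :
    ∃ (k : K) (t : Γ(D.obj k, V)), (c.ι.app k).app V t = s := by
  have hcompact : ∀ W : X.Opens, W ≤ V → IsCompact (W : Set X) := fun W hW =>
    (noetherianSpace_set_iff _).mp hV W hW
  have key : ∃ W : X.Opens, (V : Set X) ⊆ W ∧ ∃ hWV : W ≤ V, ∃ (k : K) (t : Γ(D.obj k, W)),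
      (c.ι.app k).app W t = c.pt.presheaf.map (homOfLE hWV).op s := by
    refine (hcompact V le_rfl).induction_on (p := fun S => ∃ W : X.Opens, S ⊆ W ∧
      ∃ hWV : W ≤ V, ∃ (k : K) (t : Γ(D.obj k, W)),
        (c.ι.app k).app W t = c.pt.presheaf.map (homOfLE hWV).op s) ?_ ?_ ?_ ?_
    · have : Subsingleton Γ(c.pt, (⊥ : X.Opens)) :=
        subsingleton_sections_of_stalk c.pt ⊥ fun x hx => (hx : x ∈ (∅ : Set X)).elim
      exact ⟨⊥, Set.empty_subset _, bot_le, (IsFiltered.nonempty : Nonempty K).some, 0,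
        this.elim _ _⟩
    · rintro S S' hSS' ⟨W, hW, h⟩
      exact ⟨W, hSS'.trans hW, h⟩
    · rintro S₁ S₂ ⟨W₁, hS₁, hW₁, k₁, t₁, ht₁⟩ ⟨W₂, hS₂, hW₂, k₂, t₂, ht₂⟩
      -- move to a common index
      let k₀ := IsFiltered.max k₁ k₂
      let u₁ := (D.map (IsFiltered.leftToMax k₁ k₂)).app W₁ t₁
      let u₂ := (D.map (IsFiltered.rightToMax k₁ k₂)).app W₂ t₂
      have hu₁ : (c.ι.app k₀).app W₁ u₁ = c.pt.presheaf.map (homOfLE hW₁).op s := by
        rw [← ht₁]; exact ι_map_app D c _ W₁ t₁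
      have hu₂ : (c.ι.app k₀).app W₂ u₂ = c.pt.presheaf.map (homOfLE hW₂).op s := by
        rw [← ht₂]; exact ι_map_app D c _ W₂ t₂
      -- the difference on the intersection dies in the colimit
      have hd : (c.ι.app k₀).app (W₁ ⊓ W₂)
          ((D.obj k₀).presheaf.map (homOfLE (inf_le_left : W₁ ⊓ W₂ ≤ W₁)).op u₁ -
            (D.obj k₀).presheaf.map (homOfLE (inf_le_right : W₁ ⊓ W₂ ≤ W₂)).op u₂) = 0 := by
        rw [map_sub, ι_app_res, ι_app_res, hu₁, hu₂, res_res', res_res', sub_self]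
      obtain ⟨k', f, hf⟩ := exists_map_app_eq_zero D c hc (W₁ ⊓ W₂)
        (hcompact _ (inf_le_left.trans hW₁)) k₀ _ hd
      rw [map_sub, sub_eq_zero, map_app_res, map_app_res] at hf
      obtain ⟨v, hv₁, hv₂⟩ := exists_gluing₂ (D.obj k') _ _ hf
      refine ⟨W₁ ⊔ W₂, Set.union_subset_union hS₁ hS₂, sup_le hW₁ hW₂, k', v, ?_⟩
      refine Helper45.section_ext_germ c.pt (W₁ ⊔ W₂) _ _ fun x hx => ?_
      rcases hx with hx | hx
      · rw [← TopCat.Presheaf.germ_res_apply c.pt.presheaf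
            (homOfLE (le_sup_left : W₁ ≤ W₁ ⊔ W₂)) x hx,
          ← TopCat.Presheaf.germ_res_apply c.pt.presheaf
            (homOfLE (le_sup_left : W₁ ≤ W₁ ⊔ W₂)) x hx,
          ← ι_app_res, hv₁, ι_map_app, hu₁, res_res']
      · rw [← TopCat.Presheaf.germ_res_apply c.pt.presheaf
            (homOfLE (le_sup_right : W₂ ≤ W₁ ⊔ W₂)) x hx,
          ← TopCat.Presheaf.germ_res_apply c.pt.presheaf
            (homOfLE (le_sup_right : W₂ ≤ W₁ ⊔ W₂)) x hx,
          ← ι_app_res, hv₂, ι_map_app, hu₂, res_res']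
    · intro x hx
      obtain ⟨k, a, ha⟩ := exists_stalk_rep D c hc x (c.pt.presheaf.germ V x hx s)
      obtain ⟨V₀, hxV₀, t₀, rfl⟩ := TopCat.Presheaf.exists_germ_eq _ a
      rw [stalkMap_germ] at ha
      obtain ⟨W, hxW, i₀, i, hi⟩ := TopCat.Presheaf.germ_eq c.pt.presheaf x hxV₀ hx _ _ ha
      refine ⟨(W : Set X), mem_nhdsWithin_of_mem_nhds (W.2.mem_nhds hxW), W, le_rfl, i.le, k,
        (D.obj k).presheaf.map i₀.op t₀, ?_⟩
      rw [app_map]
      exact hi
  obtain ⟨W, hVW, hWV, k, t, ht⟩ := key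
  obtain rfl : W = V := le_antisymm hWV hVW
  refine ⟨k, t, ht.trans ?_⟩
  have : (homOfLE hWV) = 𝟙 W := Subsingleton.elim _ _
  rw [this, op_id, c.pt.presheaf.map_id]
  rfl

end Filtered

end Groth.Agent.Lib.Helper49
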