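import Mathlib
import Groth.Prelude.Def_ZClos
import Groth.Agent.Lib.Helper49.StalkColimit
/-!
# The Z-closure `H⁰_{X/Z}` : stalkwise description and first consequences
-/
universe u
open CategoryTheory CategoryTheory.Limits AlgebraicGeometry TopologicalSpace Opposite

namespace Groth.Agent.Lib.Helper49.ZClosure

open ZClos

variable {X : Scheme.{u}} (Z : Set X) (F : X.Modules)

/-- the colimit injection `j_{T*}(F|_{X∖T}) ⟶ H⁰_{X/Z}(F)`. -/
noncomputable abbrev inj (T : Cl Z) : ((diagram Z).obj F).obj T ⟶ (H0 Z).obj F :=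
  colimit.ι ((diagram Z).obj F) T

theorem rhoApp_eq' (T : Cl Z) : rhoApp Z F = toDiagram Z F T ≫ inj Z F T := rhoApp_eq Z F T

/-- every germ of `H⁰_{X/Z}(F)` comes from some `j_{T*}(F|_{X∖T})`. -/
theorem exists_rep (x : X) (b : ↑(((H0 Z).obj F).presheaf.stalk x)) :
    ∃ (T : Cl Z) (a : ↑((((diagram Z).obj F).obj T).presheaf.stalk x)),
      (stalkMap (inj Z F T) x).hom a = b :=
  exists_stalk_rep ((diagram Z).obj F) (colimit.cocone _) (colimit.isColimit _) x b

/-- a germ of `j_{T*}(F|_{X∖T})` dying in `H⁰_{X/Z}(F)` dies in some `j_{T'*}(F|_{X∖T'})`. -/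
theorem exists_map_eq_zero (x : X) (T : Cl Z)
    (a : ↑((((diagram Z).obj F).obj T).presheaf.stalk x))
    (h : (stalkMap (inj Z F T) x).hom a = 0) :
    ∃ (T' : Cl Z) (f : T ⟶ T'), (stalkMap (((diagram Z).obj F).map f) x).hom a = 0 :=
  exists_stalkMap_eq_zero ((diagram Z).obj F) (colimit.cocone _) (colimit.isColimit _) x T a h

theorem stalkMap_comp_apply {M N P : X.Modules} (φ : M ⟶ N) (ψ : N ⟶ P) (x : X)
    (a : ↑(M.presheaf.stalk x)) :
    (stalkMap (φ ≫ ψ) x).hom a = (stalkMap ψ x).hom ((stalkMap φ x).hom a) := by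
  rw [stalkMap_comp]; rfl

/-- if `ρ_x(a) = 0` then the image of `a` in some `j_{T*}(F|_{X∖T})_x` vanishes. -/
theorem exists_toDiagram_eq_zero (x : X) (a : ↑(F.presheaf.stalk x))
    (h : (stalkMap (rhoApp Z F) x).hom a = 0) :
    ∃ T : Cl Z, (stalkMap (toDiagram Z F T) x).hom a = 0 := by
  rw [rhoApp_eq' Z F ⊥, stalkMap_comp_apply] at h
  obtain ⟨T, f, hf⟩ := exists_map_eq_zero Z F x ⊥ _ h
  refine ⟨T, ?_⟩
  rw [← stalkMap_comp_apply, toDiagram_map] at hf
  exact hf

/-- `F` is Z-pure iff all the maps `F ⟶ j_{T*}(F|_{X∖T})` are monomorphisms. -/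
theorem isZPure_iff : IsZPure Z F ↔ ∀ T : Cl Z, Mono (toDiagram Z F T) := by
  constructor
  · intro h T
    have h' : Mono (toDiagram Z F T ≫ inj Z F T) := by
      rw [← rhoApp_eq' Z F T]; exact h
    exact mono_of_mono (toDiagram Z F T) (inj Z F T)
  · intro h
    refine mono_of_stalkMap_injective _ fun x => ?_
    rw [injective_iff_map_eq_zero]
    intro a ha
    obtain ⟨T, hT⟩ := exists_toDiagram_eq_zero Z F x a ha
    have := h T
    exact (injective_iff_map_eq_zero _).mp (stalkMap_injective_of_mono (toDiagram Z F T) x) a hT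

end Groth.Agent.Lib.Helper49.ZClosure
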