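import Mathlib
import Groth.Agent.Lib.Helper49.ZClosure
/-!
# The Z-closure `H⁰_{X/Z}` : Z-closed modules, stalks outside `Z`
-/
universe u
open CategoryTheory CategoryTheory.Limits AlgebraicGeometry TopologicalSpace Opposite

namespace Groth.Agent.Lib.Helper49

variable {X : Scheme.{u}}

theorem stalkMap_toPushRestrict_surjective (M : X.Modules) (U : X.Opens) (x : X) (hx : x ∈ U) :
    Function.Surjective (stalkMap (toPushRestrict M U) x).hom := by
  obtain ⟨z, rfl⟩ := exists_ι_eq U x hx
  have := isIso_restrict_toPushRestrict M U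
  exact stalkMap_surjective_of_restrict U.ι _ z (stalkMap_bijective_of_isIso _ z).2

namespace ZClosure

open ZClos

variable (Z : Set X) (F : X.Modules)

theorem stalkMap_toDiagram_bijective (T : Cl Z) (x : X) (hx : x ∈ T.U) :
    Function.Bijective (stalkMap (toDiagram Z F T) x).hom :=
  ⟨stalkMap_toPushRestrict_injective F T.U x hx, stalkMap_toPushRestrict_surjective F T.U x hx⟩

theorem mem_U_of_not_mem {x : X} (hx : x ∉ Z) (T : Cl Z) : x ∈ T.U := fun h => hx (T.2 h)

/-- outside `Z`, `ρ` is bijective on stalks. -/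
theorem stalkMap_rhoApp_bijective (x : X) (hx : x ∉ Z) :
    Function.Bijective (stalkMap (rhoApp Z F) x).hom := by
  constructor
  · rw [injective_iff_map_eq_zero]
    intro a ha
    obtain ⟨T, hT⟩ := exists_toDiagram_eq_zero Z F x a ha
    exact (injective_iff_map_eq_zero _).mp
      (stalkMap_toDiagram_bijective Z F T x (mem_U_of_not_mem Z hx T)).1 a hT
  · intro b
    obtain ⟨T, c, rfl⟩ := exists_rep Z F x b
    obtain ⟨a, rfl⟩ := (stalkMap_toDiagram_bijective Z F T x (mem_U_of_not_mem Z hx T)).2 c
    exact ⟨a, by rw [rhoApp_eq' Z F T, stalkMap_comp_apply]⟩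

theorem isZClosedAt_of_not_mem (x : X) (hx : x ∉ Z) : IsZClosedAt Z F x :=
  stalkMap_rhoApp_bijective Z F x hx

/-- the transition maps of the system defining `H⁰_{X/Z}(F)` are monomorphisms when `F` is
`Z`-pure. -/
theorem mono_transition (h : IsZPure Z F) {T T' : Cl Z} (f : T ⟶ T') :
    Mono (((diagram Z).obj F).map f) := by
  have h1 : Mono (toDiagram Z F T') := (isZPure_iff Z F).mp h T'
  have h2 : Mono ((resPush T.U).map ((resPushUnit T'.U).app F)) := by
    have : Mono ((resPushUnit T'.U).app F) := h1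
    infer_instance
  have h3 := isIso_unit_resPush (Cl.U_anti f.le) F
  change Mono (resPushMapApp (Cl.U_anti f.le) F)
  unfold resPushMapApp
  infer_instance

/-- `F` is Z-closed iff all the maps `F ⟶ j_{T*}(F|_{X∖T})` are isomorphisms. -/
theorem isZClosed_iff : IsZClosed Z F ↔ ∀ T : Cl Z, IsIso (toDiagram Z F T) := by
  constructor
  · intro h T
    have hiso : IsIso (rhoApp Z F) := h
    have hpure : IsZPure Z F := by
      change Mono (rhoApp Z F)
      infer_instance
    have hmono : Mono (toDiagram Z F T) := (isZPure_iff Z F).mp hpure T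
    refine isIso_of_stalkMap_bijective _ fun x => ⟨stalkMap_injective_of_mono _ x, fun c => ?_⟩
    obtain ⟨a, ha⟩ := (stalkMap_bijective_of_isIso (rhoApp Z F) x).2
      ((stalkMap (inj Z F T) x).hom c)
    rw [rhoApp_eq' Z F T, stalkMap_comp_apply] at ha
    have h0 : (stalkMap (inj Z F T) x).hom ((stalkMap (toDiagram Z F T) x).hom a - c) = 0 := by
      rw [map_sub, ha, sub_self]
    obtain ⟨T', f, hf⟩ := exists_map_eq_zero Z F x T _ h0
    have := mono_transition Z F hpure f
    have h1 := (injective_iff_map_eq_zero _).mp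
      (stalkMap_injective_of_mono (((diagram Z).obj F).map f) x) _ hf
    exact ⟨a, sub_eq_zero.mp h1⟩
  · intro h
    have hpure : IsZPure Z F := (isZPure_iff Z F).mpr fun T => by
      have := h T
      infer_instance
    refine isIso_of_stalkMap_bijective _ fun x => ⟨?_, fun b => ?_⟩
    · have : Mono (rhoApp Z F) := hpure
      exact stalkMap_injective_of_mono _ x
    · obtain ⟨T, c, rfl⟩ := exists_rep Z F x b
      have := h T
      obtain ⟨a, rfl⟩ := (stalkMap_bijective_of_isIso (toDiagram Z F T) x).2 c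
      exact ⟨a, by rw [rhoApp_eq' Z F T, stalkMap_comp_apply]⟩

/-- the index for `Z' ⊆ Z`. -/
def clOfSubset {Z Z' : Set X} (h : Z' ⊆ Z) (T : Cl Z') : Cl Z := ⟨T.1, T.2.trans h⟩

theorem isZPure_of_subset {Z Z' : Set X} (h : Z' ⊆ Z) (hF : IsZPure Z F) : IsZPure Z' F := by
  rw [isZPure_iff] at hF ⊢
  intro T
  exact hF (clOfSubset h T)

theorem isZClosed_of_subset {Z Z' : Set X} (h : Z' ⊆ Z) (hF : IsZClosed Z F) : IsZClosed Z' F := by
  rw [isZClosed_iff] at hF ⊢
  intro T
  exact hF (clOfSubset h T)

end ZClosure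

end Groth.Agent.Lib.Helper49
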