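import Mathlib
import Groth.Agent.Lib.Helper49.ZClosure2
import Groth.Agent.Lib.Helper49.AffineHom
/-!
# The Z-closure `H⁰_{X/Z}` : criteria on sections over quasi-compact opens
-/
universe u
open CategoryTheory CategoryTheory.Limits AlgebraicGeometry TopologicalSpace Opposite

namespace Groth.Agent.Lib.Helper49.ZClosure

open ZClos

variable {X : Scheme.{u}}

theorem map_injective_iff_of_eq (F : X.Modules) {V W₁ W₂ : X.Opens} (h₁ : W₁ ≤ V) (h₂ : W₂ ≤ V)
    (e : W₁ = W₂) : Function.Injective (F.presheaf.map (homOfLE h₁).op) ↔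
      Function.Injective (F.presheaf.map (homOfLE h₂).op) := by
  subst e; rfl

theorem map_bijective_iff_of_eq (F : X.Modules) {V W₁ W₂ : X.Opens} (h₁ : W₁ ≤ V) (h₂ : W₂ ≤ V)
    (e : W₁ = W₂) : Function.Bijective (F.presheaf.map (homOfLE h₁).op) ↔
      Function.Bijective (F.presheaf.map (homOfLE h₂).op) := by
  subst e; rfl

theorem res_res (F : X.Modules) {V W W' : X.Opens} (h : W ≤ V) (h' : W' ≤ W) (s : Γ(F, V)) :
    F.presheaf.map (homOfLE h').op (F.presheaf.map (homOfLE h).op s) =
      F.presheaf.map (homOfLE (h'.trans h)).op s :=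
  map_map F (homOfLE h') (homOfLE h) s

variable (Z : Set X) (F : X.Modules)

theorem inf_U_eq (T : Cl Z) (V : X.Opens) : V ⊓ T.U = T.U.ι ''ᵁ T.U.ι ⁻¹ᵁ V := by
  rw [ι_image_preimage, inf_comm]

theorem toDiagram_app (T : Cl Z) (V : X.Opens) :
    (toDiagram Z F T).app V = F.presheaf.map (homOfLE (T.U.ι.image_preimage_le V)).op := rfl

theorem mono_toDiagram_iff (T : Cl Z) : Mono (toDiagram Z F T) ↔
    ∀ V : X.Opens, Function.Injective (F.presheaf.map (homOfLE (inf_le_left : V ⊓ T.U ≤ V)).op) := by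
  constructor
  · intro h V
    rw [map_injective_iff_of_eq F inf_le_left (T.U.ι.image_preimage_le V) (inf_U_eq Z T V)]
    exact app_injective_of_mono (toDiagram Z F T) V
  · intro h
    refine mono_of_app_injective _ fun V => ?_
    exact (map_injective_iff_of_eq F inf_le_left (T.U.ι.image_preimage_le V)
      (inf_U_eq Z T V)).mp (h V)

/-- injectivity of the restriction maps `Γ(V, F) → Γ(V ∩ U, F)` can be checked on quasi-compact
opens `V`. -/
theorem res_injective_of_compact (U : X.Opens)
    (h : ∀ V : X.Opens, IsCompact (V : Set X) →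
      Function.Injective (F.presheaf.map (homOfLE (inf_le_left : V ⊓ U ≤ V)).op))
    (V : X.Opens) : Function.Injective (F.presheaf.map (homOfLE (inf_le_left : V ⊓ U ≤ V)).op) := by
  rw [injective_iff_map_eq_zero]
  intro s hs
  refine Helper45.section_ext_germ F V s 0 fun x hx => ?_
  obtain ⟨_, ⟨W, hW : IsAffineOpen W, rfl⟩, hxW, hWV⟩ :=
    X.isBasis_affineOpens.exists_subset_of_mem_open hx V.2
  have hWV' : W ≤ V := hWV
  have h1 : F.presheaf.map (homOfLE (inf_le_left : W ⊓ U ≤ W)).op
      (F.presheaf.map (homOfLE hWV').op s) = 0 := by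
    rw [res_res]
    have : (inf_le_left : W ⊓ U ≤ W).trans hWV' =
        (inf_le_inf_right U hWV' : W ⊓ U ≤ V ⊓ U).trans inf_le_left := rfl
    rw [← res_res F (inf_le_left : V ⊓ U ≤ V) (inf_le_inf_right U hWV'), hs, map_zero]
  have h2 := (injective_iff_map_eq_zero _).mp (h W hW.isCompact) _ h1
  rw [map_zero, ← TopCat.Presheaf.germ_res_apply F.presheaf (homOfLE hWV') x hxW s, h2, map_zero]

theorem isZPure_iff_compact : IsZPure Z F ↔ ∀ (T : Cl Z) (V : X.Opens), IsCompact (V : Set X) →
    Function.Injective (F.presheaf.map (homOfLE (inf_le_left : V ⊓ T.U ≤ V)).op) := by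
  rw [isZPure_iff]
  refine forall_congr' fun T => ?_
  rw [mono_toDiagram_iff]
  exact ⟨fun h V _ => h V, fun h V => res_injective_of_compact F T.U h V⟩

theorem isIso_toDiagram_iff_compact (T : Cl Z) : IsIso (toDiagram Z F T) ↔
    ∀ V : X.Opens, IsCompact (V : Set X) →
      Function.Bijective (F.presheaf.map (homOfLE (inf_le_left : V ⊓ T.U ≤ V)).op) := by
  constructor
  · intro h V _
    rw [map_bijective_iff_of_eq F inf_le_left (T.U.ι.image_preimage_le V) (inf_U_eq Z T V)]
    have h1 : IsIso ((toDiagram Z F T).app V) := Scheme.Modules.Hom.isIso_iff_isIso_app.mp h V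
    exact (ConcreteCategory.isIso_iff_bijective _).mp h1
  · intro h
    have hmono : Mono (toDiagram Z F T) := by
      rw [mono_toDiagram_iff]
      exact res_injective_of_compact F T.U fun V hV => (h V hV).1
    refine isIso_of_stalkMap_bijective _ fun x => ⟨stalkMap_injective_of_mono _ x, fun c => ?_⟩
    obtain ⟨V, hxV, t, rfl⟩ := TopCat.Presheaf.exists_germ_eq _ c
    obtain ⟨_, ⟨W, hW : IsAffineOpen W, rfl⟩, hxW, hWV⟩ :=
      X.isBasis_affineOpens.exists_subset_of_mem_open hxV V.2
    have hWV' : W ≤ V := hWV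
    have hbij := h W hW.isCompact
    rw [map_bijective_iff_of_eq F inf_le_left (T.U.ι.image_preimage_le W) (inf_U_eq Z T W)] at hbij
    obtain ⟨s, hs⟩ := hbij.2 ((((diagram Z).obj F).obj T).presheaf.map (homOfLE hWV').op t)
    have hs' : (toDiagram Z F T).app W s =
        (((diagram Z).obj F).obj T).presheaf.map (homOfLE hWV').op t := hs
    refine ⟨F.presheaf.germ W x hxW s, ?_⟩
    rw [stalkMap_germ, hs', TopCat.Presheaf.germ_res_apply]

theorem isZClosed_iff_compact : IsZClosed Z F ↔ ∀ (T : Cl Z) (V : X.Opens), IsCompact (V : Set X) →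
    Function.Bijective (F.presheaf.map (homOfLE (inf_le_left : V ⊓ T.U ≤ V)).op) := by
  rw [isZClosed_iff]
  exact forall_congr' fun T => isIso_toDiagram_iff_compact Z F T

end Groth.Agent.Lib.Helper49.ZClosure
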