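import Mathlib
import Groth.Agent.Lib.Helper49.ZClosure3
/-!
# The Z-closure `H⁰_{X/Z}` : universal property
-/
universe u
open CategoryTheory CategoryTheory.Limits AlgebraicGeometry TopologicalSpace Opposite

namespace Groth.Agent.Lib.Helper49.ZClosure

open ZClos

variable {X : Scheme.{u}}

/-- the monad `j_* j^*` is idempotent: the two maps `j_*j^*F ⟶ j_*j^*j_*j^*F` agree. -/
theorem resPushUnit_resPush (U : X.Opens) (F : X.Modules) :
    (resPushUnit U).app ((resPush U).obj F) = (resPush U).map ((resPushUnit U).app F) := by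
  ext V : 1
  rw [resPushUnit_app_app, resPush_map_app, resPushUnit_app_app, resPush_presheaf_map]
  exact congrArg (fun i => F.presheaf.map (Quiver.Hom.op i)) (Subsingleton.elim _ _)

/-- a map out of `j_*j^*F` into a module `F'` with `F' ≅ j_*j^*F'` is determined by its
restriction along the unit. -/
theorem hom_ext_of_isIso_unit (U : X.Opens) (F F' : X.Modules)
    [IsIso ((resPushUnit U).app F')] (w w' : (resPush U).obj F ⟶ F')
    (h : (resPushUnit U).app F ≫ w = (resPushUnit U).app F ≫ w') : w = w' := by
  have key : ∀ v : (resPush U).obj F ⟶ F', v ≫ (resPushUnit U).app F' =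
      (resPush U).map ((resPushUnit U).app F ≫ v) := by
    intro v
    have := (resPushUnit U).naturality v
    simp only [Functor.id_obj, Functor.id_map] at this
    rw [this, resPushUnit_resPush, ← Functor.map_comp]
  rw [← cancel_mono ((resPushUnit U).app F'), key w, key w', h]

variable (Z : Set X)

theorem existsUnique_lift (F F' : X.Modules) (hF' : IsZClosed Z F') (u : F ⟶ F') :
    ∃! v : (H0 Z).obj F ⟶ F', rhoApp Z F ≫ v = u := by
  have hiso : IsIso (rhoApp Z F') := hF'
  refine ⟨(H0 Z).map u ≫ inv (rhoApp Z F'), ?_, ?_⟩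
  · have := (rho Z).naturality u
    simp only [Functor.id_obj, Functor.id_map] at this
    change (rho Z).app F ≫ (H0 Z).map u ≫ inv (rhoApp Z F') = u
    rw [← Category.assoc, ← this, Category.assoc]
    change u ≫ rhoApp Z F' ≫ inv (rhoApp Z F') = u
    rw [IsIso.hom_inv_id, Category.comp_id]
  · intro v hv
    have huniq : ∀ v v' : (H0 Z).obj F ⟶ F', rhoApp Z F ≫ v = rhoApp Z F ≫ v' → v = v' := by
      intro v v' hvv'
      refine colimit.hom_ext fun T => ?_
      have hT : IsIso ((resPushUnit T.U).app F') := (isZClosed_iff Z F').mp hF' T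
      refine hom_ext_of_isIso_unit T.U F F' _ _ ?_
      have h1 : (resPushUnit T.U).app F ≫ colimit.ι ((diagram Z).obj F) T = rhoApp Z F :=
        (rhoApp_eq Z F T).symm
      calc (resPushUnit T.U).app F ≫ colimit.ι ((diagram Z).obj F) T ≫ v
          = ((resPushUnit T.U).app F ≫ colimit.ι ((diagram Z).obj F) T) ≫ v :=
            (Category.assoc _ _ _).symm
        _ = rhoApp Z F ≫ v := congrArg (· ≫ v) h1
        _ = rhoApp Z F ≫ v' := hvv'
        _ = ((resPushUnit T.U).app F ≫ colimit.ι ((diagram Z).obj F) T) ≫ v' :=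
            (congrArg (· ≫ v') h1).symm
        _ = _ := Category.assoc _ _ _
    apply huniq
    rw [hv]
    have := (rho Z).naturality u
    simp only [Functor.id_obj, Functor.id_map] at this
    change _ = (rho Z).app F ≫ (H0 Z).map u ≫ inv (rhoApp Z F')
    rw [← Category.assoc, ← this, Category.assoc]
    change u = u ≫ rhoApp Z F' ≫ inv (rhoApp Z F')
    rw [IsIso.hom_inv_id, Category.comp_id]

end Groth.Agent.Lib.Helper49.ZClosure
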