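import Mathlib
import Groth.Agent.Lib.Helper49.ZClosure4
/-!
# The Z-closure `H⁰_{X/Z}` : vanishing criterion

* `exists_isClosed_subset_of_stableUnderSpecialization`: a closed subset of a Noetherian open
  contained in a specialization-stable set `Z` lies in a closed subset of the whole space
  contained in `Z`.
* `isZero_H0_iff`: `H⁰_{X/Z}(F) = 0` iff the stalks of `F` vanish outside `Z`.
-/
universe u
open CategoryTheory CategoryTheory.Limits AlgebraicGeometry TopologicalSpace Opposite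

namespace Groth.Agent.Lib.Helper49.ZClosure

/-- In a topological space `α`, let `W` be an open subset which is a Noetherian quasi-sober space,
`Z` a set stable under specialization and `S ⊆ W ∩ Z` closed in `W`. Then `S` is contained in a
closed subset of `α` contained in `Z`. -/
theorem exists_isClosed_subset_of_stableUnderSpecialization {α : Type*} [TopologicalSpace α]
    {Z : Set α} (hZ : StableUnderSpecialization Z) (W : Set α) [NoetherianSpace W]
    [QuasiSober W] (S : Set α) (hSW : S ⊆ W) (hS : IsClosed ((↑) ⁻¹' S : Set W)) (hSZ : S ⊆ Z) :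
    ∃ T : Set α, IsClosed T ∧ T ⊆ Z ∧ S ⊆ T := by
  obtain ⟨𝒞, h𝒞fin, h𝒞cl, h𝒞irr, h𝒞⟩ :=
    NoetherianSpace.exists_finite_set_isClosed_irreducible hS
  refine ⟨⋃ C : 𝒞, closure {(((h𝒞irr C.1 C.2).genericPoint : W) : α)}, ?_, ?_, ?_⟩
  · have : Finite 𝒞 := h𝒞fin
    exact isClosed_iUnion_of_finite fun C => isClosed_closure
  · intro y hy
    obtain ⟨C, hC⟩ := Set.mem_iUnion.mp hy
    have hg : (((h𝒞irr C.1 C.2).genericPoint : W) : α) ∈ Z := by
      apply hSZ
      have h1 : (h𝒞irr C.1 C.2).genericPoint ∈ C.1 :=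
        ((h𝒞irr C.1 C.2).isGenericPoint_genericPoint (h𝒞cl C.1 C.2)).mem
      have h2 : (h𝒞irr C.1 C.2).genericPoint ∈ ((↑) ⁻¹' S : Set W) := by
        rw [h𝒞]; exact Set.mem_sUnion.mpr ⟨C.1, C.2, h1⟩
      exact h2
    exact hZ (specializes_iff_mem_closure.mpr hC) hg
  · intro s hs
    have hsW : s ∈ W := hSW hs
    have h2 : (⟨s, hsW⟩ : W) ∈ ((↑) ⁻¹' S : Set W) := hs
    rw [h𝒞] at h2
    obtain ⟨C, hC𝒞, hsC⟩ := Set.mem_sUnion.mp h2
    refine Set.mem_iUnion.mpr ⟨⟨C, hC𝒞⟩, ?_⟩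
    have h3 : closure {(h𝒞irr C hC𝒞).genericPoint} = C :=
      (h𝒞irr C hC𝒞).closure_genericPoint (h𝒞cl C hC𝒞)
    rw [← h3] at hsC
    have h5 : (h𝒞irr C hC𝒞).genericPoint ⤳ (⟨s, hsW⟩ : W) := specializes_iff_mem_closure.mpr hsC
    have h6 := h5.map continuous_subtype_val
    exact specializes_iff_mem_closure.mp h6

open ZClos

variable {X : Scheme.{u}}

theorem quasiSober_opens (W : X.Opens) : QuasiSober ↥(W : Set X) :=
  inferInstanceAs (QuasiSober (W : Scheme.{u}))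

theorem noetherianSpace_of_le_affine [IsLocallyNoetherian X] {W V : X.Opens} (hV : IsAffineOpen V)
    (h : W ≤ V) : NoetherianSpace ↥(W : Set X) := by
  have := IsLocallyNoetherian.component_noetherian ⟨V, hV⟩
  have hV' : NoetherianSpace ↥(V : Set X) := noetherianSpace_of_isAffineOpen V hV
  rw [noetherianSpace_set_iff] at hV' ⊢
  intro t ht
  exact hV' t (ht.trans h)

/-- The support of a section (as a subset of `X`). -/
def sectionSupport (F : X.Modules) (W : X.Opens) (t : Γ(F, W)) : Set X :=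
  {w | ∃ hw : w ∈ W, F.presheaf.germ W w hw t ≠ 0}

theorem sectionSupport_subset (F : X.Modules) (W : X.Opens) (t : Γ(F, W)) :
    sectionSupport F W t ⊆ W := fun _ hw => hw.1

theorem isClosed_sectionSupport (F : X.Modules) (W : X.Opens) (t : Γ(F, W)) :
    IsClosed ((↑) ⁻¹' sectionSupport F W t : Set ↥(W : Set X)) := by
  rw [← isOpen_compl_iff, isOpen_iff_forall_mem_open]
  intro w hw
  have hw0 : F.presheaf.germ W w.1 w.2 t = 0 := by
    by_contra h
    exact hw ⟨w.2, h⟩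
  have hw0' : F.presheaf.germ W w.1 w.2 t = F.presheaf.germ W w.1 w.2 0 := by
    rw [hw0, map_zero]
  obtain ⟨W', hwW', i, i', hi⟩ := TopCat.Presheaf.germ_eq F.presheaf w.1 w.2 w.2 _ _ hw0'
  rw [map_zero] at hi
  refine ⟨(Subtype.val : ↥(W : Set X) → X) ⁻¹' (W' : Set X), ?_,
    W'.2.preimage continuous_subtype_val, hwW'⟩
  rintro v hv ⟨hvW, hne⟩
  apply hne
  rw [← TopCat.Presheaf.germ_res_apply F.presheaf i v.1 hv t, hi, map_zero]

variable (Z : Set X) (F : X.Modules)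

theorem sectionSupport_subset_of_stalk (h : ∀ x : X, x ∉ Z → Subsingleton ↑(F.presheaf.stalk x))
    (W : X.Opens) (t : Γ(F, W)) : sectionSupport F W t ⊆ Z := by
  rintro w ⟨hw, hne⟩
  by_contra hwZ
  exact hne ((h w hwZ).elim _ _)

/-- The index obtained by adjoining a closed subset of `Z`. -/
def clUnion (T : Cl Z) (T₁ : Set X) (h₁ : IsClosed T₁) (h₁Z : T₁ ⊆ Z) : Cl Z :=
  ⟨⟨(T.1 : Set X) ∪ T₁, T.1.2.union h₁⟩, Set.union_subset T.2 h₁Z⟩

theorem le_clUnion (T : Cl Z) (T₁ : Set X) (h₁ : IsClosed T₁) (h₁Z : T₁ ⊆ Z) :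
    T ≤ clUnion Z T T₁ h₁ h₁Z := fun _ hx => Or.inl hx

theorem not_mem_of_mem_clUnion_U (T : Cl Z) (T₁ : Set X) (h₁ : IsClosed T₁) (h₁Z : T₁ ⊆ Z)
    {w : X} (hw : w ∈ (clUnion Z T T₁ h₁ h₁Z).U) : w ∉ T₁ := fun h => hw (Or.inr h)

/-- a section of `j_{T*}(F|_{X∖T})` over a small enough open whose support lies in `Z` dies in
some `j_{T'*}(F|_{X∖T'})`. -/
theorem exists_transition_eq_zero [IsLocallyNoetherian X] (hZ : StableUnderSpecialization Z)
    (T : Cl Z) {V : X.Opens} (hV : IsAffineOpen V)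
    (t : Γ(F, T.U.ι ''ᵁ T.U.ι ⁻¹ᵁ V))
    (ht : sectionSupport F _ t ⊆ Z) :
    ∃ (T' : Cl Z) (f : T ⟶ T'), (((diagram Z).obj F).map f).app V t = 0 := by
  have hWV : T.U.ι ''ᵁ T.U.ι ⁻¹ᵁ V ≤ V := T.U.ι.image_preimage_le V
  have := noetherianSpace_of_le_affine hV hWV
  have := quasiSober_opens (T.U.ι ''ᵁ T.U.ι ⁻¹ᵁ V)
  obtain ⟨T₁, hT₁, hT₁Z, hST₁⟩ := exists_isClosed_subset_of_stableUnderSpecialization hZ
    ((T.U.ι ''ᵁ T.U.ι ⁻¹ᵁ V : X.Opens) : Set X) (sectionSupport F _ t)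
    (sectionSupport_subset F _ t) (isClosed_sectionSupport F _ t) ht
  refine ⟨clUnion Z T T₁ hT₁ hT₁Z, homOfLE (le_clUnion Z T T₁ hT₁ hT₁Z), ?_⟩
  change (resPushMapApp (Cl.U_anti (le_clUnion Z T T₁ hT₁ hT₁Z)) F).app V t = 0
  rw [resPushMapApp_app]
  refine Helper45.section_ext_germ F _
    (F.presheaf.map (trIncl (Cl.U_anti (le_clUnion Z T T₁ hT₁ hT₁Z)) V).op t) 0 fun w hw => ?_
  rw [map_zero, TopCat.Presheaf.germ_res_apply]
  by_contra hne
  have hwU : w ∈ (clUnion Z T T₁ hT₁ hT₁Z).U := by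
    obtain ⟨z, -, rfl⟩ := hw
    exact ι_mem _ z
  exact not_mem_of_mem_clUnion_U Z T T₁ hT₁ hT₁Z hwU (hST₁ ⟨_, hne⟩)

theorem isZero_H0_iff [IsLocallyNoetherian X] (hZ : StableUnderSpecialization Z) :
    IsZero ((H0 Z).obj F) ↔ ∀ x : X, x ∉ Z → Subsingleton ↑(F.presheaf.stalk x) := by
  rw [Helper45.isZero_iff_stalk_subsingleton]
  constructor
  · intro h x hx
    have := h x
    exact (stalkMap_rhoApp_bijective Z F x hx).1.subsingleton
  · intro h y
    refine ⟨fun b b' => ?_⟩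
    have key : ∀ b : ↑(((H0 Z).obj F).presheaf.stalk y), b = 0 := by
      intro b
      obtain ⟨T, c, rfl⟩ := exists_rep Z F y b
      obtain ⟨V, hyV, t, rfl⟩ := TopCat.Presheaf.exists_germ_eq _ c
      obtain ⟨_, ⟨V', hV' : IsAffineOpen V', rfl⟩, hyV', hV'V⟩ :=
        X.isBasis_affineOpens.exists_subset_of_mem_open hyV V.2
      have hV'V' : V' ≤ V := hV'V
      rw [← TopCat.Presheaf.germ_res_apply _ (homOfLE hV'V') y hyV' t]
      obtain ⟨T', f, hf⟩ := exists_transition_eq_zero Z F hZ T hV'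
        ((((diagram Z).obj F).obj T).presheaf.map (homOfLE hV'V').op t)
        (sectionSupport_subset_of_stalk Z F h _ _)
      have hw : ((diagram Z).obj F).map f ≫ inj Z F T' = inj Z F T :=
        colimit.w ((diagram Z).obj F) f
      rw [← hw, stalkMap_comp_apply, stalkMap_germ, hf, map_zero, map_zero]
    rw [key b, key b']

end Groth.Agent.Lib.Helper49.ZClosure
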