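import Mathlib
import Groth.Agent.Lib.Helper49.ZClosure5
/-!
# Exactness of filtered colimits of sheaves of modules; left exactness of the Z-closure
-/
universe u
open CategoryTheory CategoryTheory.Limits AlgebraicGeometry TopologicalSpace Opposite

namespace Groth.Agent.Lib.Helper49

section General

variable {C : Type u} [SmallCategory C] {J : GrothendieckTopology C} (R : Sheaf J RingCat.{u})
  (K : Type u) [SmallCategory K] [IsFiltered K]

/-- Filtered colimits are exact in categories of sheaves of modules. -/
theorem sheafOfModules_hasExactColimitsOfShape :
    HasExactColimitsOfShape K (SheafOfModules.{u} R) := by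
  have := toSheaf_preservesColimitsOfShape R K
  exact HasExactColimitsOfShape.domain_of_functor K (SheafOfModules.toSheaf.{u} R)

end General

namespace ZClosure

open ZClos

variable {X : Scheme.{u}} (Z : Set X)

theorem preservesFiniteLimits_H0 : PreservesFiniteLimits (H0 Z) := by
  have h1 : HasExactColimitsOfShape (Cl Z) X.Modules :=
    sheafOfModules_hasExactColimitsOfShape X.ringCatSheaf (Cl Z)
  have h2 : PreservesFiniteLimits (diagram Z) := by
    constructor
    intro K _ _
    constructor
    intro G
    apply preservesLimit_of_evaluation
    intro T
    change PreservesLimit G (resPush T.U)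
    infer_instance
  have h3 : PreservesFiniteLimits (colim : (Cl Z ⥤ X.Modules) ⥤ X.Modules) :=
    h1.preservesFiniteLimits
  exact comp_preservesFiniteLimits (diagram Z) colim

end ZClosure

end Groth.Agent.Lib.Helper49
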