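import Mathlib
import Groth.Agent.Lib.Helper49.ZClosure6
import Groth.Agent.Lib.Helper49.SectionsColimit
/-!
# The Z-closure `H⁰_{X/Z}(F)` is Z-closed
-/
universe u
open CategoryTheory CategoryTheory.Limits AlgebraicGeometry TopologicalSpace Opposite

namespace Groth.Agent.Lib.Helper49.ZClosure

open ZClos

variable {X : Scheme.{u}}

theorem map_bijective_of_eq (F : X.Modules) {A B : X.Opens} (i : A ⟶ B) (h : A = B) :
    Function.Bijective (F.presheaf.map i.op) := by
  subst h
  have : i = 𝟙 A := Subsingleton.elim _ _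
  rw [this, op_id, F.presheaf.map_id]
  exact Function.bijective_id

variable (Z : Set X) (F : X.Modules)

/-- criterion for `Z`-closedness on affine opens. -/
theorem isZClosed_of_affine
    (h : ∀ (T : Cl Z) (V : X.Opens), IsAffineOpen V →
      Function.Bijective (F.presheaf.map (homOfLE (inf_le_left : V ⊓ T.U ≤ V)).op)) :
    IsZClosed Z F := by
  rw [isZClosed_iff]
  intro T
  have hmono : Mono (toDiagram Z F T) := by
    rw [mono_toDiagram_iff]
    intro V
    rw [injective_iff_map_eq_zero]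
    intro s hs
    refine Helper45.section_ext_germ F V s 0 fun x hx => ?_
    obtain ⟨_, ⟨W, hW : IsAffineOpen W, rfl⟩, hxW, hWV⟩ :=
      X.isBasis_affineOpens.exists_subset_of_mem_open hx V.2
    have hWV' : W ≤ V := hWV
    have h1 : F.presheaf.map (homOfLE (inf_le_left : W ⊓ T.U ≤ W)).op
        (F.presheaf.map (homOfLE hWV').op s) = 0 := by
      rw [res_res]
      have : (inf_le_left : W ⊓ T.U ≤ W).trans hWV' =
          (inf_le_inf_right T.U hWV' : W ⊓ T.U ≤ V ⊓ T.U).trans inf_le_left := rfl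
      rw [← res_res F (inf_le_left : V ⊓ T.U ≤ V) (inf_le_inf_right T.U hWV'), hs, map_zero]
    have h2 := (injective_iff_map_eq_zero _).mp (h T W hW).1 _ h1
    rw [map_zero, ← TopCat.Presheaf.germ_res_apply F.presheaf (homOfLE hWV') x hxW s, h2, map_zero]
  refine isIso_of_stalkMap_bijective _ fun x => ⟨stalkMap_injective_of_mono _ x, fun c => ?_⟩
  obtain ⟨V, hxV, t, rfl⟩ := TopCat.Presheaf.exists_germ_eq _ c
  obtain ⟨_, ⟨W, hW : IsAffineOpen W, rfl⟩, hxW, hWV⟩ :=
    X.isBasis_affineOpens.exists_subset_of_mem_open hxV V.2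
  have hWV' : W ≤ V := hWV
  have hbij := h T W hW
  rw [map_bijective_iff_of_eq F inf_le_left (T.U.ι.image_preimage_le W) (inf_U_eq Z T W)] at hbij
  obtain ⟨s, hs⟩ := hbij.2 ((((diagram Z).obj F).obj T).presheaf.map (homOfLE hWV').op t)
  have hs' : (toDiagram Z F T).app W s =
      (((diagram Z).obj F).obj T).presheaf.map (homOfLE hWV').op t := hs
  refine ⟨F.presheaf.germ W x hxW s, ?_⟩
  rw [stalkMap_germ, hs', TopCat.Presheaf.germ_res_apply]

/-- for `T ≤ T'`, the restriction `Γ(V, j_{T'*}(F|_{X∖T'})) → Γ(V ∖ T, j_{T'*}(F|_{X∖T'}))` is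
bijective. -/
theorem res_diagram_bijective {T T' : Cl Z} (hTT' : T ≤ T') (V : X.Opens) :
    Function.Bijective ((((diagram Z).obj F).obj T').presheaf.map
      (homOfLE (inf_le_left : V ⊓ T.U ≤ V)).op) := by
  change Function.Bijective (F.presheaf.map
    (T'.U.ι.opensFunctor.map ((Opens.map T'.U.ι.base).map (homOfLE inf_le_left))).op)
  refine map_bijective_of_eq F _ ?_
  rw [ι_image_preimage, ι_image_preimage, ← inf_assoc, inf_comm T'.U V, inf_assoc,
    inf_eq_left.mpr (Cl.U_anti hTT'), inf_comm]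

theorem isZClosed_H0 [IsLocallyNoetherian X] : IsZClosed Z ((H0 Z).obj F) := by
  refine isZClosed_of_affine Z _ fun T V hV => ?_
  have hVn : NoetherianSpace ↥(V : Set X) := noetherianSpace_of_le_affine hV le_rfl
  have hWn : NoetherianSpace ↥((V ⊓ T.U : X.Opens) : Set X) :=
    noetherianSpace_of_le_affine hV inf_le_left
  have hWc : IsCompact ((V ⊓ T.U : X.Opens) : Set X) :=
    (noetherianSpace_set_iff _).mp hWn _ le_rfl
  let D := (diagram Z).obj F
  let c := colimit.cocone D
  have hc : IsColimit c := colimit.isColimit D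
  -- every section over a Noetherian open comes from an index `≥ T`
  have rep : ∀ (O : X.Opens), NoetherianSpace ↥(O : Set X) → ∀ s : Γ((H0 Z).obj F, O),
      ∃ (T₁ : Cl Z) (_ : T ≤ T₁) (t : Γ(D.obj T₁, O)), (c.ι.app T₁).app O t = s := by
    intro O hO s
    obtain ⟨T₀, t₀, ht₀⟩ := exists_app_eq D c hc O hO s
    refine ⟨T₀ ⊔ T, le_sup_right, (D.map (homOfLE le_sup_left)).app O t₀, ?_⟩
    rw [ι_map_app]; exact ht₀
  constructor
  · rw [injective_iff_map_eq_zero]
    intro s hs
    obtain ⟨T₁, hT₁, t, rfl⟩ := rep V hVn s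
    have h1 : (c.ι.app T₁).app (V ⊓ T.U)
        ((D.obj T₁).presheaf.map (homOfLE (inf_le_left : V ⊓ T.U ≤ V)).op t) = 0 := by
      rw [ι_app_res]; exact hs
    obtain ⟨T₂, f, hf⟩ := exists_map_app_eq_zero D c hc _ hWc T₁ _ h1
    rw [map_app_res] at hf
    have h2 : (D.map f).app V t = 0 :=
      (injective_iff_map_eq_zero _).mp (res_diagram_bijective Z F (hT₁.trans f.le) V).1 _ hf
    rw [← ι_map_app D c f V t, h2, map_zero]
    rfl
  · intro s'
    obtain ⟨T₁, hT₁, t', rfl⟩ := rep _ hWn s'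
    obtain ⟨t, rfl⟩ := (res_diagram_bijective Z F hT₁ V).2 t'
    exact ⟨(c.ι.app T₁).app V t, (ι_app_res D c T₁ inf_le_left t).symm⟩

end Groth.Agent.Lib.Helper49.ZClosure
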