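import Mathlib
import Groth.Prelude.Def_DCoh4
import Groth.Prelude.Def_RefHull
import Groth.Agent.Lib.Helper45.HomExtend
import Groth.Agent.Lib.Helper49.TensorDesc
import Groth.Agent.Lib.Helper11.TensorFormulas

/-!
# The concrete sheaf Hom `RefHull.homSh F G` represents `A ↦ Hom(F ⊗ A, G)`
-/
set_option autoImplicit false
universe u
open CategoryTheory CategoryTheory.Limits AlgebraicGeometry TopologicalSpace Opposite

namespace Groth.Agent.Lib.Helper49.HomAdj

open Groth.Agent.Lib.Helper45 Groth.Agent.Lib.Helper45.RefHullCoh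
  Groth.Agent.Lib.Helper45.HomExtend Groth.Agent.Lib.Helper11.GenLocus
  Groth.Agent.Lib.Helper11.TensorFormulas Groth.Agent.Lib.Helper11.TensorMap

variable {X : Scheme.{u}} {F G : X.Modules}

/-- a morphism `F|_U → G|_U`, given on the opens contained in `U`. -/
structure LocHom (F G : X.Modules) (U : X.Opens) where
  /-- the components -/
  θ : ∀ V : X.Opens, V ≤ U → Γ(F, V) →+ Γ(G, V)
  smul : ∀ (V : X.Opens) (hV : V ≤ U) (r : Γ(X, V)) (m : Γ(F, V)), θ V hV (r • m) = r • θ V hV m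
  res : ∀ {V W : X.Opens} (hV : V ≤ U) (hWV : W ≤ V) (m : Γ(F, V)),
    G.presheaf.map (homOfLE hWV).op (θ V hV m) =
      θ W (hWV.trans hV) (F.presheaf.map (homOfLE hWV).op m)

namespace LocHom

variable {U : X.Opens} (L : LocHom F G U)

/-- the cocone defining the stalk map. -/
noncomputable def cocone (y : X) (hy : y ∈ U) :
    Cocone ((OpenNhds.inclusion y).op ⋙ F.presheaf) where
  pt := G.presheaf.stalk y
  ι :=
    { app := fun V => AddCommGrpCat.ofHom
        ((G.presheaf.germ (V.unop.1 ⊓ U) y ⟨V.unop.2, hy⟩).hom.comp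
          ((L.θ (V.unop.1 ⊓ U) inf_le_right).comp
            (F.presheaf.map (homOfLE (inf_le_left : V.unop.1 ⊓ U ≤ V.unop.1)).op).hom))
      naturality := fun V W i => by
        ext m
        have hle : W.unop.1 ⊓ U ≤ V.unop.1 ⊓ U := inf_le_inf_right U i.unop.le
        change G.presheaf.germ (W.unop.1 ⊓ U) y ⟨W.unop.2, hy⟩
            (L.θ (W.unop.1 ⊓ U) inf_le_right
              (F.presheaf.map (homOfLE (inf_le_left : W.unop.1 ⊓ U ≤ W.unop.1)).op
                (F.presheaf.map i.unop.op m))) =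
          G.presheaf.germ (V.unop.1 ⊓ U) y ⟨V.unop.2, hy⟩
            (L.θ (V.unop.1 ⊓ U) inf_le_right
              (F.presheaf.map (homOfLE (inf_le_left : V.unop.1 ⊓ U ≤ V.unop.1)).op m))
        rw [← TopCat.Presheaf.germ_res_apply G.presheaf (homOfLE hle) y ⟨W.unop.2, hy⟩,
          L.res inf_le_right hle]
        congr 2
        rw [← ConcreteCategory.comp_apply, ← ConcreteCategory.comp_apply, ← Functor.map_comp,
          ← Functor.map_comp]
        rfl }

/-- the stalk map, additively. -/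
noncomputable def stalkAdd (y : X) (hy : y ∈ U) : F.presheaf.stalk y ⟶ G.presheaf.stalk y :=
  colimit.desc _ (L.cocone y hy)

theorem stalkAdd_germ' (y : X) (hy : y ∈ U) (V : X.Opens) (hyV : y ∈ V) (m : Γ(F, V)) :
    (L.stalkAdd y hy).hom (F.presheaf.germ V y hyV m) =
      G.presheaf.germ (V ⊓ U) y ⟨hyV, hy⟩ (L.θ (V ⊓ U) inf_le_right
        (F.presheaf.map (homOfLE (inf_le_left : V ⊓ U ≤ V)).op m)) := by
  change (F.presheaf.germ V y hyV ≫ L.stalkAdd y hy).hom m = _
  have e : F.presheaf.germ V y hyV ≫ L.stalkAdd y hy = (L.cocone y hy).ι.app (op ⟨V, hyV⟩) :=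
    colimit.ι_desc _ _
  rw [e]
  rfl

theorem stalkAdd_germ (y : X) (hy : y ∈ U) (V : X.Opens) (hV : V ≤ U) (hyV : y ∈ V) (m : Γ(F, V)) :
    (L.stalkAdd y hy).hom (F.presheaf.germ V y hyV m) = G.presheaf.germ V y hyV (L.θ V hV m) := by
  rw [stalkAdd_germ', ← L.res hV inf_le_left, TopCat.Presheaf.germ_res_apply]

/-- the stalk map. -/
noncomputable def stalkLin (y : X) (hy : y ∈ U) : RefHull.StalkHom F G y where
  toFun := (L.stalkAdd y hy).hom
  map_add' := map_add _
  map_smul' a v := by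
    obtain ⟨Ua, ha, r, rfl⟩ := TopCat.Presheaf.exists_germ_eq X.presheaf a
    obtain ⟨Uv, hv, m, rfl⟩ := TopCat.Presheaf.exists_germ_eq F.presheaf v
    have hW : Ua ⊓ Uv ⊓ U ≤ U := inf_le_right
    have hyW : y ∈ Ua ⊓ Uv ⊓ U := ⟨⟨ha, hv⟩, hy⟩
    rw [← TopCat.Presheaf.germ_res_apply X.presheaf
        (homOfLE ((inf_le_left : Ua ⊓ Uv ⊓ U ≤ Ua ⊓ Uv).trans inf_le_left)) y hyW,
      ← TopCat.Presheaf.germ_res_apply F.presheaf
        (homOfLE ((inf_le_left : Ua ⊓ Uv ⊓ U ≤ Ua ⊓ Uv).trans inf_le_right)) y hyW,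
      ← Mero.germ_smul, L.stalkAdd_germ y hy _ hW hyW, L.stalkAdd_germ y hy _ hW hyW, L.smul,
      Mero.germ_smul]
    rfl

theorem stalkLin_germ (y : X) (hy : y ∈ U) (V : X.Opens) (hV : V ≤ U) (hyV : y ∈ V) (m : Γ(F, V)) :
    L.stalkLin y hy (F.presheaf.germ V y hyV m) = G.presheaf.germ V y hyV (L.θ V hV m) :=
  L.stalkAdd_germ y hy V hV hyV m

/-- the section of the sheaf Hom defined by a local morphism. -/
noncomputable def sec : Γ(RefHull.homSh F G, U) :=
  ⟨fun y => L.stalkLin y.1 y.2, fun V i m x =>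
    ⟨V, x.2, 𝟙 V, L.θ V i.le m, fun y => L.stalkLin_germ y.1 (i.le y.2) V i.le y.2 m⟩⟩

theorem sec_apply (y : U) : L.sec.1 y = L.stalkLin y.1 y.2 := rfl

end LocHom

/-- two stalk maps agreeing on the germs of sections over small opens agree. -/
theorem stalkHom_ext {y : X} (U : X.Opens) (hy : y ∈ U) (f g : RefHull.StalkHom F G y)
    (h : ∀ (V : X.Opens) (_ : V ≤ U) (hyV : y ∈ V) (m : Γ(F, V)),
      f (F.presheaf.germ V y hyV m) = g (F.presheaf.germ V y hyV m)) : f = g := by
  ext γ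
  obtain ⟨V, hyV, m, rfl⟩ := TopCat.Presheaf.exists_germ_eq F.presheaf γ
  rw [← TopCat.Presheaf.germ_res_apply F.presheaf (homOfLE (inf_le_left : V ⊓ U ≤ V)) y ⟨hyV, hy⟩]
  exact h _ inf_le_right _ _

variable {A : X.Modules}

theorem app_res' {M N : X.Modules} (u : M ⟶ N) {V W : X.Opens} (h : W ≤ V) (s : Γ(M, V)) :
    N.presheaf.map (homOfLE h).op (u.app V s) = u.app W (M.presheaf.map (homOfLE h).op s) :=
  (congrArg (fun g => g.hom s) (u.mapPresheaf.naturality (homOfLE h).op)).symm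

theorem app_res'' {M N : X.Modules} (u : M ⟶ N) {V W : X.Opens} (i : W ⟶ V) (s : Γ(M, V)) :
    N.presheaf.map i.op (u.app V s) = u.app W (M.presheaf.map i.op s) :=
  (congrArg (fun g => g.hom s) (u.mapPresheaf.naturality i.op)).symm

theorem tm_res' (M N : X.Modules) {W W' : X.Opens} (h : W' ≤ W) (m : Γ(M, W)) (n : Γ(N, W)) :
    (CohB1.tensorMod M N).presheaf.map (homOfLE h).op (tm M N W m n) =
      tm M N W' (M.presheaf.map (homOfLE h).op m) (N.presheaf.map (homOfLE h).op n) :=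
  tm_res M N h m n

theorem tm_add_right (M N : X.Modules) (W : X.Opens) (m : Γ(M, W)) (n n' : Γ(N, W)) :
    tm M N W m (n + n') = tm M N W m n + tm M N W m n' := by
  have h := ((SecTwist.toTensor M N).app (op W)).hom.map_add
    ((show (CohB1.toPMod M).obj (op W) from m) ⊗ₜ (show (CohB1.toPMod N).obj (op W) from n))
    ((show (CohB1.toPMod M).obj (op W) from m) ⊗ₜ (show (CohB1.toPMod N).obj (op W) from n'))
  have e : (show (CohB1.toPMod M).obj (op W) from m) ⊗ₜ[((X.sheaf.obj ⋙ forget₂ CommRingCat RingCat).obj (op W))]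
        ((show (CohB1.toPMod N).obj (op W) from n) + (show (CohB1.toPMod N).obj (op W) from n')) =
      (show (CohB1.toPMod M).obj (op W) from m) ⊗ₜ[((X.sheaf.obj ⋙ forget₂ CommRingCat RingCat).obj (op W))]
          (show (CohB1.toPMod N).obj (op W) from n) +
        (show (CohB1.toPMod M).obj (op W) from m) ⊗ₜ[((X.sheaf.obj ⋙ forget₂ CommRingCat RingCat).obj (op W))]
          (show (CohB1.toPMod N).obj (op W) from n') :=
    TensorProduct.tmul_add _ _ _
  exact (congrArg ((SecTwist.toTensor M N).app (op W)).hom e).trans h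

theorem res_res' (M : X.Modules) {V W W' : X.Opens} (h : W ≤ V) (h' : W' ≤ W) (s : Γ(M, V)) :
    M.presheaf.map (homOfLE h').op (M.presheaf.map (homOfLE h).op s) =
      M.presheaf.map (homOfLE (h'.trans h)).op s := by
  rw [← ConcreteCategory.comp_apply, ← Functor.map_comp]
  rfl

/-- the local morphism `m ↦ β (m ⊗ a)`. -/
noncomputable def locHomOf (β : CohB1.tensorMod F A ⟶ G) {U : X.Opens} (a : Γ(A, U)) :
    LocHom F G U where
  θ V hV := AddMonoidHom.mk'
    (fun m => β.app V (tm F A V m (A.presheaf.map (homOfLE hV).op a)))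
    (fun m m' => by rw [tm_add_left, map_add])
  smul V hV r m := by
    change β.app V (tm F A V (r • m) _) = r • β.app V (tm F A V m _)
    rw [tm_smul_left, Scheme.Modules.Hom.app_smul]
  res {V W} hV hWV m := by
    change G.presheaf.map (homOfLE hWV).op (β.app V (tm F A V m _)) = β.app W (tm F A W _ _)
    rw [app_res', tm_res', res_res']

theorem locHomOf_θ (β : CohB1.tensorMod F A ⟶ G) {U : X.Opens} (a : Γ(A, U)) (V : X.Opens)
    (hV : V ≤ U) (m : Γ(F, V)) :
    (locHomOf β a).θ V hV m = β.app V (tm F A V m (A.presheaf.map (homOfLE hV).op a)) := rfl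

/-- the components of `Ψ`. -/
noncomputable def toHomShFun (β : CohB1.tensorMod F A ⟶ G) (U : X.Opens) :
    Γ(A, U) →+ Γ(RefHull.homSh F G, U) :=
  AddMonoidHom.mk' (fun a => (locHomOf β a).sec) (fun a a' => Subtype.ext <| funext fun y => by
    refine stalkHom_ext U y.2 _ _ fun V hV hyV m => ?_
    change (locHomOf β (a + a')).stalkLin y.1 y.2 _ =
      (locHomOf β a).stalkLin y.1 y.2 _ + (locHomOf β a').stalkLin y.1 y.2 _
    rw [LocHom.stalkLin_germ _ _ _ _ hV, LocHom.stalkLin_germ _ _ _ _ hV,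
      LocHom.stalkLin_germ _ _ _ _ hV, locHomOf_θ, locHomOf_θ, locHomOf_θ, map_add,
      tm_add_right, map_add, map_add])

theorem toHomShFun_apply (β : CohB1.tensorMod F A ⟶ G) {U : X.Opens} (a : Γ(A, U)) (y : U) :
    (toHomShFun β U a).1 y = (locHomOf β a).stalkLin y.1 y.2 := rfl

theorem toHomShFun_germ (β : CohB1.tensorMod F A ⟶ G) {U : X.Opens} (a : Γ(A, U)) (y : U)
    (V : X.Opens) (hV : V ≤ U) (hyV : y.1 ∈ V) (m : Γ(F, V)) :
    (toHomShFun β U a).1 y (F.presheaf.germ V y.1 hyV m) =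
      G.presheaf.germ V y.1 hyV (β.app V (tm F A V m (A.presheaf.map (homOfLE hV).op a))) := by
  rw [toHomShFun_apply, LocHom.stalkLin_germ _ _ _ _ hV, locHomOf_θ]

theorem toHomShFun_smul (β : CohB1.tensorMod F A ⟶ G) (U : X.Opens) (r : Γ(X, U)) (a : Γ(A, U)) :
    toHomShFun β U (r • a) = r • toHomShFun β U a :=
  Subtype.ext <| funext fun y => by
    refine stalkHom_ext U y.2 _ _ fun V hV hyV m => ?_
    rw [homSh_smul_apply, LinearMap.smul_apply, toHomShFun_germ _ _ _ _ hV,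
      toHomShFun_germ _ _ _ _ hV, Scheme.Modules.map_smul, tm_smul_right,
      Scheme.Modules.Hom.app_smul, Mero.germ_smul, TopCat.Presheaf.germ_res_apply]

theorem toHomShFun_res (β : CohB1.tensorMod F A ⟶ G) {U V : X.Opens} (i : V ⟶ U) (a : Γ(A, U)) :
    (RefHull.homSh F G).presheaf.map i.op (toHomShFun β U a) =
      toHomShFun β V (A.presheaf.map i.op a) :=
  Subtype.ext <| funext fun y => by
    refine stalkHom_ext V y.2 _ _ fun W hW hyW m => ?_
    rw [homSh_map_apply, toHomShFun_germ β a ⟨y.1, i.le y.2⟩ W (hW.trans i.le) hyW,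
      toHomShFun_germ β _ y W hW hyW]
    congr 3
    exact (res_res' A i.le hW a).symm

/-- `Ψ`: from `F ⊗ A ⟶ G` to `A ⟶ 𝓗om(F, G)`. -/
noncomputable def toHomSh (β : CohB1.tensorMod F A ⟶ G) : A ⟶ RefHull.homSh F G :=
  ⟨PresheafOfModules.homMk
    { app := fun U => AddCommGrpCat.ofHom (toHomShFun β U.unop)
      naturality := fun {U V} i => by
        ext a
        exact (toHomShFun_res β i.unop a).symm }
    (fun U r a => toHomShFun_smul β U.unop r a)⟩

theorem toHomSh_app (β : CohB1.tensorMod F A ⟶ G) (U : X.Opens) (a : Γ(A, U)) :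
    (toHomSh β).app U a = toHomShFun β U a := rfl

/-- the bilinear family `(m, a) ↦ α(a)(m)`. -/
noncomputable def bilinOf (α : A ⟶ RefHull.homSh F G) : BilinFamily F A G where
  β U m a := evalSec (α.app U a) m
  add_left U m m' a := evalSec_add_right _ m m'
  smul_left U r m a := evalSec_smul_right _ r m
  add_right U m a a' := by rw [map_add, evalSec_add_left]
  smul_right U r m a := by rw [Scheme.Modules.Hom.app_smul, evalSec_smul_left]
  res {U V} i m a := by
    rw [← evalSec_map]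
    congr 1
    exact app_res'' α i a

/-- `Φ`: from `A ⟶ 𝓗om(F, G)` to `F ⊗ A ⟶ G`. -/
noncomputable def ofHomSh (α : A ⟶ RefHull.homSh F G) : CohB1.tensorMod F A ⟶ G :=
  (bilinOf α).desc

theorem ofHomSh_tm (α : A ⟶ RefHull.homSh F G) (U : X.Opens) (m : Γ(F, U)) (a : Γ(A, U)) :
    (ofHomSh α).app U (tm F A U m a) = evalSec (α.app U a) m :=
  (bilinOf α).desc_tmul U m a

theorem ofHomSh_toHomSh (β : CohB1.tensorMod F A ⟶ G) : ofHomSh (toHomSh β) = β := by
  refine hom_ext_tm _ _ fun W m a => ?_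
  rw [ofHomSh_tm]
  refine evalSec_eq _ _ _ fun y hy => ?_
  rw [toHomSh_app, toHomShFun_germ β a ⟨y, hy⟩ W le_rfl hy m]
  congr 3
  exact (A.presheaf.map_id _ ▸ rfl : a = A.presheaf.map (homOfLE (le_refl W)).op a)

theorem toHomSh_ofHomSh (α : A ⟶ RefHull.homSh F G) : toHomSh (ofHomSh α) = α := by
  ext U : 1
  ext a
  rw [toHomSh_app]
  refine Subtype.ext (funext fun y => stalkHom_ext U y.2 _ _ fun V hV hyV m => ?_)
  rw [toHomShFun_germ _ a y V hV hyV m, ofHomSh_tm, germ_evalSec, ← app_res' α hV a,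
    homSh_map_apply]

theorem ofHomSh_comp {A' : X.Modules} (u : A' ⟶ A) (α : A ⟶ RefHull.homSh F G) :
    ofHomSh (u ≫ α) = tensorModMap (𝟙 F) u ≫ ofHomSh α := by
  refine hom_ext_tm _ _ fun W m a => ?_
  have e2 : (tensorModMap (𝟙 F) u ≫ ofHomSh α).app W (tm F A' W m a) =
      (ofHomSh α).app W ((tensorModMap (𝟙 F) u).app W (tm F A' W m a)) := rfl
  rw [ofHomSh_tm, e2, tensorModMap_tm, ofHomSh_tm]
  rfl

theorem toHomSh_comp {A' : X.Modules} (u : A' ⟶ A) (β : CohB1.tensorMod F A ⟶ G) :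
    toHomSh (tensorModMap (𝟙 F) u ≫ β) = u ≫ toHomSh β := by
  have h := ofHomSh_comp u (toHomSh β)
  rw [ofHomSh_toHomSh] at h
  rw [← h, toHomSh_ofHomSh]

/-- the bijection `Hom(F ⊗ A, G) ≃ Hom(A, 𝓗om(F, G))`. -/
noncomputable def homEquiv (F A G : X.Modules) :
    (CohB1.tensorMod F A ⟶ G) ≃ (A ⟶ RefHull.homSh F G) where
  toFun := toHomSh
  invFun := ofHomSh
  left_inv := ofHomSh_toHomSh
  right_inv := toHomSh_ofHomSh

/-- **The abstract sheaf Hom is the concrete one.** -/
noncomputable def sheafHomIso (F G : X.Modules) [DCoh.HasSheafHom F] :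
    (DCoh.sheafHom F).obj G ≅ RefHull.homSh F G :=
  Yoneda.ext _ _
    (fun {A} f => toHomSh (F := F) (A := A) (((DCoh.sheafHomAdj F).homEquiv A G).symm f))
    (fun {A} g => (DCoh.sheafHomAdj F).homEquiv A G (ofHomSh g))
    (fun {A} f => by
      rw [ofHomSh_toHomSh, Equiv.apply_symm_apply])
    (fun {A} g => by
      change toHomSh (((DCoh.sheafHomAdj F).homEquiv A G).symm
        ((DCoh.sheafHomAdj F).homEquiv A G (ofHomSh g))) = g
      rw [Equiv.symm_apply_apply, toHomSh_ofHomSh])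
    (fun {A A'} u f => by
      change toHomSh (((DCoh.sheafHomAdj F).homEquiv A' G).symm (u ≫ f)) =
        u ≫ toHomSh (((DCoh.sheafHomAdj F).homEquiv A G).symm f)
      rw [Adjunction.homEquiv_naturality_left_symm, ← toHomSh_comp]
      congr 2)

end Groth.Agent.Lib.Helper49.HomAdj
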