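import Mathlib
import Groth.Prelude.Def_ClSub2
import Groth.Prelude.Def_CohB1
import Groth.Agent.Lib.Helper45.LocalizingOn
import Groth.Agent.Lib.Helper45.QCohStalk
import Groth.Agent.Lib.Helper45.AffinePoints
import Groth.Agent.Lib.Helper1.IdealMod
import Groth.Agent.Lib.Helper49.PushStructure
import Groth.Agent.Lib.Helper49.StalkNbhd2
import Groth.Agent.Lib.Helper49.FiniteTypeAffine

set_option autoImplicit false
universe u

open CategoryTheory CategoryTheory.Limits AlgebraicGeometry Opposite TopologicalSpace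

namespace Groth.Agent.Lib.Helper49.QuotModStalk

open Groth.Agent.Lib.Helper49.PushStructure

variable {X : Scheme.{u}}

section Push

variable {Y : Scheme.{u}} (f : Y ⟶ X)

/-- the stalks of `f_* G` vanish off the closure of the image of `f`. -/
theorem subsingleton_stalk_pushforward (G : Y.Modules) (x : X)
    (hx : x ∉ closure (Set.range f)) :
    Subsingleton (((Scheme.Modules.pushforward f).obj G).presheaf.stalk x) := by
  let V : X.Opens := ⟨(closure (Set.range f))ᶜ, isClosed_closure.isOpen_compl⟩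
  refine subsingleton_stalk_of_forall_le _ V x hx fun V' hV' => ?_
  have hbot : f ⁻¹ᵁ V' = ⊥ := by
    ext w
    constructor
    · intro hw
      have h1 : f w ∈ V := hV' hw
      exact (h1 (subset_closure ⟨w, rfl⟩)).elim
    · intro hw
      exact hw.elim
  have hT : IsTerminal (G.presheaf.obj (op (f ⁻¹ᵁ V'))) :=
    TopCat.Sheaf.isTerminalOfEqEmpty (X := Y.toTopCat) ⟨G.presheaf, G.isSheaf⟩ hbot
  have hz : IsZero (G.presheaf.obj (op (f ⁻¹ᵁ V'))) := by
    rw [IsZero.iff_id_eq_zero]
    exact hT.hom_ext _ _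
  exact AddCommGrpCat.subsingleton_of_isZero hz

/-- the stalks of `f_* O_Y` are nonzero at the points of the image of `f`. -/
theorem not_subsingleton_stalk_pushforward_unit (y : Y) :
    ¬ Subsingleton (((Scheme.Modules.pushforward f).obj
      (Coh.structureModule Y)).presheaf.stalk (f y)) := by
  intro hsub
  let s : Γ((Scheme.Modules.pushforward f).obj (Coh.structureModule Y), ⊤) :=
    (1 : Γ(Y, f ⁻¹ᵁ ⊤))
  obtain ⟨U', hle, hxU', hs⟩ := exists_res_eq_zero _ (f y) ⊤ trivial s
  have h1 : (1 : Γ(Y, f ⁻¹ᵁ U')) = 0 := by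
    have h2 : ((Scheme.Modules.pushforward f).obj (Coh.structureModule Y)).presheaf.map
        (homOfLE hle).op s = Y.presheaf.map ((TopologicalSpace.Opens.map f.base).map
          (homOfLE hle)).op (1 : Γ(Y, f ⁻¹ᵁ ⊤)) := rfl
    rw [h2, map_one] at hs
    exact hs
  have h3 : Y.basicOpen (1 : Γ(Y, f ⁻¹ᵁ U')) = f ⁻¹ᵁ U' :=
    Y.basicOpen_of_isUnit isUnit_one
  rw [h1, Scheme.basicOpen_zero] at h3
  have hw : y ∈ f ⁻¹ᵁ U' := hxU'
  rw [← h3] at hw
  exact hw

end Push

section QuotMod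

variable (I : X.IdealSheafData)

theorem support_quotMod : CohB1.support (ClSub.quotMod I) = (I.support : Set X) := by
  apply Set.Subset.antisymm
  · intro x hx
    by_contra hxI
    apply hx
    refine subsingleton_stalk_pushforward I.subschemeι _ x ?_
    rw [I.range_subschemeι, I.support.isClosed.closure_eq]
    exact hxI
  · intro x hx
    rw [← I.range_subschemeι] at hx
    obtain ⟨z, rfl⟩ := hx
    exact not_subsingleton_stalk_pushforward_unit I.subschemeι z

theorem isCoh_quotMod : Coh.IsCoh (ClSub.quotMod I) :=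
  ⟨Groth.Agent.Lib.Helper1.isQuasicoherent_quotMod I,
    Groth.Agent.Lib.Helper49.isFiniteType_of_epi (ClSub.toSubscheme I)
      (Groth.Agent.Lib.Helper49.isFiniteType_unit X)⟩

end QuotMod


section Generic

variable (x : X)

/-- the vanishing ideal sheaf of the closure of a point. -/
noncomputable abbrev ptIdeal : X.IdealSheafData :=
  Scheme.IdealSheafData.vanishingIdeal ⟨closure {x}, isClosed_closure⟩

theorem support_ptIdeal : ((ptIdeal x).support : Set X) = closure {x} :=
  Scheme.IdealSheafData.coe_support_vanishingIdeal _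

theorem mem_primeIdealOf_iff {U : X.Opens} (hU : IsAffineOpen U) (hx : x ∈ U) (s : Γ(X, U)) :
    s ∈ (hU.primeIdealOf ⟨x, hx⟩).asIdeal ↔
      X.presheaf.germ U x hx s ∈ IsLocalRing.maximalIdeal (X.presheaf.stalk x) := by
  rw [hU.primeIdealOf_eq_map_closedPoint ⟨x, hx⟩]
  rfl

theorem app_eq_zero_of_mem {U : X.Opens} (hU : IsAffineOpen U) (hx : x ∈ U) (s : Γ(X, U))
    (hs : s ∈ (hU.primeIdealOf ⟨x, hx⟩).asIdeal) : (ptIdeal x).subschemeι.app U s = 0 := by
  have h1 : s ∈ (ptIdeal x).ideal ⟨U, hU⟩ := by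
    rw [Scheme.IdealSheafData.vanishingIdeal_ideal, PrimeSpectrum.mem_vanishingIdeal]
    intro p hp
    obtain ⟨y, rfl⟩ := Groth.Agent.Lib.Helper45.exists_primeIdealOf_eq hU p
    have hy : (y : X) ∈ closure {x} := by
      have := hp
      rw [Set.mem_preimage, hU.fromSpec_primeIdealOf y] at this
      exact this
    have hspec : x ⤳ (y : X) := specializes_iff_mem_closure.mpr hy
    exact (Groth.Agent.Lib.Helper45.primeIdealOf_le_iff hU y ⟨x, hx⟩).mpr hspec hs
  rw [← (ptIdeal x).ker_subschemeι_app ⟨U, hU⟩] at h1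
  exact h1

/-- the unit section of `O_X / I` over `U`. -/
noncomputable def oneSec (I : X.IdealSheafData) (U : X.Opens) : Γ(ClSub.quotMod I, U) :=
  (1 : Γ(I.subscheme, I.subschemeι ⁻¹ᵁ U))

theorem smul_oneSec (I : X.IdealSheafData) (U : X.Opens) (s : Γ(X, U)) :
    s • oneSec I U = (I.subschemeι.app U s : Γ(I.subscheme, I.subschemeι ⁻¹ᵁ U)) := by
  rw [Groth.Agent.Lib.Helper45.pushforward_smul]
  exact mul_one ((I.subschemeι.app U).hom s : Γ(I.subscheme, I.subschemeι ⁻¹ᵁ U))

theorem map_oneSec (I : X.IdealSheafData) {U V : X.Opens} (h : V ≤ U) :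
    (ClSub.quotMod I).presheaf.map (homOfLE h).op (oneSec I U) = oneSec I V :=
  map_one (I.subscheme.presheaf.map ((TopologicalSpace.Opens.map I.subschemeι.base).map
    (homOfLE h)).op).hom

/-- the germ of the unit section of `O_X / I`. -/
noncomputable def oneGerm (I : X.IdealSheafData) (x : X) : (ClSub.quotMod I).presheaf.stalk x :=
  (ClSub.quotMod I).presheaf.germ ⊤ x trivial (oneSec I ⊤)

theorem germ_oneSec (I : X.IdealSheafData) (x : X) (U : X.Opens) (hx : x ∈ U) :
    (ClSub.quotMod I).presheaf.germ U x hx (oneSec I U) = oneGerm I x := by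
  have := TopCat.Presheaf.germ_res_apply (ClSub.quotMod I).presheaf
    (homOfLE (le_top : U ≤ ⊤)) x hx (oneSec I ⊤)
  rw [map_oneSec] at this
  exact this

/-- every element of the stalk of `O_X / I` is a multiple of the germ of `1`. -/
theorem exists_smul_oneGerm (I : X.IdealSheafData) (x : X)
    (m : (ClSub.quotMod I).presheaf.stalk x) :
    ∃ a : X.presheaf.stalk x, m = a • oneGerm I x := by
  obtain ⟨U₀, hx₀, t₀, rfl⟩ := TopCat.Presheaf.exists_germ_eq _ m
  obtain ⟨_, ⟨U, hU : IsAffineOpen U, rfl⟩, hxU, hUU₀⟩ :=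
    X.isBasis_affineOpens.exists_subset_of_mem_open hx₀ U₀.2
  have hle : U ≤ U₀ := hUU₀
  set t := (ClSub.quotMod I).presheaf.map (homOfLE hle).op t₀ with ht
  have h1 := TopCat.Presheaf.germ_res_apply (ClSub.quotMod I).presheaf (homOfLE hle) x hxU t₀
  obtain ⟨s, hs⟩ := I.subschemeι.app_surjective U hU
    (show Γ(I.subscheme, I.subschemeι ⁻¹ᵁ U) from t)
  refine ⟨X.presheaf.germ U x hxU s, ?_⟩
  rw [← h1, ← germ_oneSec I x U hxU, ← Groth.Agent.Lib.Helper45.germ_smul, smul_oneSec, hs]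

/-- the maximal ideal at `x` kills the stalk at `x` of `O_X / I(closure {x})`. -/
theorem smul_oneGerm_eq_zero (a : X.presheaf.stalk x)
    (ha : a ∈ IsLocalRing.maximalIdeal (X.presheaf.stalk x)) :
    a • oneGerm (ptIdeal x) x = 0 := by
  obtain ⟨U₀, hx₀, s₀, rfl⟩ := TopCat.Presheaf.exists_germ_eq X.presheaf a
  obtain ⟨_, ⟨U, hU : IsAffineOpen U, rfl⟩, hxU, hUU₀⟩ :=
    X.isBasis_affineOpens.exists_subset_of_mem_open hx₀ U₀.2
  have hle : U ≤ U₀ := hUU₀
  have h1 := TopCat.Presheaf.germ_res_apply X.presheaf (homOfLE hle) x hxU s₀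
  rw [← h1] at ha ⊢
  set s := X.presheaf.map (homOfLE hle).op s₀ with hs
  have hmem := (mem_primeIdealOf_iff x hU hxU s).mpr ha
  have h0 := app_eq_zero_of_mem x hU hxU s hmem
  rw [← germ_oneSec (ptIdeal x) x U hxU, ← Groth.Agent.Lib.Helper45.germ_smul, smul_oneSec, h0]
  exact map_zero _

theorem oneGerm_ne_zero (I : X.IdealSheafData) (x : X) (hx : x ∈ (I.support : Set X)) :
    oneGerm I x ≠ 0 := by
  intro h0
  have hsupp : x ∈ CohB1.support (ClSub.quotMod I) := by
    rw [support_quotMod]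
    exact hx
  apply hsupp
  refine ⟨fun m m' => ?_⟩
  obtain ⟨a, rfl⟩ := exists_smul_oneGerm I x m
  obtain ⟨a', rfl⟩ := exists_smul_oneGerm I x m'
  rw [h0, smul_zero, smul_zero]

/-- the stalk of `O_X / I(closure {x})` at `x` is a simple module. -/
theorem isSimpleModule_stalk_quotMod :
    IsSimpleModule (X.presheaf.stalk x) ↑((ClSub.quotMod (ptIdeal x)).presheaf.stalk x) := by
  have hxs : x ∈ ((ptIdeal x).support : Set X) := by
    rw [support_ptIdeal]
    exact subset_closure rfl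
  rw [isSimpleModule_iff_toSpanSingleton_surjective]
  refine ⟨⟨⟨oneGerm (ptIdeal x) x, 0, oneGerm_ne_zero _ x hxs⟩⟩, ?_⟩
  intro m hm m'
  obtain ⟨a, rfl⟩ := exists_smul_oneGerm (ptIdeal x) x m
  obtain ⟨a', rfl⟩ := exists_smul_oneGerm (ptIdeal x) x m'
  have hau : IsUnit a := by
    by_contra hna
    exact hm (smul_oneGerm_eq_zero x a ((IsLocalRing.mem_maximalIdeal a).mpr hna))
  obtain ⟨b, hb⟩ := hau.exists_left_inv
  refine ⟨a' * b, ?_⟩
  rw [LinearMap.toSpanSingleton_apply, ← mul_smul, mul_assoc, hb, mul_one]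

end Generic

end Groth.Agent.Lib.Helper49.QuotModStalk
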