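import Mathlib
import Groth.Agent.Lib.Helper45.Dev.DevNoeth
import Groth.Agent.Lib.Helper49.QuotModStalk
import Groth.Agent.Lib.Helper12.QuasiFlat
import Groth.Agent.Lib.Helper1.PushSupport

set_option autoImplicit false
set_option linter.style.haveILetI false
universe u

open CategoryTheory CategoryTheory.Limits AlgebraicGeometry Opposite TopologicalSpace

namespace Groth.Agent.Lib.Helper49.SerreGen

open Groth.Agent.Lib.Helper45 Groth.Agent.Lib.Helper49 Groth.Agent.Lib.Helper45.GraphTrick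
  Groth.Agent.Lib.Helper45.DevCore Groth.Agent.Lib.Helper45.CoprimarySheaf
  Groth.Agent.Lib.Helper45.NowhereDense Groth.Agent.Lib.Helper49.QuotModStalk

variable {X : Scheme.{u}}

/-- A Serre class on coherent modules: for short exact sequences of coherent modules, the middle
term belongs to `P` iff both outer terms do. -/
def IsSerreCoh (P : ObjectProperty X.Modules) : Prop :=
  ∀ S : ShortComplex X.Modules, S.ShortExact → Coh.IsCoh S.X₁ → Coh.IsCoh S.X₂ →
    Coh.IsCoh S.X₃ → (P S.X₂ ↔ P S.X₁ ∧ P S.X₃)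

theorem isCoh_of_iso {A B : X.Modules} (e : A ≅ B) (hA : Coh.IsCoh A) : Coh.IsCoh B :=
  ⟨isQuasicoherent_of_iso e hA.1, isFiniteType_of_epi e.hom hA.2⟩

theorem isCoh_of_isZero {A : X.Modules} (h : IsZero A) : Coh.IsCoh A :=
  ⟨Groth.Agent.Lib.Helper1.isQuasicoherent_of_isZero A h,
    Groth.Agent.Lib.Helper1.isFiniteType_of_isZero A h⟩

namespace IsSerreCoh

variable {P : ObjectProperty X.Modules} (hP : IsSerreCoh P)
include hP

theorem of_mono {A B : X.Modules} (f : A ⟶ B) [Mono f] (hA : Coh.IsCoh A) (hB : Coh.IsCoh B)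
    (h : P B) : P A :=
  ((hP _ (shortExact_cokernel f) hA hB (isCoh_cokernel f hA.1 hB)).mp h).1

theorem of_epi [IsLocallyNoetherian X] {A B : X.Modules} (f : A ⟶ B) [Epi f]
    (hA : Coh.IsCoh A) (hB : Coh.IsCoh B) (h : P A) : P B :=
  ((hP _ (shortExact_kernel f) (isCoh_kernel f hA hB.1) hA hB).mp h).2

theorem of_iso {A B : X.Modules} (e : A ≅ B) (hA : Coh.IsCoh A) (h : P A) : P B :=
  hP.of_mono e.inv (isCoh_of_iso e hA) hA h

theorem of_isZero {F : X.Modules} (hF : Coh.IsCoh F) (hPF : P F) {A : X.Modules}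
    (hA : IsZero A) : P A := by
  haveI : Mono (0 : A ⟶ F) := ⟨fun g h _ => hA.eq_of_tgt g h⟩
  exact hP.of_mono (0 : A ⟶ F) (isCoh_of_isZero hA) hF hPF

theorem of_shortExact (S : ShortComplex X.Modules) (hS : S.ShortExact) (h1 : Coh.IsCoh S.X₁)
    (h2 : Coh.IsCoh S.X₂) (h3 : Coh.IsCoh S.X₃) (hP1 : P S.X₁) (hP3 : P S.X₃) : P S.X₂ :=
  (hP S hS h1 h2 h3).mpr ⟨hP1, hP3⟩

end IsSerreCoh


section Gen

variable {P : ObjectProperty X.Modules}

/-- For a Serre class `P` on coherent modules containing the coherent module `F` and a point `x`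
of the support of `F`, there is a coherent module in `P` supported in the closure of `x` whose
stalk at `x` is simple. -/
theorem exists_simple_gen [IsLocallyNoetherian X] (hP : IsSerreCoh P) (F : X.Modules)
    (hF : Coh.IsCoh F) (hPF : P F) (x : X) (hx : x ∈ CohB1.support F) :
    ∃ G : X.Modules, Coh.IsCoh G ∧ CohB1.support G ⊆ closure {x} ∧ P G ∧
      IsSimpleModule (X.presheaf.stalk x) ↑(G.presheaf.stalk x) := by
  set T := ClSub.quotMod (ptIdeal x) with hTdef
  have hT : Coh.IsCoh T := isCoh_quotMod _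
  have hTsupp : CohB1.support T = closure {x} := by rw [support_quotMod, support_ptIdeal]
  haveI hTs : IsSimpleModule (X.presheaf.stalk x) ↑(T.presheaf.stalk x) :=
    isSimpleModule_stalk_quotMod x
  haveI : Nontrivial ↑(F.presheaf.stalk x) := not_subsingleton_iff_nontrivial.mp hx
  haveI : Module.Finite (X.presheaf.stalk x) ↑(F.presheaf.stalk x) :=
    Groth.Agent.Lib.Helper12.QuasiFlat.finite_stalk_of_isCoh F hF x
  haveI : IsNoetherian (X.presheaf.stalk x) ↑(F.presheaf.stalk x) :=
    isNoetherian_of_isNoetherianRing_of_finite _ _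
  obtain ⟨ψ, hψ⟩ := exists_surjective_to_simple (X.presheaf.stalk x) ↑(F.presheaf.stalk x)
    ↑(T.presheaf.stalk x)
  obtain ⟨H, q₁, q₂, hH, hbij, hq₂, -, -⟩ := exists_graph F T hF hT x ψ
  -- objects
  let k : kernel q₁ ⟶ T := kernel.ι q₁ ≫ q₂
  let c : T ⟶ cokernel k := cokernel.π k
  have hkc : kernel.ι q₁ ≫ (q₂ ≫ c) = 0 := by
    rw [← Category.assoc]
    exact cokernel.condition k
  let r : cokernel (kernel.ι q₁) ⟶ cokernel k := cokernel.desc (kernel.ι q₁) (q₂ ≫ c) hkc
  have hr : cokernel.π (kernel.ι q₁) ≫ r = q₂ ≫ c := cokernel.π_desc _ _ _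
  -- coherence
  have hK₁ : Coh.IsCoh (kernel q₁) := isCoh_kernel q₁ hH hF.1
  have hC : Coh.IsCoh (cokernel k) := isCoh_cokernel k hK₁.1 hT
  have hCI : Coh.IsCoh (cokernel (kernel.ι q₁)) := isCoh_cokernel _ hK₁.1 hH
  have hCr : Coh.IsCoh (cokernel r) := isCoh_cokernel r hCI.1 hC
  have hG : Coh.IsCoh (kernel (cokernel.π r)) := isCoh_kernel _ hC hCr.1
  have hC₁ : Coh.IsCoh (cokernel q₁) := isCoh_cokernel q₁ hH.1 hF
  have hI₁ : Coh.IsCoh (kernel (cokernel.π q₁)) := isCoh_kernel _ hF hC₁.1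
  -- `P`
  have PI₁ : P (kernel (cokernel.π q₁)) := hP.of_mono (kernel.ι (cokernel.π q₁)) hI₁ hF hPF
  have PCI : P (cokernel (kernel.ι q₁)) :=
    hP.of_iso (Abelian.coimageIsoImage q₁).symm hI₁ PI₁
  have PG : P (kernel (cokernel.π r)) := hP.of_epi (Abelian.factorThruImage r) hCI hG PCI
  refine ⟨kernel (cokernel.π r), hG, ?_, PG, ?_⟩
  · exact ((support_subset_of_mono (kernel.ι (cokernel.π r))).trans
      (support_subset_of_epi c)).trans hTsupp.le
  · have hK₁x : Subsingleton ↑((kernel q₁).presheaf.stalk x) :=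
      (subsingleton_stalk_kernel_iff q₁ x).mpr hbij.1
    have hcinj : Function.Injective (stalkMap c x).hom := by
      rw [← subsingleton_stalk_kernel_iff]
      exact (stalkMap_surjective_of_epi (Abelian.factorThruImage k) x).subsingleton
    have hcsurj : Function.Surjective (stalkMap c x).hom := stalkMap_surjective_of_epi c x
    have hq₂surj : Function.Surjective (stalkMap q₂ x).hom := by
      intro t
      obtain ⟨m, rfl⟩ := hψ t
      obtain ⟨b, rfl⟩ := hbij.2 m
      exact ⟨b, hq₂ b⟩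
    have hrsurj : Function.Surjective (stalkMap r x).hom := by
      intro z
      obtain ⟨t, rfl⟩ := hcsurj z
      obtain ⟨b, rfl⟩ := hq₂surj t
      refine ⟨(stalkMap (cokernel.π (kernel.ι q₁)) x).hom b, ?_⟩
      rw [← stalkMap_comp_apply', hr, stalkMap_comp_apply']
    have hιinj : Function.Injective (stalkMap (kernel.ι (cokernel.π r)) x).hom :=
      stalkMap_injective_of_mono _ x
    have hιsurj : Function.Surjective (stalkMap (kernel.ι (cokernel.π r)) x).hom := by
      intro z
      have hsub : Subsingleton ↑((cokernel r).presheaf.stalk x) :=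
        (subsingleton_stalk_cokernel_iff r x).mpr hrsurj
      have h0 : (stalkMap (cokernel.π r) x).hom z = 0 := hsub.elim _ _
      exact (stalkMap_exact_of_shortExact _ (shortExact_kernel (cokernel.π r)) x z).mp h0
    let e₁ : ↑((kernel (cokernel.π r)).presheaf.stalk x) ≃ₗ[X.presheaf.stalk x]
        ↑((cokernel k).presheaf.stalk x) :=
      LinearEquiv.ofBijective (stalkMapLinear (kernel.ι (cokernel.π r)) x) ⟨hιinj, hιsurj⟩
    let e₂ : ↑(T.presheaf.stalk x) ≃ₗ[X.presheaf.stalk x] ↑((cokernel k).presheaf.stalk x) :=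
      LinearEquiv.ofBijective (stalkMapLinear c x) ⟨hcinj, hcsurj⟩
    exact IsSimpleModule.congr (e₁.trans e₂.symm)

/-- **Generation of `Coh_Z(X)`.** On a Noetherian scheme, a Serre class on coherent modules
containing the coherent module `F` contains every coherent module supported in `Supp F`. -/
theorem of_support_subset [IsNoetherian X] (hP : IsSerreCoh P) (F E : X.Modules)
    (hF : Coh.IsCoh F) (hE : Coh.IsCoh E) (hPF : P F)
    (hsupp : CohB1.support E ⊆ CohB1.support F) : P E := by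
  haveI := hF.1
  have hclosed : IsClosed (CohB1.support F) :=
    Groth.Agent.Lib.Helper1.isClosed_support_of_isFiniteType F hF.2
  have key := Groth.Agent.Lib.Helper45.DevNoeth.devissage (fun M => Coh.IsCoh M ∧ P M)
    ?_ ?_ (CohB1.support F) hclosed ?_ ?_ E hE hsupp
  · exact key.2
  · rintro A B ⟨e⟩ ⟨hA, hPA⟩
    exact ⟨isCoh_of_iso e hA, hP.of_iso e hA hPA⟩
  · intro A hA
    exact ⟨isCoh_of_isZero hA, hP.of_isZero hF hPF hA⟩
  · intro S hS h1 h2 h3 _
    have h := hP S hS h1 h2 h3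
    refine ⟨fun _ hP2 => ⟨h3, (h.mp hP2.2).2⟩, fun hP1 hP3 => ⟨h2, h.mpr ⟨hP1.2, hP3.2⟩⟩,
      fun hP2 _ => ⟨h1, (h.mp hP2.2).1⟩⟩
  · intro x hx
    obtain ⟨G, hG, hGs, hPG, hsimple⟩ := exists_simple_gen hP F hF hPF x hx
    exact ⟨G, hG, hGs, ⟨hG, hPG⟩, hsimple⟩

end Gen


section Support

theorem support_subset_iff_of_shortExact (S : ShortComplex X.Modules) (hS : S.ShortExact)
    (Z : Set X) :
    CohB1.support S.X₂ ⊆ Z ↔ CohB1.support S.X₁ ⊆ Z ∧ CohB1.support S.X₃ ⊆ Z := by
  haveI := hS.mono_f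
  haveI := hS.epi_g
  constructor
  · intro h
    exact ⟨(support_subset_of_mono S.f).trans h, (support_subset_of_epi S.g).trans h⟩
  · rintro ⟨h1, h3⟩ x hx
    by_contra hxZ
    apply hx
    have s1 : Subsingleton ↑(S.X₁.presheaf.stalk x) := by
      by_contra h
      exact hxZ (h1 h)
    have s3 : Subsingleton ↑(S.X₃.presheaf.stalk x) := by
      by_contra h
      exact hxZ (h3 h)
    have key : ∀ c : ↑(S.X₂.presheaf.stalk x), c = 0 := by
      intro c
      obtain ⟨d, rfl⟩ := (stalkMap_exact_of_shortExact S hS x c).mp (s3.elim _ _)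
      rw [s1.elim d 0, map_zero]
    exact ⟨fun a b => (key a).trans (key b).symm⟩

/-- "support contained in `Z`" is a Serre class. -/
theorem isSerreCoh_support_subset (Z : Set X) :
    IsSerreCoh (fun M : X.Modules => CohB1.support M ⊆ Z) :=
  fun S hS _ _ _ => support_subset_iff_of_shortExact S hS Z

end Support

end Groth.Agent.Lib.Helper49.SerreGen
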