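import Mathlib
/-!
# The ring `R ⊕ N` attached to a symmetric pairing `N × N → R`

For a module `N` over a commutative ring `R` and a symmetric bilinear pairing `μ : N × N → R` with
`μ a b • c = μ b c • a` (automatic for `N` invertible), `DblRing d = R × N` is a commutative ring
with `(s, l) (s', l') = (s s' + μ l l', s l' + s' l)`.
-/
universe u

namespace Groth.Agent.Lib.Helper49

/-- a symmetric pairing satisfying the associativity constraint -/
structure DblData (R : Type u) (N : Type u) [CommRing R] [AddCommGroup N] [Module R N] where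
  /-- the pairing -/
  μ : N → N → R
  add_left : ∀ a a' b, μ (a + a') b = μ a b + μ a' b
  smul_left : ∀ (r : R) a b, μ (r • a) b = r * μ a b
  symm : ∀ a b, μ a b = μ b a
  assoc : ∀ a b c, μ a b • c = μ b c • a

namespace DblData

variable {R : Type u} {N : Type u} [CommRing R] [AddCommGroup N] [Module R N] (d : DblData R N)

theorem add_right (a b b' : N) : d.μ a (b + b') = d.μ a b + d.μ a b' := by
  rw [d.symm, d.add_left, d.symm b, d.symm b']

theorem smul_right (r : R) (a b : N) : d.μ a (r • b) = r * d.μ a b := by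
  rw [d.symm, d.smul_left, d.symm b]

theorem zero_left (b : N) : d.μ 0 b = 0 := by
  have := d.smul_left 0 0 b
  rwa [zero_smul, zero_mul] at this

theorem zero_right (a : N) : d.μ a 0 = 0 := by
  rw [d.symm, d.zero_left]

end DblData

/-- the ring `R ⊕ N` -/
def DblRing {R : Type u} {N : Type u} [CommRing R] [AddCommGroup N] [Module R N]
    (_ : DblData R N) : Type u := R × N

namespace DblRing

variable {R : Type u} {N : Type u} [CommRing R] [AddCommGroup N] [Module R N] (d : DblData R N)

instance : AddCommGroup (DblRing d) := inferInstanceAs (AddCommGroup (R × N))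

instance : Mul (DblRing d) :=
  ⟨fun p q => (p.1 * q.1 + d.μ p.2 q.2, p.1 • q.2 + q.1 • p.2)⟩

instance : One (DblRing d) := ⟨((1 : R), (0 : N))⟩

theorem mul_def (p q : DblRing d) :
    p * q = (p.1 * q.1 + d.μ p.2 q.2, p.1 • q.2 + q.1 • p.2) := rfl

theorem one_def : (1 : DblRing d) = ((1 : R), (0 : N)) := rfl

@[ext] theorem ext {p q : DblRing d} (h1 : p.1 = q.1) (h2 : p.2 = q.2) : p = q := Prod.ext h1 h2

theorem add_fst (p q : DblRing d) : (p + q).1 = p.1 + q.1 := rfl
theorem add_snd (p q : DblRing d) : (p + q).2 = p.2 + q.2 := rfl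
theorem zero_fst : (0 : DblRing d).1 = 0 := rfl
theorem zero_snd : (0 : DblRing d).2 = 0 := rfl
theorem mul_fst (p q : DblRing d) : (p * q).1 = p.1 * q.1 + d.μ p.2 q.2 := rfl
theorem mul_snd (p q : DblRing d) : (p * q).2 = p.1 • q.2 + q.1 • p.2 := rfl
theorem one_fst : (1 : DblRing d).1 = 1 := rfl
theorem one_snd : (1 : DblRing d).2 = 0 := rfl

instance : CommRing (DblRing d) :=
  { (inferInstance : AddCommGroup (DblRing d)), (inferInstance : Mul (DblRing d)),
    (inferInstance : One (DblRing d)) with
    left_distrib := fun p q r => by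
      apply ext
      · simp only [mul_fst, add_fst, add_snd, d.add_right]; ring
      · simp only [mul_snd, add_fst, add_snd]; module
    right_distrib := fun p q r => by
      apply ext
      · simp only [mul_fst, add_fst, add_snd, d.add_left]; ring
      · simp only [mul_snd, add_fst, add_snd]; module
    zero_mul := fun p => by
      apply ext
      · simp only [mul_fst, zero_fst, zero_snd, d.zero_left]; ring
      · simp only [mul_snd, zero_fst, zero_snd]; module
    mul_zero := fun p => by
      apply ext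
      · simp only [mul_fst, zero_fst, zero_snd, d.zero_right]; ring
      · simp only [mul_snd, zero_fst, zero_snd]; module
    mul_assoc := fun p q r => by
      apply ext
      · simp only [mul_fst, mul_snd, d.add_left, d.add_right, d.smul_left, d.smul_right]; ring
      · simp only [mul_fst, mul_snd]
        have h := d.assoc p.2 q.2 r.2
        rw [add_smul, h]
        module
    one_mul := fun p => by
      apply ext
      · simp only [mul_fst, one_fst, one_snd, d.zero_left]; ring
      · simp only [mul_snd, one_fst, one_snd]; module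
    mul_one := fun p => by
      apply ext
      · simp only [mul_fst, one_fst, one_snd, d.zero_right]; ring
      · simp only [mul_snd, one_fst, one_snd]; module
    mul_comm := fun p q => by
      apply ext
      · simp only [mul_fst, d.symm p.2 q.2]; ring
      · simp only [mul_snd]; module }

/-- the structure map `R → R ⊕ N` -/
def inl : R →+* DblRing d where
  toFun s := ((s, 0) : R × N)
  map_one' := rfl
  map_mul' s t := by
    apply ext
    · change s * t = s * t + d.μ 0 0
      rw [d.zero_left, add_zero]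
    · change (0 : N) = s • (0 : N) + t • (0 : N)
      rw [smul_zero, smul_zero, add_zero]
  map_zero' := rfl
  map_add' s t := by
    apply ext
    · rfl
    · change (0 : N) = 0 + 0
      rw [add_zero]

theorem inl_fst (s : R) : (inl d s).1 = s := rfl
theorem inl_snd (s : R) : (inl d s).2 = 0 := rfl

theorem inl_mul (s : R) (p : DblRing d) : inl d s * p = ((s * p.1, s • p.2) : R × N) := by
  apply ext
  · change s * p.1 + d.μ 0 p.2 = s * p.1
    rw [d.zero_left, add_zero]
  · change s • p.2 + p.1 • (0 : N) = s • p.2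
    rw [smul_zero, add_zero]

/-- the inclusion `N → R ⊕ N` -/
def inr : N →+ DblRing d where
  toFun l := ((0, l) : R × N)
  map_zero' := rfl
  map_add' a b := by
    apply ext
    · change (0 : R) = 0 + 0
      rw [add_zero]
    · rfl

theorem inr_mul_inr (a b : N) : inr d a * inr d b = inl d (d.μ a b) := by
  apply ext
  · change (0 : R) * 0 + d.μ a b = d.μ a b
    rw [zero_mul, zero_add]
  · change (0 : R) • b + (0 : R) • a = 0
    rw [zero_smul, zero_smul, add_zero]

theorem inl_add_inr (s : R) (l : N) : inl d s + inr d l = ((s, l) : R × N) := by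
  apply ext
  · change s + 0 = s
    rw [add_zero]
  · change (0 : N) + l = l
    rw [zero_add]

section Map

variable {R' : Type u} {N' : Type u} [CommRing R'] [AddCommGroup N'] [Module R' N']
  (d' : DblData R' N') (φ : R →+* R') (ψ : N →+ N')
  (hψ : ∀ (r : R) (n : N), ψ (r • n) = φ r • ψ n)
  (hμ : ∀ a b : N, d'.μ (ψ a) (ψ b) = φ (d.μ a b))

/-- functoriality of `R ⊕ N` -/
def map : DblRing d →+* DblRing d' where
  toFun p := ((φ p.1, ψ p.2) : R' × N')
  map_one' := by
    apply ext
    · exact map_one φ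
    · exact map_zero ψ
  map_mul' p q := by
    apply ext
    · change φ (p.1 * q.1 + d.μ p.2 q.2) = φ p.1 * φ q.1 + d'.μ (ψ p.2) (ψ q.2)
      rw [map_add, map_mul, hμ]
    · change ψ (p.1 • q.2 + q.1 • p.2) = φ p.1 • ψ q.2 + φ q.1 • ψ p.2
      rw [map_add, hψ, hψ]
  map_zero' := by
    apply ext
    · exact map_zero φ
    · exact map_zero ψ
  map_add' p q := by
    apply ext
    · exact map_add φ p.1 q.1
    · exact map_add ψ p.2 q.2

theorem map_apply (p : DblRing d) : map d d' φ ψ hψ hμ p = ((φ p.1, ψ p.2) : R' × N') := rfl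

theorem map_inl (s : R) : map d d' φ ψ hψ hμ (inl d s) = inl d' (φ s) := by
  apply ext
  · rfl
  · exact map_zero ψ

/-- `R' ⊕ N'` is the localization of `R ⊕ N` at `(r, 0)` when `R'`, `N'` are the localizations of
`R`, `N` at `r` (in elementary form). -/
theorem isLocalization_away (r : R) (hunit : IsUnit (φ r))
    (hRs : ∀ s' : R', ∃ (n : ℕ) (s : R), φ s = φ r ^ n * s')
    (hRi : ∀ s : R, φ s = 0 → ∃ n : ℕ, r ^ n * s = 0)
    (hNs : ∀ l' : N', ∃ (n : ℕ) (l : N), ψ l = φ r ^ n • l')
    (hNi : ∀ l : N, ψ l = 0 → ∃ n : ℕ, r ^ n • l = 0) :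
    letI := (map d d' φ ψ hψ hμ).toAlgebra
    IsLocalization.Away (inl d r) (DblRing d') := by
  let _ := (map d d' φ ψ hψ hμ).toAlgebra
  have hpow : ∀ n : ℕ, algebraMap (DblRing d) (DblRing d') (inl d r ^ n) = inl d' (φ r ^ n) := by
    intro n
    rw [← map_pow, ← map_pow]
    exact map_inl d d' φ ψ hψ hμ (r ^ n)
  refine (isLocalization_iff _ _).mpr ⟨?_, ?_, ?_⟩
  · rintro ⟨_, n, rfl⟩
    rw [hpow]
    exact (hunit.pow n).map (inl d')
  · intro z
    obtain ⟨n₁, s, hs⟩ := hRs z.1
    obtain ⟨n₂, l, hl⟩ := hNs z.2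
    refine ⟨(((r ^ n₂ * s, r ^ n₁ • l) : R × N), ⟨inl d r ^ (n₁ + n₂), n₁ + n₂, rfl⟩), ?_⟩
    change z * algebraMap (DblRing d) (DblRing d') (inl d r ^ (n₁ + n₂)) = _
    rw [hpow, mul_comm, inl_mul]
    apply ext
    · change φ r ^ (n₁ + n₂) * z.1 = φ (r ^ n₂ * s)
      rw [map_mul, map_pow, hs, pow_add]
      ring
    · change φ r ^ (n₁ + n₂) • z.2 = ψ (r ^ n₁ • l)
      rw [hψ, hl, map_pow, pow_add, mul_smul]
  · intro a b hab
    have h1 : φ (a.1 - b.1) = 0 := by
      rw [map_sub, sub_eq_zero]
      exact congrArg Prod.fst hab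
    have h2 : ψ (a.2 - b.2) = 0 := by
      rw [map_sub, sub_eq_zero]
      exact congrArg Prod.snd hab
    obtain ⟨n₁, hn₁⟩ := hRi _ h1
    obtain ⟨n₂, hn₂⟩ := hNi _ h2
    refine ⟨⟨inl d r ^ (n₁ + n₂), n₁ + n₂, rfl⟩, ?_⟩
    change inl d r ^ (n₁ + n₂) * a = inl d r ^ (n₁ + n₂) * b
    rw [← map_pow, inl_mul, inl_mul]
    apply ext
    · change r ^ (n₁ + n₂) * a.1 = r ^ (n₁ + n₂) * b.1
      rw [← sub_eq_zero, ← mul_sub, pow_add, mul_comm (r ^ n₁), mul_assoc, hn₁, mul_zero]
    · change r ^ (n₁ + n₂) • a.2 = r ^ (n₁ + n₂) • b.2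
      rw [← sub_eq_zero, ← smul_sub, pow_add, mul_smul, hn₂, smul_zero]

end Map

end DblRing

end Groth.Agent.Lib.Helper49
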