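import Mathlib
import Groth.Prelude.Def_FinCov
import Groth.Agent.Lib.Helper49.QCAlgModule
/-!
# Morphisms of modules agreeing on a basis; the trace of a locally free algebra

* `hom_ext_of_basis`: two morphisms of `O_X`-modules agreeing on sections over a basis are equal.
* `nsmul_app_apply`.
* `exists_affine_free_sections`: for `A` locally free of rank `d`, every point has arbitrarily an
  affine neighbourhood `W` with `A(W) ≃ Γ(X, W)^d`.
* `strMod_comp_trace`: `O_X → A → O_X` (structure map then trace) is multiplication by `d`.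
-/
universe u
open CategoryTheory CategoryTheory.Limits AlgebraicGeometry TopologicalSpace Opposite

namespace Groth.Agent.Lib.Helper49
open Groth.Agent.Lib.Helper45 RelSpec

variable {X : Scheme.{u}}

/-- Two morphisms of `O_X`-modules which agree on sections over a basis of opens are equal. -/
theorem hom_ext_of_basis {M N : X.Modules} (φ ψ : M ⟶ N)
    (h : ∀ (x : X) (V : X.Opens), x ∈ V → ∃ W : X.Opens, W ≤ V ∧ x ∈ W ∧
      ∀ s : Γ(M, W), φ.app W s = ψ.app W s) : φ = ψ := by
  apply Scheme.Modules.hom_ext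
  intro V
  ext s
  refine Helper45.section_ext_germ N V _ _ fun x hx => ?_
  obtain ⟨W, hWV, hxW, hW⟩ := h x V hx
  have h1 : ∀ (θ : M ⟶ N), N.presheaf.germ V x hx (θ.app V s) =
      N.presheaf.germ W x hxW (θ.app W (M.presheaf.map (homOfLE hWV).op s)) := by
    intro θ
    have hnat : θ.app W (M.presheaf.map (homOfLE hWV).op s) =
        N.presheaf.map (homOfLE hWV).op (θ.app V s) :=
      congrArg (fun g => g.hom s) (θ.mapPresheaf.naturality (homOfLE hWV).op)
    rw [hnat, TopCat.Presheaf.germ_res_apply]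
  rw [h1 φ, h1 ψ, hW]

theorem nsmul_app_apply {M N : X.Modules} (n : ℕ) (φ : M ⟶ N) (U : X.Opens) (m : Γ(M, U)) :
    (n • φ).app U m = n • φ.app U m := by
  have h := map_nsmul (appAddHom M N U) n φ
  have h2 := congrArg (fun g : Γ(M, U) →+ Γ(N, U) => g m) h
  exact h2

variable (A : QCAlg X)

/-- For `A` locally free of rank `d`, every point has arbitrarily small affine neighbourhoods `W`
with `A(W) ≃ Γ(X, W)^d`. -/
theorem exists_affine_free_sections (d : ℕ) (hA : FlatMod.IsFinLocFreeOfRank d A.toModule)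
    (x : X) (V : X.Opens) (hx : x ∈ V) :
    ∃ W : X.Opens, W ≤ V ∧ x ∈ W ∧ IsAffineOpen W ∧
      Nonempty (Γ(A.toModule, W) ≃ₗ[Γ(X, W)] (Fin d → Γ(X, W))) := by
  obtain ⟨U, hxU, ⟨e⟩⟩ := hA x
  obtain ⟨_, ⟨W, hW : IsAffineOpen W, rfl⟩, hxW, hWU⟩ :=
    X.isBasis_affineOpens.exists_subset_of_mem_open (show x ∈ U ⊓ V from ⟨hxU, hx⟩) (U ⊓ V).2
  have hWU' : W ≤ U := fun y hy => (hWU hy).1
  have hWV' : W ≤ V := fun y hy => (hWU hy).2
  exact ⟨W, hWV', hxW, hW, ⟨sectionsEquivOfIsoFree A.toModule d (isoFreeOfLE hWU' _ d e)⟩⟩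

/-- The structure map followed by the trace is multiplication by the rank. -/
theorem strMod_comp_trace (d : ℕ) (hA : FlatMod.IsFinLocFreeOfRank d A.toModule)
    (τ : A.toModule ⟶ Coh.structureModule X) (hτ : FinCov.IsTrace A τ) :
    FinCov.strMod A ≫ τ = d • 𝟙 (Coh.structureModule X) := by
  refine hom_ext_of_basis _ _ fun x V hx => ?_
  obtain ⟨W, hWV, hxW, hW, ⟨e⟩⟩ := exists_affine_free_sections A d hA x V hx
  refine ⟨W, hWV, hxW, fun s => ?_⟩
  rw [nsmul_app_apply]
  let _ : Algebra Γ(X, W) (A.presheaf.obj (op W)) := (A.str.app (op W)).hom.toAlgebra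
  have e' : (A.presheaf.obj (op W)) ≃ₗ[Γ(X, W)] (Fin d → Γ(X, W)) := e
  have hfree : Module.Free Γ(X, W) (A.presheaf.obj (op W)) := Module.Free.of_equiv e'.symm
  have hfin : Module.Finite Γ(X, W) (A.presheaf.obj (op W)) := Module.Finite.equiv e'.symm
  have h1 := hτ W hW hfree hfin ((A.str.app (op W)).hom s)
  have h2 : (FinCov.strMod A ≫ τ).app W s = (τ.val.app (op W)).hom ((A.str.app (op W)).hom s) :=
    rfl
  rw [h2, h1]
  have h3 := Algebra.trace_algebraMap_of_basis (Module.Basis.ofEquivFun e') s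
  rw [Fintype.card_fin] at h3
  exact h3

end Groth.Agent.Lib.Helper49
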