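import Mathlib
import Groth.Prelude.Def_FinCov
import Groth.Agent.Lib.Helper49.QCAlgTrace
import Groth.Agent.Lib.Helper45.ModulesExact
/-!
# The algebra `O_X ⊕ L` is locally free of rank two
-/
universe u
open CategoryTheory CategoryTheory.Limits AlgebraicGeometry TopologicalSpace Opposite

namespace Groth.Agent.Lib.Helper49
open Groth.Agent.Lib.Helper45 RelSpec

variable {X : Scheme.{u}}

/-- For an invertible module `L`, every point has arbitrarily small affine neighbourhoods `W` with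
`L(W) ≃ Γ(X, W)`. -/
theorem exists_affine_sections_of_isInvertible (L : X.Modules) (hL : PicF.IsInvertible L)
    (x : X) (V : X.Opens) (hx : x ∈ V) :
    ∃ W : X.Opens, W ≤ V ∧ x ∈ W ∧ IsAffineOpen W ∧
      Nonempty (Γ(L, W) ≃ₗ[Γ(X, W)] Γ(X, W)) := by
  obtain ⟨U, hxU, ⟨e⟩⟩ := hL x
  obtain ⟨_, ⟨W, hW : IsAffineOpen W, rfl⟩, hxW, hWU⟩ :=
    X.isBasis_affineOpens.exists_subset_of_mem_open (show x ∈ U ⊓ V from ⟨hxU, hx⟩) (U ⊓ V).2
  have hWU' : W ≤ U := fun y hy => (hWU hy).1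
  have hWV' : W ≤ V := fun y hy => (hWU hy).2
  have e1 : L.restrict U.ι ≅ FlatMod.freeMod (↑U) 1 :=
    e ≪≫ (coproductUniqueIso (fun _ : Fin 1 => Coh.structureModule (↑U))).symm
  exact ⟨W, hWV', hxW, hW, ⟨(sectionsEquivOfIsoFree L 1 (isoFreeOfLE hWU' _ 1 e1)).trans
    (LinearEquiv.funUnique (Fin 1) Γ(X, W) Γ(X, W))⟩⟩

variable (A : QCAlg X)

theorem isFinLocFreeOfRank_two_of_isDblAlg (L : X.Modules) (hL : PicF.IsInvertible L)
    (m : CohB1.tensorMod L L ⟶ Coh.structureModule X) (j : L ⟶ A.toModule)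
    (h : FinCov.IsDblAlg L m A j) : FlatMod.IsFinLocFreeOfRank 2 A.toModule := by
  intro x
  obtain ⟨W, -, hxW, hW, ⟨eL⟩⟩ := exists_affine_sections_of_isInvertible L hL x ⊤ trivial
  let Φ : (Γ(X, W) × Γ(L, W)) →ₗ[Γ(X, W)] Γ(A.toModule, W) :=
    (Helper45.appₗ (FinCov.strMod A) W).coprod (Helper45.appₗ j W)
  have hΦ : Function.Bijective Φ := by
    have hfun : (Φ : Γ(X, W) × Γ(L, W) → Γ(A.toModule, W)) = fun p =>
        (A.str.app (op W)).hom p.1 + FinCov.toSec A ((j.val.app (op W)).hom p.2) := by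
      funext p; rfl
    rw [hfun]
    exact h.1 W
  let e1 : (Γ(X, W) × Γ(L, W)) ≃ₗ[Γ(X, W)] Γ(A.toModule, W) := LinearEquiv.ofBijective Φ hΦ
  let e2 : (Γ(X, W) × Γ(L, W)) ≃ₗ[Γ(X, W)] (Γ(X, W) × Γ(X, W)) :=
    LinearEquiv.prodCongr (LinearEquiv.refl _ _) eL
  exact ⟨W, hxW, nonempty_iso_restrict_freeMod_of_linearEquiv hW A.toModule 2
    ((e1.symm.trans e2).trans (LinearEquiv.finTwoArrow Γ(X, W) Γ(X, W)).symm)⟩

end Groth.Agent.Lib.Helper49
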