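import Mathlib
import Groth.Prelude.Def_FinCov
import Groth.Agent.Lib.Helper49.QCAlgTrace
import Groth.Agent.Lib.Helper45.ModulesExact
/-!
# The trace of a locally free algebra of invertible rank splits
-/
universe u
open CategoryTheory CategoryTheory.Limits AlgebraicGeometry TopologicalSpace Opposite

namespace Groth.Agent.Lib.Helper49
open Groth.Agent.Lib.Helper45 RelSpec

variable {X : Scheme.{u}}

theorem isUnit_natCast_of_top (d : ℕ) (hd : IsUnit (d : Γ(X, ⊤))) (U : X.Opens) :
    IsUnit (d : Γ(X, U)) := by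
  have := hd.map (X.presheaf.map (homOfLE (le_top : U ≤ ⊤)).op).hom
  rwa [map_natCast] at this

theorem isIso_nsmul_id (d : ℕ) (hd : IsUnit (d : Γ(X, ⊤))) :
    IsIso (d • 𝟙 (Coh.structureModule X)) := by
  refine Scheme.Modules.Hom.isIso_iff_isIso_app.mpr fun U => ?_
  refine (ConcreteCategory.isIso_iff_bijective _).mpr ?_
  have hU := isUnit_natCast_of_top d hd U
  have hfun : ∀ s : Γ(Coh.structureModule X, U),
      (d • 𝟙 (Coh.structureModule X)).app U s = (d : Γ(X, U)) • s := by
    intro s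
    rw [Nat.cast_smul_eq_nsmul]
    exact nsmul_app_apply d (𝟙 _) U s
  constructor
  · intro s t hst
    have hst' : (d • 𝟙 (Coh.structureModule X)).app U s =
        (d • 𝟙 (Coh.structureModule X)).app U t := hst
    rw [hfun, hfun] at hst'
    exact hU.smul_left_cancel.mp hst'
  · intro t
    obtain ⟨u, hu⟩ := hU
    refine ⟨(↑u⁻¹ : Γ(X, U)) • t, ?_⟩
    change (d • 𝟙 (Coh.structureModule X)).app U _ = t
    rw [hfun, ← hu, smul_smul, Units.mul_inv, one_smul]

/-- for a split epimorphism `τ : F ⟶ G`, sections of `F` split as sections of the kernel times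
sections of `G`. -/
theorem nonempty_sections_equiv_of_isSplitEpi {F G : X.Modules} (τ : F ⟶ G) [IsSplitEpi τ]
    (U : X.Opens) :
    Nonempty (Γ(F, U) ≃ₗ[Γ(X, U)] (Γ(kernel τ, U) × Γ(G, U))) := by
  have hS : (ShortComplex.mk (kernel.ι τ) τ (kernel.condition τ)).ShortExact :=
    { exact := ShortComplex.exact_of_f_is_kernel _ (kernelIsKernel τ) }
  have hex : Function.Exact (Helper45.appₗ (kernel.ι τ) U) (Helper45.appₗ τ U) :=
    Helper45.app_exact_of_shortExact _ hS U
  have hinj : Function.Injective (Helper45.appₗ (kernel.ι τ) U) :=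
    app_injective_of_mono (kernel.ι τ) U
  have hsec : Helper45.appₗ τ U ∘ₗ Helper45.appₗ (section_ τ) U = LinearMap.id := by
    ext m
    have := congrArg (fun θ : G ⟶ G => θ.app U m) (IsSplitEpi.id τ)
    exact this
  exact ⟨(hex.splitSurjectiveEquiv hinj ⟨_, hsec⟩).1⟩

variable (A : QCAlg X)

theorem isFinLocFreeOfRank_kernel_trace (d : ℕ) (hA : FlatMod.IsFinLocFreeOfRank d A.toModule)
    (τ : A.toModule ⟶ Coh.structureModule X) [IsSplitEpi τ] :
    FlatMod.IsFinLocFreeOfRank (d - 1) (kernel τ) := by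
  have hq0 : (Coh.structureModule X).IsQuasicoherent := Helper45.isQuasicoherent_structureModule X
  have hqK : (kernel τ).IsQuasicoherent := isQuasicoherent_kernel τ inferInstance hq0
  have hAflf : FlatMod.IsFinLocFree A.toModule := fun y => by
    obtain ⟨U, hyU, he⟩ := hA y
    exact ⟨U, d, hyU, he⟩
  have hK : FlatMod.IsFinLocFree (kernel τ) := by
    refine (isFinLocFree_iff_sections _).mpr fun U => ?_
    obtain ⟨e⟩ := nonempty_sections_equiv_of_isSplitEpi τ U.1
    obtain ⟨hfin, hproj⟩ := finite_projective_sections_of_isFinLocFree _ hAflf U.2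
    have hfin' : Module.Finite Γ(X, U.1) (Γ(kernel τ, U.1) × Γ(Coh.structureModule X, U.1)) :=
      Module.Finite.equiv e
    have hproj' : Module.Projective Γ(X, U.1)
        (Γ(kernel τ, U.1) × Γ(Coh.structureModule X, U.1)) := Module.Projective.of_equiv e
    constructor
    · exact Module.Finite.of_surjective
        (LinearMap.fst Γ(X, U.1) Γ(kernel τ, U.1) Γ(Coh.structureModule X, U.1))
        LinearMap.fst_surjective
    · exact Module.Projective.of_split
        (LinearMap.inl Γ(X, U.1) Γ(kernel τ, U.1) Γ(Coh.structureModule X, U.1))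
        (LinearMap.fst Γ(X, U.1) Γ(kernel τ, U.1) Γ(Coh.structureModule X, U.1))
        (LinearMap.fst_comp_inl _ _ _)
  intro x
  obtain ⟨U, n, hxU, ⟨eK⟩⟩ := hK x
  obtain ⟨W, hWU, hxW, hW, ⟨eA⟩⟩ := exists_affine_free_sections A d hA x U hxU
  obtain ⟨e⟩ := nonempty_sections_equiv_of_isSplitEpi τ W
  have eK' := sectionsEquivOfIsoFree (kernel τ) n (isoFreeOfLE hWU _ n eK)
  have : Nonempty W := ⟨⟨x, hxW⟩⟩
  have : Nontrivial Γ(X, W) := inferInstance
  have etot : (Fin d → Γ(X, W)) ≃ₗ[Γ(X, W)] ((Fin n → Γ(X, W)) × Γ(X, W)) :=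
    (eA.symm.trans e).trans (LinearEquiv.prodCongr eK' (unitSectionsEquiv X W))
  have hrank := etot.finrank_eq
  rw [Module.finrank_prod, Module.finrank_fin_fun, Module.finrank_fin_fun, Module.finrank_self]
    at hrank
  have hn : n = d - 1 := by omega
  subst hn
  exact ⟨U, hxU, ⟨eK⟩⟩


theorem isSplitEpi_trace (d : ℕ) (hA : FlatMod.IsFinLocFreeOfRank d A.toModule)
    (τ : A.toModule ⟶ Coh.structureModule X) (hτ : FinCov.IsTrace A τ)
    (hd : IsUnit (d : Γ(X, ⊤))) : IsSplitEpi τ := by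
  have hstr := strMod_comp_trace A d hA τ hτ
  have : IsIso (FinCov.strMod A ≫ τ) := by rw [hstr]; exact isIso_nsmul_id d hd
  exact ⟨⟨inv (FinCov.strMod A ≫ τ) ≫ FinCov.strMod A, by
    rw [Category.assoc, IsIso.inv_hom_id]⟩⟩

end Groth.Agent.Lib.Helper49
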