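import Mathlib
import Groth.Prelude.Def_FinCov
import Groth.Agent.Lib.Helper49.QCAlgTrace2
import Groth.Agent.Lib.Helper49.ModGlue
import Groth.Agent.Lib.Helper49.TensorDesc
/-!
# A locally free algebra of rank two is `O_X ⊕ ker(trace)` (when `2` is invertible)

* `sq_eq_of_basis_fin_two`: Cayley–Hamilton in a free algebra of rank two.
* `two_mul_eq_of_trace_eq_zero`: the product of two traceless elements is a scalar.
* `isDblAlg_kernel_trace`: the pairing `ker τ ⊗ ker τ → O_X` and the double algebra structure.
-/
universe u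
open CategoryTheory CategoryTheory.Limits AlgebraicGeometry TopologicalSpace Opposite Polynomial

namespace Groth.Agent.Lib.Helper49
open Groth.Agent.Lib.Helper45 RelSpec

section Algebra
variable {R S : Type*} [CommRing R] [CommRing S] [Algebra R S] (b : Module.Basis (Fin 2) R S)

include b in
/-- Cayley–Hamilton in a free algebra of rank two. -/
theorem sq_eq_of_basis_fin_two (z : S) :
    z ^ 2 = algebraMap R S (Algebra.trace R S z) * z - algebraMap R S (Algebra.norm R z) := by
  cases subsingleton_or_nontrivial R
  · have : Subsingleton S := Module.subsingleton R S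
    exact Subsingleton.elim _ _
  have h := Matrix.aeval_self_charpoly (Algebra.leftMulMatrix b z)
  rw [Matrix.charpoly_fin_two] at h
  simp only [map_add, map_sub, map_mul, map_pow, aeval_X, aeval_C] at h
  have h1 : Algebra.leftMulMatrix b (z ^ 2 - algebraMap R S (Algebra.trace R S z) * z +
      algebraMap R S (Algebra.norm R z)) = 0 := by
    rw [map_add, map_sub, map_mul, map_pow, AlgHom.commutes, AlgHom.commutes,
      Algebra.trace_eq_matrix_trace b, Algebra.norm_eq_matrix_det b]
    exact h
  have h2 := (injective_iff_map_eq_zero (Algebra.leftMulMatrix b)).mp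
    (Algebra.leftMulMatrix_injective b) _ h1
  linear_combination h2

include b in
/-- In a free algebra of rank two, twice the product of two traceless elements is the scalar given
by the trace of the product. -/
theorem two_mul_eq_of_trace_eq_zero (x y : S) (hx : Algebra.trace R S x = 0)
    (hy : Algebra.trace R S y = 0) (h2 : IsUnit (2 : R)) :
    2 * (x * y) = algebraMap R S (Algebra.trace R S (x * y)) := by
  have hxy : Algebra.trace R S (x + y) = 0 := by rw [map_add, hx, hy, add_zero]
  have e1 := sq_eq_of_basis_fin_two b x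
  have e2 := sq_eq_of_basis_fin_two b y
  have e3 := sq_eq_of_basis_fin_two b (x + y)
  rw [hx, map_zero, zero_mul, zero_sub] at e1
  rw [hy, map_zero, zero_mul, zero_sub] at e2
  rw [hxy, map_zero, zero_mul, zero_sub] at e3
  have e4 : 2 * (x * y) = algebraMap R S
      (Algebra.norm R x + Algebra.norm R y - Algebra.norm R (x + y)) := by
    rw [map_sub, map_add]
    linear_combination e3 - e1 - e2
  have e5 : (2 : R) * Algebra.trace R S (x * y) =
      2 * (Algebra.norm R x + Algebra.norm R y - Algebra.norm R (x + y)) := by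
    have := congrArg (Algebra.trace R S) e4
    rw [Algebra.trace_algebraMap_of_basis b, Fintype.card_fin] at this
    have h3 : Algebra.trace R S (2 * (x * y)) = 2 * Algebra.trace R S (x * y) := by
      have : (2 : S) * (x * y) = (2 : R) • (x * y) := by
        rw [Algebra.smul_def, map_ofNat]
      rw [this, map_smul, smul_eq_mul]
    rw [h3] at this
    rw [this]
    simp
  rw [e4, h2.mul_left_cancel e5]

end Algebra

variable {X : Scheme.{u}} (A : QCAlg X)

/-- multiplication of sections of `A.toModule` -/
def mulSec (U : X.Opens) (a b : Γ(A.toModule, U)) : Γ(A.toModule, U) :=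
  (show A.presheaf.obj (op U) from toSec' A U a * toSec' A U b)

theorem toSec'_mulSec (U : X.Opens) (a b : Γ(A.toModule, U)) :
    toSec' A U (mulSec A U a b) = toSec' A U a * toSec' A U b := rfl

theorem mulSec_add_left (U : X.Opens) (a a' b : Γ(A.toModule, U)) :
    mulSec A U (a + a') b = mulSec A U a b + mulSec A U a' b :=
  add_mul (toSec' A U a) (toSec' A U a') (toSec' A U b)

theorem mulSec_add_right (U : X.Opens) (a b b' : Γ(A.toModule, U)) :
    mulSec A U a (b + b') = mulSec A U a b + mulSec A U a b' :=
  mul_add (toSec' A U a) (toSec' A U b) (toSec' A U b')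

theorem mulSec_smul_left (U : X.Opens) (r : Γ(X, U)) (a b : Γ(A.toModule, U)) :
    mulSec A U (r • a) b = r • mulSec A U a b :=
  mul_assoc ((A.str.app (op U)).hom r) (toSec' A U a) (toSec' A U b)

theorem mulSec_smul_right (U : X.Opens) (r : Γ(X, U)) (a b : Γ(A.toModule, U)) :
    mulSec A U a (r • b) = r • mulSec A U a b :=
  mul_left_comm (toSec' A U a) ((A.str.app (op U)).hom r) (toSec' A U b)

theorem mulSec_res {U V : X.Opens} (i : V ⟶ U) (a b : Γ(A.toModule, U)) :
    A.toModule.presheaf.map i.op (mulSec A U a b) =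
      mulSec A V (A.toModule.presheaf.map i.op a) (A.toModule.presheaf.map i.op b) :=
  map_mul (A.presheaf.map i.op).hom (toSec' A U a) (toSec' A U b)

section Half

variable (h2 : IsUnit (2 : Γ(X, ⊤)))

include h2 in
theorem isUnit_two (U : X.Opens) : IsUnit (2 : Γ(X, U)) := by
  have := h2.map (X.presheaf.map (homOfLE (le_top : U ≤ ⊤)).op).hom
  rwa [map_ofNat] at this

/-- the inverse of `2` over `U` -/
noncomputable def half (U : X.Opens) : Γ(X, U) := ↑((isUnit_two h2 U).unit⁻¹)

theorem two_mul_half (U : X.Opens) : 2 * half h2 U = 1 :=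
  (isUnit_two h2 U).mul_val_inv

theorem half_res {U V : X.Opens} (i : V ⟶ U) :
    (X.presheaf.map i.op).hom (half h2 U) = half h2 V := by
  have h1 : (2 : Γ(X, V)) * (X.presheaf.map i.op).hom (half h2 U) = 1 := by
    have := congrArg (X.presheaf.map i.op).hom (two_mul_half h2 U)
    rwa [map_mul, map_ofNat, map_one] at this
  exact (isUnit_two h2 V).mul_left_cancel (h1.trans (two_mul_half h2 V).symm)

end Half

variable (τ : A.toModule ⟶ Coh.structureModule X) (h2 : IsUnit (2 : Γ(X, ⊤)))

/-- The pairing `(l, l') ↦ τ(l l') / 2` on the kernel of `τ`. -/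
noncomputable def dblBilin : BilinFamily (kernel τ) (kernel τ) (Coh.structureModule X) where
  β U l l' := half h2 U • τ.app U (mulSec A U ((kernel.ι τ).app U l) ((kernel.ι τ).app U l'))
  add_left U a a' b := by
    rw [map_add, mulSec_add_left, map_add, smul_add]
  smul_left U r a b := by
    rw [Scheme.Modules.Hom.app_smul, mulSec_smul_left, Scheme.Modules.Hom.app_smul, smul_comm]
  add_right U a b b' := by
    rw [map_add, mulSec_add_right, map_add, smul_add]
  smul_right U r a b := by
    rw [Scheme.Modules.Hom.app_smul, mulSec_smul_right, Scheme.Modules.Hom.app_smul, smul_comm]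
  res {U V} i a b := by
    have hnat : ∀ {F G : X.Modules} (θ : F ⟶ G) (s : Γ(F, U)),
        G.presheaf.map i.op (θ.app U s) = θ.app V (F.presheaf.map i.op s) := fun θ s =>
      (congrArg (fun g => g.hom s) (θ.mapPresheaf.naturality i.op)).symm
    rw [Scheme.Modules.map_smul, hnat τ, mulSec_res, hnat (kernel.ι τ), hnat (kernel.ι τ)]
    exact congrArg (fun r : Γ(X, V) => r • _) (half_res h2 i)

variable {A τ}

/-- restriction commutes with components of morphisms -/
theorem app_res {F G : X.Modules} (θ : F ⟶ G) {U V : X.Opens} (h : V ≤ U) (s : Γ(F, U)) :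
    ModGlue.res G h (θ.app U s) = θ.app V (ModGlue.res F h s) :=
  (congrArg (fun g => g.hom s) (θ.mapPresheaf.naturality (homOfLE h).op)).symm

/-- On an affine open where `A` is free of rank two, the product of two traceless sections is the
scalar `τ(ab)/2`. -/
theorem mulSec_eq_of_free (hτ : FinCov.IsTrace A τ) {W : X.Opens} (hW : IsAffineOpen W)
    (e : Γ(A.toModule, W) ≃ₗ[Γ(X, W)] (Fin 2 → Γ(X, W))) (a b : Γ(A.toModule, W))
    (ha : τ.app W a = 0) (hb : τ.app W b = 0) :
    mulSec A W a b = (FinCov.strMod A).app W (half h2 W • τ.app W (mulSec A W a b)) := by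
  let _ : Algebra Γ(X, W) (A.presheaf.obj (op W)) := (A.str.app (op W)).hom.toAlgebra
  have e' : (A.presheaf.obj (op W)) ≃ₗ[Γ(X, W)] (Fin 2 → Γ(X, W)) := e
  have hfree : Module.Free Γ(X, W) (A.presheaf.obj (op W)) := Module.Free.of_equiv e'.symm
  have hfin : Module.Finite Γ(X, W) (A.presheaf.obj (op W)) := Module.Finite.equiv e'.symm
  have htr : ∀ c : A.presheaf.obj (op W),
      (τ.val.app (op W)).hom c = Algebra.trace Γ(X, W) (A.presheaf.obj (op W)) c :=
    hτ W hW hfree hfin
  let bs : Module.Basis (Fin 2) Γ(X, W) (A.presheaf.obj (op W)) := Module.Basis.ofEquivFun e'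
  have hx : Algebra.trace Γ(X, W) (A.presheaf.obj (op W)) (toSec' A W a) = 0 :=
    (htr _).symm.trans ha
  have hy : Algebra.trace Γ(X, W) (A.presheaf.obj (op W)) (toSec' A W b) = 0 :=
    (htr _).symm.trans hb
  have key := two_mul_eq_of_trace_eq_zero bs (toSec' A W a) (toSec' A W b) hx hy
    (isUnit_two h2 W)
  rw [← htr] at key
  -- key : 2 * (a * b) = str (τ (a * b))
  change toSec' A W a * toSec' A W b = (A.str.app (op W)).hom
    (half h2 W * (show Γ(X, W) from (τ.val.app (op W)).hom (toSec' A W a * toSec' A W b)))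
  have key' : (2 : A.presheaf.obj (op W)) * (toSec' A W a * toSec' A W b) =
      (A.str.app (op W)).hom ((τ.val.app (op W)).hom (toSec' A W a * toSec' A W b)) := key
  rw [map_mul, ← key', ← mul_assoc, ← map_ofNat (A.str.app (op W)).hom 2, ← map_mul,
    mul_comm (half h2 W), two_mul_half, map_one, one_mul]

/-- The affine opens over which `A` is free of rank two form a basis. -/
theorem isBasis_free_two (hA : FlatMod.IsFinLocFreeOfRank 2 A.toModule) :
    Opens.IsBasis {W : X.Opens | IsAffineOpen W ∧
      Nonempty (Γ(A.toModule, W) ≃ₗ[Γ(X, W)] (Fin 2 → Γ(X, W)))} := by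
  rw [Opens.isBasis_iff_nbhd]
  intro V x hx
  obtain ⟨W, hWV, hxW, hW, he⟩ := exists_affine_free_sections A 2 hA x V hx
  exact ⟨W, ⟨hW, he⟩, hxW, hWV⟩

/-- The product of two traceless sections is the scalar `τ(ab)/2`. -/
theorem mulSec_eq (hA : FlatMod.IsFinLocFreeOfRank 2 A.toModule) (hτ : FinCov.IsTrace A τ)
    (U : X.Opens) (a b : Γ(A.toModule, U)) (ha : τ.app U a = 0) (hb : τ.app U b = 0) :
    mulSec A U a b = (FinCov.strMod A).app U (half h2 U • τ.app U (mulSec A U a b)) := by
  refine ModGlue.eq_of_basis (isBasis_free_two hA) A.toModule _ _ fun W hWU => ?_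
  obtain ⟨hW, ⟨e⟩⟩ := W.2
  have ha' : τ.app W.1 (ModGlue.res A.toModule hWU a) = 0 := by
    rw [← app_res, ha, map_zero]
  have hb' : τ.app W.1 (ModGlue.res A.toModule hWU b) = 0 := by
    rw [← app_res, hb, map_zero]
  have h1 := mulSec_eq_of_free h2 hτ hW e _ _ ha' hb'
  have h3 : ModGlue.res A.toModule hWU (mulSec A U a b) =
      mulSec A W.1 (ModGlue.res A.toModule hWU a) (ModGlue.res A.toModule hWU b) :=
    mulSec_res A (homOfLE hWU) a b
  rw [h3, app_res, ModGlue.res_smul, app_res, h3]
  refine h1.trans ?_
  exact congrArg (fun r : Γ(X, W.1) => (FinCov.strMod A).app W.1 (r • _))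
    (half_res h2 (homOfLE hWU)).symm

/-- A locally free algebra of rank two with `2` invertible is the double algebra of the kernel of
its trace. -/
theorem isDblAlg_kernel_trace (hA : FlatMod.IsFinLocFreeOfRank 2 A.toModule)
    (hτ : FinCov.IsTrace A τ) :
    FinCov.IsDblAlg (kernel τ) (dblBilin A τ h2).desc A (kernel.ι τ) := by
  have hd : IsUnit (((2 : ℕ) : Γ(X, ⊤))) := by simpa using h2
  have hsplit : IsSplitEpi τ := isSplitEpi_trace A 2 hA τ hτ hd
  have hstr := strMod_comp_trace A 2 hA τ hτ
  have hs : ∀ (U : X.Opens) (s : Γ(X, U)),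
      τ.app U ((FinCov.strMod A).app U s) = (2 : Γ(X, U)) • (show Γ(Coh.structureModule X, U) from s) := by
    intro U s
    have := congrArg (fun θ : Coh.structureModule X ⟶ Coh.structureModule X => θ.app U s) hstr
    simp only [nsmul_app_apply] at this
    refine this.trans ?_
    change (2 : ℕ) • s = (2 : Γ(X, U)) * s
    rw [nsmul_eq_mul, Nat.cast_ofNat]
  have hι : ∀ (U : X.Opens) (l : Γ(kernel τ, U)), τ.app U ((kernel.ι τ).app U l) = 0 := by
    intro U l
    have := congrArg (fun θ : kernel τ ⟶ Coh.structureModule X => θ.app U l) (kernel.condition τ)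
    exact this
  have hS : (ShortComplex.mk (kernel.ι τ) τ (kernel.condition τ)).ShortExact :=
    { exact := ShortComplex.exact_of_f_is_kernel _ (kernelIsKernel τ) }
  constructor
  · intro U
    have hex : Function.Exact ((kernel.ι τ).app U) (τ.app U) :=
      Helper45.app_exact_of_shortExact _ hS U
    have hinj : Function.Injective ((kernel.ι τ).app U) := app_injective_of_mono (kernel.ι τ) U
    have h2U := isUnit_two h2 U
    have hf : ∀ p : Γ(X, U) × Γ(kernel τ, U),
        τ.app U ((FinCov.strMod A).app U p.1 + (kernel.ι τ).app U p.2) =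
          (2 : Γ(X, U)) • (show Γ(Coh.structureModule X, U) from p.1) := by
      intro p
      rw [map_add, hs, hι, add_zero]
    constructor
    · rintro ⟨s, l⟩ ⟨s', l'⟩ h
      have h' : (FinCov.strMod A).app U s + (kernel.ι τ).app U l =
          (FinCov.strMod A).app U s' + (kernel.ι τ).app U l' := h
      have h3 := congrArg (τ.app U) h'
      rw [hf (s, l), hf (s', l')] at h3
      have hss : s = s' := h2U.mul_left_cancel h3
      subst hss
      have hll : l = l' := hinj (add_left_cancel h')
      subst hll
      rfl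
    · intro a
      let a' : Γ(A.toModule, U) := a
      let s : Γ(X, U) := half h2 U * (show Γ(X, U) from τ.app U a')
      have hb : τ.app U (a' - (FinCov.strMod A).app U s) = 0 := by
        rw [map_sub, hs]
        change (show Γ(X, U) from τ.app U a') - 2 * (half h2 U * (show Γ(X, U) from τ.app U a')) = 0
        rw [← mul_assoc, two_mul_half, one_mul, sub_self]
      obtain ⟨l, hl⟩ := (hex _).mp hb
      refine ⟨(s, l), ?_⟩
      change (FinCov.strMod A).app U s + (kernel.ι τ).app U l = a'
      rw [hl]
      abel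
  · intro U l l'
    rw [BilinFamily.desc_tmul]
    exact mulSec_eq h2 hA hτ U _ _ (hι U l) (hι U l')

end Groth.Agent.Lib.Helper49
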