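import Mathlib
import Groth.Prelude.Def_FinCov
import Groth.Agent.Lib.Helper49.QCAlgDbl3
import Groth.Agent.Lib.Helper49.QCAlgDbl
import Groth.Agent.Lib.Helper49.DblRing
/-!
# Construction of the double algebra `O_X ⊕ L` from a pairing `L ⊗ L → O_X`
-/
universe u
open CategoryTheory CategoryTheory.Limits AlgebraicGeometry TopologicalSpace Opposite TensorProduct

namespace Groth.Agent.Lib.Helper49
open Groth.Agent.Lib.Helper45 RelSpec

variable {X : Scheme.{u}}

section Tmul

theorem tmul_smul_left' (M N : X.Modules) (W : X.Opens) (r : Γ(X, W))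
    (a : Γ(M, W)) (b : Γ(N, W)) :
    SecTwist.tmul M N W (r • a) b = r • (show Γ(CohB1.tensorMod M N, W) from SecTwist.tmul M N W a b) :=
  ((SecTwist.toTensor M N).app (op W)).hom.map_smul r (a ⊗ₜ b)

theorem tmul_smul_swap' (M N : X.Modules) (W : X.Opens) (r : Γ(X, W))
    (a : Γ(M, W)) (b : Γ(N, W)) :
    SecTwist.tmul M N W a (r • b) = SecTwist.tmul M N W (r • a) b := by
  have e : (show (CohB1.toPMod M).obj (op W) from a)
        ⊗ₜ[((X.sheaf.obj ⋙ forget₂ CommRingCat RingCat).obj (op W))]
        ((show (X.sheaf.obj ⋙ forget₂ CommRingCat RingCat).obj (op W) from r) •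
          (show (CohB1.toPMod N).obj (op W) from b)) =
      ((show (X.sheaf.obj ⋙ forget₂ CommRingCat RingCat).obj (op W) from r) •
          (show (CohB1.toPMod M).obj (op W) from a))
        ⊗ₜ[((X.sheaf.obj ⋙ forget₂ CommRingCat RingCat).obj (op W))]
        (show (CohB1.toPMod N).obj (op W) from b) :=
    (TensorProduct.smul_tmul _ _ _).symm
  exact congrArg ((SecTwist.toTensor M N).app (op W)).hom e

theorem tmul_add_left' (M N : X.Modules) (W : X.Opens)
    (a a' : Γ(M, W)) (b : Γ(N, W)) :
    SecTwist.tmul M N W (a + a') b = SecTwist.tmul M N W a b + SecTwist.tmul M N W a' b := by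
  have h := ((SecTwist.toTensor M N).app (op W)).hom.map_add
    ((show (CohB1.toPMod M).obj (op W) from a)
      ⊗ₜ[((X.sheaf.obj ⋙ forget₂ CommRingCat RingCat).obj (op W))]
      (show (CohB1.toPMod N).obj (op W) from b))
    ((show (CohB1.toPMod M).obj (op W) from a')
      ⊗ₜ[((X.sheaf.obj ⋙ forget₂ CommRingCat RingCat).obj (op W))]
      (show (CohB1.toPMod N).obj (op W) from b))
  have e : (show (CohB1.toPMod M).obj (op W) from a + a')
        ⊗ₜ[((X.sheaf.obj ⋙ forget₂ CommRingCat RingCat).obj (op W))]
        (show (CohB1.toPMod N).obj (op W) from b) =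
      (show (CohB1.toPMod M).obj (op W) from a)
        ⊗ₜ[((X.sheaf.obj ⋙ forget₂ CommRingCat RingCat).obj (op W))]
        (show (CohB1.toPMod N).obj (op W) from b) +
      (show (CohB1.toPMod M).obj (op W) from a')
        ⊗ₜ[((X.sheaf.obj ⋙ forget₂ CommRingCat RingCat).obj (op W))]
        (show (CohB1.toPMod N).obj (op W) from b) :=
    TensorProduct.add_tmul _ _ _
  exact (congrArg ((SecTwist.toTensor M N).app (op W)).hom e).trans h

end Tmul

variable (L : X.Modules) (m : CohB1.tensorMod L L ⟶ Coh.structureModule X)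

/-- the pairing on sections -/
noncomputable def pairing (U : X.Opens) (a b : Γ(L, U)) : Γ(X, U) :=
  (show Γ(X, U) from (m.val.app (op U)).hom (SecTwist.tmul L L U a b))

theorem pairing_add_left (U : X.Opens) (a a' b : Γ(L, U)) :
    pairing L m U (a + a') b = pairing L m U a b + pairing L m U a' b := by
  unfold pairing
  rw [tmul_add_left']
  exact map_add (m.val.app (op U)).hom _ _

theorem pairing_smul_left (U : X.Opens) (r : Γ(X, U)) (a b : Γ(L, U)) :
    pairing L m U (r • a) b = r * pairing L m U a b := by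
  unfold pairing
  rw [tmul_smul_left']
  exact (m.val.app (op U)).hom.map_smul r _

theorem pairing_smul_right (U : X.Opens) (r : Γ(X, U)) (a b : Γ(L, U)) :
    pairing L m U a (r • b) = r * pairing L m U a b := by
  rw [← pairing_smul_left]
  unfold pairing
  rw [tmul_smul_swap']

theorem pairing_res {U V : X.Opens} (i : V ⟶ U) (a b : Γ(L, U)) :
    (X.presheaf.map i.op).hom (pairing L m U a b) =
      pairing L m V (L.presheaf.map i.op a) (L.presheaf.map i.op b) := by
  have h1 : (Coh.structureModule X).presheaf.map i.op (m.app U (SecTwist.tmul L L U a b)) =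
      m.app V ((CohB1.tensorMod L L).presheaf.map i.op (SecTwist.tmul L L U a b)) :=
    (congrArg (fun g => g.hom (SecTwist.tmul L L U a b)) (m.mapPresheaf.naturality i.op)).symm
  have h2 : (CohB1.tensorMod L L).presheaf.map i.op (SecTwist.tmul L L U a b) =
      SecTwist.tmul L L V (L.presheaf.map i.op a) (L.presheaf.map i.op b) :=
    SecTwist.map_tmul L L i a b
  rw [h2] at h1
  exact h1

section Local

variable {L m}
variable {W : X.Opens} (e : Γ(L, W) ≃ₗ[Γ(X, W)] Γ(X, W))

include e in
theorem pairing_eq_of_equiv (a b : Γ(L, W)) :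
    pairing L m W a b = e a * e b * pairing L m W (e.symm 1) (e.symm 1) := by
  have ha : a = e a • e.symm 1 := by
    rw [← map_smul, smul_eq_mul, mul_one, e.symm_apply_apply]
  have hb : b = e b • e.symm 1 := by
    rw [← map_smul, smul_eq_mul, mul_one, e.symm_apply_apply]
  conv_lhs => rw [ha, hb]
  rw [pairing_smul_left, pairing_smul_right]
  ring

include e in
theorem pairing_symm_of_equiv (a b : Γ(L, W)) : pairing L m W a b = pairing L m W b a := by
  rw [pairing_eq_of_equiv e a b, pairing_eq_of_equiv e b a]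
  ring

include e in
theorem pairing_assoc_of_equiv (a b c : Γ(L, W)) :
    pairing L m W a b • c = pairing L m W b c • a := by
  have ha : a = e a • e.symm 1 := by
    rw [← map_smul, smul_eq_mul, mul_one, e.symm_apply_apply]
  have hc : c = e c • e.symm 1 := by
    rw [← map_smul, smul_eq_mul, mul_one, e.symm_apply_apply]
  rw [pairing_eq_of_equiv e a b, pairing_eq_of_equiv e b c]
  conv_lhs => rw [hc]
  conv_rhs => rw [ha]
  rw [smul_smul, smul_smul]
  congr 1
  ring

end Local

/-- The opens over which `L` is trivial form a basis. -/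
theorem isBasis_trivOpens (hL : PicF.IsInvertible L) :
    Opens.IsBasis {W : X.Opens | Nonempty (Γ(L, W) ≃ₗ[Γ(X, W)] Γ(X, W))} := by
  rw [Opens.isBasis_iff_nbhd]
  intro V x hx
  obtain ⟨W, hWV, hxW, -, he⟩ := exists_affine_sections_of_isInvertible L hL x V hx
  exact ⟨W, he, hxW, hWV⟩

variable {L} in
theorem pairing_symm (hL : PicF.IsInvertible L) (U : X.Opens) (a b : Γ(L, U)) :
    pairing L m U a b = pairing L m U b a := by
  refine ModGlue.eq_of_basis (isBasis_trivOpens L hL) (Coh.structureModule X)
    (show Γ(Coh.structureModule X, U) from pairing L m U a b)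
    (show Γ(Coh.structureModule X, U) from pairing L m U b a) fun W hWU => ?_
  obtain ⟨e⟩ := W.2
  change (X.presheaf.map (homOfLE hWU).op).hom (pairing L m U a b) =
    (X.presheaf.map (homOfLE hWU).op).hom (pairing L m U b a)
  rw [pairing_res, pairing_res]
  exact pairing_symm_of_equiv e _ _

variable {L} in
theorem pairing_assoc (hL : PicF.IsInvertible L) (U : X.Opens) (a b c : Γ(L, U)) :
    pairing L m U a b • c = pairing L m U b c • a := by
  refine ModGlue.eq_of_basis (isBasis_trivOpens L hL) L _ _ fun W hWU => ?_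
  obtain ⟨e⟩ := W.2
  rw [ModGlue.res_smul, ModGlue.res_smul, pairing_res, pairing_res]
  exact pairing_assoc_of_equiv e _ _ _

/-- the data defining the ring `Γ(X, U) ⊕ Γ(L, U)` -/
noncomputable def dblData (hL : PicF.IsInvertible L) (U : X.Opens) : DblData Γ(X, U) Γ(L, U) where
  μ := pairing L m U
  add_left := pairing_add_left L m U
  smul_left := pairing_smul_left L m U
  symm := pairing_symm m hL U
  assoc := pairing_assoc m hL U

variable (hL : PicF.IsInvertible L)

/-- the restriction maps of the presheaf of rings `O_X ⊕ L` -/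
noncomputable def dblRes {U V : X.Opens} (i : V ⟶ U) :
    DblRing (dblData L m hL U) →+* DblRing (dblData L m hL V) :=
  DblRing.map _ _ (X.presheaf.map i.op).hom (L.presheaf.map i.op).hom
    (fun r n => Scheme.Modules.map_smul L i r n)
    (fun a b => (pairing_res L m i a b).symm)

theorem dblRes_apply {U V : X.Opens} (i : V ⟶ U) (p : DblRing (dblData L m hL U)) :
    dblRes L m hL i p = (((X.presheaf.map i.op).hom p.1, (L.presheaf.map i.op).hom p.2) :
      Γ(X, V) × Γ(L, V)) := rfl

/-- the presheaf of rings `O_X ⊕ L` -/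
noncomputable def dblPresheaf : TopCat.Presheaf CommRingCat.{u} X.carrier where
  obj U := CommRingCat.of (DblRing (dblData L m hL U.unop))
  map {U V} i := CommRingCat.ofHom (dblRes L m hL i.unop)
  map_id U := by
    refine CommRingCat.hom_ext (RingHom.ext fun p => ?_)
    refine DblRing.ext (dblData L m hL (unop U)) ?_ ?_
    · exact congrArg (fun f => f.hom p.1) (X.presheaf.map_id U)
    · exact congrArg (fun f => f.hom p.2) (L.presheaf.map_id U)
  map_comp {U V W} i j := by
    refine CommRingCat.hom_ext (RingHom.ext fun p => ?_)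
    refine DblRing.ext (dblData L m hL (unop W)) ?_ ?_
    · exact congrArg (fun f => f.hom p.1) (X.presheaf.map_comp i j)
    · exact congrArg (fun f => f.hom p.2) (L.presheaf.map_comp i j)

theorem dblPresheaf_isSheaf : (dblPresheaf L m hL).IsSheaf := by
  rw [TopCat.Presheaf.isSheaf_iff_isSheafUniqueGluing]
  intro ι U sf hsf
  let sf' : ∀ i, DblRing (dblData L m hL (U i)) := sf
  have h1 : TopCat.Presheaf.IsCompatible X.presheaf U (fun i => (sf' i).1) :=
    fun i j => congrArg Prod.fst (hsf i j)
  have h2 : TopCat.Presheaf.IsCompatible L.presheaf U (fun i => (sf' i).2) :=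
    fun i j => congrArg Prod.snd (hsf i j)
  obtain ⟨s, hs, hs'⟩ := X.sheaf.existsUnique_gluing U _ h1
  obtain ⟨l, hl, hl'⟩ := TopCat.Sheaf.existsUnique_gluing ⟨L.presheaf, L.isSheaf⟩ U _ h2
  refine ⟨((s, l) : Γ(X, iSup U) × Γ(L, iSup U)), fun i => Prod.ext (hs i) (hl i), ?_⟩
  intro t ht
  let t' : DblRing (dblData L m hL (iSup U)) := t
  exact Prod.ext (hs' t'.1 fun i => congrArg Prod.fst (ht i))
    (hl' t'.2 fun i => congrArg Prod.snd (ht i))

theorem dblRes_inl {U V : X.Opens} (i : V ⟶ U) (s : Γ(X, U)) :
    dblRes L m hL i (DblRing.inl (dblData L m hL U) s) =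
      DblRing.inl (dblData L m hL V) ((X.presheaf.map i.op).hom s) :=
  DblRing.map_inl (dblData L m hL U) (dblData L m hL V) (X.presheaf.map i.op).hom
    (L.presheaf.map i.op).hom (fun r n => Scheme.Modules.map_smul L i r n)
    (fun a b => (pairing_res L m i a b).symm) s

/-- the structure map `O_X → O_X ⊕ L` -/
noncomputable def dblStr : X.presheaf ⟶ dblPresheaf L m hL where
  app U := CommRingCat.ofHom (DblRing.inl (dblData L m hL U.unop))
  naturality {U V} i := by
    refine CommRingCat.hom_ext (RingHom.ext fun s => ?_)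
    exact (dblRes_inl L m hL i.unop s).symm

theorem dblPresheaf_isQC : IsQC (dblPresheaf L m hL) (dblStr L m hL) := by
  intro U hU r
  have hq : L.IsQuasicoherent := by
    refine isQuasicoherent_of_isFinLocFree L fun x => ?_
    obtain ⟨V, hxV, ⟨e⟩⟩ := hL x
    exact ⟨V, 1, hxV, ⟨e ≪≫ (coproductUniqueIso (fun _ : Fin 1 => Coh.structureModule (↑V))).symm⟩⟩
  have hloc := Helper45.isLocalizingOn_of_isQuasicoherent hU L
  have hO : IsLocalization.Away r Γ(X, X.basicOpen r) := hU.isLocalization_basicOpen r
  refine DblRing.isLocalization_away (dblData L m hL U) (dblData L m hL (X.basicOpen r))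
    (X.presheaf.map (homOfLE (X.basicOpen_le r)).op).hom
    (L.presheaf.map (homOfLE (X.basicOpen_le r)).op).hom
    (fun c n => Scheme.Modules.map_smul L (homOfLE (X.basicOpen_le r)) c n)
    (fun a b => (pairing_res L m (homOfLE (X.basicOpen_le r)) a b).symm) r ?_ ?_ ?_ ?_ ?_
  · exact IsLocalization.Away.algebraMap_isUnit r
  · intro s'
    obtain ⟨n, a, ha⟩ := IsLocalization.Away.surj r s'
    exact ⟨n, a, by rw [mul_comm]; exact ha.symm⟩
  · intro s hs
    obtain ⟨⟨_, n, rfl⟩, hn⟩ := (IsLocalization.map_eq_zero_iff (Submonoid.powers r)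
      Γ(X, X.basicOpen r) s).mp hs
    exact ⟨n, hn⟩
  · intro l'
    obtain ⟨n, t, ht⟩ := hloc.exists_restrict_eq_pow_smul r l'
    exact ⟨n, t, ht⟩
  · intro l hl
    exact hloc.exists_pow_smul_eq_zero r l hl

/-- the quasi-coherent algebra `O_X ⊕ L` -/
noncomputable def dblAlg : QCAlg X where
  presheaf := dblPresheaf L m hL
  isSheaf := dblPresheaf_isSheaf L m hL
  str := dblStr L m hL
  isQC := dblPresheaf_isQC L m hL

/-- the inclusion `L → O_X ⊕ L` -/
noncomputable def dblJ : L ⟶ (dblAlg L m hL).toModule :=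
  ⟨letI := (dblAlg L m hL).moduleSect
   PresheafOfModules.homMk
    { app := fun U => AddCommGrpCat.ofHom (DblRing.inr (dblData L m hL U.unop))
      naturality := fun U V i => by
        ext l
        refine DblRing.ext (dblData L m hL V.unop) ?_ ?_
        · exact (map_zero (X.presheaf.map i).hom).symm
        · rfl }
    (fun U r l => by
      refine DblRing.ext (dblData L m hL U.unop) ?_ ?_
      · exact (congrArg Prod.fst (DblRing.inl_mul (dblData L m hL U.unop) r
          (DblRing.inr (dblData L m hL U.unop) l))).symm.trans rfl |>.symm.trans (mul_zero r) |>.symm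
      · exact (congrArg Prod.snd (DblRing.inl_mul (dblData L m hL U.unop) r
          (DblRing.inr (dblData L m hL U.unop) l))).symm)⟩

theorem isDblAlg_dblAlg : FinCov.IsDblAlg L m (dblAlg L m hL) (dblJ L m hL) := by
  constructor
  · intro U
    have hfun : (fun p : Γ(X, U) × L.val.obj (op U) =>
        ((dblAlg L m hL).str.app (op U)).hom p.1 +
          FinCov.toSec (dblAlg L m hL) (((dblJ L m hL).val.app (op U)).hom p.2)) = fun p => p := by
      funext p
      exact DblRing.inl_add_inr (dblData L m hL U) p.1 p.2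
    rw [hfun]
    exact Function.bijective_id
  · intro U l l'
    exact DblRing.inr_mul_inr (dblData L m hL U) l l'

end Groth.Agent.Lib.Helper49
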