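import Mathlib
import Groth.Agent.Lib.Helper11.TensorBasis
import Groth.Agent.Lib.Helper49.QCAlgDblConstr
/-!
# A module with a tensor inverse is invertible

`isInvertible_of_tensor_iso`: if `L ⊗ N ≅ O_X` then `L` is locally free of rank one.
-/
universe u
open CategoryTheory CategoryTheory.Limits AlgebraicGeometry TopologicalSpace Opposite TensorProduct
  MonoidalCategory

namespace Groth.Agent.Lib.Helper49
open Groth.Agent.Lib.Helper45 Groth.Agent.Lib.Helper11.GenLocus

variable {X : Scheme.{u}}

theorem tmul_add_right' (M N : X.Modules) (W : X.Opens)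
    (a : Γ(M, W)) (b b' : Γ(N, W)) :
    SecTwist.tmul M N W a (b + b') = SecTwist.tmul M N W a b + SecTwist.tmul M N W a b' := by
  have h := ((SecTwist.toTensor M N).app (op W)).hom.map_add
    ((show (CohB1.toPMod M).obj (op W) from a)
      ⊗ₜ[((X.sheaf.obj ⋙ forget₂ CommRingCat RingCat).obj (op W))]
      (show (CohB1.toPMod N).obj (op W) from b))
    ((show (CohB1.toPMod M).obj (op W) from a)
      ⊗ₜ[((X.sheaf.obj ⋙ forget₂ CommRingCat RingCat).obj (op W))]
      (show (CohB1.toPMod N).obj (op W) from b'))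
  have e : (show (CohB1.toPMod M).obj (op W) from a)
        ⊗ₜ[((X.sheaf.obj ⋙ forget₂ CommRingCat RingCat).obj (op W))]
        (show (CohB1.toPMod N).obj (op W) from b + b') =
      (show (CohB1.toPMod M).obj (op W) from a)
        ⊗ₜ[((X.sheaf.obj ⋙ forget₂ CommRingCat RingCat).obj (op W))]
        (show (CohB1.toPMod N).obj (op W) from b) +
      (show (CohB1.toPMod M).obj (op W) from a)
        ⊗ₜ[((X.sheaf.obj ⋙ forget₂ CommRingCat RingCat).obj (op W))]
        (show (CohB1.toPMod N).obj (op W) from b') :=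
    TensorProduct.tmul_add _ _ _
  exact (congrArg ((SecTwist.toTensor M N).app (op W)).hom e).trans h

variable (L N : X.Modules) (φ : CohB1.tensorMod L N ⟶ Coh.structureModule X)

/-- the pairing on sections induced by `φ : L ⊗ N ⟶ O_X` -/
noncomputable def pair (U : X.Opens) (a : Γ(L, U)) (b : Γ(N, U)) : Γ(X, U) :=
  (show Γ(X, U) from (φ.val.app (op U)).hom (SecTwist.tmul L N U a b))

theorem pair_add_left (U : X.Opens) (a a' : Γ(L, U)) (b : Γ(N, U)) :
    pair L N φ U (a + a') b = pair L N φ U a b + pair L N φ U a' b := by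
  unfold pair
  rw [tmul_add_left']
  exact map_add (φ.val.app (op U)).hom _ _

theorem pair_add_right (U : X.Opens) (a : Γ(L, U)) (b b' : Γ(N, U)) :
    pair L N φ U a (b + b') = pair L N φ U a b + pair L N φ U a b' := by
  unfold pair
  rw [tmul_add_right']
  exact map_add (φ.val.app (op U)).hom _ _

theorem pair_smul_left (U : X.Opens) (r : Γ(X, U)) (a : Γ(L, U)) (b : Γ(N, U)) :
    pair L N φ U (r • a) b = r * pair L N φ U a b := by
  unfold pair
  rw [tmul_smul_left']
  exact (φ.val.app (op U)).hom.map_smul r _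

theorem pair_smul_right (U : X.Opens) (r : Γ(X, U)) (a : Γ(L, U)) (b : Γ(N, U)) :
    pair L N φ U a (r • b) = r * pair L N φ U a b := by
  rw [← pair_smul_left]
  unfold pair
  rw [tmul_smul_swap']

theorem pair_res {U V : X.Opens} (h : V ≤ U) (a : Γ(L, U)) (b : Γ(N, U)) :
    fres h (pair L N φ U a b) = pair L N φ V (mres L h a) (mres N h b) := by
  have h1 : (Coh.structureModule X).presheaf.map (homOfLE h).op
      (φ.app U (SecTwist.tmul L N U a b)) =
      φ.app V ((CohB1.tensorMod L N).presheaf.map (homOfLE h).op (SecTwist.tmul L N U a b)) :=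
    (congrArg (fun g => g.hom (SecTwist.tmul L N U a b))
      (φ.mapPresheaf.naturality (homOfLE h).op)).symm
  have h2 : (CohB1.tensorMod L N).presheaf.map (homOfLE h).op (SecTwist.tmul L N U a b) =
      SecTwist.tmul L N V (mres L h a) (mres N h b) :=
    SecTwist.map_tmul L N (homOfLE h) a b
  rw [h2] at h1
  exact h1

/-- a section of `M` in the presheaf-of-modules spelling, read in `Γ`-notation -/
def asΓ (M : X.Modules) (W : X.Opens) (m : (CohB1.toPMod M).obj (op W)) : Γ(M, W) := m

/-- a function in the ring-presheaf spelling, read in `Γ`-notation -/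
def asΓO (W : X.Opens) (r : (X.sheaf.obj ⋙ forget₂ CommRingCat RingCat).obj (op W)) : Γ(X, W) := r

/-- a section in `Γ`-notation, read in the presheaf-of-modules spelling -/
def ofΓ (M : X.Modules) (W : X.Opens) (m : Γ(M, W)) : (CohB1.toPMod M).obj (op W) := m

/-- the map `a ⊗ b ↦ φ(l ⊗ b) • a` on the sectionwise tensor product -/
noncomputable def thetaApp (W : X.Opens) (l : Γ(L, W)) :
    (CohB1.toPMod L).obj (op W) ⊗ (CohB1.toPMod N).obj (op W) ⟶ (CohB1.toPMod L).obj (op W) :=
  ModuleCat.MonoidalCategory.tensorLift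
    (fun a b => ofΓ L W (pair L N φ W l (asΓ N W b) • asΓ L W a))
    (fun a a' b => smul_add (pair L N φ W l (asΓ N W b)) (asΓ L W a) (asΓ L W a'))
    (fun r a b => smul_comm (pair L N φ W l (asΓ N W b)) (asΓO W r) (asΓ L W a))
    (fun a b b' =>
      (congrArg (fun c : Γ(X, W) => c • asΓ L W a)
        (pair_add_right L N φ W l (asΓ N W b) (asΓ N W b'))).trans (add_smul _ _ _))
    (fun r a b =>
      (congrArg (fun c : Γ(X, W) => c • asΓ L W a)
        (pair_smul_right L N φ W (asΓO W r) l (asΓ N W b))).trans (mul_smul _ _ _))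

theorem thetaApp_tmul (W : X.Opens) (l : Γ(L, W)) (a : Γ(L, W)) (b : Γ(N, W)) :
    (thetaApp L N φ W l).hom
      (ofΓ L W a ⊗ₜ[((X.sheaf.obj ⋙ forget₂ CommRingCat RingCat).obj (op W))] ofΓ N W b) =
      pair L N φ W l b • a := rfl

/-- If `k ⊗ n = 0` in `(L ⊗ N)(W)` then locally `φ(l ⊗ n) • k = 0`. -/
theorem exists_pair_smul_eq_zero (W : X.Opens) (l k : Γ(L, W)) (n : Γ(N, W))
    (h0 : SecTwist.tmul L N W k n = 0) (y : X) (hy : y ∈ W) :
    ∃ (W' : X.Opens) (h : W' ≤ W), y ∈ W' ∧
      pair L N φ W' (mres L h l) (mres N h n) • mres L h k = 0 := by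
  let p : (CohB1.tensorPre L N : X.PresheafOfModules).obj (op W) :=
    ofΓ L W k ⊗ₜ[((X.sheaf.obj ⋙ forget₂ CommRingCat RingCat).obj (op W))] ofΓ N W n
  have hp : ((SecTwist.toTensor L N).app (op W)).hom p =
      ((SecTwist.toTensor L N).app (op W)).hom 0 := by
    rw [map_zero]
    exact h0
  obtain ⟨W', h, hyW', hW'⟩ := toTensor_locInj L N W p 0 hp y hy
  refine ⟨W', h, hyW', ?_⟩
  have h1 : (CohB1.tensorPre L N : X.PresheafOfModules).map (homOfLE h).op p =
      ofΓ L W' (mres L h k) ⊗ₜ[((X.sheaf.obj ⋙ forget₂ CommRingCat RingCat).obj (op W'))]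
        ofΓ N W' (mres N h n) := rfl
  have h2 : (CohB1.tensorPre L N : X.PresheafOfModules).map (homOfLE h).op 0 = 0 := map_zero _
  rw [h1, h2] at hW'
  have h3 := congrArg (thetaApp L N φ W' (mres L h l)).hom hW'
  exact h3.trans (map_zero (thetaApp L N φ W' (mres L h l)).hom)

/-- If `φ : L ⊗ N ⟶ O_X` is an isomorphism and `φ(l ⊗ n)` is a unit over `V`, then `l` is a basis of
`L` over `V`. -/
theorem isBasisOn_of_isUnit_pair [IsIso φ] (V : X.Opens) (l : Γ(L, V)) (n : Γ(N, V))
    (hu : IsUnit (pair L N φ V l n)) : IsBasisOn L V l := by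
  intro W hW
  have huW : IsUnit (pair L N φ W (mres L hW l) (mres N hW n)) := by
    rw [← pair_res]
    exact hu.map (fres hW)
  constructor
  · intro r r' hrr
    have hrr' : r • mres L hW l = r' • mres L hW l := hrr
    have h1 := congrArg (fun a => pair L N φ W a (mres N hW n)) hrr'
    simp only [pair_smul_left] at h1
    exact huW.mul_left_injective h1
  · intro l'
    obtain ⟨u, hu'⟩ := huW
    set c : Γ(X, W) := pair L N φ W l' (mres N hW n) with hc
    refine ⟨↑u⁻¹ * c, ?_⟩
    change (↑u⁻¹ * c) • mres L hW l = l'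
    let k : Γ(L, W) := c • mres L hW l + (-(u : Γ(X, W))) • l'
    have hpk : pair L N φ W k (mres N hW n) = 0 := by
      rw [pair_add_left, pair_smul_left, pair_smul_left, ← hu', ← hc]
      ring
    have hinj : Function.Injective (φ.app W) :=
      ((ConcreteCategory.isIso_iff_bijective (φ.app W)).mp inferInstance).1
    have hk0 : SecTwist.tmul L N W k (mres N hW n) = 0 := by
      apply hinj
      exact hpk.trans (map_zero (φ.app W).hom).symm
    have hk : k = 0 := by
      refine section_ext_germ L W k 0 fun y hy => ?_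
      obtain ⟨W', h, hyW', hW'⟩ := exists_pair_smul_eq_zero L N φ W (mres L hW l) k (mres N hW n)
        hk0 y hy
      have hunit : IsUnit (pair L N φ W' (mres L h (mres L hW l)) (mres N h (mres N hW n))) := by
        rw [← pair_res, ← hu']
        exact u.isUnit.map (fres h)
      have hk' : mres L h k = 0 := by
        have := congrArg (fun z => (↑hunit.unit⁻¹ : Γ(X, W')) • z) hW'
        simp only [smul_zero, smul_smul] at this
        rwa [IsUnit.val_inv_mul, one_smul] at this
      have hg : L.presheaf.germ W y hy k = L.presheaf.germ W' y hyW' (mres L h k) :=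
        (TopCat.Presheaf.germ_res_apply L.presheaf (homOfLE h) y hyW' k).symm
      rw [hg, hk', map_zero, map_zero]
    have hk2 : c • mres L hW l = (u : Γ(X, W)) • l' := by
      have : c • mres L hW l + (-(u : Γ(X, W))) • l' = 0 := hk
      rw [neg_smul, ← sub_eq_add_neg, sub_eq_zero] at this
      exact this
    rw [mul_smul, hk2, smul_smul, Units.inv_mul, one_smul]

/-- the value of `φ` on (the image of) an element of the sectionwise tensor product -/
noncomputable def valAt (W : X.Opens) :
    (CohB1.tensorPre L N : X.PresheafOfModules).obj (op W) →+ Γ(X, W) where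
  toFun q := ofO W ((φ.val.app (op W)).hom (((SecTwist.toTensor L N).app (op W)).hom q))
  map_zero' := by
    have h1 := map_zero ((SecTwist.toTensor L N).app (op W)).hom
    have h2 := map_zero (φ.val.app (op W)).hom
    exact (congrArg (fun z => ofO W ((φ.val.app (op W)).hom z)) h1).trans h2
  map_add' q q' := by
    have h1 := map_add ((SecTwist.toTensor L N).app (op W)).hom q q'
    have h2 := map_add (φ.val.app (op W)).hom (((SecTwist.toTensor L N).app (op W)).hom q)
      (((SecTwist.toTensor L N).app (op W)).hom q')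
    exact (congrArg (fun z => ofO W ((φ.val.app (op W)).hom z)) h1).trans h2

theorem valAt_tmul (W : X.Opens) (a : (CohB1.toPMod L).obj (op W))
    (b : (CohB1.toPMod N).obj (op W)) :
    valAt L N φ W (a ⊗ₜ[((X.sheaf.obj ⋙ forget₂ CommRingCat RingCat).obj (op W))] b) =
      pair L N φ W (asΓ L W a) (asΓ N W b) := rfl

/-- If `φ : L ⊗ N ⟶ O_X` is an isomorphism, then near every point there are sections `l`, `n`
with `φ(l ⊗ n)` a unit. -/
theorem exists_isUnit_pair [IsIso φ] (x : X) :
    ∃ (V : X.Opens) (l : Γ(L, V)) (n : Γ(N, V)), x ∈ V ∧ IsUnit (pair L N φ V l n) := by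
  have hsurj : Function.Surjective (φ.app ⊤) :=
    ((ConcreteCategory.isIso_iff_bijective (φ.app ⊤)).mp inferInstance).2
  obtain ⟨y₁, hy₁⟩ := hsurj (toO ⊤ 1)
  obtain ⟨W', h, hxW', p, hp⟩ := toTensor_locSurj L N ⊤ y₁ x trivial
  -- the value of `φ` on the image of `p` is `1`
  have h1 : valAt L N φ W' p = 1 := by
    change ofO W' ((φ.val.app (op W')).hom (((SecTwist.toTensor L N).app (op W')).hom p)) = 1
    rw [hp]
    have hnat : (Coh.structureModule X).presheaf.map (homOfLE h).op (φ.app ⊤ y₁) =
        φ.app W' ((CohB1.tensorMod L N).presheaf.map (homOfLE h).op y₁) :=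
      (congrArg (fun g => g.hom y₁) (φ.mapPresheaf.naturality (homOfLE h).op)).symm
    refine (congrArg (ofO W') hnat.symm).trans ?_
    rw [hy₁]
    exact map_one (X.presheaf.map (homOfLE h).op).hom
  by_contra hcon
  push Not at hcon
  have key : ∀ q : (CohB1.tensorPre L N : X.PresheafOfModules).obj (op W'),
      X.presheaf.germ W' x hxW' (valAt L N φ W' q) ∈
        IsLocalRing.maximalIdeal (X.presheaf.stalk x) := by
    intro q
    induction q using TensorProduct.induction_on with
    | zero =>
      have e1 : valAt L N φ W' 0 = 0 := map_zero (valAt L N φ W')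
      refine (congrArg (fun z : Γ(X, W') => X.presheaf.germ W' x hxW' z ∈
        IsLocalRing.maximalIdeal (X.presheaf.stalk x)) e1).mpr ?_
      change X.presheaf.germ W' x hxW' 0 ∈ _
      rw [map_zero]
      exact Ideal.zero_mem _
    | tmul a b =>
      rw [valAt_tmul]
      by_contra hnot
      have hunit : IsUnit (X.presheaf.germ W' x hxW' (pair L N φ W' (asΓ L W' a) (asΓ N W' b))) := by
        by_contra h'
        exact hnot ((IsLocalRing.mem_maximalIdeal _).mpr h')
      have hxV : x ∈ X.basicOpen (pair L N φ W' (asΓ L W' a) (asΓ N W' b)) :=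
        (X.mem_basicOpen _ x hxW').mpr hunit
      refine hcon (X.basicOpen (pair L N φ W' (asΓ L W' a) (asΓ N W' b)))
        (mres L (X.basicOpen_le _) (asΓ L W' a)) (mres N (X.basicOpen_le _) (asΓ N W' b)) hxV ?_
      rw [← pair_res]
      exact RingedSpace.isUnit_res_basicOpen X.toRingedSpace _
    | add q q' hq hq' =>
      have e1 : valAt L N φ W' (q + q') = valAt L N φ W' q + valAt L N φ W' q' :=
        map_add (valAt L N φ W') q q'
      refine (congrArg (fun z : Γ(X, W') => X.presheaf.germ W' x hxW' z ∈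
        IsLocalRing.maximalIdeal (X.presheaf.stalk x)) e1).mpr ?_
      rw [map_add]
      exact Ideal.add_mem _ hq hq'
  have hk := key p
  rw [h1, map_one] at hk
  exact (Ideal.ne_top_iff_one _).mp (IsLocalRing.maximalIdeal.isMaximal _).ne_top hk

/-- A module with a tensor inverse is invertible. -/
theorem isInvertible_of_tensor_iso (e : CohB1.tensorMod L N ≅ Coh.structureModule X) :
    PicF.IsInvertible L := by
  apply isInvertible_of_forall_exists_isBasisOn
  intro x
  obtain ⟨V, l, n, hxV, hu⟩ := exists_isUnit_pair L N e.hom x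
  exact ⟨V, hxV, l, isBasisOn_of_isUnit_pair L N e.hom V l n hu⟩

end Groth.Agent.Lib.Helper49
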