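import Mathlib

set_option autoImplicit false

open Set Function Order TopologicalSpace Topology TopologicalSpace.IrreducibleCloseds

namespace Groth.Agent.Lib.Helper49.TopDim

variable {X Y : Type*} [TopologicalSpace X] [TopologicalSpace Y]

/-- If `f : Y → X` is inducing and all images of irreducible closed subsets of `Y` lie strictly
below a fixed irreducible closed subset of `X`, then `dim Y + 1 ≤ dim X`. -/
theorem topologicalKrullDim_add_one_le_of_isInducing {f : Y → X} (hf : IsInducing f)
    (T : IrreducibleCloseds X)
    (hT : ∀ c : IrreducibleCloseds Y, IrreducibleCloseds.map f hf.continuous c < T) :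
    topologicalKrullDim Y + 1 ≤ topologicalKrullDim X := by
  by_cases hne : Nonempty (IrreducibleCloseds Y)
  · unfold topologicalKrullDim
    rw [← krullDim_WithTop]
    let g : WithTop (IrreducibleCloseds Y) → IrreducibleCloseds X := fun c =>
      match c with
      | ⊤ => T
      | (c : IrreducibleCloseds Y) => IrreducibleCloseds.map f hf.continuous c
    refine krullDim_le_of_strictMono g ?_
    intro a b hab
    induction a with
    | top => exact absurd hab (not_top_lt)
    | coe a =>
      induction b with
      | top => exact hT a
      | coe b => exact map_strictMono_of_isInducing hf (WithTop.coe_lt_coe.mp hab)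
  · rw [not_nonempty_iff] at hne
    have : topologicalKrullDim Y = ⊥ := by
      unfold topologicalKrullDim
      exact krullDim_eq_bot
    rw [this]
    simp

/-- A proper closed subset `Z` of an irreducible subset `Z'` has strictly smaller dimension. -/
theorem topologicalKrullDim_add_one_le_of_ssubset {Z Z' : Set X} (hZ : IsClosed Z)
    (hZZ' : Z ⊆ Z') (hne : Z ≠ Z') (hirr : IsIrreducible Z') :
    topologicalKrullDim ↥Z + 1 ≤ topologicalKrullDim ↥Z' := by
  have : IrreducibleSpace ↥Z' := Subtype.irreducibleSpace hirr
  let T : IrreducibleCloseds ↥Z' := ⟨Set.univ, IrreducibleSpace.isIrreducible_univ _, isClosed_univ⟩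
  have hincl : IsInducing (Set.inclusion hZZ') := (IsEmbedding.inclusion hZZ').isInducing
  refine topologicalKrullDim_add_one_le_of_isInducing hincl T ?_
  intro c
  have hrange : IsClosed (Set.range (Set.inclusion hZZ')) := by
    rw [Set.range_inclusion]
    exact hZ.preimage continuous_subtype_val
  refine lt_of_le_of_ne (fun x _ => Set.mem_univ x) ?_
  intro heq
  have h1 : (IrreducibleCloseds.map (Set.inclusion hZZ') hincl.continuous c : Set ↥Z') ⊆
      Set.range (Set.inclusion hZZ') := by
    rw [IrreducibleCloseds.coe_map]
    exact hrange.closure_subset_iff.mpr (Set.image_subset_range _ _)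
  have h2 : (Set.univ : Set ↥Z') ⊆ Set.range (Set.inclusion hZZ') := by
    have : (IrreducibleCloseds.map (Set.inclusion hZZ') hincl.continuous c : Set ↥Z') =
        (Set.univ : Set ↥Z') := congrArg (fun t : IrreducibleCloseds ↥Z' => (t : Set ↥Z')) heq
    rw [← this]
    exact h1
  apply hne
  apply Set.Subset.antisymm hZZ'
  intro z hz
  obtain ⟨y, hy⟩ := h2 (Set.mem_univ (⟨z, hz⟩ : ↥Z'))
  have : (y : X) = z := congrArg Subtype.val hy
  rw [← this]
  exact y.2

end Groth.Agent.Lib.Helper49.TopDim
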