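import Mathlib

/-!
# Exactness of adic completion under an Artin–Rees type hypothesis (helper49)

`adic_map_injective_of_AR` and `adic_map_exact_of_AR`: for an exact sequence `K → M → N → 0`
such that `i k ∈ I^(n+c) M` implies `k ∈ I^n K`, the completed sequence is exact on the left
and in the middle.
-/

namespace Groth.Agent.Lib.Helper49

universe u

section

variable {R : Type u} [CommRing R] (I : Ideal R) {K M N : Type u}
  [AddCommGroup K] [Module R K] [AddCommGroup M] [Module R M] [AddCommGroup N] [Module R N]

open AdicCompletion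

theorem adic_map_injective_of_AR (i : K →ₗ[R] M) (c : ℕ)
    (hAR : ∀ (n : ℕ) (k : K), i k ∈ (I ^ (n + c) • ⊤ : Submodule R M) →
      k ∈ (I ^ n • ⊤ : Submodule R K)) :
    Function.Injective (AdicCompletion.map I i) := by
  rw [injective_iff_map_eq_zero]
  intro x hx
  apply AdicCompletion.ext
  intro n
  obtain ⟨k, hk⟩ := Submodule.mkQ_surjective _ (x.val (n + c))
  have h1 : (AdicCompletion.map I i x).val (n + c) = 0 := by rw [hx]; rfl
  rw [map_val_apply, ← hk] at h1
  have h2 : i k ∈ (I ^ (n + c) • ⊤ : Submodule R M) := by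
    rw [Submodule.mkQ_apply, LinearMap.reduceModIdeal_apply, Submodule.Quotient.mk_eq_zero] at h1
    exact h1
  have h3 := hAR n k h2
  rw [← transitionMap_comp_eval_apply I K (Nat.le_add_right n c) x, ← hk]
  change Submodule.Quotient.mk k = 0
  rw [Submodule.Quotient.mk_eq_zero]
  exact h3

theorem adic_map_exact_of_AR (i : K →ₗ[R] M) (g : M →ₗ[R] N) (hg : Function.Surjective g)
    (hig : Function.Exact i g) (c : ℕ)
    (hAR : ∀ (n : ℕ) (k : K), i k ∈ (I ^ (n + c) • ⊤ : Submodule R M) →
      k ∈ (I ^ n • ⊤ : Submodule R K)) :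
    Function.Exact (AdicCompletion.map I i) (AdicCompletion.map I g) := by
  intro y
  constructor
  · intro hy
    -- for each n, a lift
    have hex : ∀ n, ∃ k : K, y.val n = Submodule.Quotient.mk (i k) := by
      intro n
      obtain ⟨m, hm⟩ := Submodule.mkQ_surjective _ (y.val n)
      have h1 : (AdicCompletion.map I g y).val n = 0 := by rw [hy]; rfl
      rw [map_val_apply, ← hm, Submodule.mkQ_apply, LinearMap.reduceModIdeal_apply,
        Submodule.Quotient.mk_eq_zero] at h1
      have h2 : (I ^ n • ⊤ : Submodule R N) = Submodule.map g (I ^ n • ⊤) := by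
        rw [Submodule.map_smul'', Submodule.map_top, LinearMap.range_eq_top.mpr hg]
      rw [h2] at h1
      obtain ⟨m', hm', hgm'⟩ := h1
      have h3 : g (m - m') = 0 := by rw [map_sub, hgm', sub_self]
      obtain ⟨k, hk⟩ := (hig (m - m')).mp h3
      refine ⟨k, ?_⟩
      rw [← hm, Submodule.mkQ_apply, Submodule.Quotient.eq, hk, sub_sub_cancel]
      exact hm'
    choose k hk using hex
    have hcompat : ∀ {a b : ℕ} (hab : a ≤ b),
        k (b + c) - k (a + c) ∈ (I ^ a • ⊤ : Submodule R K) := by
      intro a b hab
      apply hAR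
      rw [map_sub, ← Submodule.Quotient.eq, ← hk (a + c),
        ← transitionMap_comp_eval_apply I M (Nat.add_le_add_right hab c) y, hk (b + c)]
      rfl
    let x : AdicCompletion I K := ⟨fun n => Submodule.Quotient.mk (k (n + c)), by
      intro a b hab
      change Submodule.Quotient.mk (k (b + c)) = Submodule.Quotient.mk (k (a + c))
      rw [Submodule.Quotient.eq]
      exact hcompat hab⟩
    refine ⟨x, ?_⟩
    apply AdicCompletion.ext
    intro n
    rw [map_val_apply]
    change (i.reduceModIdeal (I ^ n)) (Submodule.Quotient.mk (k (n + c))) = y.val n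
    rw [LinearMap.reduceModIdeal_apply,
      ← transitionMap_comp_eval_apply I M (Nat.le_add_right n c) y, hk (n + c)]
    rfl
  · rintro ⟨x, rfl⟩
    rw [AdicCompletion.map_comp_apply, hig.linearMap_comp_eq_zero,
      AdicCompletion.map_zero]
    rfl

end

section Flat

variable {R : Type u} [CommRing R] {K M N : Type u}
  [AddCommGroup K] [Module R K] [AddCommGroup M] [Module R M] [AddCommGroup N] [Module R N]

/-- If `0 → K → M → N → 0` is exact with `N` flat, then `i k ∈ J M` implies `k ∈ J K`. -/
theorem mem_smul_top_of_flat (i : K →ₗ[R] M) (g : M →ₗ[R] N) [Module.Flat R N]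
    (hi : Function.Injective i) (hg : Function.Surjective g) (hig : Function.Exact i g)
    (J : Ideal R) (k : K) (hk : i k ∈ (J • ⊤ : Submodule R M)) :
    k ∈ (J • ⊤ : Submodule R K) := by
  classical
  have hspan : (⊤ : Submodule R M) = Submodule.span R (Set.range (id : M → M)) := by simp
  rw [hspan, Submodule.mem_ideal_smul_span_iff_exists_sum] at hk
  obtain ⟨a, ha, hsum⟩ := hk
  have hsum' : ∑ m : a.support, a m • (m : M) = i k := by
    rw [← hsum, Finsupp.sum]
    exact Finset.sum_coe_sort a.support (fun m => a m • m)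
  have hrel : ∑ m : a.support, a m • g m = 0 := by
    have : g (i k) = 0 := hig.apply_apply_eq_zero k
    rw [← hsum', map_sum] at this
    simpa using this
  obtain ⟨l, b, y, hy, hb⟩ := Module.Flat.isTrivialRelation_of_sum_smul_eq_zero hrel
  simp only at hy hb
  choose y' hy' using fun j => hg (y j)
  have hker : ∀ m : a.support, ∃ k' : K, i k' = (m : M) - ∑ j, b m j • y' j := by
    intro m
    apply (hig _).mp
    rw [map_sub, map_sum, hy m]
    simp [hy']
  choose k' hk' using hker
  have : k = ∑ m : a.support, a m • k' m := by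
    apply hi
    rw [map_sum]
    simp_rw [map_smul, hk']
    rw [← hsum']
    simp only [smul_sub, Finset.sum_sub_distrib]
    rw [eq_sub_iff_add_eq, add_eq_left]
    simp_rw [Finset.smul_sum, smul_smul]
    rw [Finset.sum_comm]
    apply Finset.sum_eq_zero
    intro j _
    rw [← Finset.sum_smul, hb j, zero_smul]
  rw [this]
  exact Submodule.sum_mem _ fun m _ => Submodule.smul_mem_smul (ha m) Submodule.mem_top

end Flat

end Groth.Agent.Lib.Helper49
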