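import Mathlib
import Groth.Agent.Lib.Helper18.LSubImage
import Groth.Agent.Lib.Helper18.LSubFactor
import Groth.Agent.Lib.Helper18.LSubRestrict

/-!
# Local families of submodules versus subobjects

Shared library of helper49 (namespace `Groth.Agent.Lib.Helper49.LSubSub`).
The dictionary between helper18's `LSub F` and `Subobject F` in `X.Modules`.
-/

set_option autoImplicit false
universe u
open CategoryTheory CategoryTheory.Limits AlgebraicGeometry TopologicalSpace Opposite

namespace Groth.Agent.Lib.Helper49.LSubSub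

open Groth.Agent.Lib.Helper49 Groth.Agent.Lib.Helper45 Groth.Agent.Lib.Helper18.LSubM

variable {X : Scheme.{u}} {F : X.Modules}

/-- For a monomorphism `a`, the image family is isomorphic to the source. -/
theorem exists_iso_ofImage_of_mono {A : X.Modules} (a : A ⟶ F) [Mono a] :
    ∃ e : (LSub.ofImage a).toModules ≅ A, e.hom ≫ a = (LSub.ofImage a).ι := by
  refine exists_iso_of_factor (LSub.ofImage a).ι a ?_ ?_
  · intro W s y hy
    obtain ⟨D, hD, hyD, b, hb⟩ := (LSub.ofImage a).ι_app_mem W s y hy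
    exact ⟨D, hD, hyD, b, hb⟩
  · intro W b y hy
    refine ⟨W, le_rfl, hy, (LSub.ofImage a).sec W (a.app W b) (LSub.app_mem_ofImage a W b), ?_⟩
    rw [LSub.ι_app_sec, mres_self]

/-- For a monomorphism, the sections of the image family are exactly the range. -/
theorem mem_ofImage_obj_iff_of_mono {A : X.Modules} (a : A ⟶ F) [Mono a] (U : X.Opens)
    (t : Γ(F, U)) : t ∈ (LSub.ofImage a).obj U ↔ ∃ s : Γ(A, U), a.app U s = t := by
  obtain ⟨e, he⟩ := exists_iso_ofImage_of_mono a
  constructor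
  · intro ht
    refine ⟨e.hom.app U ((LSub.ofImage a).sec U t ht), ?_⟩
    change (e.hom ≫ a).app U _ = t
    rw [he, LSub.ι_app_sec]
  · rintro ⟨s, rfl⟩
    exact LSub.app_mem_ofImage a U s

theorem mk_ι_ofImage {A : X.Modules} (a : A ⟶ F) [Mono a] :
    Subobject.mk (LSub.ofImage a).ι = Subobject.mk a := by
  obtain ⟨e, he⟩ := exists_iso_ofImage_of_mono a
  exact Subobject.mk_eq_mk_of_comm _ _ e he

/-- The image family of the inclusion of a local family is the family itself. -/
theorem ofImage_ι (K : LSub F) : LSub.ofImage K.ι = K := by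
  apply LSub.ext'
  intro U
  ext t
  constructor
  · intro ht
    apply K.isLocal
    intro x hx
    obtain ⟨D, hD, hxD, s, hs⟩ := ht x hx
    refine ⟨D, hD, hxD, ?_⟩
    rw [← hs]
    exact K.ι_app_mem D s
  · intro ht
    have := LSub.app_mem_ofImage K.ι U (K.sec U t ht)
    rwa [LSub.ι_app_sec] at this

/-- The image family only depends on the morphism up to epimorphisms which are surjective on
sections; in particular up to isomorphisms of the source. -/
theorem ofImage_iso_comp {A A' : X.Modules} (e : A' ≅ A) (a : A ⟶ F) :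
    LSub.ofImage (e.hom ≫ a) = LSub.ofImage a := by
  apply LSub.ext'
  intro U
  ext t
  constructor
  · intro ht x hx
    obtain ⟨D, hD, hxD, s, hs⟩ := ht x hx
    exact ⟨D, hD, hxD, e.hom.app D s, hs⟩
  · intro ht x hx
    obtain ⟨D, hD, hxD, s, hs⟩ := ht x hx
    refine ⟨D, hD, hxD, e.inv.app D s, ?_⟩
    rw [← hs]
    change (e.inv ≫ e.hom ≫ a).app D s = _
    rw [Iso.inv_hom_id_assoc]

theorem ofImage_arrow_mk {A : X.Modules} (a : A ⟶ F) [Mono a] :
    LSub.ofImage (Subobject.mk a).arrow = LSub.ofImage a := by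
  have h := ofImage_iso_comp (Subobject.underlyingIso a).symm (Subobject.mk a).arrow
  rw [← h]
  congr 1
  change (Subobject.underlyingIso a).inv ≫ (Subobject.mk a).arrow = a
  exact Subobject.underlyingIso_arrow a

theorem mk_ι_ofImage_arrow (P : Subobject F) : Subobject.mk (LSub.ofImage P.arrow).ι = P := by
  rw [mk_ι_ofImage, Subobject.mk_arrow]

theorem ofImage_arrow_mk_ι (K : LSub F) : LSub.ofImage (Subobject.mk K.ι).arrow = K := by
  rw [ofImage_arrow_mk, ofImage_ι]

theorem mk_ι_le_of_le {K K' : LSub F} (h : K ≤ K') : Subobject.mk K.ι ≤ Subobject.mk K'.ι := by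
  obtain ⟨φ, hφ⟩ := exists_factor K.ι K'.ι (fun W s y hy =>
    ⟨W, le_rfl, hy, K'.sec W (K.ι.app W s) (h W (K.ι_app_mem W s)), by
      rw [LSub.ι_app_sec, mres_self]⟩)
  exact Subobject.mk_le_mk_of_comm φ hφ

theorem ofImage_le_of_factor {A B : X.Modules} (a : A ⟶ F) (b : B ⟶ F) (c : A ⟶ B)
    (h : c ≫ b = a) : LSub.ofImage a ≤ LSub.ofImage b := by
  intro U t ht x hx
  obtain ⟨D, hD, hxD, s, hs⟩ := ht x hx
  refine ⟨D, hD, hxD, c.app D s, ?_⟩
  rw [← hs, ← h]
  rfl

theorem ofImage_arrow_le_of_le {P Q : Subobject F} (h : P ≤ Q) :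
    LSub.ofImage P.arrow ≤ LSub.ofImage Q.arrow :=
  ofImage_le_of_factor _ _ (Subobject.ofLE P Q h) (Subobject.ofLE_arrow h)

theorem le_of_mk_ι_le {K K' : LSub F} (h : Subobject.mk K.ι ≤ Subobject.mk K'.ι) : K ≤ K' := by
  have := ofImage_arrow_le_of_le h
  rwa [ofImage_arrow_mk_ι, ofImage_arrow_mk_ι] at this

theorem mk_ι_le_iff {K K' : LSub F} : Subobject.mk K.ι ≤ Subobject.mk K'.ι ↔ K ≤ K' :=
  ⟨le_of_mk_ι_le, mk_ι_le_of_le⟩

/-- The order isomorphism between local families of submodules and subobjects. -/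
noncomputable def orderIso (F : X.Modules) : LSub F ≃o Subobject F where
  toFun K := Subobject.mk K.ι
  invFun P := LSub.ofImage P.arrow
  left_inv K := ofImage_arrow_mk_ι K
  right_inv P := mk_ι_ofImage_arrow P
  map_rel_iff' := mk_ι_le_iff

theorem inf_le_left' (K K' : LSub F) : K.inf K' ≤ K := fun _ => inf_le_left
theorem inf_le_right' (K K' : LSub F) : K.inf K' ≤ K' := fun _ => inf_le_right
theorem le_inf' {K K' K'' : LSub F} (h₁ : K'' ≤ K) (h₂ : K'' ≤ K') : K'' ≤ K.inf K' :=
  fun U => le_inf (h₁ U) (h₂ U)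

theorem mk_ι_inf (K K' : LSub F) :
    Subobject.mk (K.inf K').ι = Subobject.mk K.ι ⊓ Subobject.mk K'.ι := by
  apply le_antisymm
  · exact le_inf (mk_ι_le_of_le (inf_le_left' K K')) (mk_ι_le_of_le (inf_le_right' K K'))
  · rw [← mk_ι_ofImage_arrow (Subobject.mk K.ι ⊓ Subobject.mk K'.ι)]
    apply mk_ι_le_of_le
    apply le_inf'
    · have := ofImage_arrow_le_of_le (inf_le_left : Subobject.mk K.ι ⊓ Subobject.mk K'.ι ≤ _)
      rwa [ofImage_arrow_mk_ι] at this
    · have := ofImage_arrow_le_of_le (inf_le_right : Subobject.mk K.ι ⊓ Subobject.mk K'.ι ≤ _)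
      rwa [ofImage_arrow_mk_ι] at this

theorem ofImage_arrow_inf (P Q : Subobject F) :
    LSub.ofImage (P ⊓ Q).arrow = (LSub.ofImage P.arrow).inf (LSub.ofImage Q.arrow) := by
  have h := mk_ι_inf (LSub.ofImage P.arrow) (LSub.ofImage Q.arrow)
  rw [mk_ι_ofImage_arrow, mk_ι_ofImage_arrow] at h
  rw [← h, ofImage_arrow_mk_ι]

/-- Sections of an intersection of two subobjects given by monomorphisms. -/
theorem mem_ofImage_arrow_inf_mk_iff {A B : X.Modules} (a : A ⟶ F) (b : B ⟶ F) [Mono a] [Mono b]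
    (U : X.Opens) (t : Γ(F, U)) :
    t ∈ (LSub.ofImage (Subobject.mk a ⊓ Subobject.mk b).arrow).obj U ↔
      (∃ s : Γ(A, U), a.app U s = t) ∧ ∃ s : Γ(B, U), b.app U s = t := by
  rw [ofImage_arrow_inf, ofImage_arrow_mk, ofImage_arrow_mk, LSub.inf_obj, Submodule.mem_inf,
    mem_ofImage_obj_iff_of_mono, mem_ofImage_obj_iff_of_mono]

/-- Two local families agreeing on a basis of opens are equal. -/
theorem le_of_basis (ℬ : Set X.Opens)
    (hℬ : ∀ (U : X.Opens) (x : X), x ∈ U → ∃ V ∈ ℬ, x ∈ V ∧ V ≤ U) {K K' : LSub F}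
    (h : ∀ V ∈ ℬ, K.obj V ≤ K'.obj V) : K ≤ K' := by
  intro U t ht
  apply K'.isLocal
  intro x hx
  obtain ⟨V, hV, hxV, hVU⟩ := hℬ U x hx
  exact ⟨V, hVU, hxV, h V hV (K.res_mem hVU ht)⟩

theorem eq_of_basis (ℬ : Set X.Opens)
    (hℬ : ∀ (U : X.Opens) (x : X), x ∈ U → ∃ V ∈ ℬ, x ∈ V ∧ V ≤ U) {K K' : LSub F}
    (h : ∀ V ∈ ℬ, K.obj V = K'.obj V) : K = K' :=
  le_antisymm (le_of_basis ℬ hℬ fun V hV => (h V hV).le)
    (le_of_basis ℬ hℬ fun V hV => (h V hV).ge)

/-- Goodness of an intersection. -/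
theorem good_inf {K K' : LSub F} {T : X.Opens} (h : K.Good T) (h' : K'.Good T) :
    (K.inf K').Good T := by
  intro f t ht
  obtain ⟨m, hm⟩ := h f t ht.1
  obtain ⟨m', hm'⟩ := h' f t ht.2
  refine ⟨m + m', ?_, ?_⟩
  · rw [add_comm, pow_add, mul_smul]
    exact Submodule.smul_mem _ _ hm
  · rw [pow_add, mul_smul]
    exact Submodule.smul_mem _ _ hm'

/-- The image family of a morphism from a quasi-coherent module to a quasi-coherent module is good
at affine opens. -/
theorem good_ofImage_of_mono {A : X.Modules} [F.IsQuasicoherent] [A.IsQuasicoherent]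
    (a : A ⟶ F) {T : X.Opens} (hT : IsAffineOpen T) : (LSub.ofImage a).Good T := by
  have := LSub.ofImage_isQuasicoherent a
  exact (LSub.ofImage a).good_of_isLocalizingOn (isLocalizingOn_of_isQuasicoherent hT F)
    (isLocalizingOn_of_isQuasicoherent hT _)

end Groth.Agent.Lib.Helper49.LSubSub
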