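import Mathlib
import Groth.Agent.Lib.Helper49.LSubSub
import Groth.Agent.Lib.Helper49.CohNoeth
import Groth.Agent.Lib.Helper18.LSubExt
import Groth.Agent.Lib.Helper18.FTApprox
import Groth.Agent.Lib.Helper45.Dev.IdealMulSections

/-!
# The Artin–Rees lemma for coherent sheaves

Shared library of helper49 (namespace `Groth.Agent.Lib.Helper49.ArtinReesSheaf`).
-/

set_option autoImplicit false
universe u
open CategoryTheory CategoryTheory.Limits AlgebraicGeometry TopologicalSpace Opposite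

namespace Groth.Agent.Lib.Helper49.ArtinReesSheaf

open Groth.Agent.Lib.Helper49 Groth.Agent.Lib.Helper45 Groth.Agent.Lib.Helper18.LSubM
  Groth.Agent.Lib.Helper49.LSubSub Groth.Agent.Lib.Helper45.IdealMulSections
  Groth.Agent.Lib.Helper45.IdealMulPow

variable {X : Scheme.{u}} (I : X.IdealSheafData) (F : X.Modules)

/-- The local family `I^n F ⊆ F`. -/
noncomputable def KA (n : ℕ) : LSub F := LSub.ofImage (Dual3.idealMulι (I ^ n) F)

theorem KA_obj [F.IsQuasicoherent] (n : ℕ) {V : X.Opens} (hV : IsAffineOpen V) :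
    (KA I F n).obj V = I.ideal ⟨V, hV⟩ ^ n • (⊤ : Submodule Γ(X, V) Γ(F, V)) := by
  have h := range_idealMulι_app (I ^ n) F hV
  have h2 : (I ^ n).ideal ⟨V, hV⟩ = I.ideal ⟨V, hV⟩ ^ n := by
    rw [Scheme.IdealSheafData.ideal_pow]; rfl
  rw [h2] at h
  rw [← h]
  ext t
  rw [KA, mem_ofImage_obj_iff_of_mono]
  rfl

theorem KA_good [F.IsQuasicoherent] (n : ℕ) {V : X.Opens} (hV : IsAffineOpen V) :
    (KA I F n).Good V := by
  have := isQuasicoherent_idealMul (I ^ n) F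
  exact good_ofImage_of_mono _ hV

variable {F} {G : X.Modules} (ι : G ⟶ F)

/-- The local family `I^n F ∩ G ⊆ F`. -/
noncomputable def KP (n : ℕ) : LSub F := (KA I F n).inf (LSub.ofImage ι)

theorem KP_good [F.IsQuasicoherent] [G.IsQuasicoherent] (n : ℕ) {V : X.Opens}
    (hV : IsAffineOpen V) : (KP I ι n).Good V :=
  good_inf (KA_good I F n hV) (good_ofImage_of_mono ι hV)

theorem KP_obj [F.IsQuasicoherent] (n : ℕ) {V : X.Opens} (hV : IsAffineOpen V) :
    (KP I ι n).obj V = I.ideal ⟨V, hV⟩ ^ n • (⊤ : Submodule Γ(X, V) Γ(F, V)) ⊓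
      (LSub.ofImage ι).obj V := by
  rw [KP, LSub.inf_obj, KA_obj I F n hV]

theorem mk_KP [Mono ι] (n : ℕ) :
    Subobject.mk (KP I ι n).ι = Subobject.mk (Dual3.idealMulι (I ^ n) F) ⊓ Subobject.mk ι := by
  rw [KP, mk_ι_inf, KA, mk_ι_ofImage, mk_ι_ofImage]

theorem ofImage_arrow_P [Mono ι] (n : ℕ) :
    LSub.ofImage (Subobject.mk (Dual3.idealMulι (I ^ n) F) ⊓ Subobject.mk ι).arrow = KP I ι n := by
  rw [← mk_KP, ofImage_arrow_mk_ι]

theorem isQuasicoherent_KP [F.IsQuasicoherent] [G.IsQuasicoherent] (n : ℕ) :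
    (KP I ι n).toModules.IsQuasicoherent := by
  refine (KP I ι n).isQuasicoherent_toModules
    (fun T hT => isLocalizingOn_of_isQuasicoherent hT F)
    {T | IsAffineOpen T} (fun T hT => hT) ?_ (fun T hT => KP_good I ι n hT)
  intro x
  obtain ⟨_, ⟨T, hT, rfl⟩, hxT, -⟩ :=
    X.isBasis_affineOpens.exists_subset_of_mem_open (Set.mem_univ x) isOpen_univ
  exact ⟨T, hT, hxT⟩

theorem isQuasicoherent_P [F.IsQuasicoherent] [G.IsQuasicoherent] [Mono ι] (n : ℕ) :
    (Subobject.underlying.obj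
      (Subobject.mk (Dual3.idealMulι (I ^ n) F) ⊓ Subobject.mk ι)).IsQuasicoherent := by
  have h := isQuasicoherent_KP I ι n
  have e1 := Subobject.underlyingIso (KP I ι n).ι
  have e2 := Subobject.isoOfEq _ _ (mk_KP I ι n)
  exact isQuasicoherent_of_iso (e1.symm ≪≫ e2) h

/-- Sections over an affine open of `J · P` inside `F`, for a quasi-coherent subobject `P`. -/
theorem ofImage_idealMul_obj (J : X.IdealSheafData) (P : Subobject F)
    [(Subobject.underlying.obj P).IsQuasicoherent] {V : X.Opens} (hV : IsAffineOpen V) :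
    (LSub.ofImage (Dual3.idealMulι J (Subobject.underlying.obj P) ≫ P.arrow)).obj V =
      J.ideal ⟨V, hV⟩ • (LSub.ofImage P.arrow).obj V := by
  have h := range_idealMulι_app J (Subobject.underlying.obj P) hV
  have h3 : (LSub.ofImage P.arrow).obj V = Submodule.map (appₗ P.arrow V) ⊤ := by
    ext t
    rw [mem_ofImage_obj_iff_of_mono]
    simp only [Submodule.map_top, LinearMap.mem_range]
    rfl
  rw [h3, ← Submodule.map_smul'', ← h]
  ext t
  rw [mem_ofImage_obj_iff_of_mono]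
  constructor
  · rintro ⟨s, rfl⟩
    exact ⟨_, ⟨s, rfl⟩, rfl⟩
  · rintro ⟨_, ⟨s, rfl⟩, rfl⟩
    exact ⟨s, rfl⟩

/-- The easy inclusion. -/
theorem smul_KP_le [F.IsQuasicoherent] (c n : ℕ) (hcn : c ≤ n) {V : X.Opens} (hV : IsAffineOpen V) :
    I.ideal ⟨V, hV⟩ ^ (n - c) • (KP I ι c).obj V ≤ (KP I ι n).obj V := by
  rw [KP_obj I ι c hV, KP_obj I ι n hV]
  refine Submodule.smul_le.mpr fun r hr m hm => ⟨?_, Submodule.smul_mem _ _ hm.2⟩
  have h1 : r • m ∈ I.ideal ⟨V, hV⟩ ^ (n - c) •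
      (I.ideal ⟨V, hV⟩ ^ c • (⊤ : Submodule Γ(X, V) Γ(F, V))) :=
    Submodule.smul_mem_smul hr hm.1
  rwa [← Submodule.mul_smul, ← pow_add, Nat.sub_add_cancel hcn] at h1

/-- Artin–Rees on an affine open of a Noetherian scheme, for all large constants. -/
theorem exists_KP_eq [IsLocallyNoetherian X] [F.IsQuasicoherent]
    (hF : SheafOfModules.IsFiniteType (R := X.ringCatSheaf) F) {W : X.Opens} (hW : IsAffineOpen W) :
    ∃ k : ℕ, ∀ c, k ≤ c → ∀ n, c ≤ n →
      (KP I ι n).obj W = I.ideal ⟨W, hW⟩ ^ (n - c) • (KP I ι c).obj W := by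
  have := IsLocallyNoetherian.component_noetherian (X := X) ⟨W, hW⟩
  have := finite_sections_of_isFiniteType F hF hW
  obtain ⟨k, hk⟩ := Ideal.exists_pow_inf_eq_pow_smul (I.ideal ⟨W, hW⟩)
    ((LSub.ofImage ι).obj W)
  refine ⟨k, fun c hkc n hcn => ?_⟩
  rw [KP_obj I ι n hW, KP_obj I ι c hW, hk n (hkc.trans hcn), hk c hkc, ← Submodule.mul_smul,
    ← pow_add]
  congr 2
  omega

/-- Artin–Rees passes from an affine open to its basic opens. -/
theorem KP_basicOpen_le [F.IsQuasicoherent] [G.IsQuasicoherent] (c n : ℕ)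
    {W : X.Opens} (hW : IsAffineOpen W)
    (h : (KP I ι n).obj W = I.ideal ⟨W, hW⟩ ^ (n - c) • (KP I ι c).obj W) (g : Γ(X, W)) :
    (KP I ι n).obj (X.basicOpen g) ≤
      I.ideal ⟨X.basicOpen g, hW.basicOpen g⟩ ^ (n - c) • (KP I ι c).obj (X.basicOpen g) := by
  rw [(KP_good I ι n hW).obj_basicOpen_eq _ (isLocalizingOn_of_isQuasicoherent hW F) g, spanRes]
  refine Submodule.span_le.mpr ?_
  rintro _ ⟨t, ht, rfl⟩
  rw [SetLike.mem_coe, h] at ht
  refine Submodule.smul_induction_on ht ?_ ?_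
  · intro r hr m hm
    rw [mres_smul]
    refine Submodule.smul_mem_smul ?_ ((KP I ι c).res_mem _ hm)
    have hle := I.ideal_le_comap_ideal (U := ⟨X.basicOpen g, hW.basicOpen g⟩) (V := ⟨W, hW⟩)
      (X.basicOpen_le g)
    have h2 : I.ideal ⟨W, hW⟩ ^ (n - c) ≤
        (I.ideal ⟨X.basicOpen g, hW.basicOpen g⟩ ^ (n - c)).comap
          (X.presheaf.map (homOfLE (X.basicOpen_le g)).op).hom :=
      (Ideal.pow_right_mono hle _).trans (Ideal.le_comap_pow _ _)
    exact h2 hr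
  · intro x y hx hy
    rw [map_add]
    exact Submodule.add_mem _ hx hy

/-- **Artin–Rees for coherent sheaves** in terms of local families. -/
theorem exists_ofImage_eq [IsNoetherian X] [F.IsQuasicoherent] [G.IsQuasicoherent] [Mono ι]
    (hF : SheafOfModules.IsFiniteType (R := X.ringCatSheaf) F) :
    ∃ c : ℕ, ∀ n : ℕ, c ≤ n → ∀ P : Subobject F,
      P = Subobject.mk (Dual3.idealMulι (I ^ c) F) ⊓ Subobject.mk ι →
      LSub.ofImage (Dual3.idealMulι (I ^ (n - c)) (Subobject.underlying.obj P) ≫ P.arrow) =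
        KP I ι n := by
  classical
  obtain ⟨T, hT⟩ := Groth.Agent.Lib.Helper18.FTApprox.exists_finite_affine_cover X
  have hk : ∀ W : X.affineOpens, ∃ k : ℕ, ∀ c, k ≤ c → ∀ n, c ≤ n →
      (KP I ι n).obj W.1 = I.ideal W ^ (n - c) • (KP I ι c).obj W.1 :=
    fun W => exists_KP_eq I ι hF W.2
  choose k hk using hk
  refine ⟨T.sup k, fun n hn P hP => ?_⟩
  subst hP
  have hq := isQuasicoherent_P I ι (T.sup k)
  let ℬ : Set X.Opens := {V | ∃ W ∈ T, ∃ g : Γ(X, W.1), V = X.basicOpen g}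
  refine eq_of_basis ℬ ?_ ?_
  · intro U x hxU
    have hx : x ∈ (⨆ U : ↥T, (U.1 : X.affineOpens).1) := hT ▸ Opens.mem_top x
    obtain ⟨⟨W, hWT⟩, hxW⟩ := Opens.mem_iSup.mp hx
    obtain ⟨g, hg, hxg⟩ := W.2.exists_basicOpen_le (V := U) ⟨x, hxU⟩ hxW
    exact ⟨_, ⟨W, hWT, g, rfl⟩, hxg, hg⟩
  · rintro _ ⟨W, hWT, g, rfl⟩
    have hV : IsAffineOpen (X.basicOpen g) := W.2.basicOpen g
    rw [ofImage_idealMul_obj _ _ hV, Scheme.IdealSheafData.ideal_pow, ofImage_arrow_P]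
    refine le_antisymm (smul_KP_le I ι _ n hn hV) ?_
    exact KP_basicOpen_le I ι _ n W.2 (hk W _ (Finset.le_sup hWT) n hn) g

end Groth.Agent.Lib.Helper49.ArtinReesSheaf
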