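import Mathlib
import Groth.Agent.Lib.Helper49.SectionsColimit
import Groth.Agent.Lib.Helper49.QcqsModules
/-!
# Filtered colimits of quasi-coherent modules on a locally Noetherian scheme are quasi-coherent
-/
universe u
open CategoryTheory CategoryTheory.Limits AlgebraicGeometry TopologicalSpace Opposite

namespace Groth.Agent.Lib.Helper49

variable {X : Scheme.{u}}

theorem noetherianSpace_of_isAffineOpen' [IsLocallyNoetherian X] {V : X.Opens}
    (hV : IsAffineOpen V) : NoetherianSpace ↥(V : Set X) := by
  have := IsLocallyNoetherian.component_noetherian ⟨V, hV⟩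
  exact noetherianSpace_of_isAffineOpen V hV

section Filtered

variable {K : Type u} [SmallCategory K] [IsFiltered K] (D : K ⥤ X.Modules) (c : Cocone D)
  (hc : IsColimit c)

include hc in
/-- A filtered colimit of modules which localize correctly on an affine open `V` of a locally
Noetherian scheme localizes correctly on `V`. -/
theorem isLocalizingOn_of_isColimit [IsLocallyNoetherian X] {V : X.Opens} (hV : IsAffineOpen V)
    (hD : ∀ k, Helper45.IsLocalizingOn (D.obj k) V) : Helper45.IsLocalizingOn c.pt V := by
  have hVn := noetherianSpace_of_isAffineOpen' hV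
  constructor
  · intro g σ
    have hgn := noetherianSpace_of_isAffineOpen' (hV.basicOpen g)
    obtain ⟨k, τ, rfl⟩ := exists_app_eq D c hc (X.basicOpen g) hgn σ
    obtain ⟨n, t, ht⟩ := (hD k).exists_restrict_eq_pow_smul g τ
    refine ⟨n, (c.ι.app k).app V t, ?_⟩
    rw [← ι_app_res, ht]
    exact Scheme.Modules.Hom.app_smul (c.ι.app k) _ τ
  · intro g s hs
    obtain ⟨k, t, rfl⟩ := exists_app_eq D c hc V hVn s
    rw [← ι_app_res] at hs
    obtain ⟨k', f, hf⟩ := exists_map_app_eq_zero D c hc (X.basicOpen g)
      (hV.basicOpen g).isCompact k _ hs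
    rw [map_app_res] at hf
    obtain ⟨n, hn⟩ := (hD k').exists_pow_smul_eq_zero g _ hf
    refine ⟨n, ?_⟩
    rw [← ι_map_app D c f V t]
    have := Scheme.Modules.Hom.app_smul (c.ι.app k') (g ^ n) ((D.map f).app V t)
    rw [hn, map_zero] at this
    exact this.symm

include hc in
/-- A filtered colimit of quasi-coherent modules on a locally Noetherian scheme is
quasi-coherent. -/
theorem isQuasicoherent_of_isColimit_filtered [IsLocallyNoetherian X]
    (hD : ∀ k, (D.obj k).IsQuasicoherent) : c.pt.IsQuasicoherent := by
  refine isQuasicoherent_of_isLocalizingOn c.pt fun U => ?_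
  exact isLocalizingOn_of_isColimit D c hc U.2 fun k =>
    have := hD k
    Helper45.isLocalizingOn_of_isQuasicoherent U.2 (D.obj k)

end Filtered

end Groth.Agent.Lib.Helper49
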