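import Mathlib
import Groth.Agent.Lib.Helper49.ZClosure7
/-!
# The Z-closure `H⁰_{X/Z}`: maps which are isomorphisms outside `Z`
-/
universe u
open CategoryTheory CategoryTheory.Limits AlgebraicGeometry TopologicalSpace Opposite

namespace Groth.Agent.Lib.Helper49.ZClosure

open ZClos

variable {X : Scheme.{u}} (Z : Set X)

theorem additive_H0 : (H0 Z).Additive := by
  have := preservesFiniteLimits_H0 Z
  have : (H0 Z).PreservesZeroMorphisms :=
    Functor.preservesZeroMorphisms_of_preserves_terminal_object
  exact Functor.additive_of_preserves_binary_products (H0 Z)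

theorem rho_naturality {A B : X.Modules} (w : A ⟶ B) :
    w ≫ rhoApp Z B = rhoApp Z A ≫ (H0 Z).map w := by
  have := (rho Z).naturality w
  simp only [Functor.id_obj, Functor.id_map] at this
  exact this

/-- A monomorphism with cokernel supported in `Z` becomes an isomorphism after `H⁰_{X/Z}`. -/
theorem isIso_H0_map_of_mono [IsLocallyNoetherian X] (hZ : StableUnderSpecialization Z)
    {A B : X.Modules} (w : A ⟶ B) [Mono w]
    (hw : ∀ x : X, x ∉ Z → Function.Surjective (stalkMap w x).hom) :
    IsIso ((H0 Z).map w) := by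
  have := preservesFiniteLimits_H0 Z
  have := additive_H0 Z
  let S : ShortComplex X.Modules := ShortComplex.mk w (cokernel.π w) (cokernel.condition w)
  have hS : S.ShortExact := ⟨ShortComplex.exact_of_g_is_cokernel _ (cokernelIsCokernel _)⟩
  obtain ⟨hex, hmono⟩ :=
    (Functor.preservesFiniteLimits_iff_forall_exact_map_and_mono (H0 Z)).mp inferInstance S hS
  have hQ : IsZero ((H0 Z).obj (cokernel w)) := by
    rw [isZero_H0_iff Z _ hZ]
    intro x hx
    refine ⟨fun q q' => ?_⟩
    have key : ∀ q : ↑((cokernel w).presheaf.stalk x), q = 0 := by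
      intro q
      obtain ⟨b, rfl⟩ := stalkMap_surjective_of_epi (cokernel.π w) x q
      obtain ⟨a, rfl⟩ := hw x hx b
      rw [← stalkMap_comp_apply, cokernel.condition, stalkMap_zero]
    rw [key q, key q']
  have hepi : Epi ((H0 Z).map w) := hex.epi_f (hQ.eq_of_tgt _ _)
  have hmono' : Mono ((H0 Z).map w) := hmono
  exact isIso_of_mono_of_epi _

/-- the comparison map out of the `Z`-closure is an isomorphism when the given map is bijective on
stalks outside `Z`. -/
theorem isIso_of_lift [IsLocallyNoetherian X] (hZ : StableUnderSpecialization Z)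
    (F F' : X.Modules) (hF' : IsZClosed Z F') (u : F ⟶ F')
    (hu : ∀ x : X, x ∉ Z → Function.Bijective (stalkMap u x).hom)
    (v : (H0 Z).obj F ⟶ F') (hv : rhoApp Z F ≫ v = u) : IsIso v := by
  have hG : IsIso (rhoApp Z ((H0 Z).obj F)) := isZClosed_H0 Z F
  have hF'iso : IsIso (rhoApp Z F') := hF'
  -- `v` is bijective on stalks outside `Z`
  have hvx : ∀ x : X, x ∉ Z → Function.Bijective (stalkMap v x).hom := by
    intro x hx
    have hρ := stalkMap_rhoApp_bijective Z F x hx
    have hu' := hu x hx
    rw [← hv] at hu'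
    constructor
    · intro a a' haa'
      obtain ⟨b, rfl⟩ := hρ.2 a
      obtain ⟨b', rfl⟩ := hρ.2 a'
      rw [← stalkMap_comp_apply, ← stalkMap_comp_apply] at haa'
      rw [hu'.1 haa']
    · intro c
      obtain ⟨b, hb⟩ := hu'.2 c
      exact ⟨_, by rw [← stalkMap_comp_apply]; exact hb⟩
  -- `v` is a monomorphism
  have hmono : Mono v := by
    refine Preadditive.mono_of_kernel_zero ?_
    have hK : IsZero ((H0 Z).obj (kernel v)) := by
      rw [isZero_H0_iff Z _ hZ]
      intro x hx
      refine ⟨fun a a' => ?_⟩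
      have key : ∀ a : ↑((kernel v).presheaf.stalk x), a = 0 := by
        intro a
        apply stalkMap_injective_of_mono (kernel.ι v) x
        apply (hvx x hx).1
        rw [← stalkMap_comp_apply, kernel.condition, stalkMap_zero, map_zero, map_zero]
      rw [key a, key a']
    have h1 : kernel.ι v ≫ rhoApp Z ((H0 Z).obj F) = 0 := by
      rw [rho_naturality, hK.eq_of_tgt (rhoApp Z (kernel v)) 0, zero_comp]
    rw [← cancel_mono (rhoApp Z ((H0 Z).obj F)), h1, zero_comp]
  have hiso : IsIso ((H0 Z).map v) := isIso_H0_map_of_mono Z hZ v fun x hx => (hvx x hx).2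
  have hnat := rho_naturality Z v
  have : v = (rhoApp Z ((H0 Z).obj F) ≫ (H0 Z).map v) ≫ inv (rhoApp Z F') := by
    rw [← hnat, Category.assoc, IsIso.hom_inv_id, Category.comp_id]
  rw [this]
  infer_instance

end Groth.Agent.Lib.Helper49.ZClosure
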