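import Mathlib
import Groth.Agent.Lib.Helper49.QCohColimit
import Groth.Agent.Lib.Helper49.ZClosure8
/-!
# The Z-closure of a quasi-coherent module is quasi-coherent
-/
universe u
open CategoryTheory CategoryTheory.Limits AlgebraicGeometry TopologicalSpace Opposite

namespace Groth.Agent.Lib.Helper49.ZClosure
open ZClos
variable {X : Scheme.{u}} (Z : Set X)


theorem isQuasicoherent_H0 [IsLocallyNoetherian X] (F : X.Modules) [F.IsQuasicoherent] :
    ((H0 Z).obj F).IsQuasicoherent := by
  refine isQuasicoherent_of_isColimit_filtered ((diagram Z).obj F) (colimit.cocone _)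
    (colimit.isColimit _) fun T => ?_
  have : (F.restrict T.U.ι).IsQuasicoherent := Scheme.Modules.isQuasicoherent_restrictFunctor _ _
  exact isQuasicoherent_pushforward (F.restrict T.U.ι) T.U.ι

end Groth.Agent.Lib.Helper49.ZClosure
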