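import Mathlib
import Groth.Agent.Lib.Helper49.ZClosure9
/-!
# The Z-closure `H⁰_{X/Z}` : purity and closedness are local on `X`

* `res_injective_of_basis`, `isIso_toDiagram_of_basis`: injectivity/bijectivity of the restrictions
  `Γ(V, F) → Γ(V ∩ U, F)` can be checked on a basis.
* `res_injective_of_isZPure`, `res_bijective_of_isZClosed`: for `W` affine and `U` open with
  `W ∖ U ⊆ Z`, the restriction `Γ(W, F) → Γ(W ∩ U, F)` is injective/bijective.
* `isZPure_iff_openCover`, `isZClosed_iff_openCover`.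
-/
universe u
open CategoryTheory CategoryTheory.Limits AlgebraicGeometry TopologicalSpace Opposite

namespace Groth.Agent.Lib.Helper49.ZClosure

open ZClos

variable {X : Scheme.{u}}

theorem map_injective_iff_of_eq' (F : X.Modules) {A B A' B' : X.Opens} (i : A ⟶ B) (i' : A' ⟶ B')
    (hA : A = A') (hB : B = B') :
    Function.Injective (F.presheaf.map i.op) ↔ Function.Injective (F.presheaf.map i'.op) := by
  subst hA; subst hB
  rw [Subsingleton.elim i i']

theorem map_bijective_iff_of_eq' (F : X.Modules) {A B A' B' : X.Opens} (i : A ⟶ B) (i' : A' ⟶ B')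
    (hA : A = A') (hB : B = B') :
    Function.Bijective (F.presheaf.map i.op) ↔ Function.Bijective (F.presheaf.map i'.op) := by
  subst hA; subst hB
  rw [Subsingleton.elim i i']

variable (F : X.Modules)

/-- injectivity of the restriction maps `Γ(V, F) → Γ(V ∩ U, F)` can be checked locally. -/
theorem res_injective_of_basis (U : X.Opens)
    (h : ∀ (x : X) (V : X.Opens), x ∈ V → ∃ W : X.Opens, W ≤ V ∧ x ∈ W ∧
      Function.Injective (F.presheaf.map (homOfLE (inf_le_left : W ⊓ U ≤ W)).op))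
    (V : X.Opens) : Function.Injective (F.presheaf.map (homOfLE (inf_le_left : V ⊓ U ≤ V)).op) := by
  rw [injective_iff_map_eq_zero]
  intro s hs
  refine Helper45.section_ext_germ F V s 0 fun x hx => ?_
  obtain ⟨W, hWV, hxW, hW⟩ := h x V hx
  have h1 : F.presheaf.map (homOfLE (inf_le_left : W ⊓ U ≤ W)).op
      (F.presheaf.map (homOfLE hWV).op s) = 0 := by
    rw [res_res]
    have : (inf_le_left : W ⊓ U ≤ W).trans hWV =
        (inf_le_inf_right U hWV : W ⊓ U ≤ V ⊓ U).trans inf_le_left := rfl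
    rw [← res_res F (inf_le_left : V ⊓ U ≤ V) (inf_le_inf_right U hWV), hs, map_zero]
  have h2 := (injective_iff_map_eq_zero _).mp hW _ h1
  rw [map_zero, ← TopCat.Presheaf.germ_res_apply F.presheaf (homOfLE hWV) x hxW s, h2, map_zero]

variable (Z : Set X)

theorem isIso_toDiagram_iff_forall (T : Cl Z) : IsIso (toDiagram Z F T) ↔
    ∀ V : X.Opens,
      Function.Bijective (F.presheaf.map (homOfLE (inf_le_left : V ⊓ T.U ≤ V)).op) := by
  constructor
  · intro h V
    rw [map_bijective_iff_of_eq F inf_le_left (T.U.ι.image_preimage_le V) (inf_U_eq Z T V)]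
    have h1 : IsIso ((toDiagram Z F T).app V) := Scheme.Modules.Hom.isIso_iff_isIso_app.mp h V
    exact (ConcreteCategory.isIso_iff_bijective _).mp h1
  · intro h
    exact (isIso_toDiagram_iff_compact Z F T).mpr fun V _ => h V

/-- bijectivity of the restriction maps `Γ(V, F) → Γ(V ∖ T, F)` can be checked locally. -/
theorem isIso_toDiagram_of_basis (T : Cl Z)
    (h : ∀ (x : X) (V : X.Opens), x ∈ V → ∃ W : X.Opens, W ≤ V ∧ x ∈ W ∧
      Function.Bijective (F.presheaf.map (homOfLE (inf_le_left : W ⊓ T.U ≤ W)).op)) :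
    IsIso (toDiagram Z F T) := by
  have hmono : Mono (toDiagram Z F T) := by
    rw [mono_toDiagram_iff]
    refine res_injective_of_basis F T.U fun x V hx => ?_
    obtain ⟨W, hWV, hxW, hW⟩ := h x V hx
    exact ⟨W, hWV, hxW, hW.1⟩
  refine isIso_of_stalkMap_bijective _ fun x => ⟨stalkMap_injective_of_mono _ x, fun c => ?_⟩
  obtain ⟨V, hxV, t, rfl⟩ := TopCat.Presheaf.exists_germ_eq _ c
  obtain ⟨W, hWV, hxW, hbij⟩ := h x V hxV
  rw [map_bijective_iff_of_eq F inf_le_left (T.U.ι.image_preimage_le W) (inf_U_eq Z T W)] at hbij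
  obtain ⟨s, hs⟩ := hbij.2 ((((diagram Z).obj F).obj T).presheaf.map (homOfLE hWV).op t)
  have hs' : (toDiagram Z F T).app W s =
      (((diagram Z).obj F).obj T).presheaf.map (homOfLE hWV).op t := hs
  refine ⟨F.presheaf.germ W x hxW s, ?_⟩
  rw [stalkMap_germ, hs', TopCat.Presheaf.germ_res_apply]

variable {Z} {F}

/-- an index containing a given relatively closed subset of a Noetherian open. -/
theorem exists_cl_of_diff_subset [IsLocallyNoetherian X] (hZ : StableUnderSpecialization Z)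
    {W : X.Opens} (hW : IsAffineOpen W) (U : X.Opens) (hU : (W : Set X) \ (U : Set X) ⊆ Z) :
    ∃ T : Cl Z, W ⊓ T.U ≤ W ⊓ U := by
  have := noetherianSpace_of_le_affine hW le_rfl
  have := quasiSober_opens W
  have hcl : IsClosed ((↑) ⁻¹' ((W : Set X) \ (U : Set X)) : Set ↥(W : Set X)) := by
    have : ((↑) ⁻¹' ((W : Set X) \ (U : Set X)) : Set ↥(W : Set X)) =
        ((↑) ⁻¹' (U : Set X))ᶜ := by
      ext w
      simp only [Set.mem_preimage, Set.mem_sdiff, Set.mem_compl_iff]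
      exact ⟨fun h => h.2, fun h => ⟨w.2, h⟩⟩
    rw [this]
    exact isClosed_compl_iff.mpr (U.2.preimage continuous_subtype_val)
  obtain ⟨T₁, hT₁, hT₁Z, hST₁⟩ := exists_isClosed_subset_of_stableUnderSpecialization hZ
    (W : Set X) ((W : Set X) \ (U : Set X)) Set.sdiff_subset hcl hU
  refine ⟨⟨⟨T₁, hT₁⟩, hT₁Z⟩, ?_⟩
  rintro x ⟨hxW, hxT⟩
  refine ⟨hxW, ?_⟩
  by_contra hxU
  exact hxT (hST₁ ⟨hxW, hxU⟩)

/-- for a `Z`-pure module, `W` affine and `U` open with `W ∖ U ⊆ Z`, the restriction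
`Γ(W, F) → Γ(W ∩ U, F)` is injective. -/
theorem res_injective_of_isZPure [IsLocallyNoetherian X] (hZ : StableUnderSpecialization Z)
    (h : IsZPure Z F) {W : X.Opens} (hW : IsAffineOpen W) (U : X.Opens)
    (hU : (W : Set X) \ (U : Set X) ⊆ Z) :
    Function.Injective (F.presheaf.map (homOfLE (inf_le_left : W ⊓ U ≤ W)).op) := by
  obtain ⟨T, hT⟩ := exists_cl_of_diff_subset hZ hW U hU
  have h1 := (mono_toDiagram_iff Z F T).mp ((isZPure_iff Z F).mp h T) W
  have h2 : (F.presheaf.map (homOfLE (inf_le_left : W ⊓ T.U ≤ W)).op : Γ(F, W) → _) =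
      (F.presheaf.map (homOfLE hT).op) ∘ (F.presheaf.map (homOfLE (inf_le_left : W ⊓ U ≤ W)).op) := by
    funext s
    exact (res_res F _ _ s).symm
  rw [h2] at h1
  exact h1.of_comp

/-- for a `Z`-closed module, `W` affine and `U` open with `W ∖ U ⊆ Z`, the restriction
`Γ(W, F) → Γ(W ∩ U, F)` is bijective. -/
theorem res_bijective_of_isZClosed [IsLocallyNoetherian X] (hZ : StableUnderSpecialization Z)
    (h : IsZClosed Z F) {W : X.Opens} (hW : IsAffineOpen W) (U : X.Opens)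
    (hU : (W : Set X) \ (U : Set X) ⊆ Z) :
    Function.Bijective (F.presheaf.map (homOfLE (inf_le_left : W ⊓ U ≤ W)).op) := by
  obtain ⟨T, hT⟩ := exists_cl_of_diff_subset hZ hW U hU
  have hiso := (isZClosed_iff Z F).mp h T
  have hpure : Mono (toDiagram Z F T) := by infer_instance
  have h1 := (isIso_toDiagram_iff_forall F Z T).mp hiso W
  have h2 : (F.presheaf.map (homOfLE (inf_le_left : W ⊓ T.U ≤ W)).op : Γ(F, W) → _) =
      (F.presheaf.map (homOfLE hT).op) ∘ (F.presheaf.map (homOfLE (inf_le_left : W ⊓ U ≤ W)).op) := by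
    funext s
    exact (res_res F _ _ s).symm
  have h3 : Function.Injective (F.presheaf.map (homOfLE hT).op) := by
    have h4 := (mono_toDiagram_iff Z F T).mp hpure (W ⊓ U)
    refine (map_injective_iff_of_eq' F _ _ ?_ rfl).mp h4
    exact le_antisymm (le_inf (inf_le_left.trans inf_le_left) inf_le_right)
      (le_inf hT (inf_le_right))
  rw [h2] at h1
  refine ⟨h1.1.of_comp, fun t => ?_⟩
  obtain ⟨s, hs⟩ := h1.2 (F.presheaf.map (homOfLE hT).op t)
  exact ⟨s, h3 hs⟩

section Restrict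

variable (U : X.Opens)

/-- the restriction maps of `F|_U` are those of `F`. -/
theorem restrict_res_injective_iff (F : X.Modules) (V' U' : U.toScheme.Opens) (W₀ : X.Opens)
    (h : U.ι ''ᵁ (V' ⊓ U') = U.ι ''ᵁ V' ⊓ W₀) :
    Function.Injective
        (((Scheme.Modules.restrictFunctor U.ι).obj F).presheaf.map
          (homOfLE (inf_le_left : V' ⊓ U' ≤ V')).op) ↔
      Function.Injective
        (F.presheaf.map (homOfLE (inf_le_left : U.ι ''ᵁ V' ⊓ W₀ ≤ U.ι ''ᵁ V')).op) :=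
  map_injective_iff_of_eq' F (U.ι.opensFunctor.map (homOfLE (inf_le_left : V' ⊓ U' ≤ V')))
    (homOfLE inf_le_left) h rfl

theorem restrict_res_bijective_iff (F : X.Modules) (V' U' : U.toScheme.Opens) (W₀ : X.Opens)
    (h : U.ι ''ᵁ (V' ⊓ U') = U.ι ''ᵁ V' ⊓ W₀) :
    Function.Bijective
        (((Scheme.Modules.restrictFunctor U.ι).obj F).presheaf.map
          (homOfLE (inf_le_left : V' ⊓ U' ≤ V')).op) ↔
      Function.Bijective
        (F.presheaf.map (homOfLE (inf_le_left : U.ι ''ᵁ V' ⊓ W₀ ≤ U.ι ''ᵁ V')).op) :=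
  map_bijective_iff_of_eq' F (U.ι.opensFunctor.map (homOfLE (inf_le_left : V' ⊓ U' ≤ V')))
    (homOfLE inf_le_left) h rfl

/-- the index of `U` induced by an index of `X`. -/
def clPreimage (T : Cl Z) : Cl (X := U.toScheme) (U.ι.base ⁻¹' Z) :=
  ⟨⟨U.ι.base ⁻¹' (T.1 : Set X), T.1.2.preimage U.ι.continuous⟩, fun _ hx => T.2 hx⟩

theorem image_inf_clPreimage_U (T : Cl Z) (V' : U.toScheme.Opens) :
    U.ι ''ᵁ (V' ⊓ (clPreimage U T).U) = U.ι ''ᵁ V' ⊓ T.U := by
  ext x
  constructor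
  · rintro ⟨y, ⟨hyV, hyT⟩, rfl⟩
    exact ⟨⟨y, hyV, rfl⟩, hyT⟩
  · rintro ⟨⟨y, hyV, rfl⟩, hyT⟩
    exact ⟨y, ⟨hyV, hyT⟩, rfl⟩

theorem image_inf_image (V' U' : U.toScheme.Opens) :
    U.ι ''ᵁ (V' ⊓ U') = U.ι ''ᵁ V' ⊓ U.ι ''ᵁ U' := by
  ext x
  constructor
  · rintro ⟨y, ⟨hyV, hyT⟩, rfl⟩
    exact ⟨⟨y, hyV, rfl⟩, ⟨y, hyT, rfl⟩⟩
  · rintro ⟨⟨y, hyV, rfl⟩, ⟨y', hyT, hyy'⟩⟩
    have : y' = y := U.ι.isOpenEmbedding.injective hyy'
    subst this
    exact ⟨y', ⟨hyV, hyT⟩, rfl⟩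

theorem image_diff_subset (T' : Cl (X := U.toScheme) (U.ι.base ⁻¹' Z)) (V' : U.toScheme.Opens) :
    ((U.ι ''ᵁ V' : X.Opens) : Set X) \ ((U.ι ''ᵁ T'.U : X.Opens) : Set X) ⊆ Z := by
  rintro x ⟨⟨y, hyV, rfl⟩, hx⟩
  have hyT : y ∈ (T'.1 : Set U.toScheme) := by
    by_contra hyT
    exact hx ⟨y, hyT, rfl⟩
  exact T'.2 hyT

end Restrict

/-- **Z-purity is local on `X`.** -/
theorem isZPure_iff_openCover [IsLocallyNoetherian X] (hZ : StableUnderSpecialization Z)
    (F : X.Modules) {ι : Type u} (V : ι → X.Opens) (hV : iSup V = ⊤) :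
    IsZPure Z F ↔
      ∀ i, IsZPure ((V i).ι.base ⁻¹' Z) ((Scheme.Modules.restrictFunctor (V i).ι).obj F) := by
  constructor
  · intro h i
    rw [isZPure_iff]
    intro T'
    rw [mono_toDiagram_iff]
    refine res_injective_of_basis _ _ fun x V₀ hx => ?_
    obtain ⟨_, ⟨W, hW : IsAffineOpen W, rfl⟩, hxW, hWV⟩ :=
      (V i).toScheme.isBasis_affineOpens.exists_subset_of_mem_open hx V₀.2
    refine ⟨W, hWV, hxW, ?_⟩
    rw [restrict_res_injective_iff (V i) F W T'.U _ (image_inf_image (V i) W T'.U)]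
    exact res_injective_of_isZPure hZ h (hW.image_of_isOpenImmersion (V i).ι) _
      (image_diff_subset (V i) T' W)
  · intro h
    rw [isZPure_iff]
    intro T
    rw [mono_toDiagram_iff]
    refine res_injective_of_basis _ _ fun x V₀ hx => ?_
    have hx' : x ∈ iSup V := by rw [hV]; trivial
    obtain ⟨i, hi⟩ := Opens.mem_iSup.mp hx'
    refine ⟨(V i).ι ''ᵁ (V i).ι ⁻¹ᵁ V₀, (V i).ι.image_preimage_le V₀, ⟨⟨x, hi⟩, hx, rfl⟩, ?_⟩
    rw [← restrict_res_injective_iff (V i) F ((V i).ι ⁻¹ᵁ V₀) (clPreimage (V i) T).U _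
      (image_inf_clPreimage_U (V i) T _)]
    exact (mono_toDiagram_iff _ _ _).mp ((isZPure_iff _ _).mp (h i) (clPreimage (V i) T)) _

/-- **Z-closedness is local on `X`.** -/
theorem isZClosed_iff_openCover [IsLocallyNoetherian X] (hZ : StableUnderSpecialization Z)
    (F : X.Modules) {ι : Type u} (V : ι → X.Opens) (hV : iSup V = ⊤) :
    IsZClosed Z F ↔
      ∀ i, IsZClosed ((V i).ι.base ⁻¹' Z) ((Scheme.Modules.restrictFunctor (V i).ι).obj F) := by
  constructor
  · intro h i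
    rw [isZClosed_iff]
    intro T'
    refine isIso_toDiagram_of_basis _ _ _ fun x V₀ hx => ?_
    obtain ⟨_, ⟨W, hW : IsAffineOpen W, rfl⟩, hxW, hWV⟩ :=
      (V i).toScheme.isBasis_affineOpens.exists_subset_of_mem_open hx V₀.2
    refine ⟨W, hWV, hxW, ?_⟩
    rw [restrict_res_bijective_iff (V i) F W T'.U _ (image_inf_image (V i) W T'.U)]
    exact res_bijective_of_isZClosed hZ h (hW.image_of_isOpenImmersion (V i).ι) _
      (image_diff_subset (V i) T' W)
  · intro h
    rw [isZClosed_iff]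
    intro T
    refine isIso_toDiagram_of_basis _ _ _ fun x V₀ hx => ?_
    have hx' : x ∈ iSup V := by rw [hV]; trivial
    obtain ⟨i, hi⟩ := Opens.mem_iSup.mp hx'
    refine ⟨(V i).ι ''ᵁ (V i).ι ⁻¹ᵁ V₀, (V i).ι.image_preimage_le V₀, ⟨⟨x, hi⟩, hx, rfl⟩, ?_⟩
    rw [← restrict_res_bijective_iff (V i) F ((V i).ι ⁻¹ᵁ V₀) (clPreimage (V i) T).U _
      (image_inf_clPreimage_U (V i) T _)]
    exact (isIso_toDiagram_iff_forall _ _ _).mp ((isZClosed_iff _ _).mp (h i) (clPreimage (V i) T)) _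

end Groth.Agent.Lib.Helper49.ZClosure
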