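import Mathlib
import Groth.Agent.Lib.Helper49.ZClosure10
import Groth.Agent.Lib.Helper49.CohNoeth
import Groth.Agent.Lib.Helper45.AssPoint
import Groth.Prelude.Def_FDesc
/-!
# Modules without associated points in `Z` are `Z`-pure; coherence of `j_*(F|_{X∖T})`
-/
universe u
open CategoryTheory CategoryTheory.Limits AlgebraicGeometry TopologicalSpace Opposite

namespace Groth.Agent.Lib.Helper49.ZClosure
open ZClos
variable {X : Scheme.{u}}

/-- If the open `U` contains all weakly associated points of the quasi-coherent module `F`, then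
the restriction maps `Γ(V, F) → Γ(V ∩ U, F)` are injective. -/
theorem res_injective_of_weakAss (F : X.Modules) [F.IsQuasicoherent] (U : X.Opens)
    (hU : ∀ x : X, Curv2.IsWeakAssPoint F x → x ∈ U) (V : X.Opens) :
    Function.Injective (F.presheaf.map (homOfLE (inf_le_left : V ⊓ U ≤ V)).op) := by
  rw [injective_iff_map_eq_zero]
  intro s hs
  refine Helper45.section_ext_germ F V s 0 fun x hx => ?_
  rw [map_zero]
  obtain ⟨_, ⟨W, hW : IsAffineOpen W, rfl⟩, hxW, hWV⟩ :=
    X.isBasis_affineOpens.exists_subset_of_mem_open hx V.2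
  have hWV' : W ≤ V := hWV
  have hm : F.presheaf.map (homOfLE hWV').op s = 0 := by
    by_contra hne
    obtain ⟨p, hp, hle⟩ := Helper45.exists_mem_weakAss_of_ne_zero (R := Γ(X, W)) hne
    have hpP : p.IsPrime := Helper45.isPrime_of_mem_weakAss hp
    obtain ⟨y, hy⟩ := Helper45.exists_primeIdealOf_eq hW ⟨p, hpP⟩
    have hyp : (hW.primeIdealOf y).asIdeal = p := congrArg PrimeSpectrum.asIdeal hy
    have hw : Curv2.IsWeakAssPoint F (y : X) := by
      rw [Helper45.isWeakAssPoint_iff_of_isAffineOpen hW F y, hyp]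
      exact hp
    have hyU : (y : X) ∈ U := hU _ hw
    have hyVU : (y : X) ∈ V ⊓ U := ⟨hWV' y.2, hyU⟩
    have hgerm : F.presheaf.germ W y y.2 (F.presheaf.map (homOfLE hWV').op s) = 0 := by
      rw [TopCat.Presheaf.germ_res_apply,
        ← TopCat.Presheaf.germ_res_apply F.presheaf
          (homOfLE (inf_le_left : V ⊓ U ≤ V)) (y : X) hyVU s, hs, map_zero]
    let _ := Helper45.stalkModuleSections F y
    have hloc := Helper45.isLocalizedModule_germₗ hW F y
    have h0 : Helper45.germₗ F y (F.presheaf.map (homOfLE hWV').op s) = 0 := hgerm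
    obtain ⟨t, ht⟩ := (IsLocalizedModule.eq_zero_iff (hW.primeIdealOf y).asIdeal.primeCompl
      (Helper45.germₗ F y)).mp h0
    have htp : (t : Γ(X, W)) ∈ p := hle (Helper45.mem_annEl.mpr ht)
    exact t.2 (hyp ▸ htp)
  rw [← TopCat.Presheaf.germ_res_apply F.presheaf (homOfLE hWV') x hxW s, hm, map_zero]

variable (Z : Set X) (F : X.Modules)

/-- A quasi-coherent module none of whose associated points lies in `Z` is `Z`-pure. -/
theorem isZPure_of_ass [F.IsQuasicoherent] (hass : ∀ x ∈ AssSch.Ass F, x ∉ Z) : IsZPure Z F := by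
  rw [isZPure_iff]
  intro T
  rw [mono_toDiagram_iff]
  intro V
  refine res_injective_of_weakAss F T.U (fun x hx => ?_) V
  exact mem_U_of_not_mem Z (hass x ((Helper45.isAssPoint_iff_isWeakAssPoint F x).mpr hx)) T

/-- For a `Z`-pure module the maps `j_{T*}(F|_{X∖T}) ⟶ H⁰_{X/Z}(F)` are monomorphisms. -/
theorem mono_colimit_ι (h : IsZPure Z F) (T : Cl Z) :
    Mono (colimit.ι ((diagram Z).obj F) T) := by
  have h0 : ∀ (j j' : Cl Z) (φ : j ⟶ j'), Mono (((diagram Z).obj F).map φ) :=
    fun j j' φ => mono_transition Z F h φ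
  have h1 : HasExactColimitsOfShape (Under T) X.Modules :=
    sheafOfModules_hasExactColimitsOfShape X.ringCatSheaf (Under T)
  have h3 : PreservesFiniteLimits (colim : (Under T ⥤ X.Modules) ⥤ X.Modules) :=
    h1.preservesFiniteLimits
  have h4 : (colim : (Under T ⥤ X.Modules) ⥤ X.Modules).PreservesMonomorphisms :=
    inferInstance
  exact IsColimit.mono_ι_app_of_isFiltered (colimit.isColimit ((diagram Z).obj F)) T

/-- a) ⇒ d): if `F` is coherent with no associated point in `Z` and `H⁰_{X/Z}(F)` is coherent,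
then every `j_{T*}(F|_{X∖T})` is coherent. -/
theorem isCoh_resPush_of_isCoh_H0 [IsLocallyNoetherian X] (hF : Coh.IsCoh F)
    (hass : ∀ x ∈ AssSch.Ass F, x ∉ Z) (hH : Coh.IsCoh ((ZClos.H0 Z).obj F)) (T : ZClos.Cl Z) :
    Coh.IsCoh ((ZClos.resPush T.U).obj F) := by
  have hq : F.IsQuasicoherent := hF.1
  have hpure : IsZPure Z F := isZPure_of_ass Z F hass
  have hmono : Mono (colimit.ι ((diagram Z).obj F) T) := mono_colimit_ι Z F hpure T
  have hqr : (F.restrict T.U.ι).IsQuasicoherent :=
    Scheme.Modules.isQuasicoherent_restrictFunctor _ _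
  have hqp : ((ZClos.resPush T.U).obj F).IsQuasicoherent :=
    isQuasicoherent_pushforward (F.restrict T.U.ι) T.U.ι
  have hqH : ((ZClos.H0 Z).obj F).IsQuasicoherent := hH.1
  refine ⟨hqp, ?_⟩
  exact @isFiniteType_of_mono X _ ((ZClos.resPush T.U).obj F) ((ZClos.H0 Z).obj F)
    (colimit.ι ((diagram Z).obj F) T) hmono hqp hqH hH.2

end Groth.Agent.Lib.Helper49.ZClosure
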