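import Mathlib
import Groth.Agent.Lib.Helper49.ZClosure11
import Groth.Agent.Lib.Helper49.SectionsColimit
import Groth.Agent.Lib.Helper45.AffinePoints
/-!
# Coherence of `H⁰_{X/Z}(F)` forces codimension `≥ 2` of `Z` in the closures of associated points
-/
universe u
open CategoryTheory CategoryTheory.Limits AlgebraicGeometry TopologicalSpace Opposite

namespace Groth.Agent.Lib.Helper49.ZClosure
open ZClos


/-- In a Noetherian module, if `r` is infinitely `f`-divisible through `s n` (`f ^ n • s n = r`),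
then `(1 - f a) r = 0` for some `a`. -/
theorem exists_one_sub_mul_smul_eq_zero {A N : Type*} [CommRing A] [AddCommGroup N] [Module A N]
    [IsNoetherian A N] (f : A) (r : N) (s : ℕ → N) (hs : ∀ n, f ^ n • s n = r) :
    ∃ a : A, (1 - f * a) • r = 0 := by
  let L : ℕ →o Submodule A N :=
    ⟨fun n => Submodule.span A (s '' Set.Iic n), fun n m hnm =>
      Submodule.span_mono (Set.image_mono (Set.Iic_subset_Iic.mpr hnm))⟩
  obtain ⟨n₀, hn₀⟩ := monotone_stabilizes_iff_noetherian.mpr (inferInstance : IsNoetherian A N) L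
  have h1 : s (n₀ + 1) ∈ L n₀ := by
    rw [hn₀ (n₀ + 1) (Nat.le_succ n₀)]
    exact Submodule.subset_span ⟨n₀ + 1, Set.mem_Iic.mpr le_rfl, rfl⟩
  have h2 : ∀ z ∈ L n₀, ∃ a : A, f ^ n₀ • z = a • r := by
    intro z hz
    induction hz using Submodule.span_induction with
    | mem z hz =>
      obtain ⟨i, hi, rfl⟩ := hz
      have hi' : i ≤ n₀ := hi
      refine ⟨f ^ (n₀ - i), ?_⟩
      rw [← hs i, smul_smul, ← pow_add, Nat.sub_add_cancel hi']
    | zero => exact ⟨0, by rw [smul_zero, zero_smul]⟩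
    | add z w _ _ hz hw =>
      obtain ⟨a, ha⟩ := hz
      obtain ⟨b, hb⟩ := hw
      exact ⟨a + b, by rw [smul_add, ha, hb, add_smul]⟩
    | smul c z _ hz =>
      obtain ⟨a, ha⟩ := hz
      exact ⟨c * a, by rw [smul_comm, ha, smul_smul]⟩
  obtain ⟨a, ha⟩ := h2 _ h1
  refine ⟨a, ?_⟩
  have h3 : r = (f * a) • r := by
    conv_lhs => rw [← hs (n₀ + 1), pow_succ', mul_smul, ha, smul_smul]
  rw [sub_smul, one_smul, ← h3, sub_self]

/-- In a Noetherian quasi-sober space, if `y` lies in the closed set `C` and every point of `C`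
specializing to `y` is a specialization of `y`, then near `y` the set `C` is contained in the
closure of `y`. -/
theorem exists_open_nhd_subset_closure {α : Type*} [TopologicalSpace α] [NoetherianSpace α]
    [QuasiSober α] (C : Set α) (hC : IsClosed C) (y : α)
    (h : ∀ η ∈ C, η ⤳ y → y ⤳ η) :
    ∃ O : Set α, IsOpen O ∧ y ∈ O ∧ ∀ z ∈ C, z ∈ O → y ⤳ z := by
  obtain ⟨S, hSf, hS, hCS⟩ := NoetherianSpace.exists_finite_set_closeds_irreducible ⟨C, hC⟩
  let S' : Set (Closeds α) := {t ∈ S | y ∉ (t : Set α)}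
  have hS'f : S'.Finite := hSf.subset (Set.sep_subset _ _)
  refine ⟨(⋃ t ∈ S', (t : Set α))ᶜ, ?_, ?_, ?_⟩
  · rw [isOpen_compl_iff]
    exact hS'f.isClosed_biUnion fun t _ => t.2
  · rw [Set.mem_compl_iff, Set.mem_iUnion₂]
    rintro ⟨t, ht, hyt⟩
    exact ht.2 hyt
  · intro z hzC hzO
    have hcoe : ((sSup S : Closeds α) : Set α) = ⋃ t ∈ S, (t : Set α) := by
      rw [Closeds.coe_sSup, Set.sUnion_image]
      exact (hSf.isClosed_biUnion fun t _ => t.2).closure_eq
    have hz : z ∈ ((sSup S : Closeds α) : Set α) := by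
      rw [← hCS]; exact hzC
    rw [hcoe] at hz
    obtain ⟨t, ht, hzt⟩ := Set.mem_iUnion₂.mp hz
    have hyt : y ∈ (t : Set α) := by
      by_contra hyt
      exact hzO (Set.mem_iUnion₂.mpr ⟨t, ⟨ht, hyt⟩, hzt⟩)
    obtain ⟨η, hη⟩ := QuasiSober.sober (hS t ht) t.2
    have hηt : η ∈ (t : Set α) := hη.mem
    have hηC : η ∈ C := by
      have : (t : Set α) ⊆ ((sSup S : Closeds α) : Set α) := by
        rw [hcoe]
        exact Set.subset_iUnion₂ (s := fun (t : Closeds α) (_ : t ∈ S) => (t : Set α)) t ht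
      have h' := this hηt
      rw [← hCS] at h'
      exact h'
    have hηy : η ⤳ y := hη.specializes hyt
    have hyη : y ⤳ η := h η hηC hηy
    exact hyη.trans (hη.specializes hzt)


variable {X : Scheme.{u}}

attribute [local instance] Helper45.stalkModuleSections



/-- The prime of `O_{X,y}` attached to a generization `z` of `y`. -/
noncomputable def genPrime {z y : X} (h : z ⤳ y) : Ideal (X.presheaf.stalk y) :=
  (IsLocalRing.maximalIdeal (X.presheaf.stalk z)).comap (X.presheaf.stalkSpecializes h).hom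

instance {z y : X} (h : z ⤳ y) : (genPrime h).IsPrime := by
  unfold genPrime; infer_instance

theorem genPrime_le {z w y : X} (h1 : z ⤳ w) (h2 : w ⤳ y) :
    genPrime (h1.trans h2) ≤ genPrime h2 := by
  intro a ha
  by_contra hb
  have hb' : IsUnit ((X.presheaf.stalkSpecializes h2).hom a) := by
    by_contra hnu
    exact hb ((IsLocalRing.mem_maximalIdeal _).mpr hnu)
  have h3 : (X.presheaf.stalkSpecializes (h1.trans h2)).hom a =
      (X.presheaf.stalkSpecializes h1).hom ((X.presheaf.stalkSpecializes h2).hom a) := by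
    rw [← TopCat.Presheaf.stalkSpecializes_comp X.presheaf h1 h2]; rfl
  have h4 : IsUnit ((X.presheaf.stalkSpecializes (h1.trans h2)).hom a) := by
    rw [h3]; exact hb'.map _
  exact ((IsLocalRing.mem_maximalIdeal _).mp ha) h4

theorem genPrime_refl (y : X) : genPrime (specializes_refl y) =
    IsLocalRing.maximalIdeal (X.presheaf.stalk y) := by
  unfold genPrime
  rw [TopCat.Presheaf.stalkSpecializes_refl]
  rfl

theorem comap_germ_genPrime {W : X.Opens} (hW : IsAffineOpen W) {z y : X} (h : z ⤳ y)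
    (hy : y ∈ W) :
    (genPrime h).comap (X.presheaf.germ W y hy).hom =
      (hW.primeIdealOf ⟨z, h.mem_open W.isOpen hy⟩).asIdeal := by
  ext a
  have hz : z ∈ W := h.mem_open W.isOpen hy
  have h1 : (X.presheaf.stalkSpecializes h).hom ((X.presheaf.germ W y hy).hom a) =
      (X.presheaf.germ W z hz).hom a := by
    rw [← TopCat.Presheaf.germ_stalkSpecializes X.presheaf hy h]; rfl
  rw [Ideal.mem_comap]
  change (X.presheaf.stalkSpecializes h).hom ((X.presheaf.germ W y hy).hom a) ∈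
    IsLocalRing.maximalIdeal _ ↔ _
  rw [h1, IsLocalRing.mem_maximalIdeal, mem_nonunits_iff]
  have h2 := Helper45.mem_basicOpen_iff_not_mem_primeIdealOf hW (x := ⟨z, hz⟩) a
  rw [X.mem_basicOpen a z hz] at h2
  rw [← not_iff_not, not_not, ← h2]

theorem genPrime_injective {z w y : X} (h1 : z ⤳ y) (h2 : w ⤳ y) (h : genPrime h1 = genPrime h2) :
    z = w := by
  obtain ⟨_, ⟨W, hW : IsAffineOpen W, rfl⟩, hyW, -⟩ :=
    X.isBasis_affineOpens.exists_subset_of_mem_open (Set.mem_univ y) isOpen_univ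
  have h3 := comap_germ_genPrime hW h1 hyW
  rw [h, comap_germ_genPrime hW h2 hyW] at h3
  have h4 := Helper45.primeIdealOf_injective hW (PrimeSpectrum.ext h3)
  exact (congrArg Subtype.val h4).symm

/-- An intermediate point between `x` and its specialization `y` shows that the closure of `y`
has codimension at least two in the closure of `x`. -/
theorem two_le_ringKrullDim_quotient {x η y : X} (h1 : x ⤳ η) (h2 : η ⤳ y) (hne1 : x ≠ η)
    (hne2 : η ≠ y) (h : x ⤳ y) :
    (2 : WithBot ℕ∞) ≤ ringKrullDim (X.presheaf.stalk y ⧸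
      (IsLocalRing.maximalIdeal (X.presheaf.stalk x)).comap
        (X.presheaf.stalkSpecializes h).hom) := by
  change (2 : WithBot ℕ∞) ≤ ringKrullDim (X.presheaf.stalk y ⧸ genPrime h)
  rw [ringKrullDim_quotient]
  have hle1 : genPrime h ≤ genPrime h2 := genPrime_le h1 h2
  have hle2 : genPrime h2 ≤ genPrime (specializes_refl y) := genPrime_le h2 (specializes_refl y)
  have hlt1 : genPrime h < genPrime h2 :=
    lt_of_le_of_ne hle1 fun e => hne1 (genPrime_injective h h2 e)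
  have hlt2 : genPrime h2 < genPrime (specializes_refl y) :=
    lt_of_le_of_ne hle2 fun e => hne2 (genPrime_injective h2 (specializes_refl y) e)
  let a : PrimeSpectrum.zeroLocus (R := X.presheaf.stalk y) (genPrime h) :=
    ⟨⟨genPrime h, inferInstance⟩, (PrimeSpectrum.mem_zeroLocus _ _).mpr
      (SetLike.coe_subset_coe.mpr le_rfl)⟩
  let b : PrimeSpectrum.zeroLocus (R := X.presheaf.stalk y) (genPrime h) :=
    ⟨⟨genPrime h2, inferInstance⟩, (PrimeSpectrum.mem_zeroLocus _ _).mpr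
      (SetLike.coe_subset_coe.mpr hle1)⟩
  let c : PrimeSpectrum.zeroLocus (R := X.presheaf.stalk y) (genPrime h) :=
    ⟨⟨genPrime (specializes_refl y), inferInstance⟩, (PrimeSpectrum.mem_zeroLocus _ _).mpr
      (SetLike.coe_subset_coe.mpr (hle1.trans hle2))⟩
  have hab : a < b := hlt1
  have hbc : b < c := hlt2
  have key : ((2 : ℕ) : WithBot ℕ∞) ≤
      Order.krullDim (PrimeSpectrum.zeroLocus (R := X.presheaf.stalk y) (genPrime h)) := by
    rw [Order.le_krullDim_iff]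
    refine ⟨LTSeries.mk 2 ![a, b, c] ?_, rfl⟩
    rw [Fin.strictMono_iff_lt_succ]
    intro i
    fin_cases i
    · exact hab
    · exact hbc
  exact key





/-- An associated point `x` of a quasi-coherent module on a locally Noetherian scheme, in an affine
open `W`: some section of `F` over `W` has annihilator exactly the prime of `x`. -/
theorem exists_ann_eq_primeIdealOf [IsLocallyNoetherian X] (F : X.Modules) [F.IsQuasicoherent]
    {W : X.Opens} (hW : IsAffineOpen W) (x : W) (hx : Curv2.IsAssPoint F (x : X)) :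
    ∃ m : Γ(F, W), ∀ a : Γ(X, W), a • m = 0 ↔ a ∈ (hW.primeIdealOf x).asIdeal := by
  have hN : IsNoetherianRing Γ(X, W) := IsLocallyNoetherian.component_noetherian ⟨W, hW⟩
  have hloc := hW.isLocalization_stalk x
  have hlocM := Helper45.isLocalizedModule_germₗ hW F x
  have h1 : IsLocalRing.maximalIdeal (X.presheaf.stalk (x : X)) ∈
      associatedPrimes (X.presheaf.stalk (x : X)) (F.presheaf.stalk (x : X)) := hx
  have hcomap : (IsLocalRing.maximalIdeal (X.presheaf.stalk (x : X))).comap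
      (algebraMap Γ(X, W) (X.presheaf.stalk (x : X))) = (hW.primeIdealOf x).asIdeal :=
    IsLocalization.AtPrime.under_maximalIdeal (X.presheaf.stalk (x : X))
      (hW.primeIdealOf x).asIdeal
  have h2 := Module.associatedPrimes.comap_mem_associatedPrimes_of_mem_associatedPrimes_of_isLocalizedModule_of_fg
    (hW.primeIdealOf x).asIdeal.primeCompl (Helper45.germₗ F x)
    (IsLocalRing.maximalIdeal (X.presheaf.stalk (x : X))) h1
    ((isNoetherianRing_iff_ideal_fg _).mp hN _)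
  rw [hcomap] at h2
  obtain ⟨-, m, hm⟩ := (isAssociatedPrime_iff (R := Γ(X, W))).mp h2
  refine ⟨m, fun a => ?_⟩
  rw [hm, Submodule.mem_colon_singleton, Submodule.mem_bot]

/-- A section of `F` over the affine open `W` killed by the prime of `x` vanishes away from the
closure of `x`. -/
theorem res_eq_zero_of_ann (F : X.Modules) [F.IsQuasicoherent]
    {W : X.Opens} (hW : IsAffineOpen W) (x : W) (m : Γ(F, W))
    (hm : ∀ a ∈ (hW.primeIdealOf x).asIdeal, a • m = 0) (O : X.Opens) (hO : O ≤ W)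
    (hxO : ∀ z ∈ O, ¬ ((x : X) ⤳ z)) : F.presheaf.map (homOfLE hO).op m = 0 := by
  refine Helper45.section_ext_germ F O _ 0 fun z hz => ?_
  rw [map_zero, TopCat.Presheaf.germ_res_apply]
  have hzW : z ∈ W := hO hz
  have h1 : ¬ ((hW.primeIdealOf x).asIdeal ≤ (hW.primeIdealOf ⟨z, hzW⟩).asIdeal) := by
    rw [Helper45.primeIdealOf_le_iff hW ⟨z, hzW⟩ x]
    exact hxO z hz
  obtain ⟨π, hπx, hπz⟩ := SetLike.not_le_iff_exists.mp h1
  let z' : W := ⟨z, hzW⟩
  let _ := Helper45.stalkModuleSections F z'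
  have hlocM := Helper45.isLocalizedModule_germₗ hW F z'
  exact (IsLocalizedModule.eq_zero_iff (hW.primeIdealOf z').asIdeal.primeCompl
    (Helper45.germₗ F z')).mpr ⟨⟨π, hπz⟩, hm π hπx⟩

/-- two sections over `O₁ ⊔ O₂` agreeing on `O₁` and on `O₂` are equal. -/
theorem eq_of_res_eq₂ (F : X.Modules) {O₁ O₂ : X.Opens} (s t : Γ(F, O₁ ⊔ O₂))
    (h1 : F.presheaf.map (homOfLE (le_sup_left : O₁ ≤ O₁ ⊔ O₂)).op s =
      F.presheaf.map (homOfLE (le_sup_left : O₁ ≤ O₁ ⊔ O₂)).op t)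
    (h2 : F.presheaf.map (homOfLE (le_sup_right : O₂ ≤ O₁ ⊔ O₂)).op s =
      F.presheaf.map (homOfLE (le_sup_right : O₂ ≤ O₁ ⊔ O₂)).op t) : s = t := by
  refine Helper45.section_ext_germ F _ s t fun z hz => ?_
  rcases hz with hz | hz
  · rw [← TopCat.Presheaf.germ_res_apply F.presheaf (homOfLE (le_sup_left : O₁ ≤ O₁ ⊔ O₂)) z hz s,
      ← TopCat.Presheaf.germ_res_apply F.presheaf (homOfLE (le_sup_left : O₁ ≤ O₁ ⊔ O₂)) z hz t, h1]
  · rw [← TopCat.Presheaf.germ_res_apply F.presheaf (homOfLE (le_sup_right : O₂ ≤ O₁ ⊔ O₂)) z hz s,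
      ← TopCat.Presheaf.germ_res_apply F.presheaf (homOfLE (le_sup_right : O₂ ≤ O₁ ⊔ O₂)) z hz t, h2]

/-- If `m` vanishes on `O₂`, then on `D(f) ∪ O₂` the section `m` is divisible by every power of
`f`. -/
theorem exists_div_pow (F : X.Modules) {W : X.Opens} (f : Γ(X, W)) (m : Γ(F, W)) (O₂ : X.Opens)
    (hO₂ : O₂ ≤ W) (hm : F.presheaf.map (homOfLE hO₂).op m = 0) (n : ℕ) :
    ∃ σ : Γ(F, X.basicOpen f ⊔ O₂),
      (X.presheaf.map (homOfLE (sup_le (X.basicOpen_le f) hO₂)).op f) ^ n • σ =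
        F.presheaf.map (homOfLE (sup_le (X.basicOpen_le f) hO₂)).op m := by
  have hO : X.basicOpen f ⊔ O₂ ≤ W := sup_le (X.basicOpen_le f) hO₂
  have hu : IsUnit (X.presheaf.map (homOfLE (X.basicOpen_le f)).op f) :=
    RingedSpace.isUnit_res_basicOpen X.toRingedSpace f
  obtain ⟨u, hu⟩ := hu
  let s₁ : Γ(F, X.basicOpen f) :=
    ((↑u⁻¹ : Γ(X, X.basicOpen f)) ^ n) • F.presheaf.map (homOfLE (X.basicOpen_le f)).op m
  have hcompat : F.presheaf.map (homOfLE (inf_le_left : X.basicOpen f ⊓ O₂ ≤ X.basicOpen f)).op s₁ =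
      F.presheaf.map (homOfLE (inf_le_right : X.basicOpen f ⊓ O₂ ≤ O₂)).op (0 : Γ(F, O₂)) := by
    rw [map_zero, Scheme.Modules.map_smul, res_res,
      ← res_res F hO₂ (inf_le_right : X.basicOpen f ⊓ O₂ ≤ O₂), hm, map_zero, smul_zero]
  obtain ⟨σ, hσ1, hσ2⟩ := exists_gluing₂ F s₁ (0 : Γ(F, O₂)) hcompat
  refine ⟨σ, eq_of_res_eq₂ F _ _ ?_ ?_⟩
  · rw [Scheme.Modules.map_smul, hσ1, res_res, map_pow]
    have h3 : X.presheaf.map (homOfLE (le_sup_left : X.basicOpen f ≤ X.basicOpen f ⊔ O₂)).op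
        (X.presheaf.map (homOfLE hO).op f) = (u : Γ(X, X.basicOpen f)) := by
      rw [hu, ← ConcreteCategory.comp_apply, ← Functor.map_comp]; rfl
    rw [h3]
    simp only [s₁]
    rw [smul_smul, ← mul_pow, Units.mul_inv, one_pow, one_smul]
  · rw [Scheme.Modules.map_smul, hσ2, smul_zero, res_res]
    exact hm.symm




/-- If there is no point strictly between `x` and its specialization `y`, then `y` has an affine
open neighbourhood `W` with a function `f` vanishing at `y` but not at `x`, such that inside `W`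
the locus `V(f)` in the closure of `x` is contained in the closure of `y`. -/
theorem exists_affine_nhd [IsLocallyNoetherian X] {x y : X} (h : x ⤳ y) (hyx : ¬ y ⤳ x)
    (hno : ∀ η : X, x ⤳ η → η ⤳ y → η = x ∨ η = y) :
    ∃ (W : X.Opens) (_ : IsAffineOpen W) (f : Γ(X, W)), y ∈ W ∧ x ∈ X.basicOpen f ∧
      y ∉ X.basicOpen f ∧ ∀ z ∈ W, x ⤳ z → z ∉ X.basicOpen f → y ⤳ z := by
  obtain ⟨_, ⟨W₀, hW₀ : IsAffineOpen W₀, rfl⟩, hyW₀, -⟩ :=
    X.isBasis_affineOpens.exists_subset_of_mem_open (Set.mem_univ y) isOpen_univ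
  have hxW₀ : x ∈ W₀ := h.mem_open W₀.isOpen hyW₀
  obtain ⟨O, hO, hxO, hyO⟩ : ∃ O : Set X, IsOpen O ∧ x ∈ O ∧ y ∉ O := by
    rw [specializes_iff_forall_open] at hyx
    push Not at hyx
    exact hyx
  obtain ⟨f₀, hf₀O, hxf₀⟩ := hW₀.exists_basicOpen_le (V := ⟨O, hO⟩) ⟨x, hxO⟩ hxW₀
  have hyf₀ : y ∉ X.basicOpen f₀ := fun hy => hyO (hf₀O hy)
  have hN : NoetherianSpace ↥(W₀ : Set X) := noetherianSpace_of_le_affine hW₀ le_rfl
  have hS : QuasiSober ↥(W₀ : Set X) := quasiSober_opens W₀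
  let C : Set ↥(W₀ : Set X) :=
    Subtype.val ⁻¹' (closure {x} ∩ ((X.basicOpen f₀ : Set X))ᶜ)
  have hC : IsClosed C :=
    (isClosed_closure.inter (X.basicOpen f₀).isOpen.isClosed_compl).preimage continuous_subtype_val
  obtain ⟨P, hP, hyP, hPC⟩ := exists_open_nhd_subset_closure C hC ⟨y, hyW₀⟩ (by
    rintro ⟨η, hηW⟩ ⟨hη1, hη2⟩ hηy
    rw [subtype_specializes_iff] at hηy
    have hxη : x ⤳ η := specializes_iff_mem_closure.mpr hη1
    rcases hno η hxη hηy with rfl | rfl
    · exact (hη2 hxf₀).elim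
    · exact specializes_refl _)
  have hP' : IsOpen (Subtype.val '' P : Set X) := W₀.isOpen.isOpenMap_subtype_val P hP
  obtain ⟨g, hgP, hyg⟩ := hW₀.exists_basicOpen_le (V := ⟨_, hP'⟩) ⟨y, ⟨⟨y, hyW₀⟩, hyP, rfl⟩⟩ hyW₀
  have hgW₀ : X.basicOpen g ≤ W₀ := X.basicOpen_le g
  refine ⟨X.basicOpen g, hW₀.basicOpen g, X.presheaf.map (homOfLE hgW₀).op f₀, hyg, ?_, ?_, ?_⟩
  · rw [Scheme.basicOpen_res]
    exact ⟨h.mem_open (X.basicOpen g).isOpen hyg, hxf₀⟩
  · rw [Scheme.basicOpen_res]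
    exact fun hy => hyf₀ hy.2
  · intro z hzg hxz hzf
    rw [Scheme.basicOpen_res] at hzf
    have hzf₀ : z ∉ X.basicOpen f₀ := fun hz => hzf ⟨hzg, hz⟩
    obtain ⟨z', hz'P, rfl⟩ := hgP hzg
    have hz'C : z' ∈ C := ⟨specializes_iff_mem_closure.mp hxz, hzf₀⟩
    have := hPC z' hz'C hz'P
    rw [subtype_specializes_iff] at this
    exact this




/-- the `Γ(X, W)`-action on sections of `j_*(F|_U)` over `W` is the action through restriction
to `U ∩ W`. -/
theorem resPush_smul (U W : X.Opens) (F : X.Modules) (r : Γ(X, W))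
    (s : Γ((resPush U).obj F, W)) :
    r • s = ((X.presheaf.map (homOfLE (U.ι.image_preimage_le W)).op r :
      Γ(X, U.ι ''ᵁ U.ι ⁻¹ᵁ W)) • (show Γ(F, U.ι ''ᵁ U.ι ⁻¹ᵁ W) from s) :
        Γ(F, U.ι ''ᵁ U.ι ⁻¹ᵁ W)) := by
  have h1 : r • s = (((U.ι.appIso (U.ι ⁻¹ᵁ W)).inv (U.ι.app W r) : Γ(X, U.ι ''ᵁ U.ι ⁻¹ᵁ W)) •
      (show Γ(F, U.ι ''ᵁ U.ι ⁻¹ᵁ W) from s) : Γ(F, U.ι ''ᵁ U.ι ⁻¹ᵁ W)) := rfl
  rw [h1]
  congr 1
  rw [← CommRingCat.comp_apply, Scheme.Hom.app_appIso_inv]
  rfl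

/-- the closure of a point of a specialization-stable set, as an index of the system -/
def clPoint (Z : Set X) (hZ : StableUnderSpecialization Z) (y : X) (hy : y ∈ Z) : Cl Z :=
  ⟨⟨closure {y}, isClosed_closure⟩, fun _ hz => hZ (specializes_iff_mem_closure.mpr hz) hy⟩

theorem mem_clPoint_U_iff (Z : Set X) (hZ : StableUnderSpecialization Z) (y : X) (hy : y ∈ Z)
    (z : X) : z ∈ (clPoint Z hZ y hy).U ↔ ¬ y ⤳ z := by
  rw [specializes_iff_mem_closure]
  rfl


/-- If `H⁰_{X/Z}(F)` is coherent, then for every associated point `x ∉ Z` of `F` and every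
specialization `y ∈ Z` of `x`, the closure of `y` has codimension at least `2` in the closure of
`x`. -/
theorem two_le_dim_of_isCoh_H0 [IsLocallyNoetherian X] (Z : Set X)
    (hZ : StableUnderSpecialization Z) (F : X.Modules) (hF : Coh.IsCoh F)
    (hH : Coh.IsCoh ((ZClos.H0 Z).obj F))
    (x : X) (hx : x ∈ AssSch.Ass F) (hxZ : x ∉ Z) (y : X) (hy : y ∈ Z) (h : x ⤳ y) :
    (2 : WithBot ℕ∞) ≤ ringKrullDim (X.presheaf.stalk y ⧸
      (IsLocalRing.maximalIdeal (X.presheaf.stalk x)).comap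
        (X.presheaf.stalkSpecializes h).hom) := by
  by_contra hdim
  have hq : F.IsQuasicoherent := hF.1
  have hqH : ((ZClos.H0 Z).obj F).IsQuasicoherent := hH.1
  have hno : ∀ η : X, x ⤳ η → η ⤳ y → η = x ∨ η = y := by
    intro η h1 h2
    by_contra hne
    push Not at hne
    exact hdim (two_le_ringKrullDim_quotient h1 h2 (Ne.symm hne.1) hne.2 h)
  have hyx : ¬ y ⤳ x := fun h' => hxZ (hZ h' hy)
  obtain ⟨W, hW, f, hyW, hxf, hyf, hWf⟩ := exists_affine_nhd h hyx hno
  have hxW : x ∈ W := h.mem_open W.isOpen hyW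
  let x' : W := ⟨x, hxW⟩
  let y' : W := ⟨y, hyW⟩
  obtain ⟨m, hm⟩ := exists_ann_eq_primeIdealOf F hW x' hx
  let T : Cl Z := clPoint Z hZ y hy
  let O₂ : X.Opens := W ⊓ ⟨(closure {x})ᶜ, isClosed_closure.isOpen_compl⟩
  have hO₂ : O₂ ≤ W := inf_le_left
  have hmO₂ : F.presheaf.map (homOfLE hO₂).op m = 0 :=
    res_eq_zero_of_ann F hW x' m (fun a ha => (hm a).mpr ha) O₂ hO₂
      (fun z hz hxz => hz.2 (specializes_iff_mem_closure.mp hxz))
  have hO : X.basicOpen f ⊔ O₂ ≤ W := sup_le (X.basicOpen_le f) hO₂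
  have hWT : T.U.ι ''ᵁ T.U.ι ⁻¹ᵁ W ≤ X.basicOpen f ⊔ O₂ := by
    intro z hz
    rw [ι_image_preimage] at hz
    have hzT : ¬ y ⤳ z := (mem_clPoint_U_iff Z hZ y hy z).mp hz.1
    by_cases hzf : z ∈ X.basicOpen f
    · exact Or.inl hzf
    · refine Or.inr ⟨hz.2, fun hxz => ?_⟩
      exact hzT (hWf z hz.2 (specializes_iff_mem_closure.mpr hxz) hzf)
  have hs : ∀ n : ℕ, ∃ s : Γ((ZClos.H0 Z).obj F, W), f ^ n • s = (rhoApp Z F).app W m := by
    intro n
    obtain ⟨σ, hσ⟩ := exists_div_pow F f m O₂ hO₂ hmO₂ n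
    let τ : Γ((resPush T.U).obj F, W) := F.presheaf.map (homOfLE hWT).op σ
    refine ⟨(inj Z F T).app W τ, ?_⟩
    have e1 : (X.presheaf.map (homOfLE (T.U.ι.image_preimage_le W)).op (f ^ n) :
        Γ(X, T.U.ι ''ᵁ T.U.ι ⁻¹ᵁ W)) =
        X.presheaf.map (homOfLE hWT).op ((X.presheaf.map (homOfLE hO).op f) ^ n) := by
      rw [map_pow, map_pow, ← ConcreteCategory.comp_apply, ← Functor.map_comp]
      rfl
    have key : (f ^ n • τ : Γ((resPush T.U).obj F, W)) =
        F.presheaf.map (homOfLE (T.U.ι.image_preimage_le W)).op m := by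
      rw [resPush_smul, e1]
      change _ • F.presheaf.map (homOfLE hWT).op σ = _
      rw [← Scheme.Modules.map_smul, hσ, res_res]
    rw [← Scheme.Modules.Hom.app_smul, rhoApp_eq' Z F T]
    change _ = (inj Z F T).app W ((toDiagram Z F T).app W m)
    congr 1
  choose s hs using hs
  have hN : IsNoetherianRing Γ(X, W) := IsLocallyNoetherian.component_noetherian ⟨W, hW⟩
  have hfin : Module.Finite Γ(X, W) Γ((ZClos.H0 Z).obj F, W) :=
    finite_sections_of_isFiniteType _ hH.2 hW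
  have hNoeth : IsNoetherian Γ(X, W) Γ((ZClos.H0 Z).obj F, W) :=
    isNoetherian_of_isNoetherianRing_of_finite _ _
  obtain ⟨a, ha⟩ := exists_one_sub_mul_smul_eq_zero f ((rhoApp Z F).app W m) s hs
  rw [← Scheme.Modules.Hom.app_smul, rhoApp_eq' Z F ⊥] at ha
  have ha' : (inj Z F ⊥).app W ((toDiagram Z F ⊥).app W ((1 - f * a) • m)) = 0 := ha
  obtain ⟨T', g, hg⟩ := exists_map_app_eq_zero ((diagram Z).obj F) (colimit.cocone _)
    (colimit.isColimit _) W hW.isCompact ⊥ _ ha'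
  have hg' : (toDiagram Z F T').app W ((1 - f * a) • m) = 0 := by
    rw [← toDiagram_map Z F g]
    exact hg
  rw [toDiagram_app] at hg'
  have hxT' : x ∈ T'.U.ι ''ᵁ T'.U.ι ⁻¹ᵁ W := by
    rw [ι_image_preimage]
    exact ⟨mem_U_of_not_mem Z hxZ T', hxW⟩
  have hgerm : F.presheaf.germ W x hxW ((1 - f * a) • m) = 0 := by
    have h5 := congrArg (F.presheaf.germ (T'.U.ι ''ᵁ T'.U.ι ⁻¹ᵁ W) x hxT') hg'
    exact ((TopCat.Presheaf.germ_res_apply F.presheaf
      (homOfLE (T'.U.ι.image_preimage_le W)) x hxT' _).symm.trans h5).trans (map_zero _)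
  let _ := Helper45.stalkModuleSections F x'
  have hlocM := Helper45.isLocalizedModule_germₗ hW F x'
  obtain ⟨c, hc⟩ := (IsLocalizedModule.eq_zero_iff (hW.primeIdealOf x').asIdeal.primeCompl
    (Helper45.germₗ F x')).mp hgerm
  have hc' : ((c : Γ(X, W)) * (1 - f * a)) • m = 0 := by
    rw [mul_smul]
    exact hc
  have hmem := (hm _).mp hc'
  have hprime : (hW.primeIdealOf x').asIdeal.IsPrime := inferInstance
  rcases hprime.mem_or_mem hmem with h1 | h1
  · exact c.2 h1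
  · have hle : (hW.primeIdealOf x').asIdeal ≤ (hW.primeIdealOf y').asIdeal :=
      (Helper45.primeIdealOf_le_iff hW y' x').mpr h
    have hfy : f ∈ (hW.primeIdealOf y').asIdeal := by
      by_contra hfy
      exact hyf ((Helper45.mem_basicOpen_iff_not_mem_primeIdealOf hW y' f).mpr hfy)
    have h1y := hle h1
    have h1' : (1 : Γ(X, W)) ∈ (hW.primeIdealOf y').asIdeal := by
      have := Ideal.add_mem _ h1y (Ideal.mul_mem_right a _ hfy)
      rwa [sub_add_cancel] at this
    exact (hW.primeIdealOf y').isPrime.ne_top ((Ideal.eq_top_iff_one _).mpr h1')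

end Groth.Agent.Lib.Helper49.ZClosure
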