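import Mathlib
import Groth.Agent.Lib.Helper49.ZClosure12
import Groth.Agent.Lib.Helper49.AffineHom
import Groth.Agent.Lib.Helper49.StalkNbhd
import Groth.Agent.Lib.Helper49.QcqsModules
import Groth.Agent.Lib.Helper45.RegularSections
/-!
# Associated points and monomorphisms from `O_Z` (helper49)
-/
set_option autoImplicit false
set_option linter.style.haveILetI false
universe u
open CategoryTheory AlgebraicGeometry TopologicalSpace

namespace Groth.Agent.Lib.Helper49.AssMono

/-- factor through a surjection with the same kernel, injectively. -/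
theorem exists_injective_factor {R A B C : Type*} [Ring R] [AddCommGroup A] [AddCommGroup B]
    [AddCommGroup C] [Module R A] [Module R B] [Module R C]
    (g : A →ₗ[R] B) (hg : Function.Surjective g) (k : A →ₗ[R] C)
    (hk : LinearMap.ker g = LinearMap.ker k) :
    ∃ h : B →ₗ[R] C, Function.Injective h ∧ ∀ a, h (g a) = k a := by
  let e := g.quotKerEquivOfSurjective hg
  let l : (A ⧸ LinearMap.ker g) →ₗ[R] C := (LinearMap.ker g).liftQ k hk.le
  have hl : Function.Injective l := by
    rw [← LinearMap.ker_eq_bot]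
    exact Submodule.ker_liftQ_eq_bot _ _ _ hk.ge
  refine ⟨l ∘ₗ e.symm.toLinearMap, hl.comp e.symm.injective, fun a => ?_⟩
  have h1 : e.symm (g a) = Submodule.Quotient.mk a := by
    apply e.injective
    rw [LinearEquiv.apply_symm_apply]
    rfl
  simp [h1, l]

variable {X : Scheme.{u}}

theorem vanishingIdeal_closure_ideal {W : X.Opens} (hW : IsAffineOpen W) (x : W) :
    (Scheme.IdealSheafData.vanishingIdeal ⟨closure {(x : X)}, isClosed_closure⟩).ideal ⟨W, hW⟩ =
      (hW.primeIdealOf x).asIdeal := by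
  rw [Scheme.IdealSheafData.vanishingIdeal_ideal]
  ext a
  rw [PrimeSpectrum.mem_vanishingIdeal]
  constructor
  · intro h
    refine h (hW.primeIdealOf x) ?_
    change hW.fromSpec (hW.primeIdealOf x) ∈ closure {(x : X)}
    rw [hW.fromSpec_primeIdealOf x]
    exact subset_closure rfl
  · intro ha q hq
    have hq' : hW.fromSpec q ∈ closure {(x : X)} := hq
    rw [← specializes_iff_mem_closure, ← hW.fromSpec_primeIdealOf x,
      hW.fromSpec.isOpenEmbedding.isInducing.specializes_iff] at hq'
    exact (PrimeSpectrum.le_iff_specializes _ _).mpr hq' ha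


section Main

/-- `O_Z` viewed as an `O_X`-module, where `Z` is the reduced closure of `x`. -/
noncomputable abbrev OZ (x : X) : X.Modules :=
  (Scheme.Modules.pushforward
    (Scheme.IdealSheafData.vanishingIdeal ⟨closure {x}, isClosed_closure⟩).subschemeι).obj
    (SheafOfModules.unit
      (Scheme.IdealSheafData.vanishingIdeal ⟨closure {x}, isClosed_closure⟩).subscheme.ringCatSheaf)

instance (x : X) : (OZ x).IsQuasicoherent :=
  haveI := Helper45.isQuasicoherent_structureModule
    (Scheme.IdealSheafData.vanishingIdeal ⟨closure {x}, isClosed_closure⟩).subscheme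
  isQuasicoherent_pushforward _ _

/-- the section `1` of `O_Z` over `W`. -/
noncomputable def oneOZ (x : X) (W : X.Opens) : Γ(OZ x, W) :=
  (1 : Γ((Scheme.IdealSheafData.vanishingIdeal ⟨closure {x}, isClosed_closure⟩).subscheme,
    (Scheme.IdealSheafData.vanishingIdeal ⟨closure {x}, isClosed_closure⟩).subschemeι ⁻¹ᵁ W))

theorem smul_oneOZ (x : X) (W : X.Opens) (r : Γ(X, W)) :
    r • oneOZ x W =
      (show Γ(OZ x, W) from
        ((Scheme.IdealSheafData.vanishingIdeal ⟨closure {x}, isClosed_closure⟩).subschemeι.app W r)) := by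
  rw [Helper45.pushforward_smul]
  exact mul_one (M := Γ((Scheme.IdealSheafData.vanishingIdeal ⟨closure {x}, isClosed_closure⟩).subscheme,
    (Scheme.IdealSheafData.vanishingIdeal ⟨closure {x}, isClosed_closure⟩).subschemeι ⁻¹ᵁ W)) _

theorem smul_oneOZ_eq_zero_iff {W : X.Opens} (hW : IsAffineOpen W) (x : W) (r : Γ(X, W)) :
    r • oneOZ (x : X) W = 0 ↔ r ∈ (hW.primeIdealOf x).asIdeal := by
  rw [smul_oneOZ, ← vanishingIdeal_closure_ideal hW x]
  conv_rhs => rw [← Scheme.IdealSheafData.ker_subschemeι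
    (Scheme.IdealSheafData.vanishingIdeal ⟨closure {(x : X)}, isClosed_closure⟩)]
  rw [Scheme.Hom.ker_apply]
  rfl

theorem exists_eq_smul_oneOZ {W : X.Opens} (hW : IsAffineOpen W) (x : X) (s : Γ(OZ x, W)) :
    ∃ r : Γ(X, W), r • oneOZ x W = s := by
  obtain ⟨r, hr⟩ := Scheme.Hom.app_surjective
    (Scheme.IdealSheafData.vanishingIdeal ⟨closure {x}, isClosed_closure⟩).subschemeι W hW s
  exact ⟨r, (smul_oneOZ x W r).trans hr⟩

end Main


section Criteria

attribute [local instance] Helper45.stalkModuleSections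

theorem stalkMap_injective_of_app_injective {M N : X.Modules} [M.IsQuasicoherent]
    [N.IsQuasicoherent] (φ : M ⟶ N) {U : X.Opens} (hU : IsAffineOpen U) (x : U)
    (h : Function.Injective (φ.app U)) : Function.Injective (stalkMap φ x).hom := by
  haveI := Helper45.isLocalizedModule_germₗ hU M x
  haveI := Helper45.isLocalizedModule_germₗ hU N x
  have h1 := stalkMapₗ_eq_map φ hU x
  have h2 : Function.Injective (stalkMapₗ φ x) := by
    rw [h1]
    exact IsLocalizedModule.map_injective _ _ _ (appₗ φ U) h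
  exact h2

end Criteria

section Forward

theorem exists_mono_of_isAssPoint [IsLocallyNoetherian X] (F : X.Modules) [F.IsQuasicoherent]
    (x : X) (hx : Curv2.IsAssPoint F x) :
    ∃ U : X.Opens, x ∈ U ∧ ∃ φ : (Scheme.Modules.pullback U.ι).obj (OZ x) ⟶
      (Scheme.Modules.pullback U.ι).obj F, Mono φ := by
  obtain ⟨W, hW, hxW, -⟩ := exists_isAffineOpen_mem_and_subset (x := x) (U := ⊤) trivial
  obtain ⟨m, hm⟩ := ZClosure.exists_ann_eq_primeIdealOf F hW ⟨x, hxW⟩ hx
  let g : Γ(X, W) →ₗ[Γ(X, W)] Γ(OZ x, W) := LinearMap.toSpanSingleton _ _ (oneOZ x W)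
  let k : Γ(X, W) →ₗ[Γ(X, W)] Γ(F, W) := LinearMap.toSpanSingleton _ _ m
  have hg : Function.Surjective g := fun s => exists_eq_smul_oneOZ hW x s
  have hk : LinearMap.ker g = LinearMap.ker k := by
    ext r
    simp only [LinearMap.mem_ker, g, k, LinearMap.toSpanSingleton_apply]
    rw [smul_oneOZ_eq_zero_iff hW ⟨x, hxW⟩, hm]
  obtain ⟨h, hinj, -⟩ := exists_injective_factor g hg k hk
  obtain ⟨φ₀, hφ₀⟩ := exists_hom_restrict_of_linearMap hW (OZ x) F h
  have hinj' : Function.Injective (φ₀.app ⊤) := by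
    intro s t hst
    have hs := map_map_id (OZ x) (eqToHom W.ι_image_top) (eqToHom W.ι_image_top.symm) s
    have ht := map_map_id (OZ x) (eqToHom W.ι_image_top) (eqToHom W.ι_image_top.symm) t
    rw [← hs, ← ht] at hst ⊢
    rw [hφ₀, hφ₀] at hst
    have h3 := hinj (map_injective_of_eq F _ W.ι_image_top hst)
    rw [h3]
  have hmono : Mono φ₀ := by
    haveI : ((OZ x).restrict W.ι).IsQuasicoherent :=
      Scheme.Modules.isQuasicoherent_restrictFunctor _ _
    haveI : (F.restrict W.ι).IsQuasicoherent :=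
      Scheme.Modules.isQuasicoherent_restrictFunctor _ _
    haveI : IsAffine (↑W : Scheme.{u}) := hW
    refine mono_of_stalkMap_injective φ₀ fun y => ?_
    exact stalkMap_injective_of_app_injective φ₀ (isAffineOpen_top (↑W : Scheme.{u}))
      ⟨y, trivial⟩ hinj'
  exact ⟨W, hxW, (Scheme.Modules.restrictFunctorIsoPullback W.ι).inv.app (OZ x) ≫ φ₀ ≫
    (Scheme.Modules.restrictFunctorIsoPullback W.ι).hom.app F, inferInstance⟩

end Forward


section Backward

attribute [local instance] Helper45.stalkModuleSections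

theorem isAssPoint_of_ann_eq (F : X.Modules) [F.IsQuasicoherent]
    {W : X.Opens} (hW : IsAffineOpen W) (x : W) (m : Γ(F, W))
    (hm : ∀ a : Γ(X, W), a • m = 0 ↔ a ∈ (hW.primeIdealOf x).asIdeal) :
    Curv2.IsAssPoint F (x : X) := by
  have hloc := hW.isLocalization_stalk x
  have hlocM := Helper45.isLocalizedModule_germₗ hW F x
  have hcomap : (IsLocalRing.maximalIdeal (X.presheaf.stalk (x : X))).comap
      (algebraMap Γ(X, W) (X.presheaf.stalk (x : X))) = (hW.primeIdealOf x).asIdeal :=
    IsLocalization.AtPrime.under_maximalIdeal (X.presheaf.stalk (x : X))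
      (hW.primeIdealOf x).asIdeal
  have hcolon : (⊥ : Submodule Γ(X, W) Γ(F, W)).colon {m} = (hW.primeIdealOf x).asIdeal := by
    ext a
    rw [Submodule.mem_colon_singleton, Submodule.mem_bot, hm]
  have hass : (hW.primeIdealOf x).asIdeal ∈ associatedPrimes Γ(X, W) Γ(F, W) := by
    refine ⟨inferInstance, m, ?_⟩
    rw [hcolon, Ideal.IsPrime.radical inferInstance]
  rw [← hcomap] at hass
  exact Module.associatedPrimes.mem_associatedPrimes_of_comap_mem_associatedPrimes_of_isLocalizedModule
    (hW.primeIdealOf x).asIdeal.primeCompl (Helper45.germₗ F x)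
    (IsLocalRing.maximalIdeal (X.presheaf.stalk (x : X))) hass

theorem restrict_ι_smul (M : X.Modules) (U : X.Opens) (V : (↑U : Scheme.{u}).Opens)
    (a : Γ(↑U, V)) (s : Γ(M.restrict U.ι, V)) :
    a • s = ((show Γ(X, U.ι ''ᵁ V) from a) • (show Γ(M, U.ι ''ᵁ V) from s) : Γ(M, U.ι ''ᵁ V)) := by
  have h1 : a • s = (((U.ι.appIso V).inv a) • (show Γ(M, U.ι ''ᵁ V) from s) : Γ(M, U.ι ''ᵁ V)) :=
    rfl
  rw [h1, Scheme.Opens.ι_appIso]
  rfl

theorem isAssPoint_of_mono (F : X.Modules) [F.IsQuasicoherent] (x : X) (U : X.Opens)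
    (hxU : x ∈ U)
    (φ : (Scheme.Modules.pullback U.ι).obj (OZ x) ⟶ (Scheme.Modules.pullback U.ι).obj F)
    [Mono φ] : Curv2.IsAssPoint F x := by
  let φ₀ : (OZ x).restrict U.ι ⟶ F.restrict U.ι :=
    (Scheme.Modules.restrictFunctorIsoPullback U.ι).hom.app (OZ x) ≫ φ ≫
      (Scheme.Modules.restrictFunctorIsoPullback U.ι).inv.app F
  haveI : Mono φ₀ := inferInstance
  let x' : (↑U : Scheme.{u}) := ⟨x, hxU⟩
  obtain ⟨V, hV, hxV, -⟩ := exists_isAffineOpen_mem_and_subset (X := (↑U : Scheme.{u}))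
    (x := x') (U := ⊤) trivial
  let W : X.Opens := U.ι ''ᵁ V
  have hW : IsAffineOpen W := hV.image_of_isOpenImmersion U.ι
  have hxW : x ∈ W := ⟨x', hxV, rfl⟩
  have hinj : Function.Injective (φ₀.app V) := app_injective_of_mono φ₀ V
  let m : Γ(F, W) := φ₀.app V (oneOZ x W)
  refine isAssPoint_of_ann_eq F hW ⟨x, hxW⟩ m fun a => ?_
  have h1 : a • m = φ₀.app V (a • oneOZ x W) := by
    have h2 := Scheme.Modules.Hom.app_smul φ₀ (U := V) (show Γ(↑U, V) from a)
      (show Γ((OZ x).restrict U.ι, V) from oneOZ x W)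
    rw [restrict_ι_smul, restrict_ι_smul] at h2
    exact h2.symm
  rw [h1, ← smul_oneOZ_eq_zero_iff hW ⟨x, hxW⟩ a]
  constructor
  · intro h
    apply hinj
    rw [h]
    exact (map_zero _).symm
  · intro h
    rw [h]
    exact map_zero _

end Backward

end Groth.Agent.Lib.Helper49.AssMono
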