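import Mathlib
import Groth.Prelude.Def_Formal
import Groth.Agent.Lib.Helper11.PullbackBasis
import Groth.Agent.Lib.Helper11.SupportTensor

set_option autoImplicit false
set_option linter.style.haveILetI false
universe u
open CategoryTheory CategoryTheory.Limits AlgebraicGeometry TopologicalSpace Opposite

namespace Groth.Agent.Lib.Helper49.FormalPullback

open Groth.Agent.Lib.Helper11.PullbackBasis

variable {X Y : Scheme.{u}} (f : X ⟶ Y)

/-- Two morphisms out of a pullback agree as soon as they agree on the images of the unit. -/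
theorem pullback_hom_ext {M : Y.Modules} {H : X.Modules}
    (α β : (Scheme.Modules.pullback f).obj M ⟶ H)
    (h : ∀ (U : Y.Opens) (s : Γ(M, U)),
      (α.app (f ⁻¹ᵁ U)).hom (pullS f M U s) = (β.app (f ⁻¹ᵁ U)).hom (pullS f M U s)) :
    α = β := by
  apply ((Scheme.Modules.pullbackPushforwardAdjunction f).homEquiv M H).injective
  rw [Adjunction.homEquiv_unit, Adjunction.homEquiv_unit]
  apply Scheme.Modules.hom_ext
  intro U
  ext s
  exact h U s

theorem smulModΓ_app (M : Y.Modules) (r : Coh.Γtop Y) (U : Y.Opens) (s : Γ(M, U)) :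
    ((Formal.smulModΓ M r).app U).hom s = (show Γ(Y, U) from Coh.resTop Y (op U) r) • s := rfl

/-- Pullback of multiplication by a global function is multiplication by its pullback. -/
theorem pullback_map_smulModΓ (M : Y.Modules) (r : Coh.Γtop Y) :
    (Scheme.Modules.pullback f).map (Formal.smulModΓ M r) =
      Formal.smulModΓ ((Scheme.Modules.pullback f).obj M) (f.appTop.hom r) := by
  apply pullback_hom_ext
  intro U s
  rw [pullS_naturality, smulModΓ_app, smulModΓ_app, pullS_smul]
  congr 1
  have h := f.naturality (homOfLE (le_top : U ≤ ⊤)).op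
  exact congrArg (fun k => k.hom r) h


section Cat

variable {C D : Type*} [Category C] [Category D] [HasZeroMorphisms C] [HasZeroMorphisms D]

/-- `cokernel.desc s t h` is an isomorphism iff `t` is a cokernel of `s`. -/
noncomputable def isColimitOfIsIsoDesc {P M N : C} (s : P ⟶ M) (t : M ⟶ N) (h : s ≫ t = 0)
    [HasCokernel s] [IsIso (cokernel.desc s t h)] : IsColimit (CokernelCofork.ofπ t h) :=
  IsColimit.ofIsoColimit (cokernelIsCokernel s)
    (Cofork.ext (asIso (cokernel.desc s t h)) (by simp))

theorem isIso_desc_of_isColimit {P M N : C} (s : P ⟶ M) (t : M ⟶ N) (h : s ≫ t = 0)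
    [HasCokernel s] (hc : IsColimit (CokernelCofork.ofπ t h)) : IsIso (cokernel.desc s t h) := by
  have e : cokernel.desc s t h =
      ((cokernelIsCokernel s).coconePointUniqueUpToIso hc).hom := by
    apply coequalizer.hom_ext
    simp only [cokernel.π_desc]
    exact ((cokernelIsCokernel s).comp_coconePointUniqueUpToIso_hom hc
      WalkingParallelPair.one).symm
  rw [e]
  infer_instance

/-- A colimit-preserving functor carries `IsIso (cokernel.desc s t h)` to the corresponding
statement for `σ ≫ L.map s`, `σ` an epimorphism. -/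
theorem exists_isIso_desc_map (L : C ⥤ D) [L.PreservesZeroMorphisms] {P M N : C} (s : P ⟶ M)
    (t : M ⟶ N) (h : s ≫ t = 0) [HasCokernel s] [IsIso (cokernel.desc s t h)]
    [PreservesColimit (parallelPair s 0) L] {P' : D} (σ : P' ⟶ L.obj P) [Epi σ]
    (s' : P' ⟶ L.obj M) (hs' : s' = σ ≫ L.map s) [HasCokernel s'] :
    ∃ h' : s' ≫ L.map t = 0, IsIso (cokernel.desc s' (L.map t) h') := by
  have hc := isColimitOfIsIsoDesc s t h
  have hc2 := CokernelCofork.mapIsColimit _ hc L
  have hc3 := isCokernelEpiComp hc2 σ hs'
  have h' : s' ≫ L.map t = 0 := by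
    rw [hs', Category.assoc, ← L.map_comp, h, L.map_zero, comp_zero]
  exact ⟨h', isIso_desc_of_isColimit s' (L.map t) h' hc3⟩

end Cat

section Over

variable (A : Type u) [CommRing A] [X.Over (Spec (CommRingCat.of A))]
  [Y.Over (Spec (CommRingCat.of A))]
  (hf : f ≫ (Y ↘ Spec (CommRingCat.of A)) = X ↘ Spec (CommRingCat.of A))

include hf in
theorem toGlobal_comp (a : A) :
    Coh.toGlobal (X ↘ Spec (CommRingCat.of A)) a =
      f.appTop.hom (Coh.toGlobal (Y ↘ Spec (CommRingCat.of A)) a) := by
  rw [← hf]
  unfold Coh.toGlobal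
  rw [Scheme.Hom.comp_appTop]
  rfl

include hf in
/-- Pullback of multiplication by `a : A` is multiplication by `a`. -/
theorem pullback_map_smulMod (M : Y.Modules) (a : A) :
    (Scheme.Modules.pullback f).map (Formal.smulMod A M a) =
      Formal.smulMod A ((Scheme.Modules.pullback f).obj M) a := by
  unfold Formal.smulMod
  rw [pullback_map_smulModΓ, toGlobal_comp f A hf]

include hf in
theorem killedBy_pullback (J : Ideal A) (M : Y.Modules) (h : Formal.KilledBy J M) :
    Formal.KilledBy J ((Scheme.Modules.pullback f).obj M) := by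
  intro a ha
  rw [← pullback_map_smulMod f A hf, h a ha, Functor.map_zero]

include hf in
/-- `smulFamily` on the pullback is the pullback of `smulFamily` up to the coproduct comparison. -/
theorem smulFamily_pullback (J : Ideal A) (M : Y.Modules) :
    Formal.smulFamily J ((Scheme.Modules.pullback f).obj M) =
      sigmaComparison (Scheme.Modules.pullback f) (fun _ : J => M) ≫
        (Scheme.Modules.pullback f).map (Formal.smulFamily J M) := by
  apply Sigma.hom_ext
  intro a
  rw [ι_comp_sigmaComparison_assoc, ← Functor.map_comp]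
  unfold Formal.smulFamily
  rw [Sigma.ι_desc, Sigma.ι_desc, pullback_map_smulMod f A hf]

include hf in
/-- The componentwise pullback of a coherent formal module is a coherent formal module. -/
theorem isCohFormal_pullback (I : Ideal A) (G : ℕᵒᵖ ⥤ Y.Modules)
    (hG : Formal.IsCohFormal I G) :
    Formal.IsCohFormal I (G ⋙ Scheme.Modules.pullback f) := by
  obtain ⟨h1, h2, h3⟩ := hG
  refine ⟨fun n => ?_, fun n => ?_, fun n => ?_⟩
  · haveI : (G.obj (op n)).IsQuasicoherent := (h1 n).1
    exact ⟨Groth.Agent.Lib.Helper16.FlatPull.isQuasicoherent_pullback f _,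
      Groth.Agent.Lib.Helper11.SupportTensor.isFiniteType_pullback_of_isFiniteType f _ (h1 n).2⟩
  · exact killedBy_pullback f A hf _ _ (h2 n)
  · obtain ⟨h, hiso⟩ := h3 n
    haveI := hiso
    haveI : PreservesColimitsOfSize.{u, u} (Scheme.Modules.pullback f) :=
      (Scheme.Modules.pullbackPushforwardAdjunction f).leftAdjoint_preservesColimits
    exact exists_isIso_desc_map (Scheme.Modules.pullback f)
      (Formal.smulFamily (I ^ (n + 1)) (G.obj (op (n + 1))))
      (G.map (homOfLE (Nat.le_succ n)).op) h
      (sigmaComparison (Scheme.Modules.pullback f) (fun _ : ↥(I ^ (n + 1)) => G.obj (op (n + 1))))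
      (Formal.smulFamily (I ^ (n + 1)) ((Scheme.Modules.pullback f).obj (G.obj (op (n + 1)))))
      (smulFamily_pullback f A hf _ _)

end Over

end Groth.Agent.Lib.Helper49.FormalPullback
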