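import Mathlib
import Groth.Prelude.Def_Formal
import Groth.Agent.Lib.Helper49.FormalPullback

set_option autoImplicit false
set_option linter.style.haveILetI false
universe u
open CategoryTheory CategoryTheory.Limits AlgebraicGeometry TopologicalSpace Opposite

namespace Groth.Agent.Lib.Helper49.FormalConst

open Groth.Agent.Lib.Helper49.FormalPullback

variable {A : Type u} [CommRing A] {X : Scheme.{u}} [X.Over (Spec (CommRingCat.of A))]

theorem smulModΓ_naturality {M N : X.Modules} (φ : M ⟶ N) (r : Coh.Γtop X) :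
    Formal.smulModΓ M r ≫ φ = φ ≫ Formal.smulModΓ N r := by
  apply Scheme.Modules.hom_ext
  intro U
  ext s
  change (φ.app U).hom (((Formal.smulModΓ M r).app U).hom s) =
    ((Formal.smulModΓ N r).app U).hom ((φ.app U).hom s)
  rw [smulModΓ_app, smulModΓ_app]
  exact Scheme.Modules.Hom.app_smul φ _ s

theorem smulMod_naturality {M N : X.Modules} (φ : M ⟶ N) (a : A) :
    Formal.smulMod A M a ≫ φ = φ ≫ Formal.smulMod A N a :=
  smulModΓ_naturality φ _

theorem ι_smulFamily (J : Ideal A) (M : X.Modules) (a : J) :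
    Sigma.ι (fun _ : J => M) a ≫ Formal.smulFamily J M = Formal.smulMod A M (a : A) := by
  unfold Formal.smulFamily
  rw [Sigma.ι_desc]

theorem smulFamily_comp_eq_zero_iff (J : Ideal A) {M T : X.Modules} (g : M ⟶ T) :
    Formal.smulFamily J M ≫ g = 0 ↔ ∀ a ∈ J, Formal.smulMod A M a ≫ g = 0 := by
  constructor
  · intro h a ha
    have := congrArg (fun k => Sigma.ι (fun _ : J => M) ⟨a, ha⟩ ≫ k) h
    simp only [comp_zero] at this
    rw [← Category.assoc, ι_smulFamily] at this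
    exact this
  · intro h
    apply Sigma.hom_ext
    intro a
    rw [← Category.assoc, ι_smulFamily, comp_zero]
    exact h a a.2

theorem killedBy_iff (J : Ideal A) (M : X.Modules) :
    Formal.KilledBy J M ↔ Formal.smulFamily J M = 0 := by
  have := smulFamily_comp_eq_zero_iff J (𝟙 M)
  simp only [Category.comp_id] at this
  exact this.symm

/-- `π : M ⟶ Q` exhibits `Q` as `M / J M`. -/
def IsQuot (J : Ideal A) {M Q : X.Modules} (π : M ⟶ Q) : Prop :=
  ∃ h : Formal.smulFamily J M ≫ π = 0, Nonempty (IsColimit (CokernelCofork.ofπ π h))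

theorem isQuot_iff (J : Ideal A) {M Q : X.Modules} (π : M ⟶ Q) :
    IsQuot J π ↔ ∃ h : Formal.smulFamily J M ≫ π = 0, IsIso (cokernel.desc _ π h) := by
  constructor
  · rintro ⟨h, ⟨hc⟩⟩
    exact ⟨h, isIso_desc_of_isColimit _ _ h hc⟩
  · rintro ⟨h, hi⟩
    haveI := hi
    exact ⟨h, ⟨isColimitOfIsIsoDesc _ _ h⟩⟩

theorem IsQuot.epi {J : Ideal A} {M Q : X.Modules} {π : M ⟶ Q} (h : IsQuot J π) : Epi π := by
  obtain ⟨h, ⟨hc⟩⟩ := h
  exact epi_of_isColimit_cofork hc

theorem isQuot_modPowπ (I : Ideal A) (n : ℕ) (M : X.Modules) :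
    IsQuot (I ^ n) (Formal.modPowπ I n M) :=
  ⟨cokernel.condition _, ⟨cokernelIsCokernel _⟩⟩

theorem IsQuot.comp {J' J : Ideal A} (hJ : J' ≤ J) {M Q R : X.Modules} {π : M ⟶ Q} {ρ : Q ⟶ R}
    (h1 : IsQuot J' π) (h2 : IsQuot J ρ) : IsQuot J (π ≫ ρ) := by
  haveI := h1.epi
  haveI := h2.epi
  obtain ⟨w1, ⟨c1⟩⟩ := h1
  obtain ⟨w2, ⟨c2⟩⟩ := h2
  have w : Formal.smulFamily J M ≫ π ≫ ρ = 0 := by
    rw [smulFamily_comp_eq_zero_iff]
    intro a ha
    rw [← Category.assoc, smulMod_naturality, Category.assoc]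
    rw [(smulFamily_comp_eq_zero_iff J ρ).mp w2 a ha, comp_zero]
  refine ⟨w, ⟨?_⟩⟩
  have key : ∀ {T : X.Modules} (g : M ⟶ T), Formal.smulFamily J M ≫ g = 0 →
      ∃ g'' : R ⟶ T, (π ≫ ρ) ≫ g'' = g := by
    intro T g hg
    have hg1 : Formal.smulFamily J' M ≫ g = 0 := by
      rw [smulFamily_comp_eq_zero_iff]
      intro a ha
      exact (smulFamily_comp_eq_zero_iff J g).mp hg a (hJ ha)
    let g' : Q ⟶ T := c1.desc (CokernelCofork.ofπ g hg1)
    have hg' : π ≫ g' = g := c1.fac (CokernelCofork.ofπ g hg1) WalkingParallelPair.one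
    have hg2 : Formal.smulFamily J Q ≫ g' = 0 := by
      rw [smulFamily_comp_eq_zero_iff]
      intro a ha
      rw [← cancel_epi π, comp_zero, ← Category.assoc, ← smulMod_naturality, Category.assoc, hg']
      exact (smulFamily_comp_eq_zero_iff J g).mp hg a ha
    let g'' : R ⟶ T := c2.desc (CokernelCofork.ofπ g' hg2)
    have hg'' : ρ ≫ g'' = g' := c2.fac (CokernelCofork.ofπ g' hg2) WalkingParallelPair.one
    exact ⟨g'', by rw [Category.assoc, hg'', hg']⟩
  exact CokernelCofork.IsColimit.ofπ _ _ (fun g hg => (key g hg).choose)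
    (fun g hg => (key g hg).choose_spec)
    (fun g hg m hm => by
      rw [← cancel_epi (π ≫ ρ), hm, (key g hg).choose_spec])


theorem smulMod_zero (M : X.Modules) : Formal.smulMod A M 0 = 0 := by
  apply Scheme.Modules.hom_ext
  intro U
  ext s
  change ((Formal.smulModΓ M _).app U).hom s = 0
  rw [smulModΓ_app, map_zero, map_zero]
  exact zero_smul _ s

theorem killedBy_bot (M : X.Modules) : Formal.KilledBy (⊥ : Ideal A) M := by
  intro a ha
  rw [(Submodule.mem_bot A).mp ha]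
  exact smulMod_zero M

theorem killedBy_mono {J' J : Ideal A} (hJ : J' ≤ J) {M : X.Modules} (h : Formal.KilledBy J M) :
    Formal.KilledBy J' M := fun a ha => h a (hJ ha)

theorem isQuot_of_isIso {J : Ideal A} {M Q : X.Modules} (hk : Formal.KilledBy J M) (τ : M ⟶ Q)
    [IsIso τ] : IsQuot J τ := by
  have h0 : Formal.smulFamily J M = 0 := (killedBy_iff J M).mp hk
  have w : Formal.smulFamily J M ≫ τ = 0 := by rw [h0, zero_comp]
  refine ⟨w, ⟨CokernelCofork.IsColimit.ofπ _ _ (fun g _ => inv τ ≫ g) (fun g _ => by simp)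
    (fun g _ m hm => by rw [← hm]; simp)⟩⟩

theorem IsQuot.iso_comp {J : Ideal A} {M M' Q : X.Modules} (e : M ⟶ M') [IsIso e] {ρ : M' ⟶ Q}
    (h : IsQuot J ρ) : IsQuot J (e ≫ ρ) :=
  IsQuot.comp bot_le (isQuot_of_isIso (killedBy_bot M) e) h

theorem IsQuot.isIso_of_killedBy {J : Ideal A} {M Q : X.Modules} {π : M ⟶ Q} (h : IsQuot J π)
    (hk : Formal.KilledBy J M) : IsIso π := by
  haveI := h.epi
  obtain ⟨w, ⟨c⟩⟩ := h
  have h0 : Formal.smulFamily J M ≫ 𝟙 M = 0 := by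
    rw [Category.comp_id]; exact (killedBy_iff J M).mp hk
  let g : Q ⟶ M := c.desc (CokernelCofork.ofπ (𝟙 M) h0)
  have hg : π ≫ g = 𝟙 M := c.fac (CokernelCofork.ofπ (𝟙 M) h0) WalkingParallelPair.one
  refine ⟨⟨g, hg, ?_⟩⟩
  rw [← cancel_epi π, ← Category.assoc, hg, Category.id_comp, Category.comp_id]

theorem IsQuot.exists_iso {J : Ideal A} {M Q₁ Q₂ : X.Modules} {π₁ : M ⟶ Q₁} {π₂ : M ⟶ Q₂}
    (h1 : IsQuot J π₁) (h2 : IsQuot J π₂) : ∃ e : Q₁ ≅ Q₂, π₁ ≫ e.hom = π₂ := by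
  obtain ⟨w1, ⟨c1⟩⟩ := h1
  obtain ⟨w2, ⟨c2⟩⟩ := h2
  exact ⟨c1.coconePointUniqueUpToIso c2,
    c1.comp_coconePointUniqueUpToIso_hom c2 WalkingParallelPair.one⟩


section Main

variable (I : Ideal A) (F : ℕᵒᵖ ⥤ X.Modules)

/-- the transition map `F_m ⟶ F_n` for `n ≤ m`. -/
noncomputable abbrev tr {n m : ℕ} (h : n ≤ m) : F.obj (op m) ⟶ F.obj (op n) :=
  F.map (homOfLE h).op

theorem tr_comp {n m k : ℕ} (h1 : n ≤ m) (h2 : m ≤ k) :
    tr F h2 ≫ tr F h1 = tr F (h1.trans h2) := by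
  unfold tr
  rw [← F.map_comp]
  rfl

theorem tr_self (n : ℕ) : tr F (le_refl n) = 𝟙 _ := by
  unfold tr
  exact F.map_id _

variable {I F}

theorem isQuot_tr_succ (hF : Formal.IsCohFormal I F) (n : ℕ) :
    IsQuot (I ^ (n + 1)) (tr F (Nat.le_succ n)) :=
  (isQuot_iff _ _).mpr (hF.2.2 n)

theorem isQuot_tr (hF : Formal.IsCohFormal I F) (n k : ℕ) :
    IsQuot (I ^ (n + 1)) (tr F (Nat.le_add_right n k)) := by
  induction k with
  | zero =>
    have : tr F (Nat.le_add_right n 0) = 𝟙 _ := tr_self F n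
    rw [this]
    exact isQuot_of_isIso (hF.2.1 n) (𝟙 _)
  | succ k ih =>
    have e : tr F (Nat.le_add_right n (k + 1)) =
        tr F (Nat.le_succ (n + k)) ≫ tr F (Nat.le_add_right n k) := (tr_comp F _ _).symm
    rw [e]
    exact IsQuot.comp (Ideal.pow_le_pow_right (by omega)) (isQuot_tr_succ hF (n + k)) ih

theorem isQuot_tr' (hF : Formal.IsCohFormal I F) {n m : ℕ} (h : n ≤ m) :
    IsQuot (I ^ (n + 1)) (tr F h) := by
  obtain ⟨k, rfl⟩ := Nat.exists_eq_add_of_le h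
  exact isQuot_tr hF n k

theorem isIso_tr (hF : Formal.IsCohFormal I F) {c : ℕ}
    (hc : ∀ n : ℕ, Formal.KilledBy (I ^ c) (F.obj (op n))) {n m : ℕ} (hn : c ≤ n + 1)
    (h : n ≤ m) : IsIso (tr F h) :=
  (isQuot_tr' hF h).isIso_of_killedBy (killedBy_mono (Ideal.pow_le_pow_right hn) (hc m))

/-- a coherent formal module killed by a fixed power of `I` is the system `M / I^(n+1) M`. -/
theorem exists_completion_iso (hF : Formal.IsCohFormal I F) {c : ℕ}
    (hc : ∀ n : ℕ, Formal.KilledBy (I ^ c) (F.obj (op n))) :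
    Nonempty (Formal.completion I (F.obj (op c)) ≅ F) := by
  have hiso : ∀ {n m : ℕ} (hn : c ≤ n) (h : n ≤ m), IsIso (tr F h) := fun hn h =>
    isIso_tr hF hc (by omega) h
  -- the maps `F_c ⟶ F_n`
  let τ : ∀ (n m : ℕ) (hm : c ≤ m) (hn : n ≤ m), F.obj (op c) ⟶ F.obj (op n) :=
    fun n m hm hn => (haveI := hiso le_rfl hm; inv (tr F hm)) ≫ tr F hn
  have hτ_indep : ∀ (n m m' : ℕ) (hm : c ≤ m) (hn : n ≤ m) (hmm : m ≤ m'),
      τ n m' (hm.trans hmm) (hn.trans hmm) = τ n m hm hn := by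
    intro n m m' hm hn hmm
    haveI := hiso le_rfl hm
    haveI := hiso le_rfl (hm.trans hmm)
    haveI := hiso hm hmm
    show inv (tr F (hm.trans hmm)) ≫ tr F (hn.trans hmm) = inv (tr F hm) ≫ tr F hn
    rw [IsIso.inv_comp_eq, ← tr_comp F hn hmm]
    conv_rhs => rw [← tr_comp F hm hmm]
    simp
  have hτ_quot : ∀ (n m : ℕ) (hm : c ≤ m) (hn : n ≤ m), IsQuot (I ^ (n + 1)) (τ n m hm hn) := by
    intro n m hm hn
    haveI := hiso le_rfl hm
    exact IsQuot.iso_comp (inv (tr F hm)) (isQuot_tr' hF hn)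
  have hτ_tr : ∀ (n m : ℕ) (hm : c ≤ m) (hn : n + 1 ≤ m),
      τ (n + 1) m hm hn ≫ tr F (Nat.le_succ n) = τ n m hm ((Nat.le_succ n).trans hn) := by
    intro n m hm hn
    show (_ ≫ tr F hn) ≫ tr F (Nat.le_succ n) = _ ≫ tr F ((Nat.le_succ n).trans hn)
    rw [Category.assoc, tr_comp]
  -- the isomorphisms
  have he : ∀ n : ℕ, ∃ e : Formal.modPow I (n + 1) (F.obj (op c)) ≅ F.obj (op n),
      Formal.modPowπ I (n + 1) (F.obj (op c)) ≫ e.hom = τ n (max n c) (le_max_right _ _)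
        (le_max_left _ _) := fun n =>
    IsQuot.exists_iso (isQuot_modPowπ I (n + 1) (F.obj (op c))) (hτ_quot n _ _ _)
  choose e he using he
  have hnat' : ∀ n : ℕ, Formal.modPowTrans I (n + 1) (F.obj (op c)) ≫ (e n).hom =
      (e (n + 1)).hom ≫ tr F (Nat.le_succ n) := by
    intro n
    haveI := (isQuot_modPowπ I (n + 1 + 1) (F.obj (op c))).epi
    refine (cancel_epi (Formal.modPowπ I (n + 1 + 1) (F.obj (op c)))).mp ?_
    rw [← Category.assoc, Formal.modPowπ_trans, he n, ← Category.assoc, he (n + 1)]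
    have h2 : max n c ≤ max (n + 1) c := max_le_max (Nat.le_succ n) le_rfl
    rw [← hτ_indep n (max n c) (max (n + 1) c) (le_max_right _ _) (le_max_left _ _) h2]
    exact (hτ_tr n (max (n + 1) c) (le_max_right _ _) (le_max_left _ _)).symm
  have hnat : ∀ n : ℕ, (Formal.completion I (F.obj (op c))).map (homOfLE (n.le_add_right 1)).op ≫
      (e n).hom = (e (n + 1)).hom ≫ F.map (homOfLE (n.le_add_right 1)).op := by
    intro n
    have h1 : (Formal.completion I (F.obj (op c))).map (homOfLE (n.le_add_right 1)).op =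
        Formal.modPowTrans I (n + 1) (F.obj (op c)) :=
      Functor.ofOpSequence_map_homOfLE_succ _ n
    rw [h1]
    exact hnat' n
  let φ : Formal.completion I (F.obj (op c)) ⟶ F :=
    NatTrans.ofOpSequence (fun n => (e n).hom) hnat
  haveI : ∀ k : ℕᵒᵖ, IsIso (φ.app k) := fun k => by
    show IsIso ((e k.unop).hom)
    infer_instance
  haveI : IsIso φ := NatIso.isIso_of_isIso_app φ
  exact ⟨asIso φ⟩

end Main

end Groth.Agent.Lib.Helper49.FormalConst
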