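import Mathlib
import Groth.Prelude.Def_Formal
import Groth.Prelude.Def_DerCA
import Groth.Prelude.Def_Algz
import Groth.Agent.Lib.Helper49.FormalConst

/-!
# Coherent formal modules as pro-objects

Shared library of helper49 (namespace `Groth.Agent.Lib.Helper49.FormalPro`).
-/

set_option autoImplicit false
universe u
open CategoryTheory CategoryTheory.Limits AlgebraicGeometry Opposite

namespace Groth.Agent.Lib.Helper49.FormalPro

open Groth.Agent.Lib.Helper49.FormalConst

variable {A : Type u} [CommRing A] {X : Scheme.{u}} [X.Over (Spec (CommRingCat.of A))]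

theorem IsQuot.exists_desc {J : Ideal A} {M Q T : X.Modules} {π : M ⟶ Q} (h : IsQuot J π)
    (g : M ⟶ T) (hT : Formal.KilledBy J T) : ∃ g' : Q ⟶ T, π ≫ g' = g := by
  obtain ⟨w, ⟨c⟩⟩ := h
  have hg : Formal.smulFamily J M ≫ g = 0 := by
    rw [smulFamily_comp_eq_zero_iff]
    intro a ha
    rw [smulMod_naturality, hT a ha, comp_zero]
  exact ⟨c.desc (CokernelCofork.ofπ g hg), c.fac _ WalkingParallelPair.one⟩

variable {I : Ideal A} {F G : ℕᵒᵖ ⥤ X.Modules}

/-- Full faithfulness of `Coh(X, I O_X)` in pro-objects, on a representative. -/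
theorem existsUnique_factor (hF : Formal.IsCohFormal I F) (hG : Formal.IsCohFormal I G)
    (m : ℕ → ℕ) (hm : Monotone m) (hle : ∀ n : ℕ, n ≤ m n) (π : DerCA.reindex F hm ⟶ F)
    (hπ : ∀ n : ℕ, π.app (op n) = F.map (homOfLE (hle n)).op) (α : DerCA.reindex F hm ⟶ G) :
    ∃! β : F ⟶ G, π ≫ β = α := by
  have hepi : ∀ n : ℕ, Epi (π.app (op n)) := by
    intro n
    rw [hπ n]
    exact (isQuot_tr' hF (hle n)).epi
  have hex : ∀ n : ℕ, ∃ b : F.obj (op n) ⟶ G.obj (op n), π.app (op n) ≫ b = α.app (op n) := by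
    intro n
    rw [hπ n]
    exact IsQuot.exists_desc (isQuot_tr' hF (hle n)) (α.app (op n)) (hG.2.1 n)
  choose b hb using hex
  let β : F ⟶ G :=
    { app := fun n => b n.unop
      naturality := by
        intro k n f
        have := hepi k.unop
        rw [← cancel_epi (π.app (op k.unop))]
        have h1 : π.app (op k.unop) ≫ F.map f = (DerCA.reindex F hm).map f ≫ π.app (op n.unop) :=
          (π.naturality f).symm
        have h2 : (DerCA.reindex F hm).map f ≫ α.app (op n.unop) =
            α.app (op k.unop) ≫ G.map f := α.naturality f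
        rw [← Category.assoc, h1, Category.assoc, hb, h2, ← Category.assoc, hb] }
  refine ⟨β, ?_, ?_⟩
  · apply NatTrans.ext
    funext n
    exact hb n.unop
  · intro β' hβ'
    apply NatTrans.ext
    funext n
    have := hepi n.unop
    rw [← cancel_epi (π.app (op n.unop))]
    have h1 : π.app (op n.unop) ≫ β'.app n = α.app n := congrArg (fun k => k.app n) hβ'
    exact h1.trans (hb n.unop).symm

/-- Pro-isomorphic coherent formal modules are isomorphic. -/
theorem nonempty_iso_of_isProIsomorphic (hF : Formal.IsCohFormal I F)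
    (hG : Formal.IsCohFormal I G) (h : Algz.IsProIsomorphic F G) : Nonempty (F ≅ G) := by
  obtain ⟨m, hm, hle, a, ha⟩ := h
  let π : DerCA.reindex F hm ⟶ F :=
    { app := fun n => F.map (homOfLE (hle n.unop)).op
      naturality := by
        intro k n f
        change F.map _ ≫ F.map _ = F.map _ ≫ F.map _
        rw [← F.map_comp, ← F.map_comp]
        rfl }
  obtain ⟨β, hβ, -⟩ := existsUnique_factor hF hG m hm hle π (fun n => rfl) a
  let a' : ∀ n : ℕ, F.obj (op (m n)) ⟶ G.obj (op n) := fun n => a.app (op n)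
  have hβn : ∀ n : ℕ, F.map (homOfLE (hle n)).op ≫ β.app (op n) = a' n :=
    fun n => congrArg (fun k => k.app (op n)) hβ
  have hiso : ∀ n : ℕ, IsIso (β.app (op n)) := by
    intro n
    obtain ⟨k, hnk, b₀, hb1₀, hb2₀⟩ := ha n
    -- `b : G_k ⟶ F_{m n}`
    let b : G.obj (op k) ⟶ F.obj (op (m n)) := b₀
    have hb1 : a' k ≫ b = F.map (homOfLE (hm hnk)).op := hb1₀
    have hb2 : b ≫ a' n = G.map (homOfLE hnk).op := hb2₀
    have hGq := isQuot_tr' hG hnk
    have hGepi := hGq.epi
    obtain ⟨γ, hγ⟩ := IsQuot.exists_desc hGq (b ≫ F.map (homOfLE (hle n)).op) (hF.2.1 n)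
    refine ⟨γ, ?_, ?_⟩
    · -- `β_n ≫ γ = 𝟙`
      have hk : n ≤ m k := hnk.trans (hle k)
      have hFq := isQuot_tr' hF hk
      have := hFq.epi
      rw [← cancel_epi (tr F hk)]
      have e1 : tr F hk = F.map (homOfLE (hle k)).op ≫ F.map (homOfLE hnk).op := by
        unfold tr
        rw [← F.map_comp]
        rfl
      have hnat : F.map (homOfLE hnk).op ≫ β.app (op n) = β.app (op k) ≫ G.map (homOfLE hnk).op :=
        β.naturality (homOfLE hnk).op
      rw [Category.comp_id, e1, Category.assoc, ← Category.assoc (F.map (homOfLE hnk).op), hnat,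
        Category.assoc, hγ, ← Category.assoc, ← Category.assoc, hβn k, hb1, ← F.map_comp,
        ← F.map_comp]
      rfl
    · -- `γ ≫ β_n = 𝟙`
      rw [← cancel_epi (tr G hnk), ← Category.assoc, hγ, Category.assoc, hβn n, Category.comp_id]
      exact hb2
  have hiso' : ∀ n : ℕᵒᵖ, IsIso (β.app n) := fun n => hiso n.unop
  have : IsIso β := NatIso.isIso_of_isIso_app β
  exact ⟨asIso β⟩

end Groth.Agent.Lib.Helper49.FormalPro
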