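import Mathlib
import Groth.Prelude.Def_Formal
import Groth.Prelude.Def_DerCA
import Groth.Prelude.Def_Algz
import Groth.Agent.Lib.Helper49.FormalPro
import Groth.Agent.Lib.Helper49.FiniteTypeLocal
import Groth.Agent.Lib.Helper49.QCohLocal
import Groth.Agent.Lib.Helper45.LocalizingOn

/-!
# Restriction of coherent formal modules to opens; canonical extensions

Shared library of helper49 (namespace `Groth.Agent.Lib.Helper49.FormalRestrict`).
-/

set_option autoImplicit false
universe v u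
open CategoryTheory CategoryTheory.Limits AlgebraicGeometry Opposite

namespace Groth.Agent.Lib.Helper49.FormalRestrict

open Groth.Agent.Lib.Helper49.FormalConst Groth.Agent.Lib.Helper49.FormalPullback
  Groth.Agent.Lib.Helper49

section Pro

variable {C : Type u} [Category.{v} C] {D : Type u} [Category.{v} D]

theorem isProIso_whiskerRight (R : C ⥤ D) {X Y : ARSys.PS C} (a : X ⟶ Y)
    (h : DerCA.IsProIso a) : DerCA.IsProIso (Functor.whiskerRight a R) := by
  intro n
  obtain ⟨m, hnm, b, hb1, hb2⟩ := h n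
  refine ⟨m, hnm, R.map b, ?_, ?_⟩
  · change R.map (a.app (op m)) ≫ R.map b = R.map (ARSys.tr X hnm)
    rw [← R.map_comp, hb1]
  · change R.map b ≫ R.map (a.app (op n)) = R.map (ARSys.tr Y hnm)
    rw [← R.map_comp, hb2]

theorem isProIso_iso_comp {X' X Y : ARSys.PS C} (e : X' ≅ X) (a : X ⟶ Y)
    (h : DerCA.IsProIso a) : DerCA.IsProIso (e.hom ≫ a) := by
  intro n
  obtain ⟨m, hnm, b, hb1, hb2⟩ := h n
  refine ⟨m, hnm, b ≫ e.inv.app (op n), ?_, ?_⟩
  · change (e.hom.app (op m) ≫ a.app (op m)) ≫ b ≫ e.inv.app (op n) = ARSys.tr X' hnm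
    rw [Category.assoc, ← Category.assoc (a.app (op m)), hb1]
    have := e.inv.naturality (homOfLE hnm).op
    change ARSys.tr X hnm ≫ e.inv.app (op n) = e.inv.app (op m) ≫ ARSys.tr X' hnm at this
    rw [this, ← Category.assoc, ← NatTrans.comp_app, e.hom_inv_id, NatTrans.id_app,
      Category.id_comp]
  · change (b ≫ e.inv.app (op n)) ≫ e.hom.app (op n) ≫ a.app (op n) = ARSys.tr Y hnm
    rw [Category.assoc, ← Category.assoc (e.inv.app (op n)), ← NatTrans.comp_app, e.inv_hom_id,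
      NatTrans.id_app, Category.id_comp, hb2]

theorem isProIsomorphic_comp (R : C ⥤ D) {X Y : ARSys.PS C} (h : Algz.IsProIsomorphic X Y) :
    Algz.IsProIsomorphic (X ⋙ R) (Y ⋙ R) := by
  obtain ⟨m, hm, hle, a, ha⟩ := h
  exact ⟨m, hm, hle, Functor.whiskerRight a R, isProIso_whiskerRight R a ha⟩

theorem isProIsomorphic_of_iso_left {X' X Y : ARSys.PS C} (e : X' ≅ X)
    (h : Algz.IsProIsomorphic X Y) : Algz.IsProIsomorphic X' Y := by
  obtain ⟨m, hm, hle, a, ha⟩ := h
  exact ⟨m, hm, hle, (Functor.isoWhiskerLeft (Monotone.functor hm).op e).hom ≫ a,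
    isProIso_iso_comp (Functor.isoWhiskerLeft (Monotone.functor hm).op e) a ha⟩

end Pro

section Iso

variable {A : Type u} [CommRing A] {X : Scheme.{u}} [X.Over (Spec (CommRingCat.of A))]

theorem killedBy_of_iso {J : Ideal A} {M N : X.Modules} (e : M ≅ N) (h : Formal.KilledBy J M) :
    Formal.KilledBy J N := by
  intro a ha
  have h1 := smulMod_naturality e.hom a
  rw [h a ha, zero_comp] at h1
  rw [← cancel_epi e.hom, ← h1, comp_zero]

theorem IsQuot.comp_iso {J : Ideal A} {M Q Q' : X.Modules} {π : M ⟶ Q} (h : IsQuot J π)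
    (e : Q ⟶ Q') [IsIso e] : IsQuot J (π ≫ e) := by
  have := h.epi
  obtain ⟨w, ⟨c⟩⟩ := h
  have w' : Formal.smulFamily J M ≫ π ≫ e = 0 := by rw [← Category.assoc, w, zero_comp]
  refine ⟨w', ⟨?_⟩⟩
  refine CokernelCofork.IsColimit.ofπ _ _
    (fun g hg => inv e ≫ c.desc (CokernelCofork.ofπ g hg)) (fun g hg => ?_) (fun g hg m hm => ?_)
  · rw [Category.assoc, IsIso.hom_inv_id_assoc]
    exact c.fac (CokernelCofork.ofπ g hg) WalkingParallelPair.one
  · rw [← cancel_epi e, IsIso.hom_inv_id_assoc, ← cancel_epi π, ← Category.assoc, hm]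
    exact (c.fac (CokernelCofork.ofπ g hg) WalkingParallelPair.one).symm

theorem isCohFormal_of_iso {I : Ideal A} {G₁ G₂ : ℕᵒᵖ ⥤ X.Modules} (e : G₁ ≅ G₂)
    (h : Formal.IsCohFormal I G₁) : Formal.IsCohFormal I G₂ := by
  obtain ⟨h1, h2, h3⟩ := h
  refine ⟨fun n => ?_, fun n => killedBy_of_iso (e.app (op n)) (h2 n), fun n => ?_⟩
  · exact ⟨isQuasicoherent_of_iso (e.app (op n)) (h1 n).1,
      isFiniteType_of_iso (e.app (op n)) (h1 n).2⟩
  · rw [← isQuot_iff]
    have hq : IsQuot (I ^ (n + 1)) (G₁.map (homOfLE (Nat.le_succ n)).op) :=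
      (isQuot_iff _ _).mpr (h3 n)
    have e1 : G₂.map (homOfLE (Nat.le_succ n)).op =
        e.inv.app (op (n + 1)) ≫ (G₁.map (homOfLE (Nat.le_succ n)).op ≫ e.hom.app (op n)) := by
      rw [e.hom.naturality, ← Category.assoc, ← NatTrans.comp_app, e.inv_hom_id,
        NatTrans.id_app, Category.id_comp]
    rw [e1]
    exact IsQuot.iso_comp (e.inv.app (op (n + 1))) (IsQuot.comp_iso hq (e.hom.app (op n)))

end Iso

section Restrict

variable {A : Type u} [CommRing A] {X : Scheme.{u}} [X.Over (Spec (CommRingCat.of A))]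
  (U : X.Opens) [(U : Scheme.{u}).Over (Spec (CommRingCat.of A))]
  (hf : U.ι ≫ (X ↘ Spec (CommRingCat.of A)) = (U : Scheme.{u}) ↘ Spec (CommRingCat.of A))

include hf in
theorem isCohFormal_restrictSys {I : Ideal A} {G' : ℕᵒᵖ ⥤ X.Modules}
    (h : Formal.IsCohFormal I G') : Formal.IsCohFormal I (Algz.restrictSys U G') := by
  have h1 := isCohFormal_pullback U.ι A hf I G' h
  exact isCohFormal_of_iso
    (Functor.isoWhiskerLeft G' (Scheme.Modules.restrictFunctorIsoPullback U.ι)).symm h1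

end Restrict

end Groth.Agent.Lib.Helper49.FormalRestrict
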