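import Mathlib
import Groth.Prelude.Def_Formal
import Groth.Prelude.Def_DerCA
import Groth.Prelude.Def_Algz
import Groth.Agent.Lib.Helper49.FormalRestrict0
import Groth.Agent.Lib.Helper49.QCohLocal
import Groth.Agent.Lib.Helper49.FiniteTypeLocal
import Groth.Agent.Lib.Helper49.QcqsModules
import Groth.Agent.Lib.Helper18.LocNoethCover

/-!
# The completion `(M/I^(n+1)M)` of a coherent module is a coherent formal module

Shared library of helper49 (namespace `Groth.Agent.Lib.Helper49.FormalCompletion`).
-/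

set_option autoImplicit false
set_option linter.style.haveILetI false
universe u
open CategoryTheory CategoryTheory.Limits AlgebraicGeometry Opposite

namespace Groth.Agent.Lib.Helper49.FormalCompletion

open Groth.Agent.Lib.Helper49.FormalConst Groth.Agent.Lib.Helper49.FormalPullback
  Groth.Agent.Lib.Helper49.FormalRestrict Groth.Agent.Lib.Helper49

section Basic

variable {A : Type u} [CommRing A] {X : Scheme.{u}} [X.Over (Spec (CommRingCat.of A))]

theorem IsQuot.killedBy {J : Ideal A} {M Q : X.Modules} {π : M ⟶ Q} (h : IsQuot J π) :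
    Formal.KilledBy J Q := by
  have := h.epi
  obtain ⟨w, -⟩ := h
  intro a ha
  rw [← cancel_epi π, ← smulMod_naturality, comp_zero]
  exact (smulFamily_comp_eq_zero_iff J π).mp w a ha

theorem IsQuot.of_epi_comp {J : Ideal A} {M Q R : X.Modules} (π : M ⟶ Q) [Epi π] {ρ : Q ⟶ R}
    (h : IsQuot J (π ≫ ρ)) : IsQuot J ρ := by
  have hepi := h.epi
  have hk := IsQuot.killedBy h
  have hρ : Epi ρ := epi_of_epi π ρ
  have w : Formal.smulFamily J Q ≫ ρ = 0 := by
    rw [smulFamily_comp_eq_zero_iff]
    intro a ha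
    rw [smulMod_naturality, hk a ha, comp_zero]
  obtain ⟨w', ⟨c⟩⟩ := h
  have key : ∀ {T : X.Modules} (g : Q ⟶ T), Formal.smulFamily J Q ≫ g = 0 →
      Formal.smulFamily J M ≫ π ≫ g = 0 := by
    intro T g hg
    rw [smulFamily_comp_eq_zero_iff] at hg ⊢
    intro a ha
    rw [← Category.assoc, smulMod_naturality, Category.assoc, hg a ha, comp_zero]
  refine ⟨w, ⟨CokernelCofork.IsColimit.ofπ _ _
    (fun {T} g hg => c.desc (CokernelCofork.ofπ (π ≫ g) (key g hg))) (fun {T} g hg => ?_)
    (fun {T} g hg m hm => ?_)⟩⟩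
  · have h1 : (π ≫ ρ) ≫ c.desc (CokernelCofork.ofπ (π ≫ g) (key g hg)) = π ≫ g :=
      c.fac (CokernelCofork.ofπ (π ≫ g) (key g hg)) WalkingParallelPair.one
    rw [Category.assoc] at h1
    exact (cancel_epi π).mp h1
  · have h1 : (π ≫ ρ) ≫ c.desc (CokernelCofork.ofπ (π ≫ g) (key g hg)) = π ≫ g :=
      c.fac (CokernelCofork.ofπ (π ≫ g) (key g hg)) WalkingParallelPair.one
    rw [Category.assoc] at h1
    rw [← cancel_epi ρ, hm]
    exact ((cancel_epi π).mp h1).symm

theorem isQuot_modPowTrans (I : Ideal A) (n : ℕ) (M : X.Modules) :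
    IsQuot (I ^ n) (Formal.modPowTrans I n M) := by
  have := (isQuot_modPowπ I (n + 1) M).epi
  apply IsQuot.of_epi_comp (Formal.modPowπ I (n + 1) M)
  rw [Formal.modPowπ_trans]
  exact isQuot_modPowπ I n M

theorem completion_map_succ (I : Ideal A) (M : X.Modules) (n : ℕ) :
    (Formal.completion I M).map (homOfLE (Nat.le_succ n)).op = Formal.modPowTrans I (n + 1) M :=
  Functor.ofOpSequence_map_homOfLE_succ _ n

theorem isCoh_modPow (I : Ideal A) (n : ℕ) {M : X.Modules} (hM : Coh.IsCoh M) :
    Coh.IsCoh (Formal.modPow I n M) := by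
  have := (isQuot_modPowπ I n M).epi
  refine ⟨?_, isFiniteType_of_epi (Formal.modPowπ I n M) hM.2⟩
  apply isQuasicoherent_cokernel _ _ hM.1
  exact isQuasicoherent_colimit _ (fun _ => hM.1)

/-- The completion of a coherent module is a coherent formal module. -/
theorem isCohFormal_completion (I : Ideal A) {M : X.Modules} (hM : Coh.IsCoh M) :
    Formal.IsCohFormal I (Formal.completion I M) := by
  refine ⟨fun n => isCoh_modPow I (n + 1) hM,
    fun n => IsQuot.killedBy (isQuot_modPowπ I (n + 1) M), fun n => ?_⟩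
  rw [← isQuot_iff]
  rw [completion_map_succ]
  exact isQuot_modPowTrans I (n + 1) M

/-- If `M` maps compatibly onto the terms of a system `F`, the `n`-th map being an
`I^(n+1)`-quotient, then `F` is the completion of `M`. -/
theorem exists_completion_iso_of_isQuot (I : Ideal A) (F : ℕᵒᵖ ⥤ X.Modules) (M : X.Modules)
    (ρ : ∀ n : ℕ, M ⟶ F.obj (op n)) (hρ : ∀ n, IsQuot (I ^ (n + 1)) (ρ n))
    (hcompat : ∀ n, ρ (n + 1) ≫ F.map (homOfLE (Nat.le_succ n)).op = ρ n) :
    ∃ e : Formal.completion I M ≅ F,
      ∀ n, Formal.modPowπ I (n + 1) M ≫ e.hom.app (op n) = ρ n := by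
  have he : ∀ n : ℕ, ∃ e : Formal.modPow I (n + 1) M ≅ F.obj (op n),
      Formal.modPowπ I (n + 1) M ≫ e.hom = ρ n := fun n =>
    IsQuot.exists_iso (isQuot_modPowπ I (n + 1) M) (hρ n)
  choose e he using he
  have hnat' : ∀ n : ℕ, Formal.modPowTrans I (n + 1) M ≫ (e n).hom =
      (e (n + 1)).hom ≫ F.map (homOfLE (Nat.le_succ n)).op := by
    intro n
    haveI := (isQuot_modPowπ I (n + 1 + 1) M).epi
    refine (cancel_epi (Formal.modPowπ I (n + 1 + 1) M)).mp ?_
    rw [← Category.assoc, Formal.modPowπ_trans, he n, ← Category.assoc, he (n + 1)]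
    exact (hcompat n).symm
  have hnat : ∀ n : ℕ, (Formal.completion I M).map (homOfLE (n.le_add_right 1)).op ≫
      (e n).hom = (e (n + 1)).hom ≫ F.map (homOfLE (n.le_add_right 1)).op := by
    intro n
    have h1 : (Formal.completion I M).map (homOfLE (n.le_add_right 1)).op =
        Formal.modPowTrans I (n + 1) M :=
      Functor.ofOpSequence_map_homOfLE_succ _ n
    rw [h1]
    exact hnat' n
  let φ : Formal.completion I M ⟶ F :=
    NatTrans.ofOpSequence (fun n => (e n).hom) hnat
  haveI : ∀ k : ℕᵒᵖ, IsIso (φ.app k) := fun k => by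
    show IsIso ((e k.unop).hom)
    infer_instance
  haveI : IsIso φ := NatIso.isIso_of_isIso_app φ
  exact ⟨asIso φ, fun n => he n⟩

/-- Isomorphic modules have isomorphic completions. -/
theorem completion_congr (I : Ideal A) {M N : X.Modules} (e : M ≅ N) :
    Nonempty (Formal.completion I M ≅ Formal.completion I N) := by
  obtain ⟨e', -⟩ := exists_completion_iso_of_isQuot I (Formal.completion I N) M
    (fun n => e.hom ≫ Formal.modPowπ I (n + 1) N)
    (fun n => IsQuot.iso_comp e.hom (isQuot_modPowπ I (n + 1) N))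
    (fun n => by
      have h1 : e.hom ≫ Formal.modPowπ I (n + 1 + 1) N ≫ Formal.modPowTrans I (n + 1) N =
          e.hom ≫ Formal.modPowπ I (n + 1) N := by rw [Formal.modPowπ_trans]
      have h2 : (Formal.completion I N).map (homOfLE (Nat.le_succ n)).op =
          Formal.modPowTrans I (n + 1) N := completion_map_succ I N n
      rw [h2, Category.assoc]
      exact h1)
  exact ⟨e'⟩

end Basic

section Pullback

variable {X Y : Scheme.{u}} (f : X ⟶ Y) (A : Type u) [CommRing A]
  [X.Over (Spec (CommRingCat.of A))] [Y.Over (Spec (CommRingCat.of A))]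
  (hf : f ≫ (Y ↘ Spec (CommRingCat.of A)) = X ↘ Spec (CommRingCat.of A))

include hf in
theorem isQuot_pullback {J : Ideal A} {M Q : Y.Modules} {π : M ⟶ Q} (h : IsQuot J π) :
    IsQuot J ((Scheme.Modules.pullback f).map π) := by
  rw [isQuot_iff] at h ⊢
  obtain ⟨w, hiso⟩ := h
  haveI := hiso
  haveI : PreservesColimitsOfSize.{u, u} (Scheme.Modules.pullback f) :=
    (Scheme.Modules.pullbackPushforwardAdjunction f).leftAdjoint_preservesColimits
  exact exists_isIso_desc_map (Scheme.Modules.pullback f) (Formal.smulFamily J M) π w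
    (sigmaComparison (Scheme.Modules.pullback f) (fun _ : ↥J => M))
    (Formal.smulFamily J ((Scheme.Modules.pullback f).obj M))
    (smulFamily_pullback f A hf _ _)

end Pullback

section Restrict

variable {A : Type u} [CommRing A] {X : Scheme.{u}} [X.Over (Spec (CommRingCat.of A))]
  (U : X.Opens) [(U : Scheme.{u}).Over (Spec (CommRingCat.of A))]
  (hf : U.ι ≫ (X ↘ Spec (CommRingCat.of A)) = (U : Scheme.{u}) ↘ Spec (CommRingCat.of A))

include hf in
theorem isQuot_restrict {J : Ideal A} {M Q : X.Modules} {π : M ⟶ Q} (h : IsQuot J π) :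
    IsQuot J ((Scheme.Modules.restrictFunctor U.ι).map π) := by
  have h1 := isQuot_pullback U.ι A hf h
  have e : (Scheme.Modules.restrictFunctor U.ι).map π =
      (Scheme.Modules.restrictFunctorIsoPullback U.ι).hom.app M ≫
        ((Scheme.Modules.pullback U.ι).map π ≫
          (Scheme.Modules.restrictFunctorIsoPullback U.ι).inv.app Q) := by
    rw [← Category.assoc, ← (Scheme.Modules.restrictFunctorIsoPullback U.ι).hom.naturality π,
      Category.assoc, ← NatTrans.comp_app, Iso.hom_inv_id, NatTrans.id_app, Category.comp_id]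
  rw [e]
  exact IsQuot.iso_comp _ (IsQuot.comp_iso h1 _)

include hf in
/-- Restriction to an open commutes with completion. -/
theorem exists_completion_restrict_iso (I : Ideal A) (M : X.Modules) :
    ∃ e : Formal.completion I ((Scheme.Modules.restrictFunctor U.ι).obj M) ≅
        Algz.restrictSys U (Formal.completion I M),
      ∀ n, Formal.modPowπ I (n + 1) ((Scheme.Modules.restrictFunctor U.ι).obj M) ≫
        e.hom.app (op n) = (Scheme.Modules.restrictFunctor U.ι).map (Formal.modPowπ I (n + 1) M) := by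
  apply exists_completion_iso_of_isQuot I (Algz.restrictSys U (Formal.completion I M))
    ((Scheme.Modules.restrictFunctor U.ι).obj M)
    (fun n => (Scheme.Modules.restrictFunctor U.ι).map (Formal.modPowπ I (n + 1) M))
    (fun n => isQuot_restrict U hf (isQuot_modPowπ I (n + 1) M))
  intro n
  change (Scheme.Modules.restrictFunctor U.ι).map (Formal.modPowπ I (n + 1 + 1) M) ≫
    (Scheme.Modules.restrictFunctor U.ι).map ((Formal.completion I M).map (homOfLE (Nat.le_succ n)).op) = _
  rw [← Functor.map_comp]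
  congr 1
  have h2 : (Formal.completion I M).map (homOfLE (Nat.le_succ n)).op =
      Formal.modPowTrans I (n + 1) M := completion_map_succ I M n
  rw [h2]
  exact Formal.modPowπ_trans I (n + 1) M

end Restrict

section Extend

variable (A : Type u) [CommRing A] [IsNoetherianRing A]

/-- A coherent module on an open of `Spec A` (for `A` Noetherian) extends to a coherent module on
`Spec A`. -/
theorem exists_coh_extension (U : (Spec (CommRingCat.of A)).Opens)
    (F : (U : Scheme.{u}).Modules) (hF : Coh.IsCoh F) :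
    ∃ F' : (Spec (CommRingCat.of A)).Modules, Coh.IsCoh F' ∧
      Nonempty ((Scheme.Modules.restrictFunctor U.ι).obj F' ≅ F) := by
  have hFq := hF.1
  have hX : ∀ x : Spec (CommRingCat.of A), ∃ V : (Spec (CommRingCat.of A)).Opens,
      x ∈ V ∧ TopologicalSpace.NoetherianSpace (V : Set (Spec (CommRingCat.of A))) :=
    fun x => ⟨⊤, TopologicalSpace.Opens.mem_top x, inferInstance⟩
  have hPq : ((Scheme.Modules.pushforward U.ι).obj F).IsQuasicoherent :=
    isQuasicoherent_pushforward _ U.ι
  let i : F ⟶ ((Scheme.Modules.pushforward U.ι).obj F).restrict U.ι :=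
    inv ((Scheme.Modules.restrictAdjunction U.ι).counit.app F)
  obtain ⟨G', i', e, -, hq, hft, -⟩ :=
    Groth.Agent.Lib.Helper18.LSubM.exists_extension_of_mono_of_locallyNoetherianSpace hX i hF.2
  exact ⟨G', ⟨hq, hft⟩, ⟨e⟩⟩

/-- The completion of a coherent module on `U ⊆ Spec A` extends to `Spec A`. -/
theorem extends_of_completion_iso (I : Ideal A) (U : (Spec (CommRingCat.of A)).Opens)
    (G : ℕᵒᵖ ⥤ (U : Scheme.{u}).Modules) (F : (U : Scheme.{u}).Modules) (hF : Coh.IsCoh F)
    (e : Formal.completion I F ≅ G) :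
    @Algz.Extends A _ (Spec (CommRingCat.of A)) ⟨𝟙 (Spec (CommRingCat.of A))⟩ I U G := by
  let _ : (Spec (CommRingCat.of A)).Over (Spec (CommRingCat.of A)) := ⟨𝟙 _⟩
  obtain ⟨F', hF', ⟨e0⟩⟩ := exists_coh_extension A U F hF
  have hf : U.ι ≫ (Spec (CommRingCat.of A) ↘ Spec (CommRingCat.of A)) =
      (U : Scheme.{u}) ↘ Spec (CommRingCat.of A) := Category.comp_id _
  obtain ⟨e1, -⟩ := exists_completion_restrict_iso U hf I F'
  obtain ⟨e2⟩ := completion_congr I e0
  exact ⟨Formal.completion I F', isCohFormal_completion I hF', ⟨e1.symm ≪≫ e2 ≪≫ e⟩⟩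

end Extend

end Groth.Agent.Lib.Helper49.FormalCompletion
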