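import Mathlib
import Groth.Prelude.Def_Formal
import Groth.Prelude.Def_DerCA
import Groth.Prelude.Def_Algz
import Groth.Agent.Lib.Helper16.ARML2
import Groth.Agent.Lib.Helper42.QCohAffineSections
import Groth.Agent.Lib.Helper49.FormalRestrict0

set_option autoImplicit false
universe v u
open CategoryTheory CategoryTheory.Limits AlgebraicGeometry Opposite

namespace Groth.Agent.Lib.Helper49.ProML

open Groth.Agent.Lib.Helper16.ARML

variable {C : Type u} [Category.{v} C] [Abelian C]

omit [Abelian C] in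
theorem tr_comp (X : ARSys.PS C) {a b c : ℕ} (h1 : a ≤ b) (h2 : b ≤ c) :
    ARSys.tr X h2 ≫ ARSys.tr X h1 = ARSys.tr X (h1.trans h2) := by
  change X.map _ ≫ X.map _ = X.map _
  rw [← X.map_comp]
  rfl

/-- A system pro-isomorphic to a strict system satisfies the Mittag-Leffler condition. -/
theorem isML_of_isProIsomorphic {X Y : ARSys.PS C} (h : Algz.IsProIsomorphic X Y)
    (hY : ARSys.IsStrict Y) : ARSys.IsML X := by
  obtain ⟨m, hm, hle, a, ha⟩ := h
  let a' : ∀ n : ℕ, X.obj (op (m n)) ⟶ Y.obj (op n) := fun n => a.app (op n)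
  have hnat : ∀ {k l : ℕ} (hkl : k ≤ l),
      ARSys.tr X (hm hkl) ≫ a' k = a' l ≫ ARSys.tr Y hkl := fun hkl =>
    a.naturality (homOfLE hkl).op
  intro n
  obtain ⟨k, hnk, b, hb1, hb2⟩ := ha n
  change Y.obj (op k) ⟶ X.obj (op (m n)) at b
  have hb1' : a' k ≫ b = ARSys.tr X (hm hnk) := hb1
  have hnmk : n ≤ m k := hnk.trans (hle k)
  -- the stable image
  have key : ∀ s : ℕ, m k ≤ n + s →
      imageSubobject (ARSys.shiftMap X s n) = imageSubobject (b ≫ ARSys.tr X (hle n)) := by
    intro s hs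
    apply le_antisymm
    · apply imageSubobject_le_of_fac _ (ARSys.tr X hs ≫ a' k)
      rw [Category.assoc, ← Category.assoc (a' k), hb1', tr_comp, tr_comp]
      rfl
    · -- go further out
      obtain ⟨k', hk'1, hk'2⟩ : ∃ k' : ℕ, k ≤ k' ∧ n + s ≤ k' := ⟨max k (n + s), le_max_left _ _,
        le_max_right _ _⟩
      obtain ⟨k'', hk'', b'', -, hb''2⟩ := ha k'
      change Y.obj (op k'') ⟶ X.obj (op (m k')) at b''
      have hb''2' : b'' ≫ a' k' = ARSys.tr Y hk'' := hb''2
      have hepi : Epi (ARSys.tr Y (hk'1.trans hk'')) := hY _ _ _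
      rw [← imageSubobject_epi_comp (ARSys.tr Y (hk'1.trans hk'')) (b ≫ ARSys.tr X (hle n))]
      apply imageSubobject_le_of_fac _ (b'' ≫ ARSys.tr X (hk'2.trans (hle k')))
      rw [← tr_comp Y hk'1 hk'', ← hb''2', Category.assoc, Category.assoc,
        ← Category.assoc (a' k'), ← hnat hk'1, Category.assoc, ← Category.assoc (a' k), hb1',
        tr_comp, tr_comp, Category.assoc]
      congr 1
      exact (tr_comp X (Nat.le_add_right n s) (hk'2.trans (hle k'))).symm
  refine ⟨m k - n, fun s hs => ?_⟩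
  rw [key s (by omega), key (m k - n) (by omega)]


section Sect

open Groth.Agent.Lib.Helper49.FormalRestrict Groth.Agent.Lib.Helper49.FormalConst

variable (A : Type u) [CommRing A]

/-- An epimorphism of quasi-coherent modules on `Spec A` is surjective on global sections. -/
theorem epi_moduleSpecΓ_map {M N : (Spec (CommRingCat.of A)).Modules} [M.IsQuasicoherent]
    [N.IsQuasicoherent] (φ : M ⟶ N) [Epi φ] :
    Epi ((moduleSpecΓFunctor (R := CommRingCat.of A)).map φ) := by
  rw [ModuleCat.epi_iff_surjective]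
  have h := Groth.Agent.Lib.Helper42.app_surjective_of_epi φ (isAffineOpen_top (Spec (CommRingCat.of A)))
  exact h

theorem isStrict_Γ {I : Ideal A} (G' : ℕᵒᵖ ⥤ (Spec (CommRingCat.of A)).Modules)
    (hG' : @Formal.IsCohFormal A _ (Spec (CommRingCat.of A)) ⟨𝟙 (Spec (CommRingCat.of A))⟩ I G') :
    ARSys.IsStrict (G' ⋙ moduleSpecΓFunctor (R := CommRingCat.of A)) := by
  let _ : (Spec (CommRingCat.of A)).Over (Spec (CommRingCat.of A)) := ⟨𝟙 _⟩
  intro n m h
  have h1 : Epi (ARSys.tr G' h) := (isQuot_tr' hG' h).epi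
  have := (hG'.1 n).1
  have := (hG'.1 m).1
  exact epi_moduleSpecΓ_map A (ARSys.tr G' h)

theorem isML_sectMod (I : Ideal A) (U : (Spec (CommRingCat.of A)).Opens)
    (G : ℕᵒᵖ ⥤ (U : Scheme.{u}).Modules) (h : Algz.CanonicallyExtends A I U G) :
    ARSys.IsML (Algz.sectMod A U G) := by
  obtain ⟨G', hG', hpro⟩ := h
  have h1 := isProIsomorphic_comp (moduleSpecΓFunctor (R := CommRingCat.of A)) hpro
  have e : Algz.sectMod A U G ≅
      Algz.sectSys A U G ⋙ moduleSpecΓFunctor (R := CommRingCat.of A) :=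
    Functor.isoWhiskerLeft (Algz.sectMod A U G) (tilde.toTildeΓNatIso (R := CommRingCat.of A))
  exact isML_of_isProIsomorphic (isProIsomorphic_of_iso_left e h1) (isStrict_Γ A G' hG')

end Sect

end Groth.Agent.Lib.Helper49.ProML
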