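import Mathlib
import Groth.Prelude.Def_Formal
import Groth.Prelude.Def_DerCA
import Groth.Prelude.Def_Algz
import Groth.Agent.Lib.Helper49.FormalCompletion
import Groth.Agent.Lib.Helper49.ProML

set_option autoImplicit false
set_option linter.style.haveILetI false
universe u
open CategoryTheory CategoryTheory.Limits AlgebraicGeometry Opposite

namespace Groth.Agent.Lib.Helper49.FormalAffine

open Groth.Agent.Lib.Helper49.FormalConst Groth.Agent.Lib.Helper49.FormalPullback
  Groth.Agent.Lib.Helper49.FormalRestrict Groth.Agent.Lib.Helper49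

variable (A : Type u) [CommRing A]

/-- `Spec A` as a scheme over itself through the identity. -/
@[reducible] noncomputable def specOver : (Spec (CommRingCat.of A)).Over (Spec (CommRingCat.of A)) := ⟨𝟙 _⟩

attribute [local instance 100000] specOver

/-- The global sections functor. -/
noncomputable abbrev Γf : (Spec (CommRingCat.of A)).Modules ⥤ ModuleCat.{u} A :=
  moduleSpecΓFunctor (R := CommRingCat.of A)

theorem toGlobal_id (a : A) :
    Coh.toGlobal (Spec (CommRingCat.of A) ↘ Spec (CommRingCat.of A)) a =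
      (Scheme.ΓSpecIso (CommRingCat.of A)).inv.hom a := by
  unfold Coh.toGlobal
  change (Scheme.Hom.appTop (𝟙 (Spec (CommRingCat.of A)))).hom
    ((Scheme.ΓSpecIso (CommRingCat.of A)).inv.hom a) = _
  simp

theorem Γ_smulMod (M : (Spec (CommRingCat.of A)).Modules) (a : A) (t : ↑((Γf A).obj M)) :
    ((Γf A).map (Formal.smulMod A M a)).hom t = a • t := by
  change ((Formal.smulMod A M a).app ⊤).hom t = _
  unfold Formal.smulMod
  rw [smulModΓ_app, toGlobal_id]
  have h : Coh.resTop (Spec (CommRingCat.of A)) (op ⊤)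
      ((Scheme.ΓSpecIso (CommRingCat.of A)).inv.hom a) =
      (Scheme.ΓSpecIso (CommRingCat.of A)).inv.hom a := by
    change ((Spec (CommRingCat.of A)).ringCatSheaf.obj.map (𝟙 (op ⊤))).hom _ = _
    rw [CategoryTheory.Functor.map_id]
    rfl
  exact (congrArg (fun r : Γ(Spec (CommRingCat.of A), ⊤) => r • (show Γ(M, ⊤) from t)) h).trans rfl

/-- The tilde functor. -/
noncomputable abbrev Tf : ModuleCat.{u} A ⥤ (Spec (CommRingCat.of A)).Modules :=
  tilde.functor (CommRingCat.of A)

theorem additive_aux (R : CommRingCat.{u}) : (tilde.functor R).Additive := inferInstance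

theorem qcoh_aux (R : CommRingCat.{u}) (P : ModuleCat.{u} R) :
    ((tilde.functor R).obj P).IsQuasicoherent := inferInstance

instance : (Tf A).Additive := additive_aux (CommRingCat.of A)

instance (P : ModuleCat.{u} A) : ((Tf A).obj P).IsQuasicoherent := qcoh_aux (CommRingCat.of A) P

/-- The counit `Γ(M)~ ⟶ M`. -/
noncomputable def ε (M : (Spec (CommRingCat.of A)).Modules) :
    (Tf A).obj ((Γf A).obj M) ⟶ M :=
  Scheme.Modules.fromTildeΓ (R := CommRingCat.of A) M

theorem ε_nat {M N : (Spec (CommRingCat.of A)).Modules} (φ : M ⟶ N) :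
    (Tf A).map ((Γf A).map φ) ≫ ε A N = ε A M ≫ φ :=
  (Scheme.Modules.fromTildeΓNatTrans (R := CommRingCat.of A)).naturality φ

theorem isIso_ε (M : (Spec (CommRingCat.of A)).Modules) [M.IsQuasicoherent] : IsIso (ε A M) :=
  (isQuasicoherent_iff_isIso_fromTildeΓ (R := CommRingCat.of A) M).mp inferInstance

/-- The unit `P ≅ Γ(P~)`. -/
noncomputable def η (P : ModuleCat.{u} A) : P ≅ (Γf A).obj ((Tf A).obj P) :=
  (tilde.toTildeΓNatIso (R := CommRingCat.of A)).app P

theorem η_nat {P P' : ModuleCat.{u} A} (f : P ⟶ P') :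
    (η A P).hom ≫ (Γf A).map ((Tf A).map f) = f ≫ (η A P').hom :=
  ((tilde.toTildeΓNatIso (R := CommRingCat.of A)).hom.naturality f).symm

theorem η_Γε (M : (Spec (CommRingCat.of A)).Modules) :
    (η A ((Γf A).obj M)).hom ≫ (Γf A).map (ε A M) = 𝟙 _ :=
  (tilde.adjunction (R := CommRingCat.of A)).right_triangle_components M

/-- `Γ` is faithful on morphisms out of quasi-coherent modules. -/
theorem hom_eq_zero_of_Γ_map_eq_zero {M N : (Spec (CommRingCat.of A)).Modules}
    [M.IsQuasicoherent] (φ : M ⟶ N) (h : (Γf A).map φ = 0) : φ = 0 := by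
  have := isIso_ε A M
  have h1 := ε_nat A φ
  rw [h, Functor.map_zero, zero_comp] at h1
  rw [← cancel_epi (ε A M), ← h1, comp_zero]

theorem killedBy_tilde {J : Ideal A} (P : ModuleCat.{u} A) (hP : ∀ a ∈ J, ∀ p : P, a • p = 0) :
    Formal.KilledBy J ((Tf A).obj P) := by
  intro a ha
  apply hom_eq_zero_of_Γ_map_eq_zero
  ext t
  rw [Γ_smulMod]
  obtain ⟨p, rfl⟩ : ∃ p : P, (η A P).hom.hom p = t :=
    ⟨(η A P).inv.hom t, by
      change ((η A P).inv ≫ (η A P).hom).hom t = t
      rw [Iso.inv_hom_id]; rfl⟩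
  rw [← map_smul, hP a ha p, map_zero]
  rfl

theorem Γ_map_smul {M N : (Spec (CommRingCat.of A)).Modules} (φ : M ⟶ N) (a : A)
    (t : ↑((Γf A).obj M)) : ((Γf A).map φ).hom (a • t) = a • ((Γf A).map φ).hom t :=
  map_smul _ _ _

theorem mem_smul_top_of_isQuot_aux {J : Ideal A} (N : ModuleCat.{u} A)
    {M Q : (Spec (CommRingCat.of A)).Modules} (e : (Tf A).obj N ≅ M) {π : M ⟶ Q}
    (h : IsQuot J π) (s : N)
    (hs : ((Γf A).map (e.hom ≫ π)).hom ((η A N).hom.hom s) = 0) :
    s ∈ J • (⊤ : Submodule A N) := by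
  let K : Submodule A N := J • ⊤
  let P : ModuleCat.{u} A := ModuleCat.of A (N ⧸ K)
  let q₀ : N ⟶ P := ModuleCat.ofHom K.mkQ
  let q : M ⟶ (Tf A).obj P := e.inv ≫ (Tf A).map q₀
  have hT : Formal.KilledBy J ((Tf A).obj P) := by
    apply killedBy_tilde
    intro a ha p
    obtain ⟨t, rfl⟩ := K.mkQ_surjective p
    rw [← map_smul, Submodule.mkQ_apply, Submodule.Quotient.mk_eq_zero]
    exact Submodule.smul_mem_smul ha Submodule.mem_top
  obtain ⟨g, hg⟩ := FormalPro.IsQuot.exists_desc h q hT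
  have h1 : e.hom ≫ π ≫ g = (Tf A).map q₀ := by
    rw [hg, ← Category.assoc, e.hom_inv_id, Category.id_comp]
  have h2 : ((Γf A).map ((Tf A).map q₀)).hom ((η A N).hom.hom s) = 0 := by
    rw [← h1, ← Category.assoc, Functor.map_comp, ModuleCat.hom_comp, LinearMap.comp_apply, hs,
      map_zero]
  have h3 : (η A P).hom.hom (q₀.hom s) = 0 := by
    have := η_nat A q₀
    rw [← h2]
    exact (congrArg (fun k => k.hom s) this).symm
  have h4 : q₀.hom s = 0 := by
    have hinj : Function.Injective (η A P).hom.hom :=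
      ((ModuleCat.mono_iff_injective _).mp inferInstance)
    exact hinj (h3.trans (map_zero _).symm)
  exact (Submodule.Quotient.mk_eq_zero K).mp h4

/-- Sections of a `J`-quotient on `Spec A`: the kernel of `Γ(M) → Γ(Q)` is `J Γ(M)`. -/
theorem ker_Γ_map_of_isQuot {J : Ideal A} {M Q : (Spec (CommRingCat.of A)).Modules}
    [M.IsQuasicoherent] {π : M ⟶ Q} (h : IsQuot J π) :
    LinearMap.ker ((Γf A).map π).hom = J • (⊤ : Submodule A ↑((Γf A).obj M)) := by
  apply le_antisymm
  · intro s hs
    rw [LinearMap.mem_ker] at hs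
    have := isIso_ε A M
    apply mem_smul_top_of_isQuot_aux A ((Γf A).obj M) (asIso (ε A M)) h s
    rw [Functor.map_comp, ModuleCat.hom_comp, LinearMap.comp_apply]
    have h1 : ((Γf A).map (asIso (ε A M)).hom).hom ((η A ((Γf A).obj M)).hom.hom s) = s :=
      congrArg (fun k => k.hom s) (η_Γε A M)
    rw [h1, hs]
  · rw [Submodule.smul_le]
    intro a ha t _
    rw [LinearMap.mem_ker, Γ_map_smul, ← Γ_smulMod, FormalCompletion.IsQuot.killedBy h a ha]
    rfl

/-- Sections of a `J`-quotient of quasi-coherent modules on `Spec A`: `Γ(M) → Γ(Q)` is onto. -/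
theorem Γ_map_surjective_of_isQuot {J : Ideal A} {M Q : (Spec (CommRingCat.of A)).Modules}
    [M.IsQuasicoherent] [Q.IsQuasicoherent] {π : M ⟶ Q} (h : IsQuot J π) :
    Function.Surjective ((Γf A).map π).hom := by
  have := h.epi
  exact (ModuleCat.epi_iff_surjective _).mp (ProML.epi_moduleSpecΓ_map A π)

end Groth.Agent.Lib.Helper49.FormalAffine
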