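import Mathlib
import Groth.Prelude.Def_ARSys
import Groth.Prelude.Def_DerCA
import Groth.Prelude.Def_Algz

/-!
# Limits of inverse systems of modules indexed by ℕ

Shared library of helper49 (namespace `Groth.Agent.Lib.Helper49.LimMod`).
-/

set_option autoImplicit false
universe u
open CategoryTheory CategoryTheory.Limits Opposite

namespace Groth.Agent.Lib.Helper49.LimMod

variable {A : Type u} [CommRing A] (Y : ℕᵒᵖ ⥤ ModuleCat.{u} A)

/-- transition maps -/
noncomputable abbrev tr {n m : ℕ} (h : n ≤ m) : Y.obj (op m) ⟶ Y.obj (op n) :=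
  Y.map (homOfLE h).op

theorem tr_tr {a b c : ℕ} (h1 : a ≤ b) (h2 : b ≤ c) (x : Y.obj (op c)) :
    (tr Y h1).hom ((tr Y h2).hom x) = (tr Y (h1.trans h2)).hom x := by
  change (Y.map _ ≫ Y.map _).hom x = _
  rw [← Y.map_comp]
  rfl

theorem tr_self (n : ℕ) (x : Y.obj (op n)) : (tr Y (le_refl n)).hom x = x := by
  change (Y.map (𝟙 _)).hom x = x
  rw [Y.map_id]
  rfl

theorem π_tr {n m : ℕ} (h : n ≤ m) (z : ↑(limit Y)) :
    (tr Y h).hom ((limit.π Y (op m)).hom z) = (limit.π Y (op n)).hom z := by
  change (limit.π Y (op m) ≫ Y.map _).hom z = _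
  rw [limit.w]

theorem limit_ext (z z' : ↑(limit Y)) (h : ∀ n, (limit.π Y (op n)).hom z = (limit.π Y (op n)).hom z') :
    z = z' :=
  Concrete.limit_ext Y z z' (fun j => h j.unop)

/-- A compatible family of elements defines an element of the limit. -/
theorem exists_limit_elem (x : ∀ n, Y.obj (op n))
    (hx : ∀ n, (tr Y (Nat.le_succ n)).hom (x (n + 1)) = x n) :
    ∃ z : ↑(limit Y), ∀ n, (limit.π Y (op n)).hom z = x n := by
  have hx' : ∀ {n m : ℕ} (h : n ≤ m), (tr Y h).hom (x m) = x n := by
    intro n m h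
    induction m, h using Nat.le_induction with
    | base => exact tr_self Y n _
    | succ m h ih =>
      rw [← tr_tr Y h (Nat.le_succ m), hx m, ih]
  let c : Cone Y :=
    { pt := ModuleCat.of A A
      π :=
        { app := fun j => ModuleCat.ofHom (LinearMap.toSpanSingleton A (Y.obj j) (x j.unop))
          naturality := by
            intro j j' f
            ext
            have h : j'.unop ≤ j.unop := leOfHom f.unop
            have hf : f = (homOfLE h).op := Subsingleton.elim _ _
            simp only [Functor.const_obj_obj, Functor.const_obj_map, Category.id_comp,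
              ModuleCat.hom_comp, ModuleCat.hom_ofHom, LinearMap.comp_apply,
              LinearMap.toSpanSingleton_apply, one_smul]
            rw [hf]
            exact (hx' h).symm } }
  refine ⟨(limit.lift Y c).hom (1 : A), fun n => ?_⟩
  change (limit.lift Y c ≫ limit.π Y (op n)).hom (1 : A) = x n
  rw [limit.lift_π]
  change (LinearMap.toSpanSingleton A (Y.obj (op n)) (x n)) 1 = x n
  rw [LinearMap.toSpanSingleton_apply, one_smul]

section Adic

/-- An element of `(span (range f)) • N` is a combination `∑ f i • δ i` with `δ i ∈ N`. -/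
theorem exists_sum_of_mem_span_smul {M : Type*} [AddCommGroup M] [Module A M] {r : ℕ}
    (f : Fin r → A) (N : Submodule A M) {d : M} (hd : d ∈ Ideal.span (Set.range f) • N) :
    ∃ δ : Fin r → M, (∀ i, δ i ∈ N) ∧ d = ∑ i, f i • δ i := by
  refine Submodule.smul_induction_on hd (fun a ha n hn => ?_) (fun x y hx hy => ?_)
  · obtain ⟨c, rfl⟩ := Ideal.mem_span_range_iff_exists_fun.mp ha
    refine ⟨fun i => c i • n, fun i => N.smul_mem _ hn, ?_⟩
    rw [Finset.sum_smul]
    refine Finset.sum_congr rfl fun i _ => ?_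
    rw [smul_smul, mul_comm]
  · obtain ⟨δ, hδ, rfl⟩ := hx
    obtain ⟨δ', hδ', rfl⟩ := hy
    refine ⟨fun i => δ i + δ' i, fun i => N.add_mem (hδ i) (hδ' i), ?_⟩
    rw [← Finset.sum_add_distrib]
    refine Finset.sum_congr rfl fun i _ => ?_
    rw [smul_add]

variable (I : Ideal A)

/-- Stacks 09B8 (kernel part): for an inverse system with surjective transition maps
`Y_m → Y_n` of kernel `I^(n+1) Y_m`, the kernel of `lim Y → Y_j` is `I^(j+1) lim Y`. -/
theorem ker_π_le (hsurj : ∀ {n m : ℕ} (h : n ≤ m), Function.Surjective (tr Y h).hom)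
    (hker : ∀ {n m : ℕ} (h : n ≤ m),
      LinearMap.ker (tr Y h).hom = I ^ (n + 1) • (⊤ : Submodule A (Y.obj (op m))))
    (hfg : I.FG) (j : ℕ) :
    LinearMap.ker (limit.π Y (op j)).hom ≤ I ^ (j + 1) • (⊤ : Submodule A ↑(limit Y)) := by
  intro x hx
  rw [LinearMap.mem_ker] at hx
  obtain ⟨r, f, hf⟩ := Submodule.fg_iff_exists_fin_generating_family.mp
    (hfg.pow : (I ^ (j + 1)).FG)
  change Ideal.span (Set.range f) = I ^ (j + 1) at hf
  -- `I^(n+1)` kills `Y_n`
  have hkill : ∀ n : ℕ, I ^ (n + 1) • (⊤ : Submodule A (Y.obj (op n))) = ⊥ := by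
    intro n
    rw [← hker (le_refl n), LinearMap.ker_eq_bot]
    intro a b hab
    rwa [tr_self, tr_self] at hab
  let xs : ∀ m : ℕ, Y.obj (op m) := fun m => (limit.π Y (op m)).hom x
  have hxs : ∀ {n m : ℕ} (h : n ≤ m), (tr Y h).hom (xs m) = xs n := fun h => π_tr Y h x
  -- the recursion step
  have step : ∀ (k : ℕ) (y : Fin r → Y.obj (op (j + k))), xs (j + k) = ∑ i, f i • y i →
      ∃ y' : Fin r → Y.obj (op (j + (k + 1))), xs (j + (k + 1)) = ∑ i, f i • y' i ∧
        ∀ i, (tr Y (Nat.add_le_add_left (Nat.le_succ k) j)).hom (y' i) - y i ∈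
          I ^ k • (⊤ : Submodule A (Y.obj (op (j + k)))) := by
    intro k y hy
    have hle : j + k ≤ j + (k + 1) := Nat.add_le_add_left (Nat.le_succ k) j
    choose y0 hy0 using fun i => hsurj hle (y i)
    have hd : xs (j + (k + 1)) - ∑ i, f i • y0 i ∈
        Ideal.span (Set.range f) • (I ^ k • (⊤ : Submodule A (Y.obj (op (j + (k + 1)))))) := by
      rw [hf, ← Submodule.mul_smul, ← pow_add]
      have h1 : j + 1 + k = j + k + 1 := by omega
      rw [h1, ← hker hle, LinearMap.mem_ker, map_sub, hxs hle, map_sum, hy, sub_eq_zero]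
      refine Finset.sum_congr rfl fun i _ => ?_
      rw [map_smul, hy0 i]
    obtain ⟨δ, hδ, hdδ⟩ := exists_sum_of_mem_span_smul f _ hd
    refine ⟨fun i => y0 i + δ i, ?_, fun i => ?_⟩
    · rw [sub_eq_iff_eq_add] at hdδ
      rw [hdδ, ← Finset.sum_add_distrib]
      refine Finset.sum_congr rfl fun i _ => ?_
      rw [smul_add]
      exact add_comm _ _
    · rw [map_add, hy0 i, add_sub_cancel_left]
      have := Submodule.mem_map_of_mem (f := (tr Y hle).hom) (hδ i)
      rw [Submodule.map_smul''] at this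
      exact Submodule.smul_mono le_rfl le_top this
  -- the recursive sequence
  let S : ℕ → Type u := fun k =>
    {y : Fin r → Y.obj (op (j + k)) // xs (j + k) = ∑ i, f i • y i}
  have step' : ∀ (k : ℕ) (y : S k), ∃ y' : S (k + 1),
      ∀ i, (tr Y (Nat.add_le_add_left (Nat.le_succ k) j)).hom (y'.1 i) - y.1 i ∈
        I ^ k • (⊤ : Submodule A (Y.obj (op (j + k)))) := by
    intro k y
    obtain ⟨y', h1, h2⟩ := step k y.1 y.2
    exact ⟨⟨y', h1⟩, h2⟩
  choose nxt hnxt using step'
  have h0 : xs (j + 0) = ∑ i, f i • (0 : Fin r → Y.obj (op (j + 0))) i := by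
    simp only [Pi.zero_apply, smul_zero, Finset.sum_const_zero]
    exact hx
  let ys : ∀ k : ℕ, S k := fun k => Nat.rec ⟨0, h0⟩ (fun k y => nxt k y) k
  have hys : ∀ (k : ℕ) (i : Fin r),
      (tr Y (Nat.add_le_add_left (Nat.le_succ k) j)).hom ((ys (k + 1)).1 i) - (ys k).1 i ∈
        I ^ k • (⊤ : Submodule A (Y.obj (op (j + k)))) := fun k i => hnxt k (ys k) i
  have hle : ∀ n : ℕ, n ≤ j + (n + 1) := fun n => by omega
  let w : Fin r → ∀ n : ℕ, Y.obj (op n) := fun i n => (tr Y (hle n)).hom ((ys (n + 1)).1 i)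
  have hw : ∀ (i : Fin r) (n : ℕ), (tr Y (Nat.le_succ n)).hom (w i (n + 1)) = w i n := by
    intro i n
    have h1 : j + (n + 1) ≤ j + (n + 1 + 1) := Nat.add_le_add_left (Nat.le_succ (n + 1)) j
    change (tr Y (Nat.le_succ n)).hom ((tr Y (hle (n + 1))).hom ((ys (n + 1 + 1)).1 i)) =
      (tr Y (hle n)).hom ((ys (n + 1)).1 i)
    rw [tr_tr, ← tr_tr Y (hle n) h1, ← sub_eq_zero, ← map_sub]
    have h2 := Submodule.mem_map_of_mem (f := (tr Y (hle n)).hom) (hys (n + 1) i)
    rw [Submodule.map_smul''] at h2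
    have h3 : (tr Y (hle n)).hom ((tr Y h1).hom ((ys (n + 1 + 1)).1 i) - (ys (n + 1)).1 i) ∈
        I ^ (n + 1) • (⊤ : Submodule A (Y.obj (op n))) := Submodule.smul_mono le_rfl le_top h2
    rw [hkill n] at h3
    exact (Submodule.mem_bot A).mp h3
  choose z hz using fun i => exists_limit_elem Y (w i) (hw i)
  have hxz : x = ∑ i, f i • z i := by
    apply limit_ext
    intro n
    rw [map_sum]
    simp only [map_smul, hz]
    change xs n = ∑ i, f i • (tr Y (hle n)).hom ((ys (n + 1)).1 i)
    rw [← hxs (hle n)]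
    have h5 : xs (j + (n + 1)) = ∑ i, f i • (ys (n + 1)).1 i := (ys (n + 1)).2
    rw [congrArg (fun t => (tr Y (hle n)).hom t) h5, map_sum]
    simp only [map_smul]
  rw [hxz]
  refine Submodule.sum_mem _ fun i _ => Submodule.smul_mem_smul ?_ Submodule.mem_top
  rw [← hf]
  exact Ideal.subset_span ⟨i, rfl⟩

end Adic

section Pro

variable {X Y : ℕᵒᵖ ⥤ ModuleCat.{u} A} {m : ℕ → ℕ} (hm : Monotone m)
  (a : DerCA.reindex X hm ⟶ Y)

/-- components of a levelwise map out of a re-indexed system -/
noncomputable abbrev comp (n : ℕ) : X.obj (op (m n)) ⟶ Y.obj (op n) := a.app (op n)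

theorem comp_nat {k l : ℕ} (hkl : k ≤ l) (x : X.obj (op (m l))) :
    (comp hm a k).hom ((tr X (hm hkl)).hom x) = (tr Y hkl).hom ((comp hm a l).hom x) :=
  congrArg (fun t => t.hom x) (a.naturality (homOfLE hkl).op)

/-- the induced map on limits -/
noncomputable def limMap : limit X ⟶ limit Y :=
  limit.lift Y
    { pt := limit X
      π :=
        { app := fun n => limit.π X (op (m n.unop)) ≫ a.app n
          naturality := by
            intro n n' f
            have h1 := a.naturality f
            have h2 : limit.π X (op (m n.unop)) ≫ (DerCA.reindex X hm).map f =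
                limit.π X (op (m n'.unop)) := limit.w X _
            simp only [Functor.const_obj_obj, Functor.const_obj_map, Category.id_comp,
              Category.assoc]
            exact (congrArg (· ≫ a.app n') h2).symm.trans ((Category.assoc _ _ _).trans
              (congrArg (limit.π X (op (m n.unop)) ≫ ·) h1)) } }

theorem limMap_π (n : ℕ) (x : ↑(limit X)) :
    (limit.π Y (op n)).hom ((limMap hm a).hom x) =
      (comp hm a n).hom ((limit.π X (op (m n))).hom x) := by
  change (limMap hm a ≫ limit.π Y (op n)).hom x = _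
  unfold limMap
  rw [limit.lift_π]
  rfl

variable (hle : ∀ n, n ≤ m n) (ha : DerCA.IsProIso a)

include ha hle in
theorem limMap_injective : Function.Injective (limMap hm a).hom := by
  rw [← LinearMap.ker_eq_bot, LinearMap.ker_eq_bot']
  intro x hx
  apply limit_ext
  intro n
  rw [map_zero]
  obtain ⟨k, hnk, b, hb1, -⟩ := ha n
  have h1 : (limit.π X (op (m n))).hom x = 0 := by
    rw [← π_tr X (hm hnk)]
    have h2 : (tr X (hm hnk)).hom ((limit.π X (op (m k))).hom x) =
        b.hom ((comp hm a k).hom ((limit.π X (op (m k))).hom x)) :=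
      (congrArg (fun t => t.hom ((limit.π X (op (m k))).hom x)) hb1).symm
    rw [h2, ← limMap_π, hx, map_zero, map_zero]
    rfl
  rw [← π_tr X (hle n), h1, map_zero]

include ha hle in
theorem limMap_surjective : Function.Surjective (limMap hm a).hom := by
  intro y
  choose k hk b hb1 hb2 using ha
  let ys : ∀ n : ℕ, Y.obj (op n) := fun n => (limit.π Y (op n)).hom y
  have hys : ∀ {n n' : ℕ} (h : n ≤ n'), (tr Y h).hom (ys n') = ys n := fun h => π_tr Y h y
  let b' : ∀ n : ℕ, Y.obj (op (k n)) ⟶ X.obj (op (m n)) := fun n => b n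
  let z : ∀ n : ℕ, X.obj (op (m n)) := fun n => (b' n).hom (ys (k n))
  have hb1' : ∀ (n : ℕ) (t : X.obj (op (m (k n)))),
      (b' n).hom ((comp hm a (k n)).hom t) = (tr X (hm (hk n))).hom t := fun n t =>
    congrArg (fun s => s.hom t) (hb1 n)
  have hb2' : ∀ (n : ℕ) (t : Y.obj (op (k n))),
      (comp hm a n).hom ((b' n).hom t) = (tr Y (hk n)).hom t := fun n t =>
    congrArg (fun s => s.hom t) (hb2 n)
  have haz : ∀ n : ℕ, (comp hm a n).hom (z n) = ys n := fun n => by
    rw [hb2', hys]
  have key : ∀ (j N : ℕ) (hN : k j ≤ N),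
      (tr X ((hle j).trans (hm ((hk j).trans hN)))).hom (z N) =
        (tr X ((hle j).trans (hm (hk j)))).hom (z (k j)) := by
    intro j N hN
    have h1 : (comp hm a (k j)).hom ((tr X (hm hN)).hom (z N)) =
        (comp hm a (k j)).hom (z (k j)) := by
      rw [comp_nat hm a hN, haz, haz, hys]
    have h2 := congrArg (fun t => (b' j).hom t) h1
    simp only [hb1'] at h2
    have h3 := congrArg (fun t => (tr X (hle j)).hom t) h2
    simp only [tr_tr] at h3
    exact h3
  let xs : ∀ j : ℕ, X.obj (op j) := fun j => (tr X ((hle j).trans (hm (hk j)))).hom (z (k j))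
  have hxs : ∀ j : ℕ, (tr X (Nat.le_succ j)).hom (xs (j + 1)) = xs j := by
    intro j
    have h1 := key j (max (k j) (k (j + 1))) (le_max_left _ _)
    have h2 := key (j + 1) (max (k j) (k (j + 1))) (le_max_right _ _)
    change (tr X (Nat.le_succ j)).hom ((tr X _).hom (z (k (j + 1)))) = (tr X _).hom (z (k j))
    rw [← h1, ← h2, tr_tr]
  obtain ⟨x, hx⟩ := exists_limit_elem X xs hxs
  refine ⟨x, ?_⟩
  apply limit_ext
  intro n
  rw [limMap_π, hx]
  change (comp hm a n).hom ((tr X _).hom (z (k (m n)))) = ys n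
  have h1 : n ≤ k (m n) := (hle n).trans (hk (m n))
  have h2 := comp_nat hm a h1 (z (k (m n)))
  rw [haz, hys] at h2
  exact h2

include ha hle in
/-- If the limit topology on `lim Y` is the `I`-adic one and `X` is pro-isomorphic to `Y`, the same
holds for `lim X`. -/
theorem exists_ker_π_le (I : Ideal A)
    (hY : ∀ j : ℕ, LinearMap.ker (limit.π Y (op j)).hom ≤
      I ^ (j + 1) • (⊤ : Submodule A ↑(limit Y))) (k : ℕ) :
    ∃ n : ℕ, LinearMap.ker (limit.π X (op n)).hom ≤ I ^ k • (⊤ : Submodule A ↑(limit X)) := by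
  refine ⟨m k, fun x hx => ?_⟩
  rw [LinearMap.mem_ker] at hx
  have h1 : (limMap hm a).hom x ∈ LinearMap.ker (limit.π Y (op k)).hom := by
    rw [LinearMap.mem_ker, limMap_π, hx, map_zero]
  have h2 : (limMap hm a).hom x ∈ I ^ k • (⊤ : Submodule A ↑(limit Y)) :=
    Submodule.smul_mono (Ideal.pow_le_pow_right (Nat.le_succ k)) le_rfl (hY k h1)
  have h3 : I ^ k • (⊤ : Submodule A ↑(limit Y)) =
      Submodule.map (limMap hm a).hom (I ^ k • (⊤ : Submodule A ↑(limit X))) := by
    rw [Submodule.map_smul'', Submodule.map_top,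
      LinearMap.range_eq_top.mpr (limMap_surjective hm a hle ha)]
  rw [h3] at h2
  obtain ⟨x', hx', hxx'⟩ := h2
  rwa [← limMap_injective hm a hle ha hxx']

end Pro

end Groth.Agent.Lib.Helper49.LimMod
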