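import Mathlib
import Groth.Prelude.Def_Formal
import Groth.Prelude.Def_DerCA
import Groth.Prelude.Def_Algz
import Groth.Agent.Lib.Helper49.FormalAffine
import Groth.Agent.Lib.Helper49.LimMod

/-!
# Consequences of canonical extension for `lim H⁰(U, F_n)`

Shared library of helper49 (namespace `Groth.Agent.Lib.Helper49.CanExtLim`).
-/

set_option autoImplicit false
universe u
open CategoryTheory CategoryTheory.Limits AlgebraicGeometry Opposite

namespace Groth.Agent.Lib.Helper49.CanExtLim

open Groth.Agent.Lib.Helper49.FormalConst Groth.Agent.Lib.Helper49.FormalRestrict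
  Groth.Agent.Lib.Helper49.FormalAffine Groth.Agent.Lib.Helper49

variable (A : Type u) [CommRing A]

attribute [local instance 100000] specOver

/-- the system of global sections of a coherent formal module on `Spec A` -/
noncomputable abbrev ΓSys (G' : ℕᵒᵖ ⥤ (Spec (CommRingCat.of A)).Modules) : ℕᵒᵖ ⥤ ModuleCat.{u} A :=
  G' ⋙ Γf A

theorem isProIsomorphic_sectMod (U : (Spec (CommRingCat.of A)).Opens)
    (G : ℕᵒᵖ ⥤ (U : Scheme.{u}).Modules) {G' : ℕᵒᵖ ⥤ (Spec (CommRingCat.of A)).Modules}
    (hpro : Algz.IsProIsomorphic (Algz.sectSys A U G) G') :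
    Algz.IsProIsomorphic (Algz.sectMod A U G) (ΓSys A G') := by
  have h1 := isProIsomorphic_comp (moduleSpecΓFunctor (R := CommRingCat.of A)) hpro
  have e : Algz.sectMod A U G ≅
      Algz.sectSys A U G ⋙ moduleSpecΓFunctor (R := CommRingCat.of A) :=
    Functor.isoWhiskerLeft (Algz.sectMod A U G) (tilde.toTildeΓNatIso (R := CommRingCat.of A))
  exact isProIsomorphic_of_iso_left e h1

theorem ker_π_ΓSys_le [IsNoetherianRing A] {I : Ideal A}
    {G' : ℕᵒᵖ ⥤ (Spec (CommRingCat.of A)).Modules} (hG' : Formal.IsCohFormal I G') (j : ℕ) :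
    LinearMap.ker (limit.π (ΓSys A G') (op j)).hom ≤
      I ^ (j + 1) • (⊤ : Submodule A ↑(limit (ΓSys A G'))) := by
  apply LimMod.ker_π_le (ΓSys A G') I
  · intro n m h
    have := (hG'.1 n).1
    have := (hG'.1 m).1
    exact Γ_map_surjective_of_isQuot A (isQuot_tr' hG' h)
  · intro n m h
    have := (hG'.1 m).1
    exact ker_Γ_map_of_isQuot A (isQuot_tr' hG' h)
  · exact (isNoetherianRing_iff_ideal_fg A).mp inferInstance I

/-- If `(F_n)` canonically extends, the limit topology on `lim H⁰(U, F_n)` is `I`-adic. -/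
theorem exists_ker_le [IsNoetherianRing A] (I : Ideal A) (U : (Spec (CommRingCat.of A)).Opens)
    (G : ℕᵒᵖ ⥤ (U : Scheme.{u}).Modules) (h : Algz.CanonicallyExtends A I U G) (k : ℕ) :
    ∃ n : ℕ, LinearMap.ker (limit.π (Algz.sectMod A U G) (op n)).hom ≤
      I ^ k • (⊤ : Submodule A ↑(limit (Algz.sectMod A U G))) := by
  obtain ⟨G', hG', hpro⟩ := h
  obtain ⟨m, hm, hle, a, ha⟩ := isProIsomorphic_sectMod A U G hpro
  exact LimMod.exists_ker_π_le hm a hle ha I (fun j => ker_π_ΓSys_le A hG' j) k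

end Groth.Agent.Lib.Helper49.CanExtLim
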