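import Mathlib
import Groth.Prelude.Def_Formal
import Groth.Prelude.Def_DerCA
import Groth.Prelude.Def_Algz
import Groth.Agent.Lib.Helper49.FormalAffine

/-!
# Quotients by ideals on `Spec A`, converse direction

Shared library of helper49 (namespace `Groth.Agent.Lib.Helper49.FormalAffine`).
-/

set_option autoImplicit false
set_option linter.style.haveILetI false
universe u
open CategoryTheory CategoryTheory.Limits AlgebraicGeometry Opposite

namespace Groth.Agent.Lib.Helper49.FormalAffine

open Groth.Agent.Lib.Helper49.FormalConst Groth.Agent.Lib.Helper49.FormalPullback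
  Groth.Agent.Lib.Helper49.FormalRestrict Groth.Agent.Lib.Helper49

variable (A : Type u) [CommRing A]

attribute [local instance 100000] specOver

/-- A morphism of quasi-coherent modules on `Spec A` which is bijective on global sections is an
isomorphism. -/
theorem isIso_of_Γ_bijective {M N : (Spec (CommRingCat.of A)).Modules} [M.IsQuasicoherent]
    [N.IsQuasicoherent] (φ : M ⟶ N) (h : Function.Bijective ((Γf A).map φ).hom) : IsIso φ := by
  have := isIso_ε A M
  have := isIso_ε A N
  have h1 : IsIso ((Γf A).map φ) := (ConcreteCategory.isIso_iff_bijective _).mpr h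
  have h2 : φ = inv (ε A M) ≫ (Tf A).map ((Γf A).map φ) ≫ ε A N := by
    rw [ε_nat, IsIso.inv_hom_id_assoc]
  rw [h2]
  infer_instance

/-- `Γ` of the morphism `N~ ⟶ Q` adjoint to `p : N ⟶ Γ(Q)`. -/
theorem η_Γ_adj {N : ModuleCat.{u} A} {Q : (Spec (CommRingCat.of A)).Modules}
    (p : N ⟶ (Γf A).obj Q) :
    (η A N).hom ≫ (Γf A).map ((Tf A).map p ≫ ε A Q) = p := by
  rw [Functor.map_comp, ← Category.assoc, η_nat, Category.assoc, η_Γε, Category.comp_id]

/-- Converse description of `J`-quotients on `Spec A`: if `p : N → Γ(Q)` is onto with kernel `J N`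
and `Q` is quasi-coherent, then `N~ ⟶ Q` is a `J`-quotient. -/
theorem isQuot_of_surjective_of_ker {J : Ideal A} {N : ModuleCat.{u} A}
    {Q : (Spec (CommRingCat.of A)).Modules} [Q.IsQuasicoherent] (p : N ⟶ (Γf A).obj Q)
    (hp : Function.Surjective p.hom)
    (hk : LinearMap.ker p.hom = J • (⊤ : Submodule A N)) :
    IsQuot J ((Tf A).map p ≫ ε A Q) := by
  set ρ : (Tf A).obj N ⟶ Q := (Tf A).map p ≫ ε A Q with hρ
  have hηρ : ∀ s : N, ((Γf A).map ρ).hom ((η A N).hom.hom s) = p.hom s := fun s =>
    congrArg (fun t => t.hom s) (η_Γ_adj A p)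
  have hηsurj : Function.Surjective (η A N).hom.hom :=
    (ModuleCat.epi_iff_surjective _).mp inferInstance
  -- `Q` is killed by `J`
  have hQ : Formal.KilledBy J Q := by
    intro a ha
    apply hom_eq_zero_of_Γ_map_eq_zero
    ext t
    rw [Γ_smulMod]
    obtain ⟨s, rfl⟩ := hp t
    rw [← map_smul]
    have : a • s ∈ LinearMap.ker p.hom := by
      rw [hk]; exact Submodule.smul_mem_smul ha Submodule.mem_top
    rw [LinearMap.mem_ker.mp this]
    rfl
  have w : Formal.smulFamily J ((Tf A).obj N) ≫ ρ = 0 := by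
    rw [smulFamily_comp_eq_zero_iff]
    intro a ha
    rw [smulMod_naturality, hQ a ha, comp_zero]
  let π' := cokernel.π (Formal.smulFamily J ((Tf A).obj N))
  have hπ' : IsQuot J π' := ⟨cokernel.condition _, ⟨cokernelIsCokernel _⟩⟩
  have hQ'q : (cokernel (Formal.smulFamily J ((Tf A).obj N))).IsQuasicoherent := by
    apply isQuasicoherent_cokernel _ _ inferInstance
    exact isQuasicoherent_colimit _ (fun _ => (inferInstance : ((Tf A).obj N).IsQuasicoherent))
  let d := cokernel.desc (Formal.smulFamily J ((Tf A).obj N)) ρ w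
  have hd : π' ≫ d = ρ := cokernel.π_desc _ _ _
  have hdΓ : ∀ v, ((Γf A).map d).hom (((Γf A).map π').hom v) = ((Γf A).map ρ).hom v := fun v => by
    rw [← hd, Functor.map_comp]; rfl
  have hsurjπ' := Γ_map_surjective_of_isQuot A hπ'
  have hkerπ' := ker_Γ_map_of_isQuot A hπ'
  have hbij : Function.Bijective ((Γf A).map d).hom := by
    constructor
    · rw [← LinearMap.ker_eq_bot, LinearMap.ker_eq_bot']
      intro u hu
      obtain ⟨v, rfl⟩ := hsurjπ' u
      rw [hdΓ] at hu
      obtain ⟨s, rfl⟩ := hηsurj v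
      rw [hηρ] at hu
      have hs : s ∈ J • (⊤ : Submodule A N) := by rw [← hk]; exact hu
      have h2 : (η A N).hom.hom s ∈ J • (⊤ : Submodule A ↑((Γf A).obj ((Tf A).obj N))) := by
        have := Submodule.mem_map_of_mem (f := (η A N).hom.hom) hs
        rw [Submodule.map_smul''] at this
        exact Submodule.smul_mono le_rfl le_top this
      rw [← hkerπ'] at h2
      exact h2
    · intro t
      obtain ⟨s, rfl⟩ := hp t
      exact ⟨((Γf A).map π').hom ((η A N).hom.hom s), by rw [hdΓ, hηρ]⟩
  have := isIso_of_Γ_bijective A d hbij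
  rw [← hd]
  exact IsQuot.comp_iso hπ' d

end Groth.Agent.Lib.Helper49.FormalAffine
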