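import Mathlib
import Groth.Prelude.Def_ARSys
import Groth.Agent.Lib.Helper49.LimMod
import Groth.Agent.Lib.Helper47.ComplMapFinite

/-!
# Limits of adic inverse systems of modules: surjectivity, separatedness, finiteness

Shared library of helper49 (namespace `Groth.Agent.Lib.Helper49.LimMod`).
-/

set_option autoImplicit false
universe u
open CategoryTheory CategoryTheory.Limits Opposite

namespace Groth.Agent.Lib.Helper49.LimMod

variable {A : Type u} [CommRing A] (Y : ℕᵒᵖ ⥤ ModuleCat.{u} A)

/-- For surjective transition maps the projections from the limit are surjective. -/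
theorem π_surjective (hsurj : ∀ {n m : ℕ} (h : n ≤ m), Function.Surjective (tr Y h).hom) (j : ℕ) :
    Function.Surjective (limit.π Y (op j)).hom := by
  intro y
  have hstep : ∀ k : ℕ, j + k ≤ j + (k + 1) := fun k => Nat.add_le_add_left (Nat.le_succ k) j
  choose lift hlift using fun (k : ℕ) (t : Y.obj (op (j + k))) => hsurj (hstep k) t
  let u : ∀ k : ℕ, Y.obj (op (j + k)) := fun k => Nat.rec (motive := fun k => Y.obj (op (j + k)))
    y (fun k t => lift k t) k
  have hu : ∀ k : ℕ, (tr Y (hstep k)).hom (u (k + 1)) = u k := fun k => hlift k (u k)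
  have hu0 : ∀ k : ℕ, (tr Y (Nat.le_add_right j k)).hom (u k) = y := by
    intro k
    induction k with
    | zero => exact tr_self Y j y
    | succ k ih =>
      rw [← tr_tr Y (Nat.le_add_right j k) (hstep k), hu k, ih]
  have hle : ∀ n : ℕ, n ≤ j + n := fun n => Nat.le_add_left n j
  let xs : ∀ n : ℕ, Y.obj (op n) := fun n => (tr Y (hle n)).hom (u n)
  have hxs : ∀ n : ℕ, (tr Y (Nat.le_succ n)).hom (xs (n + 1)) = xs n := by
    intro n
    change (tr Y (Nat.le_succ n)).hom ((tr Y (hle (n + 1))).hom (u (n + 1))) =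
      (tr Y (hle n)).hom (u n)
    rw [tr_tr, ← tr_tr Y (hle n) (hstep n), hu n]
  obtain ⟨z, hz⟩ := exists_limit_elem Y xs hxs
  refine ⟨z, ?_⟩
  rw [hz j]
  exact hu0 j

variable (I : Ideal A)

theorem isHausdorff_limit
    (hkill : ∀ n : ℕ, I ^ (n + 1) • (⊤ : Submodule A (Y.obj (op n))) = ⊥) :
    IsHausdorff I ↑(limit Y) := by
  refine ⟨fun x hx => ?_⟩
  apply limit_ext
  intro n
  rw [map_zero]
  have h1 : x ∈ I ^ (n + 1) • (⊤ : Submodule A ↑(limit Y)) := by
    have := hx (n + 1)
    rwa [SModEq.zero] at this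
  have h2 := Submodule.mem_map_of_mem (f := (limit.π Y (op n)).hom) h1
  rw [Submodule.map_smul''] at h2
  have h3 : (limit.π Y (op n)).hom x ∈ I ^ (n + 1) • (⊤ : Submodule A (Y.obj (op n))) :=
    Submodule.smul_mono le_rfl le_top h2
  rw [hkill n] at h3
  exact (Submodule.mem_bot A).mp h3

/-- Over an `I`-adically complete ring, the limit of an `I`-adic system with finite first term is a
finite module. -/
theorem finite_limit [IsPrecomplete I A]
    (hsurj : ∀ {n m : ℕ} (h : n ≤ m), Function.Surjective (tr Y h).hom)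
    (hker : ∀ {n m : ℕ} (h : n ≤ m),
      LinearMap.ker (tr Y h).hom = I ^ (n + 1) • (⊤ : Submodule A (Y.obj (op m))))
    (hfg : I.FG) [Module.Finite A (Y.obj (op 0))] : Module.Finite A ↑(limit Y) := by
  have hkill : ∀ n : ℕ, I ^ (n + 1) • (⊤ : Submodule A (Y.obj (op n))) = ⊥ := by
    intro n
    rw [← hker (le_refl n), LinearMap.ker_eq_bot]
    intro a b hab
    rwa [tr_self, tr_self] at hab
  have := isHausdorff_limit Y I hkill
  obtain ⟨S, hS⟩ := (Module.Finite.fg_top : (⊤ : Submodule A (Y.obj (op 0))).FG)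
  choose lift hlift using π_surjective Y hsurj 0
  let T : Submodule A ↑(limit Y) := Submodule.span A (lift '' (S : Set (Y.obj (op 0))))
  have hT : T.FG := by
    classical
    exact ⟨S.image lift, by rw [Finset.coe_image]⟩
  have hmap : Submodule.map (limit.π Y (op 0)).hom T = ⊤ := by
    rw [Submodule.map_span, ← Set.image_comp]
    have : (⇑(limit.π Y (op 0)).hom ∘ lift) = id := funext hlift
    rw [this, Set.image_id, hS]
  apply Groth.Agent.Lib.Helper47.ComplMap.finite_of_isPrecomplete_of_isHausdorff I T hT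
  intro x
  have hx : (limit.π Y (op 0)).hom x ∈ Submodule.map (limit.π Y (op 0)).hom T := by
    rw [hmap]; exact Submodule.mem_top
  obtain ⟨t, ht, htx⟩ := hx
  refine ⟨t, ht, ?_⟩
  have h1 : x - t ∈ LinearMap.ker (limit.π Y (op 0)).hom := by
    rw [LinearMap.mem_ker, map_sub, htx, sub_self]
  have h2 := ker_π_le Y I hsurj hker hfg 0 h1
  rwa [zero_add, pow_one] at h2

end Groth.Agent.Lib.Helper49.LimMod
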