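import Mathlib
import Groth.Prelude.Def_Formal
import Groth.Prelude.Def_DerCA
import Groth.Prelude.Def_Algz
import Groth.Agent.Lib.Helper49.FormalAffine2
import Groth.Agent.Lib.Helper49.LimMod2
import Groth.Agent.Lib.Helper49.CanExtLim
import Groth.Agent.Lib.Helper49.FiniteTypeAffine
import Groth.Agent.Lib.Helper49.FiniteTypeLocal

/-!
# Coherent formal modules on `Spec A` for `A` complete are completions of coherent modules

Shared library of helper49 (namespace `Groth.Agent.Lib.Helper49.CanExtCompl`).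
-/

set_option autoImplicit false
universe u
open CategoryTheory CategoryTheory.Limits AlgebraicGeometry Opposite

namespace Groth.Agent.Lib.Helper49.CanExtCompl

open Groth.Agent.Lib.Helper49.FormalConst Groth.Agent.Lib.Helper49.FormalRestrict
  Groth.Agent.Lib.Helper49.FormalAffine Groth.Agent.Lib.Helper49.CanExtLim
  Groth.Agent.Lib.Helper49

variable (A : Type u) [CommRing A]

attribute [local instance 100000] specOver

/-- Affine Grothendieck existence: over a Noetherian `I`-adically complete ring `A`, every object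
of `Coh(Spec A, I)` is the completion of a coherent module. -/
theorem exists_completion_iso [IsNoetherianRing A] (I : Ideal A) [IsAdicComplete I A]
    (G' : ℕᵒᵖ ⥤ (Spec (CommRingCat.of A)).Modules) (hG' : Formal.IsCohFormal I G') :
    ∃ F' : (Spec (CommRingCat.of A)).Modules, Coh.IsCoh F' ∧
      Nonempty (Formal.completion I F' ≅ G') := by
  have hq : ∀ n, (G'.obj (op n)).IsQuasicoherent := fun n => (hG'.1 n).1
  have hfg : I.FG := (isNoetherianRing_iff_ideal_fg A).mp inferInstance I
  have hsurj : ∀ {n m : ℕ} (h : n ≤ m), Function.Surjective (LimMod.tr (ΓSys A G') h).hom := by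
    intro n m h
    exact Γ_map_surjective_of_isQuot A (isQuot_tr' hG' h)
  have hker : ∀ {n m : ℕ} (h : n ≤ m), LinearMap.ker (LimMod.tr (ΓSys A G') h).hom =
      I ^ (n + 1) • (⊤ : Submodule A ((ΓSys A G').obj (op m))) := by
    intro n m h
    exact ker_Γ_map_of_isQuot A (isQuot_tr' hG' h)
  have hkill : ∀ n : ℕ, I ^ (n + 1) • (⊤ : Submodule A ((ΓSys A G').obj (op n))) = ⊥ := by
    intro n
    rw [← hker (le_refl n), LinearMap.ker_eq_bot]
    intro a b hab
    rwa [LimMod.tr_self, LimMod.tr_self] at hab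
  have hfin0 : Module.Finite A ((ΓSys A G').obj (op 0)) :=
    (isFiniteType_iff_finite_Γ (CommRingCat.of A) (G'.obj (op 0))).mp (hG'.1 0).2
  have hfin : Module.Finite A ↑(limit (ΓSys A G')) :=
    LimMod.finite_limit (ΓSys A G') I hsurj hker hfg
  refine ⟨(Tf A).obj (limit (ΓSys A G')), ⟨inferInstance,
    isFiniteType_tilde_of_finite (CommRingCat.of A) (limit (ΓSys A G'))⟩, ?_⟩
  let ρ : ∀ n : ℕ, (Tf A).obj (limit (ΓSys A G')) ⟶ G'.obj (op n) := fun n =>
    (Tf A).map (limit.π (ΓSys A G') (op n)) ≫ ε A (G'.obj (op n))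
  have hρ : ∀ n, IsQuot (I ^ (n + 1)) (ρ n) := by
    intro n
    apply isQuot_of_surjective_of_ker A (limit.π (ΓSys A G') (op n))
      (LimMod.π_surjective (ΓSys A G') hsurj n)
    apply le_antisymm (ker_π_ΓSys_le A hG' n)
    rw [Submodule.smul_le]
    intro a ha x _
    rw [LinearMap.mem_ker, map_smul]
    have h1 : a • (limit.π (ΓSys A G') (op n)).hom x ∈
        I ^ (n + 1) • (⊤ : Submodule A ((ΓSys A G').obj (op n))) :=
      Submodule.smul_mem_smul ha Submodule.mem_top
    rw [hkill n] at h1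
    exact (Submodule.mem_bot A).mp h1
  have hcompat : ∀ n, ρ (n + 1) ≫ G'.map (homOfLE (Nat.le_succ n)).op = ρ n := by
    intro n
    change ((Tf A).map (limit.π (ΓSys A G') (op (n + 1))) ≫ ε A (G'.obj (op (n + 1)))) ≫
      G'.map (homOfLE (Nat.le_succ n)).op = _
    rw [Category.assoc, ← ε_nat, ← Category.assoc, ← Functor.map_comp]
    have h1 : limit.π (ΓSys A G') (op (n + 1)) ≫ (Γf A).map (G'.map (homOfLE (Nat.le_succ n)).op) =
        limit.π (ΓSys A G') (op n) := limit.w (ΓSys A G') (homOfLE (Nat.le_succ n)).op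
    rw [h1]
  obtain ⟨e, -⟩ := FormalCompletion.exists_completion_iso_of_isQuot I G' _ ρ hρ hcompat
  exact ⟨e⟩

/-- (6) ⇒ (2): over a complete Noetherian ring, a system on `U ⊆ Spec A` which extends to `Spec A`
is the completion of a coherent module on `U`. -/
theorem exists_coh_completion_iso_of_extends [IsNoetherianRing A] (I : Ideal A)
    [IsAdicComplete I A] (U : (Spec (CommRingCat.of A)).Opens)
    (G : ℕᵒᵖ ⥤ (U : Scheme.{u}).Modules) (h : Algz.Extends I U G) :
    ∃ F : (U : Scheme.{u}).Modules, Coh.IsCoh F ∧ Nonempty (Formal.completion I F ≅ G) := by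
  obtain ⟨G', hG', ⟨e⟩⟩ := h
  obtain ⟨F', hF', ⟨e1⟩⟩ := exists_completion_iso A I G' hG'
  have hf : U.ι ≫ (Spec (CommRingCat.of A) ↘ Spec (CommRingCat.of A)) =
      (U : Scheme.{u}) ↘ Spec (CommRingCat.of A) := Category.comp_id _
  have hq := hF'.1
  refine ⟨(Scheme.Modules.restrictFunctor U.ι).obj F',
    ⟨Scheme.Modules.isQuasicoherent_restrictFunctor _ _, isFiniteType_restrict F' U.ι hF'.2⟩, ?_⟩
  obtain ⟨e2, -⟩ := FormalCompletion.exists_completion_restrict_iso U hf I F'
  exact ⟨e2 ≪≫ Functor.isoWhiskerRight e1 (Scheme.Modules.restrictFunctor U.ι) ≪≫ e⟩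

end Groth.Agent.Lib.Helper49.CanExtCompl
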