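import Mathlib
import Groth.Prelude.Def_Formal
import Groth.Agent.Lib.Helper49.FormalPullback

/-!
# Pushforward and multiplication by elements of the base ring

Shared library of helper49 (namespace `Groth.Agent.Lib.Helper49.FormalPush`).
-/

set_option autoImplicit false
universe u
open CategoryTheory CategoryTheory.Limits AlgebraicGeometry Opposite

namespace Groth.Agent.Lib.Helper49.FormalPush

open Groth.Agent.Lib.Helper49.FormalPullback Groth.Agent.Lib.Helper49

variable {X Y : Scheme.{u}} (f : X ⟶ Y)

theorem app_resTop (V : Y.Opens) (r : Coh.Γtop Y) :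
    (f.app V).hom (Coh.resTop Y (op V) r) = Coh.resTop X (op (f ⁻¹ᵁ V)) (f.appTop.hom r) := by
  have h := f.naturality (homOfLE (le_top : V ≤ ⊤)).op
  exact congrArg (fun t => t.hom r) h

theorem pushforward_map_smulModΓ (N : X.Modules) (r : Coh.Γtop Y) :
    (Scheme.Modules.pushforward f).map (Formal.smulModΓ N (f.appTop.hom r)) =
      Formal.smulModΓ ((Scheme.Modules.pushforward f).obj N) r := by
  apply Scheme.Modules.hom_ext
  intro V
  ext s
  rw [smulModΓ_app]
  change ((Formal.smulModΓ N (f.appTop.hom r)).app (f ⁻¹ᵁ V)).hom s = _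
  rw [smulModΓ_app]
  have h := app_resTop f V r
  change (show Γ(X, f ⁻¹ᵁ V) from Coh.resTop X (op (f ⁻¹ᵁ V)) (f.appTop.hom r)) •
    (show Γ(N, f ⁻¹ᵁ V) from s) =
    (show Γ(X, f ⁻¹ᵁ V) from (f.app V).hom (Coh.resTop Y (op V) r)) • (show Γ(N, f ⁻¹ᵁ V) from s)
  rw [h]

variable (A : Type u) [CommRing A] [X.Over (Spec (CommRingCat.of A))]
  [Y.Over (Spec (CommRingCat.of A))]
  (hf : f ≫ (Y ↘ Spec (CommRingCat.of A)) = X ↘ Spec (CommRingCat.of A))

include hf in
theorem pushforward_map_smulMod (N : X.Modules) (a : A) :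
    (Scheme.Modules.pushforward f).map (Formal.smulMod A N a) =
      Formal.smulMod A ((Scheme.Modules.pushforward f).obj N) a := by
  unfold Formal.smulMod
  rw [toGlobal_comp f A hf, pushforward_map_smulModΓ]

include hf in
theorem killedBy_pushforward (J : Ideal A) (N : X.Modules) (h : Formal.KilledBy J N) :
    Formal.KilledBy J ((Scheme.Modules.pushforward f).obj N) := by
  intro a ha
  rw [← pushforward_map_smulMod f A hf, h a ha, Functor.map_zero]

end Groth.Agent.Lib.Helper49.FormalPush
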