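import Mathlib
import Groth.Prelude.Def_ARSys
import Groth.Agent.Lib.Helper49.LimMod

/-!
# Mittag-Leffler systems of modules: the image of the limit is the stable image

Shared library of helper49 (namespace `Groth.Agent.Lib.Helper49.LimMod`).
-/

set_option autoImplicit false
universe u
open CategoryTheory CategoryTheory.Limits Opposite

namespace Groth.Agent.Lib.Helper49.LimMod

variable {A : Type u} [CommRing A]

theorem range_le_of_imageSubobject_le {M M' N : ModuleCat.{u} A} (f : M ⟶ N) (g : M' ⟶ N)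
    (h : imageSubobject f ≤ imageSubobject g) : LinearMap.range f.hom ≤ LinearMap.range g.hom := by
  rintro _ ⟨x, rfl⟩
  have h1 : f = factorThruImageSubobject f ≫ Subobject.ofLE _ _ h ≫ (imageSubobject g).arrow := by
    rw [Subobject.ofLE_arrow, imageSubobject_arrow_comp]
  have hepi : Function.Surjective (factorThruImageSubobject g).hom :=
    (ModuleCat.epi_iff_surjective _).mp inferInstance
  obtain ⟨y, hy⟩ := hepi ((Subobject.ofLE _ _ h).hom ((factorThruImageSubobject f).hom x))
  refine ⟨y, ?_⟩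
  have h2 : g.hom y = (imageSubobject g).arrow.hom ((factorThruImageSubobject g).hom y) := by
    change g.hom y = (factorThruImageSubobject g ≫ (imageSubobject g).arrow).hom y
    rw [imageSubobject_arrow_comp]
  rw [h2, hy]
  exact (congrArg (fun t => t.hom x) h1).symm

variable (Y : ℕᵒᵖ ⥤ ModuleCat.{u} A)

/-- Elements of a family of subsets along which the transition maps are onto lift to the limit. -/
theorem exists_limit_elem_of_subsets (P : ∀ n : ℕ, Set (Y.obj (op n)))
    (hP : ∀ (n : ℕ) (t : Y.obj (op n)), t ∈ P n →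
      ∃ t' : Y.obj (op (n + 1)), t' ∈ P (n + 1) ∧ (tr Y (Nat.le_succ n)).hom t' = t)
    (j : ℕ) (y : Y.obj (op j)) (hy : y ∈ P j) :
    ∃ z : ↑(limit Y), (limit.π Y (op j)).hom z = y := by
  have hstep : ∀ k : ℕ, j + k ≤ j + (k + 1) := fun k => Nat.add_le_add_left (Nat.le_succ k) j
  choose lift hlift1 hlift2 using hP
  let u : ∀ k : ℕ, {t : Y.obj (op (j + k)) // t ∈ P (j + k)} := fun k =>
    Nat.rec (motive := fun k => {t : Y.obj (op (j + k)) // t ∈ P (j + k)})
      ⟨y, hy⟩ (fun k t => ⟨lift (j + k) t.1 t.2, hlift1 (j + k) t.1 t.2⟩) k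
  have hu : ∀ k : ℕ, (tr Y (hstep k)).hom (u (k + 1)).1 = (u k).1 := fun k =>
    hlift2 (j + k) (u k).1 (u k).2
  have hu0 : ∀ k : ℕ, (tr Y (Nat.le_add_right j k)).hom (u k).1 = y := by
    intro k
    induction k with
    | zero => exact tr_self Y j y
    | succ k ih =>
      rw [← tr_tr Y (Nat.le_add_right j k) (hstep k), hu k, ih]
  have hle : ∀ n : ℕ, n ≤ j + n := fun n => Nat.le_add_left n j
  let xs : ∀ n : ℕ, Y.obj (op n) := fun n => (tr Y (hle n)).hom (u n).1
  have hxs : ∀ n : ℕ, (tr Y (Nat.le_succ n)).hom (xs (n + 1)) = xs n := by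
    intro n
    change (tr Y (Nat.le_succ n)).hom ((tr Y (hle (n + 1))).hom (u (n + 1)).1) =
      (tr Y (hle n)).hom (u n).1
    rw [tr_tr, ← tr_tr Y (hle n) (hstep n), hu n]
  obtain ⟨z, hz⟩ := exists_limit_elem Y xs hxs
  refine ⟨z, ?_⟩
  rw [hz j]
  exact hu0 j

/-- For a Mittag-Leffler system of modules, the image of some transition map into `Y_n` lies in the
image of the limit. -/
theorem exists_range_tr_le_range_π (hML : ARSys.IsML Y) (n : ℕ) :
    ∃ (m : ℕ) (h : n ≤ m), LinearMap.range (tr Y h).hom ≤ LinearMap.range (limit.π Y (op n)).hom := by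
  choose r hr using hML
  -- stable images
  have hstab : ∀ (n s : ℕ), r n ≤ s → LinearMap.range (tr Y (Nat.le_add_right n (r n))).hom ≤
      LinearMap.range (tr Y (Nat.le_add_right n s)).hom := fun n s hs =>
    range_le_of_imageSubobject_le _ _ (hr n s hs).ge
  let P : ∀ n : ℕ, Set (Y.obj (op n)) := fun n =>
    (LinearMap.range (tr Y (Nat.le_add_right n (r n))).hom : Set (Y.obj (op n)))
  have hP : ∀ (n : ℕ) (t : Y.obj (op n)), t ∈ P n →
      ∃ t' : Y.obj (op (n + 1)), t' ∈ P (n + 1) ∧ (tr Y (Nat.le_succ n)).hom t' = t := by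
    intro n t ht
    -- choose `s` large
    let s := max (r n) (r (n + 1) + 1)
    obtain ⟨w, hw⟩ := hstab n s (le_max_left _ _) ht
    have h1 : n + 1 ≤ n + s := by
      have : 1 ≤ s := le_trans (Nat.le_add_left 1 (r (n + 1))) (le_max_right _ _)
      omega
    refine ⟨(tr Y h1).hom w, ?_, ?_⟩
    · -- lies in the stable image of level `n+1`
      have h2 : r (n + 1) ≤ s - 1 := by
        have : r (n + 1) + 1 ≤ s := le_max_right _ _
        omega
      have h3 : n + 1 + (s - 1) = n + s := by
        have : 1 ≤ s := le_trans (Nat.le_add_left 1 (r (n + 1))) (le_max_right _ _)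
        omega
      have h4 : LinearMap.range (tr Y (Nat.le_add_right (n + 1) (s - 1))).hom ≤
          LinearMap.range (tr Y (Nat.le_add_right (n + 1) (r (n + 1)))).hom :=
        range_le_of_imageSubobject_le _ _ (hr (n + 1) (s - 1) h2).le
      apply h4
      have h5 : n + 1 + (s - 1) ≤ n + s := h3.le
      refine ⟨(tr Y h5).hom w, ?_⟩
      rw [tr_tr]
    · rw [tr_tr]
      exact hw
  refine ⟨n + r n, Nat.le_add_right n (r n), ?_⟩
  rintro _ ⟨w, rfl⟩
  obtain ⟨z, hz⟩ := exists_limit_elem_of_subsets Y P hP n _ ⟨w, rfl⟩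
  exact ⟨z, hz⟩

end Groth.Agent.Lib.Helper49.LimMod
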