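import Mathlib
import Groth.Prelude.Def_ARSys
import Groth.Prelude.Def_DerCA
import Groth.Prelude.Def_Algz
import Groth.Agent.Lib.Helper49.LimMod3

/-!
# A Mittag-Leffler system whose limit has the adic topology is pro-isomorphic to `(M/I^(k+1)M)`

Shared library of helper49 (namespace `Groth.Agent.Lib.Helper49.ProIsoQuot`).
-/

set_option autoImplicit false
universe u
open CategoryTheory CategoryTheory.Limits Opposite

namespace Groth.Agent.Lib.Helper49.ProIsoQuot

open Groth.Agent.Lib.Helper49.LimMod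

variable {A : Type u} [CommRing A] (I : Ideal A) (M : ModuleCat.{u} A)

/-- `M / I^(k+1) M` -/
noncomputable abbrev Nobj (k : ℕ) : ModuleCat.{u} A :=
  ModuleCat.of A (↑M ⧸ (I ^ (k + 1) • (⊤ : Submodule A M)))

theorem pow_smul_le {k l : ℕ} (h : k ≤ l) :
    I ^ (l + 1) • (⊤ : Submodule A M) ≤ I ^ (k + 1) • (⊤ : Submodule A M) :=
  Submodule.smul_mono_left (Ideal.pow_le_pow_right (Nat.succ_le_succ h))

/-- the transition maps `M / I^(l+1) M ⟶ M / I^(k+1) M` -/
noncomputable def Ntr {k l : ℕ} (h : k ≤ l) : Nobj I M l ⟶ Nobj I M k :=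
  ModuleCat.ofHom (Submodule.factor (pow_smul_le I M h))

theorem Ntr_mk {k l : ℕ} (h : k ≤ l) (z : M) :
    (Ntr I M h).hom (Submodule.Quotient.mk z) = Submodule.Quotient.mk z :=
  Submodule.factor_mk (pow_smul_le I M h) z

/-- the system `k ↦ M / I^(k+1) M` -/
noncomputable def Nsys : ℕᵒᵖ ⥤ ModuleCat.{u} A where
  obj k := Nobj I M k.unop
  map f := Ntr I M (leOfHom f.unop)
  map_id k := by
    apply ModuleCat.hom_ext
    apply LinearMap.ext
    intro x
    obtain ⟨z, rfl⟩ := Submodule.Quotient.mk_surjective _ x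
    exact Ntr_mk I M (le_refl _) z
  map_comp {a b c} f g := by
    apply ModuleCat.hom_ext
    apply LinearMap.ext
    intro x
    obtain ⟨z, rfl⟩ := Submodule.Quotient.mk_surjective _ x
    rw [ModuleCat.hom_comp, LinearMap.comp_apply, Ntr_mk, Ntr_mk, Ntr_mk]

theorem Nsys_tr_mk {k l : ℕ} (h : k ≤ l) (z : M) :
    (tr (Nsys I M) h).hom (Submodule.Quotient.mk z) = Submodule.Quotient.mk z :=
  Ntr_mk I M h z

section Main

variable {I M} (X : ℕᵒᵖ ⥤ ModuleCat.{u} A) (π : ∀ n : ℕ, M ⟶ X.obj (op n))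

/-- the comparison map `X_m ⟶ M / I^(n+1) M` -/
noncomputable def cmp {c m n : ℕ} (hcm : c ≤ m)
    (hr : LinearMap.range (tr X hcm).hom ≤ LinearMap.range (π c).hom)
    (hk : LinearMap.ker (π c).hom ≤ I ^ (n + 1) • (⊤ : Submodule A M)) :
    X.obj (op m) ⟶ Nobj I M n :=
  ModuleCat.ofHom (Submodule.factor hk ∘ₗ (π c).hom.quotKerEquivRange.symm.toLinearMap ∘ₗ
    LinearMap.codRestrict _ (tr X hcm).hom (fun x => hr ⟨x, rfl⟩))

theorem cmp_apply {c m n : ℕ} (hcm : c ≤ m)
    (hr : LinearMap.range (tr X hcm).hom ≤ LinearMap.range (π c).hom)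
    (hk : LinearMap.ker (π c).hom ≤ I ^ (n + 1) • (⊤ : Submodule A M))
    (x : X.obj (op m)) (z : M) (hz : (π c).hom z = (tr X hcm).hom x) :
    (cmp X π hcm hr hk).hom x = Submodule.Quotient.mk z := by
  unfold cmp
  rw [ModuleCat.hom_ofHom, LinearMap.comp_apply, LinearMap.comp_apply]
  have h1 : (π c).hom.quotKerEquivRange.symm
      (LinearMap.codRestrict _ (tr X hcm).hom (fun x => hr ⟨x, rfl⟩) x) =
      Submodule.Quotient.mk z := by
    rw [LinearEquiv.symm_apply_eq]
    apply Subtype.ext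
    rw [LinearMap.quotKerEquivRange_apply_mk]
    exact hz.symm
  rw [LinearEquiv.coe_coe, h1]
  exact Submodule.factor_mk hk z

theorem exists_cmp {c m : ℕ} (hcm : c ≤ m)
    (hr : LinearMap.range (tr X hcm).hom ≤ LinearMap.range (π c).hom)
    (x : X.obj (op m)) : ∃ z : M, (π c).hom z = (tr X hcm).hom x :=
  hr ⟨x, rfl⟩

/-- A system whose stable images are the images of a cone `M`, with the topology on `M` defined by
the kernels being the `I`-adic one, is pro-isomorphic to `(M / I^(k+1) M)`. -/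
theorem isProIsomorphic
    (hπ : ∀ {n m : ℕ} (h : n ≤ m) (z : M), (tr X h).hom ((π m).hom z) = (π n).hom z)
    (hkill : ∀ n : ℕ, I ^ (n + 1) • (⊤ : Submodule A (X.obj (op n))) = ⊥)
    (hb : ∀ k : ℕ, ∃ n : ℕ, LinearMap.ker (π n).hom ≤ I ^ k • (⊤ : Submodule A M))
    (hML : ∀ n : ℕ, ∃ (m : ℕ) (h : n ≤ m),
      LinearMap.range (tr X h).hom ≤ LinearMap.range (π n).hom) :
    Algz.IsProIsomorphic X (Nsys I M) := by
  have hkermono : ∀ {a b : ℕ}, a ≤ b → LinearMap.ker (π b).hom ≤ LinearMap.ker (π a).hom := by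
    intro a b h z hz
    rw [LinearMap.mem_ker] at hz ⊢
    rw [← hπ h, hz, map_zero]
  choose c₀ hc₀ using fun k => hb (k + 1)
  let c : ℕ → ℕ := fun k => max k ((Finset.range (k + 1)).sup c₀)
  have hcmono : Monotone c := by
    intro k k' h
    exact max_le_max h (Finset.sup_mono (Finset.range_mono (Nat.succ_le_succ h)))
  have hck : ∀ k, k ≤ c k := fun k => le_max_left _ _
  have hcc₀ : ∀ k, c₀ k ≤ c k := fun k =>
    le_trans (Finset.le_sup (f := c₀) (Finset.self_mem_range_succ k)) (le_max_right _ _)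
  have hkerc : ∀ k, LinearMap.ker (π (c k)).hom ≤ I ^ (k + 1) • (⊤ : Submodule A M) := fun k =>
    (hkermono (hcc₀ k)).trans (hc₀ k)
  choose m₀ hm₀ hm₀r using hML
  let m : ℕ → ℕ := fun n => max (c n) ((Finset.range (n + 1)).sup (fun i => m₀ (c i)))
  have hmmono : Monotone m := by
    intro k k' h
    exact max_le_max (hcmono h) (Finset.sup_mono (Finset.range_mono (Nat.succ_le_succ h)))
  have hcm : ∀ n, c n ≤ m n := fun n => le_max_left _ _
  have hm₀m : ∀ n, m₀ (c n) ≤ m n := fun n =>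
    le_trans (Finset.le_sup (f := fun i => m₀ (c i)) (Finset.self_mem_range_succ n))
      (le_max_right _ _)
  have hrange : ∀ n, LinearMap.range (tr X (hcm n)).hom ≤ LinearMap.range (π (c n)).hom := by
    intro n
    rintro _ ⟨x, rfl⟩
    apply hm₀r (c n)
    exact ⟨(tr X (hm₀m n)).hom x, by rw [tr_tr]⟩
  have hle : ∀ n, n ≤ m n := fun n => (hck n).trans (hcm n)
  have hkillker : ∀ k : ℕ, I ^ (k + 1) • (⊤ : Submodule A M) ≤ LinearMap.ker (π k).hom := by
    intro k
    rw [Submodule.smul_le]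
    intro r hr z _
    rw [LinearMap.mem_ker, map_smul]
    have h1 : r • (π k).hom z ∈ I ^ (k + 1) • (⊤ : Submodule A (X.obj (op k))) :=
      Submodule.smul_mem_smul hr Submodule.mem_top
    rw [hkill k] at h1
    exact (Submodule.mem_bot A).mp h1
  let a' : ∀ n : ℕ, X.obj (op (m n)) ⟶ Nobj I M n := fun n =>
    cmp X π (hcm n) (hrange n) (hkerc n)
  have ha' : ∀ (n : ℕ) (x : X.obj (op (m n))) (z : M),
      (π (c n)).hom z = (tr X (hcm n)).hom x → (a' n).hom x = Submodule.Quotient.mk z :=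
    fun n x z hz => cmp_apply X π (hcm n) (hrange n) (hkerc n) x z hz
  have hex : ∀ (n : ℕ) (x : X.obj (op (m n))), ∃ z : M, (π (c n)).hom z = (tr X (hcm n)).hom x :=
    fun n x => exists_cmp X π (hcm n) (hrange n) x
  have hnat : ∀ {k l : ℕ} (h : k ≤ l) (x : X.obj (op (m l))),
      (a' k).hom ((tr X (hmmono h)).hom x) = (Ntr I M h).hom ((a' l).hom x) := by
    intro k l h x
    obtain ⟨z, hz⟩ := hex l x
    rw [ha' l x z hz, Ntr_mk]
    apply ha' k
    rw [tr_tr, ← hπ (hcmono h), hz, tr_tr]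
  let a : DerCA.reindex X hmmono ⟶ Nsys I M :=
    { app := fun n => a' n.unop
      naturality := by
        intro n n' f
        apply ModuleCat.hom_ext
        apply LinearMap.ext
        intro x
        exact hnat (leOfHom f.unop) x }
  refine ⟨m, hmmono, hle, a, fun n => ?_⟩
  have hnk : n ≤ m n := hle n
  let b : (Nsys I M).obj (op (m n)) ⟶ X.obj (op (m n)) :=
    ModuleCat.ofHom (Submodule.liftQ _ (π (m n)).hom (hkillker (m n)))
  have hb' : ∀ z : M, b.hom (Submodule.Quotient.mk z) = (π (m n)).hom z := fun z =>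
    Submodule.liftQ_apply _ _ z
  refine ⟨m n, hnk, b, ?_, ?_⟩
  · apply ModuleCat.hom_ext
    apply LinearMap.ext
    intro x
    change b.hom ((a' (m n)).hom x) = (tr X (hmmono hnk)).hom x
    obtain ⟨z, hz⟩ := hex (m n) x
    rw [ha' (m n) x z hz, hb', ← hπ (hck (m n)), hz, tr_tr]
  · apply ModuleCat.hom_ext
    apply LinearMap.ext
    intro w
    obtain ⟨z, rfl⟩ := Submodule.Quotient.mk_surjective _ w
    change (a' n).hom (b.hom (Submodule.Quotient.mk z)) = (tr (Nsys I M) hnk).hom _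
    rw [hb', Nsys_tr_mk]
    apply ha' n
    rw [hπ]

end Main

end Groth.Agent.Lib.Helper49.ProIsoQuot
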