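import Mathlib
import Groth.Prelude.Def_Formal
import Groth.Prelude.Def_DerCA
import Groth.Prelude.Def_Algz
import Groth.Agent.Lib.Helper49.FormalAffine2
import Groth.Agent.Lib.Helper49.FormalPush
import Groth.Agent.Lib.Helper49.ProIsoQuot
import Groth.Agent.Lib.Helper49.FiniteTypeAffine

/-!
# A criterion for canonical extension

Shared library of helper49 (namespace `Groth.Agent.Lib.Helper49.CanExtConv`).
-/

set_option autoImplicit false
universe u
open CategoryTheory CategoryTheory.Limits AlgebraicGeometry Opposite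

namespace Groth.Agent.Lib.Helper49.CanExtConv

open Groth.Agent.Lib.Helper49.FormalConst Groth.Agent.Lib.Helper49.FormalRestrict
  Groth.Agent.Lib.Helper49.FormalAffine Groth.Agent.Lib.Helper49.ProIsoQuot
  Groth.Agent.Lib.Helper49

variable (A : Type u) [CommRing A]

attribute [local instance 100000] specOver

theorem sectMod_kill {I : Ideal A} (U : (Spec (CommRingCat.of A)).Opens)
    (G : ℕᵒᵖ ⥤ (U : Scheme.{u}).Modules) (hG : Formal.IsCohFormal I G) (n : ℕ) :
    I ^ (n + 1) • (⊤ : Submodule A ((Algz.sectMod A U G).obj (op n))) = ⊥ := by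
  have hf : U.ι ≫ (Spec (CommRingCat.of A) ↘ Spec (CommRingCat.of A)) =
      (U : Scheme.{u}) ↘ Spec (CommRingCat.of A) := Category.comp_id _
  have hk := FormalPush.killedBy_pushforward U.ι A hf (I ^ (n + 1)) (G.obj (op n)) (hG.2.1 n)
  rw [eq_bot_iff, Submodule.smul_le]
  intro a ha t _
  rw [Submodule.mem_bot]
  have h1 := Γ_smulMod A ((Scheme.Modules.pushforward U.ι).obj (G.obj (op n))) a t
  rw [hk a ha] at h1
  exact h1.symm.trans rfl

section Quot

variable {A} (I : Ideal A) (M : ModuleCat.{u} A)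

theorem Ntr_surjective {k l : ℕ} (h : k ≤ l) : Function.Surjective (Ntr I M h).hom := by
  intro w
  obtain ⟨z, rfl⟩ := Submodule.Quotient.mk_surjective _ w
  exact ⟨Submodule.Quotient.mk z, Ntr_mk I M h z⟩

theorem ker_Ntr (k : ℕ) :
    LinearMap.ker (Ntr I M (Nat.le_succ k)).hom =
      I ^ (k + 1) • (⊤ : Submodule A (Nobj I M (k + 1))) := by
  apply le_antisymm
  · intro w hw
    obtain ⟨z, rfl⟩ := Submodule.Quotient.mk_surjective _ w
    rw [LinearMap.mem_ker, Ntr_mk, Submodule.Quotient.mk_eq_zero] at hw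
    have h1 := Submodule.mem_map_of_mem
      (f := (I ^ (k + 1 + 1) • (⊤ : Submodule A M)).mkQ) hw
    rw [Submodule.map_smul''] at h1
    exact Submodule.smul_mono le_rfl le_top h1
  · rw [Submodule.smul_le]
    intro a ha w _
    obtain ⟨z, rfl⟩ := Submodule.Quotient.mk_surjective _ w
    rw [LinearMap.mem_ker, ← Submodule.Quotient.mk_smul, Ntr_mk, Submodule.Quotient.mk_eq_zero]
    exact Submodule.smul_mem_smul ha Submodule.mem_top

theorem Nobj_kill (k : ℕ) (a : A) (ha : a ∈ I ^ (k + 1)) (p : Nobj I M k) : a • p = 0 := by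
  obtain ⟨z, rfl⟩ := Submodule.Quotient.mk_surjective _ p
  rw [← Submodule.Quotient.mk_smul, Submodule.Quotient.mk_eq_zero]
  exact Submodule.smul_mem_smul ha Submodule.mem_top

end Quot

/-- The system `((M/I^(k+1)M)~)` on `Spec A`. -/
noncomputable abbrev tildeSys (I : Ideal A) (M : ModuleCat.{u} A) :
    ℕᵒᵖ ⥤ (Spec (CommRingCat.of A)).Modules :=
  Nsys I M ⋙ Tf A

theorem Tf_map_η_ε (P : ModuleCat.{u} A) : (Tf A).map (η A P).hom ≫ ε A ((Tf A).obj P) = 𝟙 _ :=
  (tilde.adjunction (R := CommRingCat.of A)).left_triangle_components P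

theorem isCohFormal_tildeSys (I : Ideal A) (M : ModuleCat.{u} A)
    (hfin : ∀ k, Module.Finite A (Nobj I M k)) : Formal.IsCohFormal I (tildeSys A I M) := by
  refine ⟨fun k => ⟨(inferInstance : ((Tf A).obj (Nobj I M k)).IsQuasicoherent), ?_⟩,
    fun k => ?_, fun k => ?_⟩
  · have := hfin k
    exact isFiniteType_tilde_of_finite (CommRingCat.of A) (Nobj I M k)
  · exact killedBy_tilde A (Nobj I M k) (fun a ha p => Nobj_kill I M k a ha p)
  · rw [← isQuot_iff]
    change IsQuot (I ^ (k + 1)) ((Tf A).map (Ntr I M (Nat.le_succ k)))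
    have h1 : (Tf A).map (Ntr I M (Nat.le_succ k)) =
        (Tf A).map (Ntr I M (Nat.le_succ k) ≫ (η A (Nobj I M k)).hom) ≫
          ε A ((Tf A).obj (Nobj I M k)) := by
      rw [Functor.map_comp, Category.assoc, Tf_map_η_ε, Category.comp_id]
    rw [h1]
    apply isQuot_of_surjective_of_ker
    · rw [ModuleCat.hom_comp]
      have h2 : Function.Surjective (η A (Nobj I M k)).hom.hom :=
        (ModuleCat.epi_iff_surjective _).mp inferInstance
      exact h2.comp (Ntr_surjective I M (Nat.le_succ k))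
    · rw [← ker_Ntr, ModuleCat.hom_comp, LinearMap.ker_comp_of_ker_eq_bot]
      have h2 : Function.Injective (η A (Nobj I M k)).hom.hom :=
        (ModuleCat.mono_iff_injective _).mp inferInstance
      exact LinearMap.ker_eq_bot.mpr h2

/-- (a) + (b) + (c) ⇒ canonical extension. -/
theorem canonicallyExtends_of (I : Ideal A) (U : (Spec (CommRingCat.of A)).Opens)
    (G : ℕᵒᵖ ⥤ (U : Scheme.{u}).Modules) (hG : Formal.IsCohFormal I G)
    (ha : ARSys.IsML (Algz.sectMod A U G))
    (hb : ∀ k : ℕ, ∃ n : ℕ, LinearMap.ker (limit.π (Algz.sectMod A U G) (op n)).hom ≤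
      I ^ k • (⊤ : Submodule A ↑(limit (Algz.sectMod A U G))))
    (hc : ∀ n : ℕ, Module.Finite A
      ↥(LinearMap.range (limit.π (Algz.sectMod A U G) (op n)).hom)) :
    Algz.CanonicallyExtends A I U G := by
  let X := Algz.sectMod A U G
  let M := limit X
  have hpro : Algz.IsProIsomorphic X (Nsys I M) :=
    ProIsoQuot.isProIsomorphic X (fun n => limit.π X (op n)) (fun h z => LimMod.π_tr X h z)
      (fun n => sectMod_kill A U G hG n) hb
      (fun n => LimMod.exists_range_tr_le_range_π X ha n)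
  have hfin : ∀ k, Module.Finite A (Nobj I M k) := by
    intro k
    obtain ⟨n, hn⟩ := hb (k + 1)
    have := hc n
    have h1 : Module.Finite A (↑M ⧸ LinearMap.ker (limit.π X (op n)).hom) :=
      Module.Finite.equiv (limit.π X (op n)).hom.quotKerEquivRange.symm
    exact Module.Finite.of_surjective (Submodule.factor hn) (Submodule.factor_surjective hn)
  refine ⟨tildeSys A I M, isCohFormal_tildeSys A I M hfin, ?_⟩
  exact isProIsomorphic_comp (Tf A) hpro

end Groth.Agent.Lib.Helper49.CanExtConv
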