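import Mathlib
import Groth.Agent.Lib.Helper45.Dev.GraphTrick
import Groth.Agent.Lib.Helper45.RefHullStalk

set_option autoImplicit false
set_option linter.style.haveILetI false
universe u

open CategoryTheory CategoryTheory.Limits AlgebraicGeometry Opposite TopologicalSpace

namespace Groth.Agent.Lib.Helper49.CohCentre

open Groth.Agent.Lib.Helper45 Groth.Agent.Lib.Helper49 Groth.Agent.Lib.Helper45.GraphTrick
  Groth.Agent.Lib.Helper45.RefHullStalk

/-- the category of coherent modules, as a full subcategory of all modules. -/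
abbrev CohCat (X : Scheme.{u}) : Type (u + 1) :=
  ObjectProperty.FullSubcategory (fun M : X.Modules => Coh.IsCoh M)

variable {X : Scheme.{u}} (φ : 𝟭 (CohCat X) ⟶ 𝟭 (CohCat X))

theorem naturality_hom {A B : CohCat X} (f : A.obj ⟶ B.obj) :
    f ≫ (φ.app B).hom = (φ.app A).hom ≫ f := by
  have h := φ.naturality (ObjectProperty.homMk f)
  exact congrArg (fun g => g.hom) h

/-- the structure sheaf as a coherent module. -/
noncomputable def unitObj (X : Scheme.{u}) : CohCat X :=
  ⟨Coh.structureModule X, isCoh_structureModule X⟩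

/-- the global function attached to a natural endomorphism of the identity of `Coh(X)`. -/
noncomputable def centreElt : Γ(X, ⊤) :=
  (φ.app (unitObj X)).hom.app ⊤ (toMod (1 : Γ(X, ⊤)))

theorem unitStalkEquiv_oneGerm (x : X) : unitStalkEquiv x (oneGerm x) = 1 := by
  rw [unitStalkEquiv, LinearEquiv.symm_apply_eq, LinearEquiv.ofBijective_apply, unitStalkMap,
    LinearMap.toSpanSingleton_apply, one_smul]

theorem stalkMap_apply [IsLocallyNoetherian X] (M : CohCat X) (x : X)
    (a : ↑(M.obj.presheaf.stalk x)) :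
    (stalkMap (φ.app M).hom x).hom a = X.presheaf.germ ⊤ x trivial (centreElt φ) • a := by
  let ψ : ↑((Coh.structureModule X).presheaf.stalk x) →ₗ[X.presheaf.stalk x]
      ↑(M.obj.presheaf.stalk x) :=
    (LinearMap.toSpanSingleton _ _ a) ∘ₗ (unitStalkEquiv x).toLinearMap
  have hψ1 : ψ (oneGerm x) = a := by
    change (unitStalkEquiv x (oneGerm x)) • a = a
    rw [unitStalkEquiv_oneGerm, one_smul]
  obtain ⟨H, q₁, q₂, hH, hbij, hq₂, -, -⟩ :=
    exists_graph (Coh.structureModule X) M.obj (isCoh_structureModule X) M.property x ψ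
  let Hc : CohCat X := ⟨H, hH⟩
  obtain ⟨h, hh⟩ := hbij.2 (oneGerm x)
  have n1 : q₁ ≫ (φ.app (unitObj X)).hom = (φ.app Hc).hom ≫ q₁ :=
    naturality_hom φ (A := Hc) (B := unitObj X) q₁
  have n2 : q₂ ≫ (φ.app M).hom = (φ.app Hc).hom ≫ q₂ := naturality_hom φ (A := Hc) (B := M) q₂
  have ha : (stalkMap q₂ x).hom h = a := by rw [hq₂, hh, hψ1]
  have hO : (stalkMap (φ.app (unitObj X)).hom x).hom (oneGerm x) =
      X.presheaf.germ ⊤ x trivial (centreElt φ) • oneGerm x := by
    rw [germ_smul_oneGerm]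
    exact stalkMap_germ (φ.app (unitObj X)).hom ⊤ x trivial (toMod 1)
  calc (stalkMap (φ.app M).hom x).hom a
      = (stalkMap (φ.app M).hom x).hom ((stalkMap q₂ x).hom h) := by rw [ha]
    _ = (stalkMap (q₂ ≫ (φ.app M).hom) x).hom h := (stalkMap_comp_apply' _ _ x h).symm
    _ = (stalkMap ((φ.app Hc).hom ≫ q₂) x).hom h :=
        congrArg (fun g => (stalkMap g x).hom h) n2
    _ = (stalkMap q₂ x).hom ((stalkMap (φ.app Hc).hom x).hom h) := stalkMap_comp_apply' _ _ x h
    _ = ψ ((stalkMap q₁ x).hom ((stalkMap (φ.app Hc).hom x).hom h)) := hq₂ _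
    _ = ψ ((stalkMap ((φ.app Hc).hom ≫ q₁) x).hom h) :=
        congrArg ψ (stalkMap_comp_apply' _ _ x h).symm
    _ = ψ ((stalkMap (q₁ ≫ (φ.app (unitObj X)).hom) x).hom h) :=
        congrArg (fun g => ψ ((stalkMap g x).hom h)) n1.symm
    _ = ψ ((stalkMap (φ.app (unitObj X)).hom x).hom (oneGerm x)) :=
        congrArg ψ ((stalkMap_comp_apply' _ _ x h).trans (congrArg _ hh))
    _ = X.presheaf.germ ⊤ x trivial (centreElt φ) • a := by rw [hO, map_smul, hψ1]

theorem app_apply [IsLocallyNoetherian X] (M : CohCat X) (U : X.Opens) (m : Γ(M.obj, U)) :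
    (φ.app M).hom.app U m =
      X.presheaf.map (homOfLE (le_top : U ≤ ⊤)).op (centreElt φ) • m := by
  apply section_ext_germ
  intro x hx
  rw [← stalkMap_germ, stalkMap_apply, Groth.Agent.Lib.Helper45.germ_smul,
    TopCat.Presheaf.germ_res_apply]

end Groth.Agent.Lib.Helper49.CohCentre
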