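import Mathlib
import Groth.Agent.Lib.Helper49.LSubSub
import Groth.Agent.Lib.Helper49.DeligneAlg
import Groth.Agent.Lib.Helper49.QCohColimit
import Groth.Agent.Lib.Helper49.ZClosure5
import Groth.Agent.Lib.Helper49.FiniteTypeAffine
import Groth.Agent.Lib.Helper18.LSubZorn

/-!
# Coherent subsheaves avoiding a subsheaf supported off an open set

Shared library of helper49 (namespace `Groth.Agent.Lib.Helper49.LSubAvoid`).

`exists_avoiding`: on a locally Noetherian scheme, for a coherent module `F`, a quasi-coherent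
subsheaf `Q ⊆ F` (a local family good on affine opens) with `Q|_U = 0`, there is a subsheaf
`K ⊆ F`, good on an affine open cover, with `K|_U = F|_U` and `K ∩ Q = 0`.
-/

set_option autoImplicit false
universe u
open CategoryTheory CategoryTheory.Limits AlgebraicGeometry TopologicalSpace Opposite

namespace Groth.Agent.Lib.Helper49.LSubAvoid

open Groth.Agent.Lib.Helper49 Groth.Agent.Lib.Helper45 Groth.Agent.Lib.Helper18.LSubM
  Groth.Agent.Lib.Helper49.LSubSub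

section Algebra

/-- Artin–Rees consequence: if every element of `K ∩ Q` is killed by powers of each element of
`𝔞`, then `𝔞^n K ∩ Q = 0` for some `n`. -/
theorem exists_pow_smul_inf_eq_bot {R M : Type*} [CommRing R] [IsNoetherianRing R]
    [AddCommGroup M] [Module R M] (𝔞 : Ideal R) (K Q : Submodule R M) (hK : K.FG)
    (h : ∀ t ∈ K ⊓ Q, ∀ a ∈ 𝔞, ∃ k : ℕ, a ^ k • t = 0) : ∃ n : ℕ, (𝔞 ^ n • K) ⊓ Q = ⊥ := by
  have : Module.Finite R K := Module.Finite.iff_fg.mpr hK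
  have hKN : IsNoetherian R K := isNoetherian_of_isNoetherianRing_of_finite R K
  let N : Submodule R K := Q.comap K.subtype
  have hNmap : N.map K.subtype = K ⊓ Q := Submodule.map_comap_subtype K Q
  have hPfg : (K ⊓ Q).FG := by
    rw [← hNmap]
    exact (IsNoetherian.noetherian N).map _
  obtain ⟨N₀, hN₀⟩ := DeligneAlg.exists_pow_smul_eq_bot_of_torsion 𝔞
    (IsNoetherian.noetherian 𝔞) (K ⊓ Q) hPfg h
  obtain ⟨c, hc⟩ := Ideal.exists_pow_inf_eq_pow_smul 𝔞 N
  refine ⟨c + N₀, ?_⟩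
  rw [eq_bot_iff]
  rintro x ⟨hx1, hx2⟩
  have h1 : 𝔞 ^ (c + N₀) • K = (𝔞 ^ (c + N₀) • (⊤ : Submodule R K)).map K.subtype := by
    rw [Submodule.map_smul'', Submodule.map_top, Submodule.range_subtype]
  rw [h1] at hx1
  obtain ⟨y, hy, rfl⟩ := hx1
  have hyN : y ∈ N := hx2
  have hy2 : y ∈ 𝔞 ^ (c + N₀) • (⊤ : Submodule R K) ⊓ N := ⟨hy, hyN⟩
  rw [hc (c + N₀) (Nat.le_add_right _ _), Nat.add_sub_cancel_left] at hy2
  have hy3 : y ∈ 𝔞 ^ N₀ • N := Submodule.smul_mono le_rfl inf_le_right hy2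
  have h4 : K.subtype y ∈ (𝔞 ^ N₀ • N).map K.subtype := Submodule.mem_map_of_mem hy3
  rw [Submodule.map_smul'', hNmap, hN₀] at h4
  exact h4

end Algebra

variable {X : Scheme.{u}} {F : X.Modules}

/-- The ideal of functions on `V` whose non-vanishing locus lies in `W`. -/
def idealOf (V W : X.Opens) : Ideal Γ(X, V) where
  carrier := {a | X.basicOpen a ≤ W}
  zero_mem' := by
    change X.basicOpen (0 : Γ(X, V)) ≤ W
    rw [Scheme.basicOpen_zero]
    exact bot_le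
  add_mem' := by
    intro a b ha hb
    exact (X.basicOpen_add_le a b).trans (sup_le ha hb)
  smul_mem' := by
    intro c a ha
    change X.basicOpen (c * a) ≤ W
    rw [Scheme.basicOpen_mul]
    exact inf_le_right.trans ha

theorem mem_idealOf {V W : X.Opens} {a : Γ(X, V)} : a ∈ idealOf V W ↔ X.basicOpen a ≤ W :=
  Iff.rfl

theorem isCompact_of_le_affine [IsLocallyNoetherian X] {W V : X.Opens} (hV : IsAffineOpen V)
    (h : W ≤ V) : IsCompact (W : Set X) := by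
  have := ZClosure.noetherianSpace_of_le_affine hV h
  exact isCompact_iff_compactSpace.mpr inferInstance

theorem fg_of_affine [IsLocallyNoetherian X] [F.IsQuasicoherent]
    (hFt : SheafOfModules.IsFiniteType (R := X.ringCatSheaf) F) {T : X.Opens}
    (hT : IsAffineOpen T) (N : Submodule Γ(X, T) Γ(F, T)) : N.FG := by
  have := IsLocallyNoetherian.component_noetherian (X := X) ⟨T, hT⟩
  have := finite_sections_of_isFiniteType F hFt hT
  have : IsNoetherian Γ(X, T) Γ(F, T) := isNoetherian_of_isNoetherianRing_of_finite _ _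
  exact IsNoetherian.noetherian N

/-- The successor step. -/
theorem step' [IsLocallyNoetherian X] [F.IsQuasicoherent]
    (hFt : SheafOfModules.IsFiniteType (R := X.ringCatSheaf) F) (Q : LSub F)
    (hQ : ∀ T : X.Opens, IsAffineOpen T → Q.Good T)
    (K : LSub F) (W : X.Opens) (hsat : K.Sat W)
    (hgood : ∀ x ∈ W, ∃ T : X.Opens, IsAffineOpen T ∧ x ∈ T ∧ T ≤ W ∧ K.Good T)
    (hdisj : ∀ T ≤ W, K.obj T ⊓ Q.obj T = ⊥) {V : X.Opens} (hV : IsAffineOpen V) :
    ∃ K' : LSub F, K'.Sat (W ⊔ V) ∧ (∀ T ≤ W, K'.obj T = K.obj T) ∧ K'.Good V ∧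
      ∀ T ≤ W ⊔ V, K'.obj T ⊓ Q.obj T = ⊥ := by
  have hF : ∀ T : X.Opens, IsAffineOpen T → IsLocalizingOn F T :=
    fun T hT => isLocalizingOn_of_isQuasicoherent hT F
  have hc : IsCompact ((V ⊓ W : X.Opens) : Set X) := isCompact_of_le_affine hV inf_le_left
  have hK : ∀ x ∈ V ⊓ W, ∃ T : X.Opens, IsAffineOpen T ∧ x ∈ T ∧ T ≤ W ∧ K.Good T ∧
      (K.obj T).FG := by
    intro x hx
    obtain ⟨T, hT, hxT, hTW, hg⟩ := hgood x hx.2
    exact ⟨T, hT, hxT, hTW, hg, fg_of_affine hFt hT _⟩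
  obtain ⟨K₁, hsat₁, heq₁, -, hgood₁, hfg₁⟩ := LSub.step hF K W hsat hV hc hK
  -- torsion
  have htors : ∀ t ∈ K₁.obj V ⊓ Q.obj V, ∀ a ∈ idealOf V W, ∃ k : ℕ, a ^ k • t = 0 := by
    intro t ht a ha
    apply (hF V hV).exists_pow_smul_eq_zero a t
    have h1 : mres F (X.basicOpen_le a) t ∈ K₁.obj (X.basicOpen a) ⊓ Q.obj (X.basicOpen a) :=
      ⟨K₁.res_mem _ ht.1, Q.res_mem _ ht.2⟩
    rw [heq₁ _ ha, hdisj _ ha] at h1
    exact h1
  have := IsLocallyNoetherian.component_noetherian (X := X) ⟨V, hV⟩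
  obtain ⟨n, hn⟩ := exists_pow_smul_inf_eq_bot (idealOf V W) (K₁.obj V) (Q.obj V) hfg₁ htors
  have hNle : idealOf V W ^ n • K₁.obj V ≤ K₁.obj V := Submodule.smul_le_right
  have hKV : (K₁.inf (ext V (idealOf V W ^ n • K₁.obj V))).obj V =
      idealOf V W ^ n • K₁.obj V := by
    rw [LSub.inf_obj, ext_obj_self hV (hF V hV)]
    exact inf_eq_right.mpr hNle
  have heq' : ∀ T ≤ W, (K₁.inf (ext V (idealOf V W ^ n • K₁.obj V))).obj T = K.obj T := by
    intro T hTW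
    rw [LSub.inf_obj, ← heq₁ T hTW]
    refine inf_eq_left.mpr fun t ht => ?_
    intro x hx
    obtain ⟨g, hgT, hxg⟩ := hV.exists_basicOpen_le (V := T) ⟨x, hx.1⟩ hx.2
    have hgmem : g ∈ idealOf V W := hgT.trans hTW
    refine ⟨X.basicOpen g, hgT, X.basicOpen_le g, hxg, ?_⟩
    have h1 : mres F hgT t ∈ K₁.obj (X.basicOpen g) := K₁.res_mem hgT ht
    rw [hgood₁.obj_basicOpen_eq K₁ (hF V hV) g] at h1
    refine (Submodule.span_le.mpr ?_ : spanRes (K₁.obj V) _ ≤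
      spanRes (idealOf V W ^ n • K₁.obj V) (X.basicOpen_le g)) h1
    rintro _ ⟨k, hk, rfl⟩
    have h2 : g ^ n • k ∈ idealOf V W ^ n • K₁.obj V :=
      Submodule.smul_mem_smul (Ideal.pow_mem_pow hgmem n) hk
    have h3 := mres_mem_spanRes (X.basicOpen_le g) h2
    rw [mres_smul, map_pow] at h3
    obtain ⟨u, hu⟩ := (isUnit_fres_basicOpen g).pow n
    have h4 := Submodule.smul_mem _ (↑u⁻¹ : Γ(X, X.basicOpen g)) h3
    rwa [← hu, smul_smul, Units.inv_mul, one_smul] at h4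
  have hgood' : (K₁.inf (ext V (idealOf V W ^ n • K₁.obj V))).Good V := by
    intro f t ht
    obtain ⟨m, hm⟩ := exists_pow_smul_mem_of_mres_mem_ext hV (hF V hV) _ f t ht.2
    exact ⟨m, by rw [hKV]; exact hm⟩
  refine ⟨K₁.inf (ext V (idealOf V W ^ n • K₁.obj V)), ?_, heq', hgood', ?_⟩
  · -- saturation
    intro T t ht
    refine ⟨hsat₁ T t ht.1, ext_sat V _ T t ?_⟩
    have hle : T ⊓ V ≤ T ⊓ (W ⊔ V) := inf_le_inf_left _ le_sup_right
    have := (ext V (idealOf V W ^ n • K₁.obj V)).res_mem hle ht.2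
    rwa [mres_mres] at this
  · -- disjointness
    intro T hT
    rw [eq_bot_iff]
    intro t ht
    rw [Submodule.mem_bot]
    apply eq_of_locally_eq
    intro x hx
    rcases hT hx with hxW | hxV
    · refine ⟨T ⊓ W, inf_le_left, ⟨hx, hxW⟩, ?_⟩
      have h1 : mres F (inf_le_left : T ⊓ W ≤ T) t ∈
          (K₁.inf (ext V (idealOf V W ^ n • K₁.obj V))).obj (T ⊓ W) ⊓ Q.obj (T ⊓ W) :=
        ⟨LSub.res_mem _ _ ht.1, Q.res_mem _ ht.2⟩
      rw [heq' _ inf_le_right, hdisj _ inf_le_right] at h1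
      rw [map_zero]
      exact h1
    · obtain ⟨g, hgT, hxg⟩ := hV.exists_basicOpen_le (V := T) ⟨x, hx⟩ hxV
      refine ⟨X.basicOpen g, hgT, hxg, ?_⟩
      have hgd : ((K₁.inf (ext V (idealOf V W ^ n • K₁.obj V))).inf Q).Good V :=
        good_inf hgood' (hQ V hV)
      have h1 : mres F hgT t ∈
          ((K₁.inf (ext V (idealOf V W ^ n • K₁.obj V))).inf Q).obj (X.basicOpen g) :=
        ⟨LSub.res_mem _ _ ht.1, Q.res_mem _ ht.2⟩
      rw [hgd.obj_basicOpen_eq _ (hF V hV) g, LSub.inf_obj, hKV, hn, spanRes] at h1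
      rw [map_zero]
      have h2 : (mres F (X.basicOpen_le g) '' ((⊥ : Submodule Γ(X, V) Γ(F, V)) : Set Γ(F, V))) =
          {0} := by
        rw [Submodule.bot_coe, Set.image_singleton, map_zero]
      rw [h2, Submodule.span_singleton_eq_bot.mpr rfl] at h1
      exact h1

section Zorn

variable (U : X.Opens) (Q : LSub F)

/-- A stage of the Zorn argument. -/
structure Stage where
  W : X.Opens
  K : LSub F
  hU : U ≤ W
  sat : K.Sat W
  eqU : ∀ T ≤ U, K.obj T = ⊤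
  good : ∀ x ∈ W, ∃ T : X.Opens, IsAffineOpen T ∧ x ∈ T ∧ T ≤ W ∧ K.Good T
  disj : ∀ T ≤ W, K.obj T ⊓ Q.obj T = ⊥

variable {U Q}

/-- The order on stages. -/
def Stage.r (s s' : Stage U Q) : Prop :=
  s.W ≤ s'.W ∧ ∀ T ≤ s.W, s'.K.obj T = s.K.obj T

theorem Stage.r.le {s s' : Stage U Q} (h : s.r s') : s'.K ≤ s.K :=
  LSub.le_of_sat_of_eq_on s.sat h.2

theorem Stage.r.trans {a b c : Stage U Q} (h₁ : a.r b) (h₂ : b.r c) : a.r c :=
  ⟨h₁.1.trans h₂.1, fun T hT => (h₂.2 T (hT.trans h₁.1)).trans (h₁.2 T hT)⟩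

theorem Stage.exists_ub (c : Set (Stage U Q)) (hc : IsChain Stage.r c) (hne : c.Nonempty) :
    ∃ ub : Stage U Q, ∀ a ∈ c, a.r ub := by
  let Kc : LSub F := LSub.sInf ((fun s : Stage U Q => s.K) '' c)
  have hmem : ∀ {T : X.Opens} {t : Γ(F, T)}, t ∈ Kc.obj T ↔ ∀ s ∈ c, t ∈ s.K.obj T := by
    intro T t
    rw [LSub.mem_sInf_obj]
    constructor
    · intro h s hs
      exact h _ ⟨s, hs, rfl⟩
    · rintro h _ ⟨s, hs, rfl⟩
      exact h s hs
  have hclaim : ∀ s ∈ c, ∀ T ≤ s.W, Kc.obj T = s.K.obj T := by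
    intro s hs T hT
    refine le_antisymm (fun t ht => hmem.mp ht s hs) (fun t ht => hmem.mpr fun s' hs' => ?_)
    by_cases hss' : s = s'
    · subst hss'; exact ht
    · rcases hc hs hs' hss' with h | h
      · rw [h.2 T hT]; exact ht
      · exact h.le T ht
  refine ⟨⟨⨆ s ∈ c, s.W, Kc, ?_, ?_, ?_, ?_, ?_⟩,
    fun s hs => ⟨le_biSup (fun s => s.W) hs, hclaim s hs⟩⟩
  · obtain ⟨s, hs⟩ := hne
    exact s.hU.trans (le_biSup (fun s : Stage U Q => s.W) hs)
  · -- saturated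
    intro T t ht
    refine hmem.mpr fun s hs => s.sat T t ?_
    have hle : T ⊓ s.W ≤ T ⊓ ⨆ s ∈ c, s.W :=
      inf_le_inf_left _ (le_biSup (fun s : Stage U Q => s.W) hs)
    have := s.K.res_mem hle (hmem.mp ht s hs)
    rwa [mres_mres] at this
  · -- full on `U`
    intro T hT
    rw [eq_top_iff]
    intro t _
    exact hmem.mpr fun s hs => by rw [s.eqU T hT]; exact Submodule.mem_top
  · -- good
    intro x hx
    obtain ⟨s, hs'⟩ := Opens.mem_iSup.mp hx
    obtain ⟨hs, hxs⟩ := Opens.mem_iSup.mp hs'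
    obtain ⟨T, hT, hxT, hTW, hg⟩ := s.good x hxs
    refine ⟨T, hT, hxT, hTW.trans (le_biSup (fun s : Stage U Q => s.W) hs), ?_⟩
    exact hg.of_eq_on fun T' hT' => hclaim s hs T' (hT'.trans hTW)
  · -- disjoint
    intro T hT
    rw [eq_bot_iff]
    intro t ht
    rw [Submodule.mem_bot]
    apply eq_of_locally_eq
    intro x hx
    obtain ⟨s, hs'⟩ := Opens.mem_iSup.mp (hT hx)
    obtain ⟨hs, hxs⟩ := Opens.mem_iSup.mp hs'
    refine ⟨T ⊓ s.W, inf_le_left, ⟨hx, hxs⟩, ?_⟩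
    have h1 : mres F (inf_le_left : T ⊓ s.W ≤ T) t ∈ Kc.obj (T ⊓ s.W) ⊓ Q.obj (T ⊓ s.W) :=
      ⟨Kc.res_mem _ ht.1, Q.res_mem _ ht.2⟩
    rw [hclaim s hs _ inf_le_right, s.disj _ inf_le_right] at h1
    rw [map_zero]
    exact h1

end Zorn

/-- **Avoiding a subsheaf supported off `U`.** -/
theorem exists_avoiding [IsLocallyNoetherian X] [F.IsQuasicoherent]
    (hFt : SheafOfModules.IsFiniteType (R := X.ringCatSheaf) F) (U : X.Opens) (Q : LSub F)
    (hQ : ∀ T : X.Opens, IsAffineOpen T → Q.Good T) (hQU : ∀ T ≤ U, Q.obj T = ⊥) :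
    ∃ K : LSub F, (∀ T ≤ U, K.obj T = ⊤) ∧
      (∀ x : X, ∃ T : X.Opens, IsAffineOpen T ∧ x ∈ T ∧ K.Good T) ∧
      ∀ T : X.Opens, K.obj T ⊓ Q.obj T = ⊥ := by
  have hchain : ∀ c : Set (Stage U Q), IsChain Stage.r c → ∃ ub, ∀ a ∈ c, a.r ub := by
    intro c hc
    rcases c.eq_empty_or_nonempty with rfl | hne
    · refine ⟨⟨U, LSub.top F, le_rfl, fun _ _ _ => Submodule.mem_top, fun _ _ => rfl, ?_, ?_⟩,
        fun a ha => absurd ha (Set.notMem_empty a)⟩
      · intro x hx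
        obtain ⟨_, ⟨T, hT, rfl⟩, hxT, hTU⟩ :=
          X.isBasis_affineOpens.exists_subset_of_mem_open hx U.2
        exact ⟨T, hT, hxT, hTU, fun f t _ => ⟨0, Submodule.mem_top⟩⟩
      · intro T hT
        rw [hQU T hT, inf_bot_eq]
    · exact Stage.exists_ub c hc hne
  obtain ⟨m, hm⟩ := exists_maximal_of_chains_bounded hchain (fun h₁ h₂ => h₁.trans h₂)
  have hW : m.W = ⊤ := by
    rw [eq_top_iff]
    intro x _
    obtain ⟨_, ⟨V, hV, rfl⟩, hxV, -⟩ :=
      X.isBasis_affineOpens.exists_subset_of_mem_open (Set.mem_univ x) isOpen_univ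
    obtain ⟨K', hsat', heq', hgood', hdisj'⟩ :=
      step' hFt Q hQ m.K m.W m.sat m.good m.disj hV
    let m' : Stage U Q :=
      { W := m.W ⊔ V
        K := K'
        sat := hsat'
        hU := m.hU.trans le_sup_left
        eqU := fun T hT => (heq' T (hT.trans m.hU)).trans (m.eqU T hT)
        good := by
          intro y hy
          rcases hy with hyW | hyV
          · obtain ⟨T, hT, hyT, hTW, hg⟩ := m.good y hyW
            exact ⟨T, hT, hyT, hTW.trans le_sup_left,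
              hg.of_eq_on fun T' hT' => heq' T' (hT'.trans hTW)⟩
          · exact ⟨V, hV, hyV, le_sup_right, hgood'⟩
        disj := hdisj' }
    have hmm' : m.r m' := ⟨le_sup_left, heq'⟩
    exact (hm m' hmm').1 (Or.inr hxV)
  refine ⟨m.K, m.eqU, fun x => ?_, fun T => m.disj T (hW ▸ le_top)⟩
  obtain ⟨T, hT, hxT, -, hg⟩ := m.good x (hW ▸ Opens.mem_top x)
  exact ⟨T, hT, hxT, hg⟩

end Groth.Agent.Lib.Helper49.LSubAvoid
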