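import Mathlib
import Groth.Agent.Lib.Helper49.LSubAvoid
import Groth.Agent.Lib.Helper49.DeligneGraph
import Groth.Agent.Lib.Helper49.CohNoeth

/-!
# Extending a homomorphism of coherent modules from an open subset (EGA I 9.4.8 / Stacks 01PI)

Shared library of helper49 (namespace `Groth.Agent.Lib.Helper49.HomExtendOpen`).
-/

set_option autoImplicit false
universe u
open CategoryTheory CategoryTheory.Limits AlgebraicGeometry TopologicalSpace Opposite

namespace Groth.Agent.Lib.Helper49.HomExtendOpen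

open Groth.Agent.Lib.Helper49 Groth.Agent.Lib.Helper45 Groth.Agent.Lib.Helper18.LSubM
  Groth.Agent.Lib.Helper49.LSubSub Groth.Agent.Lib.Helper45.GraphTrick
  Groth.Agent.Lib.Helper49.DeligneGraph Groth.Agent.Lib.Helper45.NowhereDense

variable {X : Scheme.{u}}

theorem mono_of_app_injective {F G : X.Modules} (φ : F ⟶ G)
    (h : ∀ U : X.Opens, Function.Injective (φ.app U)) : Mono φ := by
  apply Functor.mono_of_mono_map (Scheme.Modules.toPresheaf X)
  apply (config := { allowSynthFailures := true }) NatTrans.mono_of_mono_app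
  intro U
  change Mono (φ.app U.unop)
  exact (AddCommGrpCat.mono_iff_injective _).mpr (h U.unop)

theorem isQuasicoherent_graph' [IsLocallyNoetherian X] (F G : X.Modules) [F.IsQuasicoherent]
    [G.IsQuasicoherent]
    (U : X.Opens) (φ : F.restrict U.ι ⟶ G.restrict U.ι) : (graph F G U φ).IsQuasicoherent := by
  have : (G.restrict U.ι).IsQuasicoherent := Scheme.Modules.isQuasicoherent_restrictFunctor _ _
  have hE : (tgt G U).IsQuasicoherent := isQuasicoherent_pushforward _ U.ι
  exact isQuasicoherent_kernel (Φ F G U φ) (isQuasicoherent_biprod F G) hE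

theorem exists_extension [IsLocallyNoetherian X] (F G : X.Modules)
    (hF : Coh.IsCoh F) (hG : Coh.IsCoh G) (U : X.Opens)
    (φ : F.restrict U.ι ⟶ G.restrict U.ι) :
    ∃ (F' : X.Modules) (ι : F' ⟶ F) (φ' : F' ⟶ G), Mono ι ∧ Coh.IsCoh F' ∧
      IsIso ((Scheme.Modules.restrictFunctor U.ι).map ι) ∧
      (Scheme.Modules.restrictFunctor U.ι).map φ' =
        (Scheme.Modules.restrictFunctor U.ι).map ι ≫ φ := by
  have := hF.1
  have := hG.1
  have hHq : (graph F G U φ).IsQuasicoherent := isQuasicoherent_graph' F G U φ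
  have hHft : SheafOfModules.IsFiniteType (R := X.ringCatSheaf) (graph F G U φ) := by
    have hb := isCoh_biprod hF hG
    have := hb.1
    exact isFiniteType_of_mono (kernel.ι (Φ F G U φ)) hb.2
  have hkq : (kernel (p₁ F G U φ)).IsQuasicoherent :=
    isQuasicoherent_kernel (p₁ F G U φ) hHq hF.1
  let Q : LSub (graph F G U φ) := LSub.ofImage (kernel.ι (p₁ F G U φ))
  have hQ : ∀ T : X.Opens, IsAffineOpen T → Q.Good T := fun T hT => good_ofImage_of_mono _ hT
  have hQmem : ∀ (T : X.Opens) (t : Γ(graph F G U φ, T)),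
      t ∈ Q.obj T ↔ (p₁ F G U φ).app T t = 0 := by
    intro T t
    rw [mem_ofImage_obj_iff_of_mono]
    exact ((app_exact_kernel (p₁ F G U φ) T) t).symm
  have hQU : ∀ T ≤ U, Q.obj T = ⊥ := by
    intro T hT
    rw [eq_bot_iff]
    intro t ht
    rw [hQmem] at ht
    exact p₁_app_injective_of_le F G U φ hT (by rw [ht, map_zero])
  obtain ⟨K, hKU, hKgood, hKdisj⟩ := LSubAvoid.exists_avoiding hHft U Q hQ hQU
  have hKq : K.toModules.IsQuasicoherent := by
    refine K.isQuasicoherent_toModules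
      (fun T hT => isLocalizingOn_of_isQuasicoherent hT (graph F G U φ))
      {T | IsAffineOpen T ∧ K.Good T} (fun T hT => hT.1) ?_ (fun T hT => hT.2)
    intro x
    obtain ⟨T, hT, hxT, hg⟩ := hKgood x
    exact ⟨T, ⟨hT, hg⟩, hxT⟩
  have hinj : ∀ T : X.Opens, Function.Injective ((K.ι ≫ p₁ F G U φ).app T) := by
    intro T
    rw [injective_iff_map_eq_zero]
    intro s hs
    have h1 : K.ι.app T s ∈ K.obj T ⊓ Q.obj T := ⟨K.ι_app_mem T s, (hQmem T _).mpr hs⟩
    rw [hKdisj T, Submodule.mem_bot] at h1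
    exact K.ι_app_injective T (by rw [h1, map_zero])
  have hmono : Mono (K.ι ≫ p₁ F G U φ) :=
    mono_of_app_injective _ hinj
  refine ⟨K.toModules, K.ι ≫ p₁ F G U φ, K.ι ≫ p₂ F G U φ, hmono,
    ⟨hKq, isFiniteType_of_mono K.ι hHft⟩, ?_, ?_⟩
  · rw [Scheme.Modules.Hom.isIso_iff_isIso_app]
    intro T
    rw [ConcreteCategory.isIso_iff_bijective]
    refine ⟨hinj (U.ι ''ᵁ T), fun f => ?_⟩
    have hle : U.ι ''ᵁ T ≤ U := U.ι_image_le T
    obtain ⟨h, hh⟩ := exists_p₁_app_eq_of_le F G U φ hle f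
    have hmem : h ∈ K.obj (U.ι ''ᵁ T) := by rw [hKU _ hle]; exact Submodule.mem_top
    exact ⟨K.sec _ h hmem, hh⟩
  · rw [Functor.map_comp, Functor.map_comp, Category.assoc, restrict_map_p₂]

end Groth.Agent.Lib.Helper49.HomExtendOpen
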