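import Mathlib

/-!
# A criterion for a functor to be a localization functor (right fractions)

Shared library of helper49 (namespace `Groth.Agent.Lib.Helper49.LocFrac`).
-/

set_option autoImplicit false
universe v₁ v₂ u₁ u₂
open CategoryTheory

namespace Groth.Agent.Lib.Helper49.LocFrac

variable {C : Type u₁} [Category.{v₁} C] {D : Type u₂} [Category.{v₂} D] (L : C ⥤ D)
  (W : MorphismProperty C)

/-- Right calculus of fractions from "fullness and faithfulness up to fractions". -/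
theorem hasRightCalculusOfFractions [W.IsMultiplicative] (hW : W.IsInvertedBy L)
    (hfull : ∀ (A B : C) (φ : L.obj A ⟶ L.obj B), ∃ (A' : C) (s : A' ⟶ A) (f : A' ⟶ B),
      W s ∧ L.map s ≫ φ = L.map f)
    (hfaith : ∀ (A B : C) (f g : A ⟶ B), L.map f = L.map g →
      ∃ (A' : C) (s : A' ⟶ A), W s ∧ s ≫ f = s ≫ g) :
    W.HasRightCalculusOfFractions where
  exists_rightFraction := by
    intro A B' z
    have := hW _ z.hs
    obtain ⟨A', t, g, ht, htg⟩ := hfull A B' (L.map z.f ≫ inv (L.map z.s))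
    have h1 : L.map (t ≫ z.f) = L.map (g ≫ z.s) := by
      rw [L.map_comp, L.map_comp, ← htg]
      simp
    obtain ⟨A'', u, hu, huu⟩ := hfaith _ _ _ _ h1
    refine ⟨⟨u ≫ t, W.comp_mem _ _ hu ht, u ≫ g⟩, ?_⟩
    simpa using huu
  ext := by
    intro A B B' f₁ f₂ s hs h
    have := hW _ hs
    have h1 : L.map f₁ = L.map f₂ := by
      rw [← cancel_mono (L.map s), ← L.map_comp, ← L.map_comp, h]
    obtain ⟨A', t, ht, htt⟩ := hfaith _ _ _ _ h1
    exact ⟨A', t, ht, htt⟩

/-- A functor which is essentially surjective, and full and faithful up to right fractions with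
denominators in a multiplicative class `W` it inverts, is a localization functor for `W`. -/
theorem isLocalization [W.IsMultiplicative] (hW : W.IsInvertedBy L) [L.EssSurj]
    (hfull : ∀ (A B : C) (φ : L.obj A ⟶ L.obj B), ∃ (A' : C) (s : A' ⟶ A) (f : A' ⟶ B),
      W s ∧ L.map s ≫ φ = L.map f)
    (hfaith : ∀ (A B : C) (f g : A ⟶ B), L.map f = L.map g →
      ∃ (A' : C) (s : A' ⟶ A), W s ∧ s ≫ f = s ≫ g) :
    L.IsLocalization W := by
  have hcalc := hasRightCalculusOfFractions L W hW hfull hfaith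
  let G := Localization.lift L hW W.Q
  let e : W.Q ⋙ G ≅ L := Localization.fac L hW W.Q
  have hnat : ∀ {A B : C} (a : A ⟶ B), G.map (W.Q.map a) =
      e.hom.app A ≫ L.map a ≫ e.inv.app B := by
    intro A B a
    have := e.hom.naturality a
    rw [← Category.assoc, ← this]
    simp
  have hG_full : ∀ (A B : C) (ψ : G.obj (W.Q.obj A) ⟶ G.obj (W.Q.obj B)),
      ∃ φ : W.Q.obj A ⟶ W.Q.obj B, G.map φ = ψ := by
    intro A B ψ
    obtain ⟨A', s, f, hs, hsf⟩ := hfull A B (e.inv.app A ≫ ψ ≫ e.hom.app B)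
    have := Localization.inverts W.Q W s hs
    refine ⟨inv (W.Q.map s) ≫ W.Q.map f, ?_⟩
    rw [G.map_comp, Functor.map_inv, IsIso.inv_comp_eq, hnat f, hnat s, ← hsf]
    simp
  have hG_faith : ∀ (A B : C) (φ₁ φ₂ : W.Q.obj A ⟶ W.Q.obj B), G.map φ₁ = G.map φ₂ → φ₁ = φ₂ := by
    intro A B φ₁ φ₂ h
    obtain ⟨z₁, rfl⟩ := Localization.exists_rightFraction W.Q W φ₁
    obtain ⟨z₂, rfl⟩ := Localization.exists_rightFraction W.Q W φ₂
    rw [MorphismProperty.RightFraction.map_eq_iff]
    obtain ⟨ψ, hψ⟩ := hcalc.exists_rightFraction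
      (MorphismProperty.LeftFraction.mk z₁.s z₂.s z₂.hs)
    dsimp at hψ
    have h1 : L.map (ψ.s ≫ z₁.f) = L.map (ψ.f ≫ z₂.f) := by
      have hA : ∀ {P Q : C} (a b : P ⟶ Q), G.map (W.Q.map a) = G.map (W.Q.map b) →
          L.map a = L.map b := by
        intro P Q a b hab
        rw [hnat a, hnat b] at hab
        rwa [cancel_epi, cancel_mono] at hab
      apply hA
      have e1 : W.Q.map z₁.f = W.Q.map z₁.s ≫ z₁.map W.Q (Localization.inverts W.Q W) := by simp
      have e2 : W.Q.map z₂.f = W.Q.map z₂.s ≫ z₂.map W.Q (Localization.inverts W.Q W) := by simp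
      rw [W.Q.map_comp, W.Q.map_comp, e1, e2, ← Category.assoc, ← Category.assoc,
        ← W.Q.map_comp, ← W.Q.map_comp, hψ, G.map_comp, G.map_comp, h]
    obtain ⟨Z, u, hu, huu⟩ := hfaith _ _ _ _ h1
    refine ⟨Z, u ≫ ψ.s, u ≫ ψ.f, ?_, ?_, ?_⟩
    · rw [Category.assoc, Category.assoc, hψ]
    · simpa using huu
    · rw [Category.assoc]
      exact W.comp_mem _ _ hu (W.comp_mem _ _ ψ.hs z₁.hs)
  have hQ : W.Q.EssSurj := Localization.essSurj W.Q W
  have : G.Full := by
    constructor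
    intro X Y ψ
    obtain ⟨φ', hφ'⟩ := hG_full (W.Q.objPreimage X) (W.Q.objPreimage Y)
      (G.map (W.Q.objObjPreimageIso X).hom ≫ ψ ≫ G.map (W.Q.objObjPreimageIso Y).inv)
    refine ⟨(W.Q.objObjPreimageIso X).inv ≫ φ' ≫ (W.Q.objObjPreimageIso Y).hom, ?_⟩
    rw [G.map_comp, G.map_comp, hφ']
    simp only [Category.assoc, ← G.map_comp, Iso.inv_hom_id, G.map_id, Category.comp_id]
    rw [← Category.assoc, ← G.map_comp, Iso.inv_hom_id, G.map_id, Category.id_comp]
  have : G.Faithful := by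
    constructor
    intro X Y φ₁ φ₂ h
    have := hG_faith (W.Q.objPreimage X) (W.Q.objPreimage Y)
      ((W.Q.objObjPreimageIso X).hom ≫ φ₁ ≫ (W.Q.objObjPreimageIso Y).inv)
      ((W.Q.objObjPreimageIso X).hom ≫ φ₂ ≫ (W.Q.objObjPreimageIso Y).inv)
      (by simp only [G.map_comp, h])
    simpa using this
  have : G.EssSurj :=
    ⟨fun X ↦ ⟨W.Q.obj (L.objPreimage X), ⟨e.app _ ≪≫ L.objObjPreimageIso X⟩⟩⟩
  have : G.IsEquivalence := { }
  exact Functor.IsLocalization.of_equivalence_target W.Q W L G.asEquivalence e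

end Groth.Agent.Lib.Helper49.LocFrac
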