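import Mathlib
import Groth.Agent.Lib.Helper49.LocFrac
import Groth.Agent.Lib.Helper49.HomExtendOpen
import Groth.Agent.Lib.Helper49.StalkKerCoker
import Groth.Agent.Lib.Helper18.LocNoethCover
import Groth.Prelude.Def_CohB1

/-!
# `Coh(X)/Coh_Z(X) ≃ Coh(U)`: restriction of coherent modules to an open is a localization functor

Shared library of helper49 (namespace `Groth.Agent.Lib.Helper49.CohLocalization`).
-/

set_option autoImplicit false
universe u
open CategoryTheory CategoryTheory.Limits AlgebraicGeometry TopologicalSpace Opposite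

namespace Groth.Agent.Lib.Helper49.CohLocalization

open Groth.Agent.Lib.Helper49 Groth.Agent.Lib.Helper45 Groth.Agent.Lib.Helper45.GraphTrick
  Groth.Agent.Lib.Helper45.NowhereDense

variable {X : Scheme.{u}} (U : X.Opens)

/-- The class of morphisms of coherent modules with kernel and cokernel supported off `U`. -/
def Wcoh : MorphismProperty
    (ObjectProperty.FullSubcategory (fun M : X.Modules => Coh.IsCoh M)) :=
  fun _ _ f => CohB1.support (kernel f.hom) ⊆ (↑U : Set X)ᶜ ∧
    CohB1.support (cokernel f.hom) ⊆ (↑U : Set X)ᶜ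

theorem support_subset_compl_iff (M : X.Modules) :
    CohB1.support M ⊆ (↑U : Set X)ᶜ ↔ ∀ x ∈ U, Subsingleton ↑(M.presheaf.stalk x) := by
  constructor
  · intro h x hx
    by_contra hc
    exact h hc hx
  · intro h x hx hxU
    exact hx (h x hxU)

theorem wcoh_iff {A B : ObjectProperty.FullSubcategory (fun M : X.Modules => Coh.IsCoh M)}
    (f : A ⟶ B) : Wcoh U f ↔ IsIso ((Scheme.Modules.restrictFunctor U.ι).map f.hom) := by
  rw [isIso_restrict_iff]
  unfold Wcoh
  rw [support_subset_compl_iff, support_subset_compl_iff]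
  constructor
  · rintro ⟨h1, h2⟩ x hx
    exact ⟨(subsingleton_stalk_kernel_iff f.hom x).mp (h1 x hx),
      (subsingleton_stalk_cokernel_iff f.hom x).mp (h2 x hx)⟩
  · intro h
    exact ⟨fun x hx => (subsingleton_stalk_kernel_iff f.hom x).mpr (h x hx).1,
      fun x hx => (subsingleton_stalk_cokernel_iff f.hom x).mpr (h x hx).2⟩

instance : (Wcoh U).IsMultiplicative where
  id_mem A := by
    rw [wcoh_iff]
    change IsIso ((Scheme.Modules.restrictFunctor U.ι).map (𝟙 A.obj))
    infer_instance
  comp_mem f g hf hg := by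
    rw [wcoh_iff] at hf hg ⊢
    change IsIso ((Scheme.Modules.restrictFunctor U.ι).map (f.hom ≫ g.hom))
    rw [Functor.map_comp]
    infer_instance

variable (hres : ∀ M : X.Modules, Coh.IsCoh M →
  Coh.IsCoh ((Scheme.Modules.restrictFunctor U.ι).obj M))

/-- The restriction functor on coherent modules. -/
noncomputable abbrev resCoh :
    ObjectProperty.FullSubcategory (fun M : X.Modules => Coh.IsCoh M) ⥤
      ObjectProperty.FullSubcategory (fun N : (↑U : Scheme.{u}).Modules => Coh.IsCoh N) :=
  ObjectProperty.lift (fun N : (↑U : Scheme.{u}).Modules => Coh.IsCoh N)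
    (ObjectProperty.ι (fun M : X.Modules => Coh.IsCoh M) ⋙ Scheme.Modules.restrictFunctor U.ι)
    (fun M => hres M.obj M.property)

theorem isIso_resCoh_map_iff
    {A B : ObjectProperty.FullSubcategory (fun M : X.Modules => Coh.IsCoh M)} (f : A ⟶ B) :
    IsIso ((resCoh U hres).map f) ↔ IsIso ((Scheme.Modules.restrictFunctor U.ι).map f.hom) :=
  (ObjectProperty.isIso_hom_iff _).symm

theorem wcoh_isInvertedBy : (Wcoh U).IsInvertedBy (resCoh U hres) := by
  intro A B f hf
  rw [isIso_resCoh_map_iff]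
  exact (wcoh_iff U f).mp hf

theorem hfaith [IsLocallyNoetherian X]
    (A B : ObjectProperty.FullSubcategory (fun M : X.Modules => Coh.IsCoh M)) (f g : A ⟶ B)
    (h : (resCoh U hres).map f = (resCoh U hres).map g) :
    ∃ (A' : ObjectProperty.FullSubcategory (fun M : X.Modules => Coh.IsCoh M)) (s : A' ⟶ A),
      Wcoh U s ∧ s ≫ f = s ≫ g := by
  have h' : (Scheme.Modules.restrictFunctor U.ι).map f.hom =
      (Scheme.Modules.restrictFunctor U.ι).map g.hom := congrArg (fun k => k.hom) h
  have hBq := B.property.1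
  refine ⟨⟨kernel (f.hom - g.hom), isCoh_kernel _ A.property B.property.1⟩,
    ObjectProperty.homMk (kernel.ι (f.hom - g.hom)), ?_, ?_⟩
  · rw [wcoh_iff]
    change IsIso ((Scheme.Modules.restrictFunctor U.ι).map (kernel.ι (f.hom - g.hom)))
    rw [Scheme.Modules.Hom.isIso_iff_isIso_app]
    intro T
    rw [ConcreteCategory.isIso_iff_bijective]
    refine ⟨app_injective_of_mono (kernel.ι (f.hom - g.hom)) (U.ι ''ᵁ T), fun a => ?_⟩
    have h0 : (f.hom - g.hom).app (U.ι ''ᵁ T) a = 0 := by
      have h1 : f.hom.app (U.ι ''ᵁ T) a = g.hom.app (U.ι ''ᵁ T) a :=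
        congrArg (fun k => (k.app T) a) h'
      change f.hom.app (U.ι ''ᵁ T) a - g.hom.app (U.ι ''ᵁ T) a = 0
      rw [h1, sub_self]
    exact ((app_exact_kernel (f.hom - g.hom) (U.ι ''ᵁ T)) a).mp h0
  · apply ObjectProperty.hom_ext
    change kernel.ι (f.hom - g.hom) ≫ f.hom = kernel.ι (f.hom - g.hom) ≫ g.hom
    rw [← sub_eq_zero, ← Preadditive.comp_sub, kernel.condition]

theorem hfull [IsLocallyNoetherian X]
    (A B : ObjectProperty.FullSubcategory (fun M : X.Modules => Coh.IsCoh M))
    (φ : (resCoh U hres).obj A ⟶ (resCoh U hres).obj B) :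
    ∃ (A' : ObjectProperty.FullSubcategory (fun M : X.Modules => Coh.IsCoh M)) (s : A' ⟶ A)
      (f : A' ⟶ B), Wcoh U s ∧ (resCoh U hres).map s ≫ φ = (resCoh U hres).map f := by
  obtain ⟨F', ι, φ', -, hF', hι, hφ'⟩ :=
    HomExtendOpen.exists_extension A.obj B.obj A.property B.property U φ.hom
  refine ⟨⟨F', hF'⟩, ObjectProperty.homMk ι, ObjectProperty.homMk φ', ?_, ?_⟩
  · rw [wcoh_iff]
    exact hι
  · apply ObjectProperty.hom_ext
    exact hφ'.symm

theorem essSurj [IsNoetherian X] : (resCoh U hres).EssSurj := by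
  constructor
  intro N
  have hNq := N.property.1
  have hX : ∀ x : X, ∃ V : X.Opens, x ∈ V ∧ NoetherianSpace (V : Set X) :=
    fun x => ⟨⊤, Opens.mem_top x, inferInstance⟩
  have hFq : ((Scheme.Modules.pushforward U.ι).obj N.obj).IsQuasicoherent :=
    isQuasicoherent_pushforward _ U.ι
  let i : N.obj ⟶ ((Scheme.Modules.pushforward U.ι).obj N.obj).restrict U.ι :=
    inv ((Scheme.Modules.restrictAdjunction U.ι).counit.app N.obj)
  obtain ⟨G', i', e, -, hq, hft, -⟩ :=
    Groth.Agent.Lib.Helper18.LSubM.exists_extension_of_mono_of_locallyNoetherianSpace hX i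
      N.property.2
  exact ⟨⟨G', hq, hft⟩, ⟨ObjectProperty.isoMk _ e⟩⟩

/-- **`Coh(X)/Coh_Z(X) ≃ Coh(U)`.** -/
theorem isLocalization [IsNoetherian X] : (resCoh U hres).IsLocalization (Wcoh U) := by
  have := essSurj U hres
  exact LocFrac.isLocalization (resCoh U hres) (Wcoh U) (wcoh_isInvertedBy U hres)
    (hfull U hres) (hfaith U hres)

end Groth.Agent.Lib.Helper49.CohLocalization
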