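import Mathlib
import Groth.Prelude.Def_Formal
import Groth.Prelude.Def_Formal2
import Groth.Agent.Lib.Helper49.FormalConst
import Groth.Agent.Lib.Helper49.QCohLocal
import Groth.Agent.Lib.Helper49.LimMod
import Groth.Agent.Lib.Helper49.LimMod2
import Groth.Agent.Lib.Helper18.EpiAffine
import Groth.Agent.Lib.Helper45.EpiStalk
import Groth.Agent.Lib.Helper45.ModulesExact

/-!
# Sections over affine opens of `J`-quotients, and the limit of a quasi-coherent formal system
(helper49; Stacks 087W(4) / 09B8)
-/

set_option autoImplicit false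
set_option linter.style.haveILetI false
universe u
open CategoryTheory CategoryTheory.Limits AlgebraicGeometry TopologicalSpace Opposite

namespace Groth.Agent.Lib.Helper49.LimQuot

open Groth.Agent.Lib.Helper49.FormalConst Groth.Agent.Lib.Helper49.FormalPullback

variable {A : Type u} [CommRing A] {X : Scheme.{u}} [X.Over (Spec (CommRingCat.of A))]

/-- the structure map `A → Γ(X, U)` -/
noncomputable def ρ (U : X.Opens) : A →+* X.ringCatSheaf.obj.obj (op U) :=
  (Coh.resTop X (op U)).comp (Coh.toGlobal (X ↘ Spec (CommRingCat.of A)))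

/-- sections over `U` as an `A`-module -/
noncomputable def secA (U : X.Opens) : X.Modules ⥤ ModuleCat.{u} A :=
  SheafOfModules.evaluation X.ringCatSheaf (op U) ⋙ ModuleCat.restrictScalars (ρ (A := A) U)

instance preservesLimitsOfShape_restrictScalars {R S : Type u} [Ring R] [Ring S]
    (f : R →+* S) : PreservesLimitsOfShape ℕᵒᵖ (ModuleCat.restrictScalars.{u} f) :=
  ⟨fun {_} => inferInstance⟩

instance (U : X.Opens) : PreservesLimitsOfShape ℕᵒᵖ (secA (A := A) U) := by
  have h1 : PreservesLimitsOfShape ℕᵒᵖ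
      (SheafOfModules.evaluation X.ringCatSheaf (op U) : X.Modules ⥤ _) := inferInstance
  have h2 : PreservesLimitsOfShape ℕᵒᵖ (ModuleCat.restrictScalars.{u} (ρ (A := A) U)) :=
    inferInstance
  exact @comp_preservesLimitsOfShape _ _ _ _ _ _ _ _ _ _ h1 h2

theorem secA_map_apply {M N : X.Modules} (φ : M ⟶ N) (U : X.Opens)
    (s : ↑((secA (A := A) U).obj M)) :
    ((secA (A := A) U).map φ).hom s = (φ.app U).hom s := rfl

theorem secA_smul (M : X.Modules) (U : X.Opens) (a : A) (s : ↑((secA (A := A) U).obj M)) :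
    a • s = ((secA (A := A) U).map (Formal.smulMod A M a)).hom s := rfl

theorem secA_map_add {M N : X.Modules} (φ ψ : M ⟶ N) (U : X.Opens) :
    (secA (A := A) U).map (φ + ψ) = (secA (A := A) U).map φ + (secA (A := A) U).map ψ := rfl

theorem secA_map_zero {M N : X.Modules} (U : X.Opens) :
    (secA (A := A) U).map (0 : M ⟶ N) = 0 := rfl

instance (U : X.Opens) : (secA (A := A) U).Additive where
  map_add := by intros; rfl

theorem hom_ext_secA {M N : X.Modules} {φ ψ : M ⟶ N}
    (h : ∀ (U : X.Opens) (s : ↑((secA (A := A) U).obj M)),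
      ((secA (A := A) U).map φ).hom s = ((secA (A := A) U).map ψ).hom s) : φ = ψ := by
  apply Scheme.Modules.hom_ext
  intro U
  ext s
  exact h U s

theorem smulMod_add (M : X.Modules) (a b : A) :
    Formal.smulMod A M (a + b) = Formal.smulMod A M a + Formal.smulMod A M b := by
  apply hom_ext_secA (A := A)
  intro U s
  rw [secA_map_add, ← secA_smul, ModuleCat.hom_add, LinearMap.add_apply, ← secA_smul,
    ← secA_smul]
  exact add_smul a b s

theorem smulMod_mul (M : X.Modules) (a b : A) :
    Formal.smulMod A M (a * b) = Formal.smulMod A M b ≫ Formal.smulMod A M a := by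
  apply hom_ext_secA (A := A)
  intro U s
  rw [Functor.map_comp, ModuleCat.hom_comp, LinearMap.comp_apply, ← secA_smul, ← secA_smul,
    ← secA_smul]
  exact mul_smul a b s

theorem smulMod_sum (M : X.Modules) {ι : Type*} (T : Finset ι) (c g : ι → A) :
    Formal.smulMod A M (∑ i ∈ T, c i * g i) =
      ∑ i ∈ T, Formal.smulMod A M (g i) ≫ Formal.smulMod A M (c i) := by
  classical
  induction T using Finset.induction_on with
  | empty => simp [smulMod_zero]
  | insert i T hi ih =>
    rw [Finset.sum_insert hi, Finset.sum_insert hi, smulMod_add, smulMod_mul, ih]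

/-- Sections of a kernel are the sections killed by the morphism. -/
theorem app_exact_kernel {F G : X.Modules} (η : F ⟶ G) (V : X.Opens) :
    Function.Exact ((kernel.ι η).app V) (η.app V) := by
  have hS : (ShortComplex.mk (kernel.ι η) η (kernel.condition η)).Exact :=
    ShortComplex.exact_kernel η
  have h := hS.map_of_mono_of_preservesKernel (Helper45.sectionsFunctor X V)
    (inferInstanceAs (Mono (kernel.ι η))) inferInstance
  exact (ShortComplex.ab_exact_iff_function_exact _).mp h

theorem exists_kernel_lift_secA {F G : X.Modules} (η : F ⟶ G) (V : X.Opens)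
    (s : ↑((secA (A := A) V).obj F)) (hs : ((secA (A := A) V).map η).hom s = 0) :
    ∃ k : ↑((secA (A := A) V).obj (kernel η)), ((secA (A := A) V).map (kernel.ι η)).hom k = s := by
  obtain ⟨k, hk⟩ := (app_exact_kernel η V s).mp hs
  exact ⟨k, hk⟩

/-- a `J`-quotient gives an epimorphism from the coproduct onto the kernel -/
theorem epi_kernel_lift_of_isQuot {J : Ideal A} {M Q : X.Modules} {p : M ⟶ Q} (h : IsQuot J p) :
    Epi (kernel.lift p (Formal.smulFamily J M) h.1) := by
  obtain ⟨w, ⟨hc⟩⟩ := h
  have hex : (ShortComplex.mk (Formal.smulFamily J M) p w).Exact :=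
    ShortComplex.exact_of_g_is_cokernel _ hc
  exact (ShortComplex.exact_iff_epi_kernel_lift _).mp hex

theorem smul_top_le_ker {J : Ideal A} {M Q : X.Modules} {p : M ⟶ Q}
    (w : Formal.smulFamily J M ≫ p = 0) (U : X.Opens) :
    J • (⊤ : Submodule A ↑((secA (A := A) U).obj M)) ≤
      LinearMap.ker ((secA (A := A) U).map p).hom := by
  rw [Submodule.smul_le]
  intro a ha s _
  rw [LinearMap.mem_ker, secA_smul]
  have h0 : Formal.smulMod A M a ≫ p = 0 := (smulFamily_comp_eq_zero_iff J p).mp w a ha
  have := congrArg (fun φ => ((secA (A := A) U).map φ).hom s) h0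
  simp only [Functor.map_comp, ModuleCat.hom_comp, LinearMap.comp_apply] at this
  exact this

attribute [local instance] CategoryTheory.Abelian.hasFiniteBiproducts

/-- Sections over an affine open of a `J`-quotient of quasi-coherent modules, `J` finitely
generated: the kernel of `M(U) → Q(U)` is contained in `J M(U)`. -/
theorem ker_secA_map_le {J : Ideal A} (hJ : J.FG) {M Q : X.Modules} (hM : M.IsQuasicoherent)
    (hQ : Q.IsQuasicoherent) {p : M ⟶ Q} (h : IsQuot J p) {U : X.Opens} (hU : IsAffineOpen U) :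
    LinearMap.ker ((secA (A := A) U).map p).hom ≤
      J • (⊤ : Submodule A ↑((secA (A := A) U).obj M)) := by
  classical
  obtain ⟨S, hS⟩ := hJ
  intro s hs
  rw [LinearMap.mem_ker] at hs
  obtain ⟨k, hk⟩ := exists_kernel_lift_secA p U s hs
  let κ : Type u := {g : A // g ∈ S}
  letI : Fintype κ := Finset.Subtype.fintype S
  have hκJ : ∀ i : κ, (i.1 : A) ∈ J := fun i => hS ▸ Ideal.subset_span i.2
  have hz : ∀ i : κ, Formal.smulMod A M i.1 ≫ p = 0 := fun i =>
    (smulFamily_comp_eq_zero_iff J p).mp h.1 _ (hκJ i)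
  let ℓ : ∀ i : κ, M ⟶ kernel p := fun i => kernel.lift p (Formal.smulMod A M i.1) (hz i)
  let P : κ → X.Modules := fun _ => M
  let σ' : (⨁ P) ⟶ kernel p := biproduct.desc ℓ
  have hcoef : ∀ a : J, ∃ f : A → A, (a : A) = ∑ g ∈ S, g * f g := by
    intro a
    have ha : (a : A) ∈ Ideal.span (S : Set A) := by
      rw [hS]
      exact a.2
    obtain ⟨f, -, hf⟩ := Submodule.mem_span_finset.mp ha
    refine ⟨f, ?_⟩
    rw [← hf]
    exact Finset.sum_congr rfl (fun g _ => by rw [smul_eq_mul, mul_comm])
  choose f hf using hcoef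
  let τ : (∐ fun _ : J => M) ⟶ ⨁ P :=
    Sigma.desc (fun a => ∑ i : κ, Formal.smulMod A M (f a i.1) ≫ biproduct.ι P i)
  have hτ : τ ≫ σ' = kernel.lift p (Formal.smulFamily J M) h.1 := by
    apply Sigma.hom_ext
    intro a
    rw [← cancel_mono (kernel.ι p)]
    simp only [Category.assoc, kernel.lift_ι]
    rw [ι_smulFamily, ← Category.assoc, Sigma.ι_desc, Preadditive.sum_comp]
    have e1 : ∀ i : κ, (Formal.smulMod A M (f a i.1) ≫ biproduct.ι P i) ≫ σ' ≫ kernel.ι p =
        Formal.smulMod A M (f a i.1) ≫ Formal.smulMod A M i.1 := by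
      intro i
      rw [Category.assoc, biproduct.ι_desc_assoc, kernel.lift_ι]
    rw [Finset.sum_congr rfl (fun i _ => e1 i), hf a, smulMod_sum M S (fun g => g) (f a)]
    exact Finset.sum_coe_sort S
      (fun g => Formal.smulMod A M (f a g) ≫ Formal.smulMod A M g)
  haveI : Epi σ' := by
    haveI := epi_kernel_lift_of_isQuot h
    exact epi_of_epi_fac hτ
  haveI : (⨁ P).IsQuasicoherent := isQuasicoherent_of_iso (biproduct.isoCoproduct P).symm
    (isQuasicoherent_colimit (Discrete.functor P) (fun _ => hM))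
  haveI : (kernel p).IsQuasicoherent := isQuasicoherent_kernel p hM hQ
  obtain ⟨x, hx⟩ := Helper18.EpiAffine.app_surjective_of_epi σ' hU k
  have hcomp : σ' ≫ kernel.ι p = ∑ i : κ, biproduct.π P i ≫ Formal.smulMod A M i.1 := by
    have htot : ∑ i : κ, biproduct.π P i ≫ biproduct.ι P i = 𝟙 (⨁ P) :=
      IsBilimit.total (biproduct.isBilimit P)
    calc σ' ≫ kernel.ι p = (∑ i : κ, biproduct.π P i ≫ biproduct.ι P i) ≫ σ' ≫ kernel.ι p := by
          rw [htot, Category.id_comp]
      _ = ∑ i : κ, biproduct.π P i ≫ Formal.smulMod A M i.1 := by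
          rw [Preadditive.sum_comp]
          refine Finset.sum_congr rfl (fun i _ => ?_)
          rw [Category.assoc, biproduct.ι_desc_assoc, kernel.lift_ι]
  have hs' : s = ∑ i : κ, (i.1 : A) • ((secA (A := A) U).map (biproduct.π P i)).hom x := by
    have e2 : ((secA (A := A) U).map (σ' ≫ kernel.ι p)).hom x = s := by
      rw [Functor.map_comp, ModuleCat.hom_comp, LinearMap.comp_apply]
      have : ((secA (A := A) U).map σ').hom x = k := hx
      rw [this, hk]
    rw [← e2, hcomp, Functor.map_sum, ModuleCat.hom_sum, LinearMap.sum_apply]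
    refine Finset.sum_congr rfl (fun i _ => ?_)
    rw [Functor.map_comp, ModuleCat.hom_comp, LinearMap.comp_apply, ← secA_smul]
  rw [hs']
  exact Submodule.sum_mem _ (fun i _ => Submodule.smul_mem_smul (hκJ i) Submodule.mem_top)

/-- a morphism of modules which is surjective on sections over all affine opens is an epi. -/
theorem epi_of_app_surjective_affineOpens {M N : X.Modules} (φ : M ⟶ N)
    (h : ∀ U : X.Opens, IsAffineOpen U → Function.Surjective (φ.app U).hom) : Epi φ := by
  rw [Helper45.epi_iff_isLocallySurjective, TopCat.Presheaf.isLocallySurjective_iff]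
  intro W t y hy
  obtain ⟨_, ⟨V, hV, rfl⟩, hyV, hVW⟩ := X.isBasis_affineOpens.exists_subset_of_mem_open hy W.2
  obtain ⟨s, hs⟩ := h V hV (N.presheaf.map (homOfLE hVW).op t)
  exact ⟨V, hVW, ⟨s, hs⟩, hyV⟩

section System

variable {I : Ideal A} {G : ℕᵒᵖ ⥤ X.Modules}

theorem isQuot_tr_add (hk : ∀ n, Formal.KilledBy (I ^ (n + 1)) (G.obj (op n)))
    (hq : ∀ n, IsQuot (I ^ (n + 1)) (FormalConst.tr G (Nat.le_succ n))) (n k : ℕ) :
    IsQuot (I ^ (n + 1)) (FormalConst.tr G (Nat.le_add_right n k)) := by
  induction k with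
  | zero =>
    have : FormalConst.tr G (Nat.le_add_right n 0) = 𝟙 _ := FormalConst.tr_self G n
    rw [this]
    exact isQuot_of_isIso (hk n) (𝟙 _)
  | succ k ih =>
    have e : FormalConst.tr G (Nat.le_add_right n (k + 1)) =
        FormalConst.tr G (Nat.le_succ (n + k)) ≫ FormalConst.tr G (Nat.le_add_right n k) :=
      (FormalConst.tr_comp G _ _).symm
    rw [e]
    exact IsQuot.comp (Ideal.pow_le_pow_right (by omega)) (hq (n + k)) ih

theorem isQuot_tr_of (hk : ∀ n, Formal.KilledBy (I ^ (n + 1)) (G.obj (op n)))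
    (hq : ∀ n, IsQuot (I ^ (n + 1)) (FormalConst.tr G (Nat.le_succ n))) {n m : ℕ} (h : n ≤ m) :
    IsQuot (I ^ (n + 1)) (FormalConst.tr G h) := by
  obtain ⟨k, rfl⟩ := Nat.exists_eq_add_of_le h
  exact isQuot_tr_add hk hq n k

theorem isQuot_tr_of_isQCohFormal (hG : Formal2.IsQCohFormal I G) {n m : ℕ} (h : n ≤ m) :
    IsQuot (I ^ (n + 1)) (FormalConst.tr G h) :=
  isQuot_tr_of hG.2.1 (fun n => (isQuot_iff _ _).mpr (hG.2.2 n)) h

variable (hG : Formal2.IsQCohFormal I G) {U : X.Opens} (hU : IsAffineOpen U)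

include hG hU in
theorem secSys_surjective {n m : ℕ} (h : n ≤ m) :
    Function.Surjective (LimMod.tr (G ⋙ secA (A := A) U) h).hom := by
  haveI := (isQuot_tr_of_isQCohFormal hG h).epi
  haveI : (G.obj (op m)).IsQuasicoherent := hG.1 m
  haveI : (G.obj (op n)).IsQuasicoherent := hG.1 n
  exact Helper18.EpiAffine.app_surjective_of_epi (FormalConst.tr G h) hU

include hG hU in
theorem secSys_ker (hI : I.FG) {n m : ℕ} (h : n ≤ m) :
    LinearMap.ker (LimMod.tr (G ⋙ secA (A := A) U) h).hom =
      I ^ (n + 1) • (⊤ : Submodule A ↑((G ⋙ secA (A := A) U).obj (op m))) := by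
  have hq := isQuot_tr_of_isQCohFormal hG h
  apply le_antisymm
  · exact ker_secA_map_le (hI.pow : (I ^ (n + 1)).FG) (hG.1 m) (hG.1 n) hq hU
  · exact smul_top_le_ker hq.1 U

include hG hU in
/-- Sections over an affine open of the limit: the kernel of `(lim G)(U) → G_j(U)`. -/
theorem ker_limit_π_le (hI : I.FG) (j : ℕ) :
    LinearMap.ker ((secA (A := A) U).map (limit.π G (op j))).hom ≤
      I ^ (j + 1) • (⊤ : Submodule A ↑((secA (A := A) U).obj (limit G))) := by
  intro s hs
  rw [LinearMap.mem_ker] at hs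
  let e := preservesLimitIso (secA (A := A) U) G
  have h1 : (limit.π (G ⋙ secA (A := A) U) (op j)).hom (e.hom.hom s) = 0 := by
    have := congrArg (fun φ => φ.hom s) (preservesLimitIso_hom_π (secA (A := A) U) G (op j))
    exact this.trans hs
  have h2 := LimMod.ker_π_le (G ⋙ secA (A := A) U) I
    (fun h => secSys_surjective hG hU h) (fun h => secSys_ker hG hU hI h) hI j
    ((LinearMap.mem_ker).mpr h1)
  have h3 : e.inv.hom (e.hom.hom s) = s := by
    change (e.hom ≫ e.inv).hom s = s
    rw [e.hom_inv_id]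
    rfl
  have h4 := Submodule.mem_map_of_mem (f := e.inv.hom) h2
  rw [Submodule.map_smul'', h3] at h4
  exact Submodule.smul_mono le_rfl le_top h4

include hG hU in
theorem limit_π_surjective (j : ℕ) :
    Function.Surjective ((secA (A := A) U).map (limit.π G (op j))).hom := by
  intro y
  let e := preservesLimitIso (secA (A := A) U) G
  obtain ⟨z, hz⟩ := LimMod.π_surjective (G ⋙ secA (A := A) U)
    (fun h => secSys_surjective hG hU h) j y
  refine ⟨e.inv.hom z, ?_⟩
  have := congrArg (fun φ => φ.hom z) (preservesLimitIso_inv_π (secA (A := A) U) G (op j))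
  exact this.trans hz

include hG in
/-- **Stacks 087W (4)**: for a quasi-coherent formal system `(G_n)` for a finitely generated ideal
`I`, the limit `F = lim G_n` in `O_X`-modules satisfies `F / I^(n+1) F = G_n`. -/
theorem isQuot_limit_π (hI : I.FG) (n : ℕ) : IsQuot (I ^ (n + 1)) (limit.π G (op n)) := by
  have w : Formal.smulFamily (I ^ (n + 1)) (limit G) ≫ limit.π G (op n) = 0 := by
    rw [smulFamily_comp_eq_zero_iff]
    intro a ha
    rw [smulMod_naturality, hG.2.1 n a ha, comp_zero]
  haveI hepi : Epi (limit.π G (op n)) :=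
    epi_of_app_surjective_affineOpens _ (fun U hU => limit_π_surjective hG hU n)
  have hex : (ShortComplex.mk _ _ w).Exact := by
    rw [ShortComplex.exact_iff_epi_kernel_lift]
    apply epi_of_app_surjective_affineOpens
    intro U hU k
    let s : ↑((secA (A := A) U).obj (limit G)) :=
      ((secA (A := A) U).map (kernel.ι (limit.π G (op n)))).hom k
    have hs : s ∈ LinearMap.ker ((secA (A := A) U).map (limit.π G (op n))).hom := by
      rw [LinearMap.mem_ker]
      change ((secA (A := A) U).map (kernel.ι (limit.π G (op n))) ≫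
        (secA (A := A) U).map (limit.π G (op n))).hom k = 0
      rw [← Functor.map_comp, kernel.condition, secA_map_zero]
      rfl
    have hs2 := ker_limit_π_le hG hU hI n hs
    have hle : I ^ (n + 1) • (⊤ : Submodule A ↑((secA (A := A) U).obj (limit G))) ≤
        LinearMap.range ((secA (A := A) U).map (Formal.smulFamily (I ^ (n + 1)) (limit G))).hom := by
      rw [Submodule.smul_le]
      intro a ha t _
      refine ⟨((secA (A := A) U).map (Sigma.ι (fun _ : ↥(I ^ (n + 1)) => limit G) ⟨a, ha⟩)).hom t, ?_⟩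
      change ((secA (A := A) U).map (Sigma.ι (fun _ : ↥(I ^ (n + 1)) => limit G) ⟨a, ha⟩) ≫
        (secA (A := A) U).map (Formal.smulFamily (I ^ (n + 1)) (limit G))).hom t = a • t
      rw [← Functor.map_comp, ι_smulFamily, ← secA_smul]
    obtain ⟨x, hx⟩ := hle hs2
    refine ⟨x, ?_⟩
    apply Helper45.app_injective_of_mono (kernel.ι (limit.π G (op n))) U
    change ((secA (A := A) U).map (kernel.lift (limit.π G (op n)) _ w) ≫
      (secA (A := A) U).map (kernel.ι (limit.π G (op n)))).hom x = s
    rw [← Functor.map_comp, kernel.lift_ι]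
    exact hx
  exact ⟨w, ⟨hex.gIsCokernel⟩⟩

end System

end Groth.Agent.Lib.Helper49.LimQuot
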