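import Mathlib
import Groth.Prelude.Def_Formal
import Groth.Agent.Lib.Helper49.LimQuot
import Groth.Agent.Lib.Helper49.QcqsModules
import Groth.Agent.Lib.Helper18.LSubFactor

/-!
# Domination of powers of ideals of the base ring on a Noetherian scheme (helper49)
-/

set_option autoImplicit false
set_option linter.style.haveILetI false
universe u
open CategoryTheory CategoryTheory.Limits AlgebraicGeometry TopologicalSpace Opposite

namespace Groth.Agent.Lib.Helper49.Domination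

open Groth.Agent.Lib.Helper49.FormalConst Groth.Agent.Lib.Helper49.LimQuot
open Groth.Agent.Lib.Helper49

variable {A : Type u} [CommRing A] {X : Scheme.{u}} [X.Over (Spec (CommRingCat.of A))]

/-- the structure map `A → Γ(X, U)` (commutative ring version) -/
noncomputable def ρ' (U : X.Opens) : A →+* Γ(X, U) := ρ (A := A) U

theorem mem_asIdeal_iff {U : X.Opens} (hU : IsAffineOpen U) (x : X) (hx : x ∈ U) (a : A) :
    a ∈ ((X ↘ Spec (CommRingCat.of A)) x).asIdeal ↔
      ρ' (A := A) U a ∈ (hU.primeIdealOf ⟨x, hx⟩).asIdeal := by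
  set f := X ↘ Spec (CommRingCat.of A) with hf
  let r : Γ(Spec (CommRingCat.of A), ⊤) := (Scheme.ΓSpecIso (CommRingCat.of A)).inv a
  have h1 : (f x ∈ (Spec (CommRingCat.of A)).basicOpen r) ↔ a ∉ (f x).asIdeal := by
    rw [basicOpen_eq_of_affine]
    rfl
  have h2 : (f x ∈ (Spec (CommRingCat.of A)).basicOpen r) ↔ x ∈ X.basicOpen (f.appTop r) := by
    have := Scheme.Hom.preimage_basicOpen f r
    constructor
    · intro h
      have hx' : x ∈ f ⁻¹ᵁ (Spec (CommRingCat.of A)).basicOpen r := h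
      rw [this] at hx'
      exact hx'
    · intro h
      have hx' : x ∈ f ⁻¹ᵁ (Spec (CommRingCat.of A)).basicOpen r := by
        rw [this]
        exact h
      exact hx'
  have h3 : X.basicOpen (ρ' (A := A) U a) = U ⊓ X.basicOpen (f.appTop r) :=
    Scheme.basicOpen_res X (f.appTop r) (homOfLE le_top).op
  have h4 : x ∈ X.basicOpen (ρ' (A := A) U a) ↔
      ρ' (A := A) U a ∉ (hU.primeIdealOf ⟨x, hx⟩).asIdeal := by
    have e := hU.fromSpec_preimage_basicOpen (ρ' (A := A) U a)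
    have e2 : hU.fromSpec (hU.primeIdealOf ⟨x, hx⟩) = x := hU.fromSpec_primeIdealOf ⟨x, hx⟩
    constructor
    · intro h
      have : hU.primeIdealOf ⟨x, hx⟩ ∈ hU.fromSpec ⁻¹ᵁ X.basicOpen (ρ' (A := A) U a) := by
        change hU.fromSpec (hU.primeIdealOf ⟨x, hx⟩) ∈ X.basicOpen (ρ' (A := A) U a)
        rw [e2]; exact h
      rw [e] at this
      exact this
    · intro h
      have : hU.primeIdealOf ⟨x, hx⟩ ∈ hU.fromSpec ⁻¹ᵁ X.basicOpen (ρ' (A := A) U a) := by
        rw [e]; exact h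
      have h' : hU.fromSpec (hU.primeIdealOf ⟨x, hx⟩) ∈ X.basicOpen (ρ' (A := A) U a) := this
      rw [e2] at h'
      exact h'
  rw [← not_iff_not, ← h1, h2, ← h4, h3]
  exact ⟨fun h => ⟨hx, h⟩, fun h => h.2⟩

theorem exists_pow_map_le {I J : Ideal A} [IsLocallyNoetherian X]
    (hV : (fun x : X => (X ↘ Spec (CommRingCat.of A)) x) ⁻¹' PrimeSpectrum.zeroLocus (I : Set A) ⊆
      (fun x : X => (X ↘ Spec (CommRingCat.of A)) x) ⁻¹' PrimeSpectrum.zeroLocus (J : Set A))
    {U : X.Opens} (hU : IsAffineOpen U) :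
    ∃ c : ℕ, (J.map (ρ' (A := A) U)) ^ c ≤ I.map (ρ' (A := A) U) := by
  haveI : IsNoetherianRing Γ(X, U) := IsLocallyNoetherian.component_noetherian ⟨U, hU⟩
  apply Ideal.exists_pow_le_of_le_radical_of_fg _ (IsNoetherian.noetherian _)
  rw [Ideal.radical_eq_sInf]
  apply le_sInf
  rintro q ⟨hq, hqp⟩
  rw [Ideal.map_le_iff_le_comap]
  intro a ha
  obtain ⟨x, hx⟩ := Helper45.exists_primeIdealOf_eq hU ⟨q, hqp⟩
  have hxI : x.1 ∈ (fun x : X => (X ↘ Spec (CommRingCat.of A)) x) ⁻¹'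
      PrimeSpectrum.zeroLocus (I : Set A) := by
    intro b hb
    rw [SetLike.mem_coe, mem_asIdeal_iff hU x.1 x.2 b]
    have : hU.primeIdealOf ⟨x.1, x.2⟩ = ⟨q, hqp⟩ := hx
    rw [this]
    exact hq (Ideal.mem_map_of_mem _ hb)
  have hxJ := hV hxI
  have h1 : a ∈ ((X ↘ Spec (CommRingCat.of A)) x.1).asIdeal := hxJ ha
  rw [mem_asIdeal_iff hU x.1 x.2 a] at h1
  have : hU.primeIdealOf ⟨x.1, x.2⟩ = ⟨q, hqp⟩ := hx
  rw [this] at h1
  exact h1

theorem smulMod_app (T : X.Modules) (a : A) (W : X.Opens) (s : Γ(T, W)) :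
    (Formal.smulMod A T a).app W s = ρ' (A := A) W a • s := rfl

theorem fres_ρ' {V U : X.Opens} (h : V ≤ U) (a : A) :
    fres h (ρ' (A := A) U a) = ρ' (A := A) V a :=
  Coh.resTop_comp (op U) (op V) (homOfLE h).op _

/-- the annihilator in `Γ(X, U)` of a section over a smaller open -/
noncomputable def annIdeal (T : X.Modules) {V U : X.Opens} (h : V ≤ U) (s : Γ(T, V)) :
    Ideal Γ(X, U) where
  carrier := {b | fres h b • s = 0}
  add_mem' := by
    intro b c hb hc
    change fres h (b + c) • s = 0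
    rw [map_add, add_smul, hb, hc, add_zero]
  zero_mem' := by
    change fres h 0 • s = 0
    rw [map_zero, zero_smul]
  smul_mem' := by
    intro r b hb
    change fres h (r • b) • s = 0
    rw [smul_eq_mul, map_mul, mul_smul, hb, smul_zero]

theorem local_kill {I J : Ideal A} {c : ℕ} {U : X.Opens}
    (hU : (J.map (ρ' (A := A) U)) ^ c ≤ I.map (ρ' (A := A) U))
    (T : X.Modules) (k : ℕ) (hT : Formal.KilledBy (I ^ k) T)
    {V : X.Opens} (h : V ≤ U) (s : Γ(T, V)) (a : A) (ha : a ∈ J ^ (c * k)) :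
    ρ' (A := A) V a • s = 0 := by
  have h1 : (I ^ k).map (ρ' (A := A) U) ≤ annIdeal T h s := by
    rw [Ideal.map_le_iff_le_comap]
    intro b hb
    change fres h (ρ' (A := A) U b) • s = 0
    rw [fres_ρ', ← smulMod_app, hT b hb]
    rfl
  have h2 : ρ' (A := A) U a ∈ (J ^ (c * k)).map (ρ' (A := A) U) := Ideal.mem_map_of_mem _ ha
  rw [Ideal.map_pow, pow_mul] at h2
  have h3 : ((J.map (ρ' (A := A) U)) ^ c) ^ k ≤ (I ^ k).map (ρ' (A := A) U) := by
    rw [Ideal.map_pow]
    exact Ideal.pow_right_mono hU k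
  have h4 := h1 (h3 h2)
  change fres h (ρ' (A := A) U a) • s = 0 at h4
  rwa [fres_ρ'] at h4

theorem killedBy_of_cover {I J : Ideal A} {c : ℕ}
    (hcov : ∀ x : X, ∃ U : X.Opens, x ∈ U ∧
      (J.map (ρ' (A := A) U)) ^ c ≤ I.map (ρ' (A := A) U))
    (T : X.Modules) (k : ℕ) (hT : Formal.KilledBy (I ^ k) T) :
    Formal.KilledBy (J ^ (c * k)) T := by
  intro a ha
  apply Scheme.Modules.hom_ext
  intro W
  ext s
  change (Formal.smulMod A T a).app W s = 0
  apply Helper18.LSubM.eq_of_locally_eq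
  intro x hx
  obtain ⟨U, hxU, hU⟩ := hcov x
  refine ⟨W ⊓ U, inf_le_left, ⟨hx, hxU⟩, ?_⟩
  rw [map_zero, smulMod_app, mres_smul, fres_ρ']
  exact local_kill hU T k hT inf_le_right _ a ha

theorem exists_killedBy [IsNoetherian X] {I J : Ideal A}
    (hV : (fun x : X => (X ↘ Spec (CommRingCat.of A)) x) ⁻¹' PrimeSpectrum.zeroLocus (I : Set A) ⊆
      (fun x : X => (X ↘ Spec (CommRingCat.of A)) x) ⁻¹' PrimeSpectrum.zeroLocus (J : Set A)) :
    ∃ c : ℕ, ∀ (T : X.Modules) (k : ℕ), Formal.KilledBy (I ^ k) T →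
      Formal.KilledBy (J ^ (c * k)) T := by
  have h1 : ∀ x : X, ∃ U : X.Opens, IsAffineOpen U ∧ x ∈ U := by
    intro x
    obtain ⟨U, hU, hxU, -⟩ := exists_isAffineOpen_mem_and_subset (x := x) (U := ⊤) trivial
    exact ⟨U, hU, hxU⟩
  choose U hU hxU using h1
  have h2 : ∀ x : X, ∃ c : ℕ, (J.map (ρ' (A := A) (U x))) ^ c ≤ I.map (ρ' (A := A) (U x)) :=
    fun x => exists_pow_map_le hV (hU x)
  choose c hc using h2
  obtain ⟨t, ht⟩ := isCompact_univ.elim_finite_subcover (fun x : X => ((U x : X.Opens) : Set X))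
    (fun x => (U x).isOpen) (fun x _ => Set.mem_iUnion.mpr ⟨x, hxU x⟩)
  refine ⟨t.sup c, fun T k hT => killedBy_of_cover (fun x => ?_) T k hT⟩
  have hx := ht (Set.mem_univ x)
  simp only [Set.mem_iUnion] at hx
  obtain ⟨y, hyt, hxy⟩ := hx
  exact ⟨U y, hxy, (Ideal.pow_le_pow_right (Finset.le_sup hyt)).trans (hc y)⟩

end Groth.Agent.Lib.Helper49.Domination
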