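import Mathlib
import Groth.Prelude.Def_Formal
import Groth.Prelude.Def_DerCA
import Groth.Prelude.Def_Algz
import Groth.Agent.Lib.Helper49.FormalRestrict0

/-!
# Canonical extension implies extension

Shared library of helper49 (namespace `Groth.Agent.Lib.Helper49.FormalRestrict`).
-/

set_option autoImplicit false
universe u
open CategoryTheory CategoryTheory.Limits AlgebraicGeometry Opposite

namespace Groth.Agent.Lib.Helper49.FormalRestrict

open Groth.Agent.Lib.Helper49

variable (A : Type u) [CommRing A] (U : (Spec (CommRingCat.of A)).Opens) [QuasiCompact U.ι]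

theorem hP (N : (U : Scheme.{u}).Modules) [N.IsQuasicoherent] :
    ((Scheme.Modules.pushforward U.ι).obj N).IsQuasicoherent :=
  isQuasicoherent_pushforward N U.ι

/-- The functor `N ↦ (H⁰(U, N))~`. -/
noncomputable abbrev TΓ : (U : Scheme.{u}).Modules ⥤ (Spec (CommRingCat.of A)).Modules :=
  Scheme.Modules.pushforward U.ι ⋙ moduleSpecΓFunctor (R := CommRingCat.of A) ⋙
    tilde.functor (CommRingCat.of A)

noncomputable def τ (N : (U : Scheme.{u}).Modules) :
    (TΓ A U).obj N ⟶ (Scheme.Modules.pushforward U.ι).obj N :=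
  Scheme.Modules.fromTildeΓ (R := CommRingCat.of A) ((Scheme.Modules.pushforward U.ι).obj N)

omit [QuasiCompact U.ι] in
theorem τ_nat {N N' : (U : Scheme.{u}).Modules} (g : N ⟶ N') :
    (TΓ A U).map g ≫ τ A U N' = τ A U N ≫ (Scheme.Modules.pushforward U.ι).map g :=
  (Scheme.Modules.fromTildeΓNatTrans (R := CommRingCat.of A)).naturality
    ((Scheme.Modules.pushforward U.ι).map g)

theorem hiso (N : (U : Scheme.{u}).Modules) [N.IsQuasicoherent] :
    IsIso (τ A U N) :=
  (isQuasicoherent_iff_isIso_fromTildeΓ (R := CommRingCat.of A) _).mp (hP A U N)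

noncomputable def σ (N : (U : Scheme.{u}).Modules) :
    (Scheme.Modules.restrictFunctor U.ι).obj ((TΓ A U).obj N) ⟶ N :=
  (Scheme.Modules.restrictFunctor U.ι).map (τ A U N) ≫
    (Scheme.Modules.restrictAdjunction U.ι).counit.app N

omit [QuasiCompact U.ι] in
theorem σ_nat {N N' : (U : Scheme.{u}).Modules} (g : N ⟶ N') :
    (Scheme.Modules.restrictFunctor U.ι).map ((TΓ A U).map g) ≫ σ A U N' = σ A U N ≫ g := by
  have h2 := (Scheme.Modules.restrictAdjunction U.ι).counit.naturality g
  simp only [Functor.comp_map, Functor.id_map] at h2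
  unfold σ
  rw [← Category.assoc, ← Functor.map_comp, τ_nat, Functor.map_comp, Category.assoc, h2,
    Category.assoc]

theorem isIso_σ (N : (U : Scheme.{u}).Modules) [N.IsQuasicoherent] : IsIso (σ A U N) := by
  have := hiso A U N
  unfold σ
  infer_instance

variable (G : ℕᵒᵖ ⥤ (U : Scheme.{u}).Modules)

/-- The restriction to `U` of the system `(H⁰(U, G_n))~` is the system `G`, for quasi-coherent
`G_n`. -/
noncomputable def sectSysRestrictIso (hq : ∀ n, (G.obj n).IsQuasicoherent) :
    Algz.sectSys A U G ⋙ Scheme.Modules.restrictFunctor U.ι ≅ G :=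
  NatIso.ofComponents (fun n => @asIso _ _ _ _ (σ A U (G.obj n)) (@isIso_σ A _ U _ (G.obj n) (hq n)))
    (fun f => σ_nat A U (G.map f))

/-- A system canonically extending to `Spec A` extends to `Spec A`. -/
theorem extends_of_canonicallyExtends (I : Ideal A)
    (hG : Formal.IsCohFormal I G) (h : Algz.CanonicallyExtends A I U G) :
    @Algz.Extends A _ (Spec (CommRingCat.of A)) ⟨𝟙 (Spec (CommRingCat.of A))⟩ I U G := by
  let _ : (Spec (CommRingCat.of A)).Over (Spec (CommRingCat.of A)) := ⟨𝟙 _⟩
  obtain ⟨G', hG', hpro⟩ := h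
  have hq : ∀ n, (G.obj n).IsQuasicoherent := fun n => (hG.1 n.unop).1
  have h1 : Algz.IsProIsomorphic G (Algz.restrictSys U G') :=
    isProIsomorphic_of_iso_left (sectSysRestrictIso A U G hq).symm
      (isProIsomorphic_comp (Scheme.Modules.restrictFunctor U.ι) hpro)
  have hf : U.ι ≫ (Spec (CommRingCat.of A) ↘ Spec (CommRingCat.of A)) =
      (U : Scheme.{u}) ↘ Spec (CommRingCat.of A) := Category.comp_id _
  have hres : Formal.IsCohFormal I (Algz.restrictSys U G') := isCohFormal_restrictSys U hf hG'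
  obtain ⟨e⟩ := FormalPro.nonempty_iso_of_isProIsomorphic hG hres h1
  exact ⟨G', hG', ⟨e.symm⟩⟩

end Groth.Agent.Lib.Helper49.FormalRestrict
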