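import Mathlib
import Groth.Prelude.Def_Formal
import Groth.Prelude.Def_DerCA
import Groth.Prelude.Def_Algz
import Groth.Agent.Lib.Helper49.FormalRestrict1
import Groth.Agent.Lib.Helper49.LimMod3

/-!
# `M~|_U → F_n` is an epimorphism for Mittag-Leffler `H⁰(U, F_n)`

Shared library of helper49 (namespace `Groth.Agent.Lib.Helper49.SectEpi`).
-/

set_option autoImplicit false
universe u
open CategoryTheory CategoryTheory.Limits AlgebraicGeometry Opposite

namespace Groth.Agent.Lib.Helper49.SectEpi

open Groth.Agent.Lib.Helper49.FormalConst Groth.Agent.Lib.Helper49.FormalRestrict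
  Groth.Agent.Lib.Helper49

theorem tilde_map_epi (R : CommRingCat.{u}) {M N : ModuleCat.{u} R} (p : M ⟶ N) [Epi p] :
    Epi ((tilde.functor R).map p) := (tilde.functor R).map_epi p

theorem exists_factor_range {A : Type u} [CommRing A] {M M' N : ModuleCat.{u} A} (π : M ⟶ N)
    (t : M' ⟶ N) (h : LinearMap.range t.hom ≤ LinearMap.range π.hom) :
    ∃ (R : ModuleCat.{u} A) (ι : R ⟶ N) (p : M ⟶ R) (q : M' ⟶ R),
      Epi p ∧ p ≫ ι = π ∧ q ≫ ι = t := by
  refine ⟨ModuleCat.of A (LinearMap.range π.hom), ModuleCat.ofHom (Submodule.subtype _),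
    ModuleCat.ofHom (LinearMap.rangeRestrict π.hom),
    ModuleCat.ofHom (LinearMap.codRestrict _ t.hom (fun x => h ⟨x, rfl⟩)), ?_, ?_, ?_⟩
  · rw [ModuleCat.epi_iff_surjective]
    exact LinearMap.surjective_rangeRestrict _
  · ext x; rfl
  · ext x; rfl

variable (A : Type u) [CommRing A] (U : (Spec (CommRingCat.of A)).Opens) [QuasiCompact U.ι]

/-- The morphism `M~|_U ⟶ N` adjoint to `p : M ⟶ H⁰(U, N)`. -/
noncomputable def adj {M : ModuleCat.{u} A} (N : (U : Scheme.{u}).Modules)
    (p : M ⟶ (moduleSpecΓFunctor (R := CommRingCat.of A)).obj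
      ((Scheme.Modules.pushforward U.ι).obj N)) :
    (Scheme.Modules.restrictFunctor U.ι).obj ((tilde.functor (CommRingCat.of A)).obj M) ⟶ N :=
  ((Scheme.Modules.restrictAdjunction U.ι).homEquiv _ N).symm
    (((tilde.adjunction (R := CommRingCat.of A)).homEquiv M
      ((Scheme.Modules.pushforward U.ι).obj N)).symm p)

omit [QuasiCompact U.ι] in
theorem adj_eq {M : ModuleCat.{u} A} (N : (U : Scheme.{u}).Modules)
    (p : M ⟶ (moduleSpecΓFunctor (R := CommRingCat.of A)).obj
      ((Scheme.Modules.pushforward U.ι).obj N)) :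
    adj A U N p = (Scheme.Modules.restrictFunctor U.ι).map
      ((tilde.functor (CommRingCat.of A)).map p) ≫ σ A U N := by
  unfold adj σ τ
  rw [Adjunction.homEquiv_counit, Adjunction.homEquiv_counit, Functor.map_comp, Category.assoc]
  rfl

variable (G : ℕᵒᵖ ⥤ (U : Scheme.{u}).Modules)

/-- If the system `H⁰(U, F_n)` is Mittag-Leffler with limit `M`, then `M~|_U ⟶ F_n` is an
epimorphism. -/
theorem epi_adj_limit_π {I : Ideal A} (hG : Formal.IsCohFormal I G)
    (ha : ARSys.IsML (Algz.sectMod A U G)) (n : ℕ) :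
    Epi (adj A U (G.obj (op n)) (limit.π (Algz.sectMod A U G) (op n))) := by
  rw [adj_eq]
  obtain ⟨m, hnm, hrange⟩ := LimMod.exists_range_tr_le_range_π (Algz.sectMod A U G) ha n
  let πn := limit.π (Algz.sectMod A U G) (op n)
  obtain ⟨R, ιR, p, q, hpepi, hp, hq⟩ :=
    exists_factor_range πn (LimMod.tr (Algz.sectMod A U G) hnm) hrange
  have hqm : (G.obj (op m)).IsQuasicoherent := (hG.1 m).1
  have hqn : (G.obj (op n)).IsQuasicoherent := (hG.1 n).1
  have h1 := isIso_σ A U (G.obj (op m))
  have h2 : Epi (tr G hnm) := (isQuot_tr' hG hnm).epi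
  have h3 : (Scheme.Modules.restrictFunctor U.ι).map
      ((tilde.functor (CommRingCat.of A)).map q) ≫
      ((Scheme.Modules.restrictFunctor U.ι).map
        ((tilde.functor (CommRingCat.of A)).map ιR) ≫ σ A U (G.obj (op n))) =
      σ A U (G.obj (op m)) ≫ tr G hnm := by
    rw [← Category.assoc, ← Functor.map_comp, ← Functor.map_comp, hq]
    exact σ_nat A U (tr G hnm)
  have h4 : Epi ((Scheme.Modules.restrictFunctor U.ι).map
      ((tilde.functor (CommRingCat.of A)).map ιR) ≫ σ A U (G.obj (op n))) := by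
    have : Epi ((Scheme.Modules.restrictFunctor U.ι).map
      ((tilde.functor (CommRingCat.of A)).map q) ≫
      ((Scheme.Modules.restrictFunctor U.ι).map
        ((tilde.functor (CommRingCat.of A)).map ιR) ≫ σ A U (G.obj (op n)))) := by
      rw [h3]
      have : Epi (σ A U (G.obj (op m))) := @IsIso.epi_of_iso _ _ _ _ _ h1
      exact @epi_comp _ _ _ _ _ (σ A U (G.obj (op m))) this (tr G hnm) h2
    exact epi_of_epi ((Scheme.Modules.restrictFunctor U.ι).map
      ((tilde.functor (CommRingCat.of A)).map q)) _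
  have h5 : Epi ((tilde.functor (CommRingCat.of A)).map p) := tilde_map_epi (CommRingCat.of A) p
  have h6 : Epi ((Scheme.Modules.restrictFunctor U.ι).map
      ((tilde.functor (CommRingCat.of A)).map p)) :=
    (Scheme.Modules.restrictFunctor U.ι).map_epi _
  change Epi ((Scheme.Modules.restrictFunctor U.ι).map
    ((tilde.functor (CommRingCat.of A)).map πn) ≫ σ A U (G.obj (op n)))
  rw [← hp, Functor.map_comp, Functor.map_comp, Category.assoc]
  infer_instance

end Groth.Agent.Lib.Helper49.SectEpi
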