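import Mathlib
import Groth.Prelude.Def_Formal
import Groth.Prelude.Def_Formal2
import Groth.Prelude.Def_DerCA
import Groth.Prelude.Def_Algz
import Groth.Agent.Lib.Helper49.FormalRestrict1
import Groth.Agent.Lib.Helper49.SectEpi
import Groth.Agent.Lib.Helper49.LimMod
import Groth.Agent.Lib.Helper49.CohNoeth
import Groth.Agent.Lib.Helper49.TildeExact
import Groth.Agent.Lib.Helper49.QCohLocal
import Groth.Agent.Lib.Helper49.FiniteTypeLocal
import Groth.Agent.Lib.Helper45.NowhereDense

/-!
# `((M/I^(n+1)M)~|_U) → (F_n)` is a monomorphism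

Shared library of helper49 (namespace `Groth.Agent.Lib.Helper49.SectMono`).
-/

set_option autoImplicit false
universe u
open CategoryTheory CategoryTheory.Limits AlgebraicGeometry Opposite

namespace Groth.Agent.Lib.Helper49.SectMono

open Groth.Agent.Lib.Helper49.FormalConst Groth.Agent.Lib.Helper49.FormalRestrict
  Groth.Agent.Lib.Helper49.SectEpi Groth.Agent.Lib.Helper49

section Alg

variable {A : Type u} [CommRing A]

theorem exists_factor_of_ker_le {M R Q : ModuleCat.{u} A} (p : M ⟶ R)
    (hp : Function.Surjective p.hom) (g : M ⟶ Q)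
    (h : LinearMap.ker p.hom ≤ LinearMap.ker g.hom) : ∃ s : R ⟶ Q, p ≫ s = g := by
  refine ⟨ModuleCat.ofHom ((Submodule.liftQ _ g.hom h) ∘ₗ
    (p.hom.quotKerEquivOfSurjective hp).symm.toLinearMap), ?_⟩
  ext x
  change Submodule.liftQ _ g.hom h ((p.hom.quotKerEquivOfSurjective hp).symm (p.hom x)) = g.hom x
  have h1 : (p.hom.quotKerEquivOfSurjective hp).symm (p.hom x) = Submodule.Quotient.mk x := by
    rw [LinearEquiv.symm_apply_eq]
    rfl
  rw [h1, Submodule.liftQ_apply]

end Alg

variable (A : Type u) [CommRing A] [IsNoetherianRing A] (U : (Spec (CommRingCat.of A)).Opens)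
  [QuasiCompact U.ι]

theorem qcoh_tilde (R : CommRingCat.{u}) (P : ModuleCat.{u} R) :
    ((tilde.functor R).obj P).IsQuasicoherent := inferInstance

theorem tilde_map_mono (R : CommRingCat.{u}) {M N : ModuleCat.{u} R} (p : M ⟶ N) [Mono p] :
    Mono ((tilde.functor R).map p) := by
  have := preservesFiniteLimits_tilde R
  exact (tilde.functor R).map_mono p

/-- If `R ⊆ H⁰(U, N)` with `N` coherent and `Q` is a quotient of `R`, then `Q~|_U` is coherent. -/
theorem isCoh_restrict_tilde_of_quot (N : (U : Scheme.{u}).Modules) (hN : Coh.IsCoh N)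
    {R Q : ModuleCat.{u} A}
    (ι : R ⟶ (moduleSpecΓFunctor (R := CommRingCat.of A)).obj
      ((Scheme.Modules.pushforward U.ι).obj N)) [Mono ι] (s : R ⟶ Q) [Epi s] :
    Coh.IsCoh ((Scheme.Modules.restrictFunctor U.ι).obj
      ((tilde.functor (CommRingCat.of A)).obj Q)) := by
  have hNq := hN.1
  have hσ := isIso_σ A U N
  have h1 : Mono ((tilde.functor (CommRingCat.of A)).map ι) := tilde_map_mono (CommRingCat.of A) ι
  have h2 : Mono ((Scheme.Modules.restrictFunctor U.ι).map
      ((tilde.functor (CommRingCat.of A)).map ι)) :=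
    (Scheme.Modules.restrictFunctor U.ι).map_mono _
  have h3 : Mono ((Scheme.Modules.restrictFunctor U.ι).map
      ((tilde.functor (CommRingCat.of A)).map ι) ≫ σ A U N) := mono_comp _ _
  have hq : ∀ P : ModuleCat.{u} A, ((Scheme.Modules.restrictFunctor U.ι).obj
      ((tilde.functor (CommRingCat.of A)).obj P)).IsQuasicoherent := fun P => by
    have : ((tilde.functor (CommRingCat.of A)).obj P).IsQuasicoherent :=
      qcoh_tilde (CommRingCat.of A) P
    exact Scheme.Modules.isQuasicoherent_restrictFunctor _ _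
  have hqR := hq R
  have h4 : SheafOfModules.IsFiniteType (R := (U : Scheme.{u}).ringCatSheaf)
      ((Scheme.Modules.restrictFunctor U.ι).obj ((tilde.functor (CommRingCat.of A)).obj R)) :=
    isFiniteType_of_mono ((Scheme.Modules.restrictFunctor U.ι).map
      ((tilde.functor (CommRingCat.of A)).map ι) ≫ σ A U N) hN.2
  have h5 : Epi ((tilde.functor (CommRingCat.of A)).map s) := tilde_map_epi (CommRingCat.of A) s
  have h6 : Epi ((Scheme.Modules.restrictFunctor U.ι).map
      ((tilde.functor (CommRingCat.of A)).map s)) :=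
    (Scheme.Modules.restrictFunctor U.ι).map_epi _
  exact ⟨hq Q, isFiniteType_of_epi ((Scheme.Modules.restrictFunctor U.ι).map
      ((tilde.functor (CommRingCat.of A)).map s)) h4⟩

variable (G : ℕᵒᵖ ⥤ (U : Scheme.{u}).Modules) (I : Ideal A)

/-- `M / I^(n+1) M` for `M = lim H⁰(U, F_n)` -/
noncomputable abbrev Qn (n : ℕ) : ModuleCat.{u} A :=
  ModuleCat.of A (Formal2.quotPow A I ↑(limit (Algz.sectMod A U G)) n)

omit [IsNoetherianRing A] [QuasiCompact U.ι] in
theorem quotPow_le {n c : ℕ} (h : n ≤ c) :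
    I ^ (c + 1) • (⊤ : Submodule A ↑(limit (Algz.sectMod A U G))) ≤
      I ^ (n + 1) • (⊤ : Submodule A ↑(limit (Algz.sectMod A U G))) :=
  Submodule.smul_mono_left (Ideal.pow_le_pow_right (Nat.succ_le_succ h))

/-- general transition maps -/
noncomputable def T' {n c : ℕ} (h : n ≤ c) : Qn A U G I c ⟶ Qn A U G I n :=
  ModuleCat.ofHom (Submodule.factor (quotPow_le A U G I h))

omit [IsNoetherianRing A] [QuasiCompact U.ι] in
theorem T'_mk {n c : ℕ} (h : n ≤ c) (z : ↑(limit (Algz.sectMod A U G))) :
    (T' A U G I h).hom (Submodule.Quotient.mk z) = Submodule.Quotient.mk z :=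
  Submodule.factor_mk (quotPow_le A U G I h) z

omit [IsNoetherianRing A] [QuasiCompact U.ι] in
theorem T'_refl (n : ℕ) : T' A U G I (le_refl n) = 𝟙 _ := by
  apply ModuleCat.hom_ext
  apply LinearMap.ext
  intro w
  obtain ⟨z, rfl⟩ := Submodule.Quotient.mk_surjective _ w
  exact T'_mk A U G I _ z

omit [IsNoetherianRing A] [QuasiCompact U.ι] in
theorem T'_succ {n c : ℕ} (h : n ≤ c) :
    T' A U G I (h.trans (Nat.le_succ c)) =
      ModuleCat.ofHom (Formal2.quotPowTrans A I ↑(limit (Algz.sectMod A U G)) c) ≫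
        T' A U G I h := by
  apply ModuleCat.hom_ext
  apply LinearMap.ext
  intro w
  obtain ⟨z, rfl⟩ := Submodule.Quotient.mk_surjective _ w
  rw [ModuleCat.hom_comp, LinearMap.comp_apply, T'_mk]
  have h1 : (ModuleCat.ofHom (Formal2.quotPowTrans A I ↑(limit (Algz.sectMod A U G)) c)).hom
      (Submodule.Quotient.mk z) = Submodule.Quotient.mk z := by
    change Formal2.quotPowTrans A I ↑(limit (Algz.sectMod A U G)) c (Submodule.Quotient.mk z) = _
    unfold Formal2.quotPowTrans
    rw [Submodule.mapQ_apply]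
    rfl
  rw [h1, T'_mk]

variable {A U G I}

/-- (i): the restrictions of the `(M/I^(n+1)M)~` to `U` are coherent. -/
theorem isCoh_restrict_tmod (hG : Formal.IsCohFormal I G)
    (hb : ∀ k : ℕ, ∃ n : ℕ, LinearMap.ker (limit.π (Algz.sectMod A U G) (op n)).hom ≤
      I ^ k • (⊤ : Submodule A ↑(limit (Algz.sectMod A U G)))) (n : ℕ) :
    Coh.IsCoh ((Scheme.Modules.restrictFunctor U.ι).obj
      (Formal2.tmod A (Formal2.quotPow A I ↑(limit (Algz.sectMod A U G)) n))) := by
  obtain ⟨c, hc⟩ := hb (n + 1)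
  let π := limit.π (Algz.sectMod A U G) (op c)
  let p := factorThruImage π
  let ι := Limits.image.ι π
  have hpι : p ≫ ι = π := Limits.image.fac π
  have hp : Function.Surjective p.hom := (ModuleCat.epi_iff_surjective _).mp inferInstance
  have hι : Function.Injective ι.hom := (ModuleCat.mono_iff_injective _).mp inferInstance
  let g : limit (Algz.sectMod A U G) ⟶ Qn A U G I n :=
    ModuleCat.ofHom (Formal2.quotPowπ A I ↑(limit (Algz.sectMod A U G)) n)
  have hker : LinearMap.ker p.hom ≤ LinearMap.ker g.hom := by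
    intro z hz
    rw [LinearMap.mem_ker] at hz
    have h1 : π.hom z = 0 := by
      rw [← hpι, ModuleCat.hom_comp, LinearMap.comp_apply, hz, map_zero]
    change z ∈ LinearMap.ker (Submodule.mkQ _)
    rw [Submodule.ker_mkQ]
    exact hc h1
  obtain ⟨s, hs⟩ := exists_factor_of_ker_le p hp g hker
  have hg : Epi g := by
    rw [ModuleCat.epi_iff_surjective]
    exact Submodule.mkQ_surjective _
  have hsepi : Epi s := by
    have : Epi (p ≫ s) := by rw [hs]; exact hg
    exact epi_of_epi p s
  have hιm : Mono ι := inferInstanceAs (Mono (Limits.image.ι π))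
  exact @isCoh_restrict_tilde_of_quot A _ _ U _ (G.obj (op c)) (hG.1 c) _ _ ι hιm s hsepi

omit [IsNoetherianRing A] in
/-- (ii): a compatible family of sections of the `(M/I^(n+1)M)~` over an open `V` whose images in
the `j_* F_n` vanish is zero. -/
theorem eq_zero_of_compat (hG : Formal.IsCohFormal I G)
    (hb : ∀ k : ℕ, ∃ n : ℕ, LinearMap.ker (limit.π (Algz.sectMod A U G) (op n)).hom ≤
      I ^ k • (⊤ : Submodule A ↑(limit (Algz.sectMod A U G))))
    (ℓ : ∀ n : ℕ, Qn A U G I n ⟶ (Algz.sectMod A U G).obj (op n))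
    (hℓ : ∀ n : ℕ, ModuleCat.ofHom (Formal2.quotPowπ A I ↑(limit (Algz.sectMod A U G)) n) ≫ ℓ n =
      limit.π (Algz.sectMod A U G) (op n))
    (V : (Spec (CommRingCat.of A)).Opens)
    (x : ∀ n : ℕ, Γ((tilde.functor (CommRingCat.of A)).obj (Qn A U G I n), V))
    (hx : ∀ n : ℕ, ((tilde.functor (CommRingCat.of A)).map
      (ModuleCat.ofHom (Formal2.quotPowTrans A I ↑(limit (Algz.sectMod A U G)) n))).app V
        (x (n + 1)) = x n)
    (hx0 : ∀ n : ℕ, (((tilde.adjunction (R := CommRingCat.of A)).homEquiv (Qn A U G I n)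
      ((Scheme.Modules.pushforward U.ι).obj (G.obj (op n)))).symm (ℓ n)).app V (x n) = 0)
    (n : ℕ) : x n = 0 := by
  -- general transitions
  have hxT : ∀ {n c : ℕ} (h : n ≤ c),
      ((tilde.functor (CommRingCat.of A)).map (T' A U G I h)).app V (x c) = x n := by
    intro n c h
    induction c, h using Nat.le_induction with
    | base =>
      rw [T'_refl, CategoryTheory.Functor.map_id]
      rfl
    | succ c h ih =>
      rw [T'_succ, Functor.map_comp, Scheme.Modules.Hom.comp_app]
      change ((tilde.functor (CommRingCat.of A)).map (T' A U G I h)).app V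
        (((tilde.functor (CommRingCat.of A)).map
          (ModuleCat.ofHom (Formal2.quotPowTrans A I ↑(limit (Algz.sectMod A U G)) c))).app V
            (x (c + 1))) = x n
      rw [hx c, ih]
  obtain ⟨c₀, hc₀⟩ := hb (n + 1)
  let c := max c₀ n
  have hnc : n ≤ c := le_max_right _ _
  have hkerc : LinearMap.ker (limit.π (Algz.sectMod A U G) (op c)).hom ≤
      I ^ (n + 1) • (⊤ : Submodule A ↑(limit (Algz.sectMod A U G))) := by
    refine le_trans ?_ hc₀
    intro z hz
    rw [LinearMap.mem_ker] at hz ⊢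
    rw [← LimMod.π_tr (Algz.sectMod A U G) (le_max_left c₀ n), hz, map_zero]
  rw [← hxT hnc]
  let φ := (tilde.functor (CommRingCat.of A)).map (ℓ c)
  have hqc : (G.obj (op c)).IsQuasicoherent := (hG.1 c).1
  have hτ := hiso A U (G.obj (op c))
  have hadj : ((tilde.adjunction (R := CommRingCat.of A)).homEquiv (Qn A U G I c)
      ((Scheme.Modules.pushforward U.ι).obj (G.obj (op c)))).symm (ℓ c) =
      φ ≫ τ A U (G.obj (op c)) := by
    rw [Adjunction.homEquiv_counit]
    rfl
  have h1 : φ.app V (x c) = 0 := by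
    have h2 := hx0 c
    rw [hadj, Scheme.Modules.Hom.comp_app] at h2
    have hmono : Mono (τ A U (G.obj (op c))) := inferInstance
    exact Groth.Agent.Lib.Helper45.app_injective_of_mono (τ A U (G.obj (op c))) V
      (h2.trans (map_zero _).symm)
  obtain ⟨y, hy⟩ := (Groth.Agent.Lib.Helper45.NowhereDense.app_exact_kernel φ V (x c)).mp h1
  have hcomp : kernel.ι (ℓ c) ≫ T' A U G I hnc = 0 := by
    apply ModuleCat.hom_ext
    apply LinearMap.ext
    intro w
    have hw : (ℓ c).hom ((kernel.ι (ℓ c)).hom w) = 0 :=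
      congrArg (fun t => t.hom w) (kernel.condition (ℓ c))
    obtain ⟨z, hz⟩ := Submodule.Quotient.mk_surjective _ ((kernel.ι (ℓ c)).hom w)
    have h3 : (limit.π (Algz.sectMod A U G) (op c)).hom z = 0 := by
      rw [← hℓ c, ModuleCat.hom_comp, LinearMap.comp_apply]
      change (ℓ c).hom (Submodule.Quotient.mk z) = 0
      rw [hz, hw]
    rw [ModuleCat.hom_comp, LinearMap.comp_apply, ← hz, T'_mk]
    exact (Submodule.Quotient.mk_eq_zero _).mpr (hkerc h3)
  have hpres := preservesFiniteLimits_tilde (CommRingCat.of A)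
  have hker : kernel.ι φ ≫ (tilde.functor (CommRingCat.of A)).map (T' A U G I hnc) = 0 := by
    have h4 : kernelComparison (ℓ c) (tilde.functor (CommRingCat.of A)) ≫ kernel.ι φ =
        (tilde.functor (CommRingCat.of A)).map (kernel.ι (ℓ c)) := kernelComparison_comp_ι _ _
    rw [← cancel_epi (kernelComparison (ℓ c) (tilde.functor (CommRingCat.of A))),
      ← Category.assoc, h4, ← Functor.map_comp, hcomp, Functor.map_zero, comp_zero]
  rw [← hy]
  change ((kernel.ι φ).app V ≫ ((tilde.functor (CommRingCat.of A)).map (T' A U G I hnc)).app V) y = 0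
  rw [← Scheme.Modules.Hom.comp_app, hker]
  rfl

end Groth.Agent.Lib.Helper49.SectMono
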