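import Mathlib
import Groth.Prelude.Def_Formal
import Groth.Prelude.Def_Formal2
import Groth.Prelude.Def_Algz
import Groth.Agent.Lib.Helper49.SectEpi
import Groth.Agent.Lib.Helper49.SectMono
import Groth.Agent.Lib.Helper49.CanExtConv
import Groth.Agent.Lib.Helper49.FormalCompletion
import Groth.Agent.Lib.Helper18.LocNoethCover

/-!
# Finite-module models of coherent formal modules on an open of `Spec A` (helper49)
-/

set_option autoImplicit false
set_option linter.style.haveILetI false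
universe u
open CategoryTheory CategoryTheory.Limits AlgebraicGeometry Opposite

namespace Groth.Agent.Lib.Helper49.FinModels

open Groth.Agent.Lib.Helper49.FormalConst Groth.Agent.Lib.Helper49.FormalRestrict
  Groth.Agent.Lib.Helper49.FormalAffine Groth.Agent.Lib.Helper49.SectEpi
  Groth.Agent.Lib.Helper49

variable (A : Type u) [CommRing A] (U : (Spec (CommRingCat.of A)).Opens)

attribute [local instance 100000] specOver

/-- `H⁰(U, N)` as an `A`-module -/
noncomputable def H (N : (U : Scheme.{u}).Modules) : ModuleCat.{u} A :=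
  (moduleSpecΓFunctor (R := CommRingCat.of A)).obj ((Scheme.Modules.pushforward U.ι).obj N)

/-- functoriality of `H⁰(U, -)` -/
noncomputable def Hmap {N N' : (U : Scheme.{u}).Modules} (g : N ⟶ N') : H A U N ⟶ H A U N' :=
  (moduleSpecΓFunctor (R := CommRingCat.of A)).map ((Scheme.Modules.pushforward U.ι).map g)

/-- inclusion of a submodule, as a morphism -/
noncomputable def incl {P : ModuleCat.{u} A} (M : Submodule A ↑P) : ModuleCat.of A M ⟶ P :=
  ConcreteCategory.ofHom (C := ModuleCat A) (X := ModuleCat.of A M) (Y := P) M.subtype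

theorem incl_apply {P : ModuleCat.{u} A} (M : Submodule A ↑P) (x : M) :
    (incl A M).hom x = x.1 := rfl

instance {P : ModuleCat.{u} A} (M : Submodule A ↑P) : Mono (incl A M) :=
  (ModuleCat.mono_iff_injective _).mpr M.injective_subtype

/-- `M ↦ M~|_U` -/
noncomputable abbrev Φ : ModuleCat.{u} A ⥤ (U : Scheme.{u}).Modules :=
  tilde.functor (CommRingCat.of A) ⋙ Scheme.Modules.restrictFunctor U.ι

instance : PreservesFiniteLimits (Φ A U) := by
  have := preservesFiniteLimits_tilde (CommRingCat.of A)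
  exact comp_preservesFiniteLimits _ _

instance : PreservesFiniteColimits (Φ A U) := by
  have := preservesFiniteColimits_tilde (CommRingCat.of A)
  exact comp_preservesFiniteColimits _ _

instance : (Φ A U).Additive := by
  have := additive_aux (CommRingCat.of A)
  infer_instance

/-- the counit `H⁰(U, N)~|_U ⟶ N` -/
noncomputable def σ' (N : (U : Scheme.{u}).Modules) : (Φ A U).obj (H A U N) ⟶ N := σ A U N

theorem σ'_nat {N N' : (U : Scheme.{u}).Modules} (g : N ⟶ N') :
    (Φ A U).map (Hmap A U g) ≫ σ' A U N' = σ' A U N ≫ g := σ_nat A U g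

theorem isIso_σ' [QuasiCompact U.ι] (N : (U : Scheme.{u}).Modules) [N.IsQuasicoherent] :
    IsIso (σ' A U N) := isIso_σ A U N

/-- The morphism `M~|_U ⟶ N` adjoint to `p : M ⟶ H⁰(U, N)`. -/
noncomputable def adj' {M : ModuleCat.{u} A} (N : (U : Scheme.{u}).Modules) (p : M ⟶ H A U N) :
    (Φ A U).obj M ⟶ N := (Φ A U).map p ≫ σ' A U N

theorem adj_comp {M M' : ModuleCat.{u} A} (N : (U : Scheme.{u}).Modules) (q : M' ⟶ M)
    (p : M ⟶ H A U N) : adj' A U N (q ≫ p) = (Φ A U).map q ≫ adj' A U N p := by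
  unfold adj'
  rw [Functor.map_comp, Category.assoc]

theorem adj_nat {M : ModuleCat.{u} A} {N N' : (U : Scheme.{u}).Modules} (g : N ⟶ N')
    (p : M ⟶ H A U N) : adj' A U N p ≫ g = adj' A U N' (p ≫ Hmap A U g) := by
  unfold adj'
  rw [Functor.map_comp, Category.assoc, Category.assoc, σ'_nat]

section Step

variable [QuasiCompact U.ι]

theorem isIso_Φ_map_of_isIso_adj {M : ModuleCat.{u} A} (N : (U : Scheme.{u}).Modules)
    [N.IsQuasicoherent] (p : M ⟶ H A U N) (h : IsIso (adj' A U N p)) : IsIso ((Φ A U).map p) := by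
  have hσ := isIso_σ' A U N
  have e : (Φ A U).map p = adj' A U N p ≫ inv (σ' A U N) := by
    unfold adj'
    rw [Category.assoc, IsIso.hom_inv_id, Category.comp_id]
  rw [e]
  infer_instance

theorem isIso_adj_pullback_fst {M M' : ModuleCat.{u} A} (N : (U : Scheme.{u}).Modules)
    [N.IsQuasicoherent] (p : M ⟶ H A U N) (h : IsIso (adj' A U N p)) (f : M' ⟶ H A U N) :
    IsIso ((Φ A U).map (pullback.fst f p)) := by
  have h1 := isIso_Φ_map_of_isIso_adj A U N p h
  have h2 := (IsPullback.of_hasPullback f p).map (Φ A U)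
  exact h2.isIso_fst_of_isIso

/-- the "good" finite submodules of `H⁰(U, N)`: those whose `~|_U` maps isomorphically to `N`. -/
def Good (N : (U : Scheme.{u}).Modules) (M : Submodule A ↑(H A U N)) : Prop :=
  M.FG ∧ IsIso (adj' A U N (incl A M))

theorem exists_good_step [IsNoetherianRing A] {N' N : (U : Scheme.{u}).Modules}
    [N.IsQuasicoherent] [N'.IsQuasicoherent] (g : N' ⟶ N)
    (M : Submodule A ↑(H A U N)) (hM : Good A U N M)
    (M' : Submodule A ↑(H A U N')) (hM' : Good A U N' M') :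
    ∃ M'' : Submodule A ↑(H A U N'), Good A U N' M'' ∧
      M'' ≤ M.comap (Hmap A U g).hom := by
  let f : ModuleCat.of A M' ⟶ H A U N := incl A M' ≫ Hmap A U g
  let i : ModuleCat.of A M ⟶ H A U N := incl A M
  let k : pullback f i ⟶ H A U N' := pullback.fst f i ≫ incl A M'
  have hk : Mono k := mono_comp _ _
  have hkinj : Function.Injective k.hom := (ModuleCat.mono_iff_injective _).mp hk
  refine ⟨LinearMap.range k.hom, ⟨?_, ?_⟩, ?_⟩
  · have hle : LinearMap.range k.hom ≤ M' := by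
      rintro _ ⟨x, rfl⟩
      exact ((pullback.fst f i).hom x).2
    haveI : IsNoetherian A M' := isNoetherian_of_fg_of_noetherian M' hM'.1
    exact isNoetherian_submodule.mp this _ hle
  · let e : pullback f i ≅ ModuleCat.of A (LinearMap.range k.hom) :=
      (LinearEquiv.ofInjective k.hom hkinj).toModuleIso
    have he : e.hom ≫ incl A (LinearMap.range k.hom) = k := by
      ext x
      rfl
    have h1 : adj' A U N' k = (Φ A U).map e.hom ≫
        adj' A U N' (incl A (LinearMap.range k.hom)) := by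
      rw [← adj_comp, he]
    have h2 : adj' A U N' k = (Φ A U).map (pullback.fst f i) ≫
        adj' A U N' (incl A M') := adj_comp A U N' _ _
    have h3 : IsIso ((Φ A U).map (pullback.fst f i)) := isIso_adj_pullback_fst A U N i hM.2 f
    have h4 := hM'.2
    have h5 : IsIso (adj' A U N' k) := by rw [h2]; infer_instance
    have h6 : adj' A U N' (incl A (LinearMap.range k.hom)) =
        (Φ A U).map e.inv ≫ adj' A U N' k := by
      rw [h1, ← Category.assoc, ← Functor.map_comp, Iso.inv_hom_id, CategoryTheory.Functor.map_id,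
        Category.id_comp]
    rw [h6]
    infer_instance
  · rintro _ ⟨x, rfl⟩
    rw [Submodule.mem_comap]
    have h1 : (Hmap A U g).hom (k.hom x) = (pullback.fst f i ≫ f).hom x := rfl
    rw [h1, pullback.condition]
    exact ((pullback.snd f i).hom x).2

end Step

section Base

variable [QuasiCompact U.ι]

omit [QuasiCompact U.ι] in
theorem σ'_eq (N : (U : Scheme.{u}).Modules) :
    σ' A U N = (Scheme.Modules.restrictFunctor U.ι).map (ε A ((Scheme.Modules.pushforward U.ι).obj N)) ≫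
      (Scheme.Modules.restrictAdjunction U.ι).counit.app N := rfl

theorem Γf_map_injective {G' P : (Spec (CommRingCat.of A)).Modules} (i' : G' ⟶ P) [Mono i'] :
    Function.Injective ((Γf A).map i').hom := by
  intro x y hxy
  exact app_injective_of_mono i' ⊤ hxy

theorem exists_good [IsNoetherianRing A] (N : (U : Scheme.{u}).Modules) (hN : Coh.IsCoh N) :
    ∃ M : Submodule A ↑(H A U N), Good A U N M := by
  have hNq := hN.1
  have hX : ∀ x : Spec (CommRingCat.of A), ∃ V : (Spec (CommRingCat.of A)).Opens,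
      x ∈ V ∧ TopologicalSpace.NoetherianSpace (V : Set (Spec (CommRingCat.of A))) :=
    fun x => ⟨⊤, TopologicalSpace.Opens.mem_top x, inferInstance⟩
  have hPq : ((Scheme.Modules.pushforward U.ι).obj N).IsQuasicoherent :=
    isQuasicoherent_pushforward _ U.ι
  let i : N ⟶ ((Scheme.Modules.pushforward U.ι).obj N).restrict U.ι :=
    inv ((Scheme.Modules.restrictAdjunction U.ι).counit.app N)
  obtain ⟨G', i', e, hmono, hq, hft, hcomp⟩ :=
    Groth.Agent.Lib.Helper18.LSubM.exists_extension_of_mono_of_locallyNoetherianSpace hX i hN.2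
  let q : (Γf A).obj G' ⟶ H A U N := (Γf A).map i'
  have hqinj : Function.Injective q.hom := Γf_map_injective A i'
  have hfin : Module.Finite A ↑((Γf A).obj G') :=
    (isFiniteType_iff_finite_Γ (CommRingCat.of A) G').mp hft
  refine ⟨LinearMap.range q.hom, ?_, ?_⟩
  · rw [LinearMap.range_eq_map]
    exact Submodule.FG.map _ Module.Finite.fg_top
  · let e' : (Γf A).obj G' ≅ ModuleCat.of A (LinearMap.range q.hom) :=
      (LinearEquiv.ofInjective q.hom hqinj).toModuleIso
    have he' : e'.hom ≫ incl A (LinearMap.range q.hom) = q := by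
      ext x
      rfl
    have h1 : adj' A U N q = (Φ A U).map e'.hom ≫ adj' A U N (incl A (LinearMap.range q.hom)) := by
      rw [← adj_comp, he']
    have hε := isIso_ε A G'
    have h2 : adj' A U N q = (Scheme.Modules.restrictFunctor U.ι).map (ε A G') ≫ e.hom := by
      unfold adj'
      rw [σ'_eq]
      change (Scheme.Modules.restrictFunctor U.ι).map ((Tf A).map ((Γf A).map i')) ≫ _ = _
      rw [← Category.assoc, ← Functor.map_comp, ε_nat, Functor.map_comp, Category.assoc, ← hcomp,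
        Category.assoc, IsIso.inv_hom_id, Category.comp_id]
    have h3 : IsIso (adj' A U N q) := by rw [h2]; infer_instance
    have h4 : adj' A U N (incl A (LinearMap.range q.hom)) = (Φ A U).map e'.inv ≫ adj' A U N q := by
      rw [h1, ← Category.assoc, ← Functor.map_comp, Iso.inv_hom_id, CategoryTheory.Functor.map_id,
        Category.id_comp]
    rw [h4]
    infer_instance

end Base

section Rec

variable [QuasiCompact U.ι] [IsNoetherianRing A] {I : Ideal A}
  (G : ℕᵒᵖ ⥤ (U : Scheme.{u}).Modules) (hG : Formal.IsCohFormal I G)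

/-- the transition map `G_{n+1} ⟶ G_n` -/
noncomputable abbrev t (n : ℕ) : G.obj (op (n + 1)) ⟶ G.obj (op n) :=
  G.map (homOfLE (Nat.le_succ n)).op

include hG in
theorem exists_step (n : ℕ) (M : Submodule A ↑(H A U (G.obj (op n))))
    (hM : Good A U (G.obj (op n)) M) :
    ∃ M'' : Submodule A ↑(H A U (G.obj (op (n + 1)))), Good A U (G.obj (op (n + 1))) M'' ∧
      M'' ≤ M.comap (Hmap A U (t A U G n)).hom := by
  haveI := (hG.1 n).1
  haveI := (hG.1 (n + 1)).1
  obtain ⟨M', hM'⟩ := exists_good A U (G.obj (op (n + 1))) (hG.1 (n + 1))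
  exact exists_good_step A U (t A U G n) M hM M' hM'

/-- the chosen good submodules -/
noncomputable def Lseq : ∀ n : ℕ,
    {M : Submodule A ↑(H A U (G.obj (op n))) // Good A U (G.obj (op n)) M}
  | 0 => ⟨(exists_good A U (G.obj (op 0)) (hG.1 0)).choose,
      (exists_good A U (G.obj (op 0)) (hG.1 0)).choose_spec⟩
  | n + 1 => ⟨(exists_step A U G hG n (Lseq n).1 (Lseq n).2).choose,
      (exists_step A U G hG n (Lseq n).1 (Lseq n).2).choose_spec.1⟩

theorem Lseq_le (n : ℕ) :
    (Lseq A U G hG (n + 1)).1 ≤ (Lseq A U G hG n).1.comap (Hmap A U (t A U G n)).hom :=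
  (exists_step A U G hG n (Lseq A U G hG n).1 (Lseq A U G hG n).2).choose_spec.2

/-- the finite modules `M_n` -/
noncomputable abbrev Mn (n : ℕ) : Type u := ↥(Lseq A U G hG n).1

/-- the transition maps `M_{n+1} → M_n` -/
noncomputable def gn (n : ℕ) : Mn A U G hG (n + 1) →ₗ[A] Mn A U G hG n :=
  (Hmap A U (t A U G n)).hom.restrict (Lseq_le A U G hG n)

theorem gn_coe (n : ℕ) (x : Mn A U G hG (n + 1)) :
    ((gn A U G hG n x : Mn A U G hG n) : ↑(H A U (G.obj (op n)))) =
      (Hmap A U (t A U G n)).hom x.1 := rfl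

theorem finite_Mn (n : ℕ) : Module.Finite A (Mn A U G hG n) :=
  Module.Finite.iff_fg.mpr (Lseq A U G hG n).2.1

/-- the isomorphisms `M_n~|_U ≅ G_n` -/
noncomputable def an (n : ℕ) : (Φ A U).obj (ModuleCat.of A (Mn A U G hG n)) ≅ G.obj (op n) :=
  @asIso _ _ _ _ (adj' A U (G.obj (op n)) (incl A (Lseq A U G hG n).1)) (Lseq A U G hG n).2.2

theorem an_nat (n : ℕ) :
    (an A U G hG (n + 1)).hom ≫ t A U G n =
      (Φ A U).map (ModuleCat.ofHom (gn A U G hG n)) ≫ (an A U G hG n).hom := by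
  change adj' A U _ (incl A (Lseq A U G hG (n + 1)).1) ≫ t A U G n =
    (Φ A U).map (ModuleCat.ofHom (gn A U G hG n)) ≫ adj' A U _ (incl A (Lseq A U G hG n).1)
  rw [adj_nat, ← adj_comp]
  congr 1

/-- the model system -/
noncomputable def modelSys : ℕᵒᵖ ⥤ (U : Scheme.{u}).Modules :=
  Functor.ofOpSequence (X := fun n => (Φ A U).obj (ModuleCat.of A (Mn A U G hG n)))
    (fun n => (Φ A U).map (ModuleCat.ofHom (gn A U G hG n)))

theorem modelSys_map_succ (n : ℕ) :
    (modelSys A U G hG).map (homOfLE (Nat.le_succ n)).op =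
      (Φ A U).map (ModuleCat.ofHom (gn A U G hG n)) :=
  Functor.ofOpSequence_map_homOfLE_succ _ n

/-- the comparison of systems -/
noncomputable def modelHom : modelSys A U G hG ⟶ G :=
  NatTrans.ofOpSequence (F := modelSys A U G hG) (G := G)
    (fun n => (an A U G hG n).hom)
    (fun n => by
      have h1 := modelSys_map_succ A U G hG n
      change (modelSys A U G hG).map (homOfLE (Nat.le_succ n)).op ≫ _ = _
      rw [h1]
      exact (an_nat A U G hG n).symm)

theorem isIso_modelHom : IsIso (modelHom A U G hG) := by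
  apply (config := { allowSynthFailures := true }) NatIso.isIso_of_isIso_app
  intro n
  have : (modelHom A U G hG).app n = (an A U G hG n.unop).hom := rfl
  rw [this]
  infer_instance

end Rec

section Torsion

open Groth.Agent.Lib.Helper49 in
omit A U in
/-- sections of a module whose restriction to `U` vanishes are zero over opens inside `U`. -/
theorem section_eq_zero_of_isZero_restrict {X : Scheme.{u}} (U : X.Opens) (M : X.Modules)
    (hz : IsZero (M.restrict U.ι)) {W : X.Opens} (hW : W ≤ U) (s : Γ(M, W)) : s = 0 := by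
  have hWeq : U.ι ''ᵁ (U.ι ⁻¹ᵁ W) = W := by
    ext x
    constructor
    · rintro ⟨y, hy, rfl⟩
      exact hy
    · intro hx
      exact ⟨⟨x, hW hx⟩, hx, rfl⟩
  apply mres_injective_of_eq M hWeq
  rw [map_zero]
  apply (ConcreteCategory.injective_of_mono_of_preservesPullback
    (M.restrictAppIso U.ι (U.ι ⁻¹ᵁ W)).inv)
  have h1 : ∀ t : Γ(M.restrict U.ι, U.ι ⁻¹ᵁ W), t = 0 := by
    intro t
    have h2 : (𝟙 (M.restrict U.ι) : M.restrict U.ι ⟶ M.restrict U.ι) = 0 := hz.eq_of_src _ _
    have h3 : (𝟙 (M.restrict U.ι) : M.restrict U.ι ⟶ M.restrict U.ι).app (U.ι ⁻¹ᵁ W) t = t := rfl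
    rw [← h3, h2]
    rfl
  rw [h1 ((M.restrictAppIso U.ι (U.ι ⁻¹ᵁ W)).inv _), h1 ((M.restrictAppIso U.ι (U.ι ⁻¹ᵁ W)).inv 0)]

omit A U in
theorem exists_pow_smul_eq_zero_aux (R : CommRingCat.{u}) (U : (Spec R).Opens)
    (P : ModuleCat.{u} R) (hz : IsZero ((tilde P).restrict U.ι)) (f : R)
    (hf : PrimeSpectrum.basicOpen f ≤ U) (x : P) : ∃ k : ℕ, f ^ k • x = 0 := by
  have h0 : (tilde.toOpen P (PrimeSpectrum.basicOpen f)).hom x = 0 :=
    section_eq_zero_of_isZero_restrict U (tilde P) hz hf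
      ((tilde.toOpen P (PrimeSpectrum.basicOpen f)).hom x)
  have hloc : IsLocalizedModule.Away f (tilde.toOpen P (PrimeSpectrum.basicOpen f)).hom :=
    inferInstance
  obtain ⟨c, hc⟩ := (IsLocalizedModule.eq_iff_exists (Submonoid.powers f)
    (tilde.toOpen P (PrimeSpectrum.basicOpen f)).hom).mp (h0.trans (map_zero _).symm)
  obtain ⟨k, hk⟩ := c.2
  refine ⟨k, ?_⟩
  rw [smul_zero] at hc
  have h1 : (c : R) • x = 0 := hc
  rw [← hk] at h1
  exact h1

theorem exists_pow_smul_eq_zero (P : ModuleCat.{u} A) (hz : IsZero ((Φ A U).obj P)) (f : A)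
    (hf : PrimeSpectrum.basicOpen f ≤ U) (x : P) : ∃ k : ℕ, f ^ k • x = 0 :=
  exists_pow_smul_eq_zero_aux (CommRingCat.of A) U P hz f hf x

/-- elementwise torsion for modules whose `~|_U` vanishes. -/
theorem exists_pow_smul_eq_zero_of_isZero {𝔞 : Ideal A} (h𝔞 : 𝔞.FG)
    (hU : ∀ f ∈ 𝔞, PrimeSpectrum.basicOpen f ≤ U)
    (P : ModuleCat.{u} A) (hz : IsZero ((Φ A U).obj P)) (x : P) :
    ∃ m : ℕ, ∀ a ∈ 𝔞 ^ m, a • x = 0 := by
  let Ann : Ideal A := LinearMap.ker (LinearMap.toSpanSingleton A P x)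
  have hle : 𝔞 ≤ Ann.radical := by
    intro f hf
    obtain ⟨k, hk⟩ := exists_pow_smul_eq_zero A U P hz f (hU f hf) x
    exact ⟨k, by
      change (LinearMap.toSpanSingleton A P x) (f ^ k) = 0
      rw [LinearMap.toSpanSingleton_apply]
      exact hk⟩
  obtain ⟨m, hm⟩ := Ideal.exists_pow_le_of_le_radical_of_fg hle h𝔞
  refine ⟨m, fun a ha => ?_⟩
  have := hm ha
  change (LinearMap.toSpanSingleton A P x) a = 0 at this
  rwa [LinearMap.toSpanSingleton_apply] at this

end Torsion

section Cond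

open Groth.Agent.Lib.Helper49.FormalCompletion

theorem isQuot_Tf_mkQ (J : Ideal A) (M' : ModuleCat.{u} A) :
    IsQuot J ((Tf A).map (ModuleCat.ofHom (J • (⊤ : Submodule A M')).mkQ)) := by
  set Qm : ModuleCat.{u} A := ModuleCat.of A (M' ⧸ J • (⊤ : Submodule A M')) with hQm
  set π : M' ⟶ Qm := ModuleCat.ofHom (J • (⊤ : Submodule A M')).mkQ with hπ
  have h1 : (Tf A).map π = (Tf A).map (π ≫ (η A Qm).hom) ≫ ε A ((Tf A).obj Qm) := by
    rw [Functor.map_comp, Category.assoc, CanExtConv.Tf_map_η_ε, Category.comp_id]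
  rw [h1]
  have h2 : Function.Bijective (η A Qm).hom.hom :=
    (ConcreteCategory.isIso_iff_bijective _).mp inferInstance
  apply FormalAffine.isQuot_of_surjective_of_ker
  · rw [ModuleCat.hom_comp]
    exact h2.2.comp (Submodule.mkQ_surjective _)
  · rw [ModuleCat.hom_comp, LinearMap.ker_comp_of_ker_eq_bot _ (LinearMap.ker_eq_bot.mpr h2.1)]
    exact Submodule.ker_mkQ _

theorem isQuot_Φ_mkQ (J : Ideal A) (M' : ModuleCat.{u} A) :
    IsQuot J ((Φ A U).map (ModuleCat.ofHom (J • (⊤ : Submodule A M')).mkQ)) := by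
  have hf : U.ι ≫ (Spec (CommRingCat.of A) ↘ Spec (CommRingCat.of A)) =
      (U : Scheme.{u}) ↘ Spec (CommRingCat.of A) := Category.comp_id _
  exact isQuot_restrict U hf (isQuot_Tf_mkQ A J M')

variable {J 𝔞 : Ideal A} (h𝔞 : 𝔞.FG) (hU : ∀ f ∈ 𝔞, PrimeSpectrum.basicOpen f ≤ U)
  {M' M : ModuleCat.{u} A} (g : M' ⟶ M)
  {N' N : (U : Scheme.{u}).Modules} (a' : (Φ A U).obj M' ≅ N') (a : (Φ A U).obj M ≅ N)
  (tN : N' ⟶ N) (hq : IsQuot J tN) (hcomm : a'.hom ≫ tN = (Φ A U).map g ≫ a.hom)

include h𝔞 hU hq hcomm in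
theorem cond_coker (y : M) : ∃ m : ℕ, ∀ b ∈ 𝔞 ^ m, b • y ∈ LinearMap.range g.hom := by
  set C : ModuleCat.{u} A := ModuleCat.of A (M ⧸ LinearMap.range g.hom) with hC
  set πC : M ⟶ C := ModuleCat.ofHom (LinearMap.range g.hom).mkQ with hπC
  have h0 : g ≫ πC = 0 := by
    ext x
    exact (Submodule.Quotient.mk_eq_zero _).mpr ⟨x, rfl⟩
  have hepi : Epi ((Φ A U).map g) := by
    have h1 : Epi tN := hq.epi
    have h2 : Epi ((Φ A U).map g ≫ a.hom) := by rw [← hcomm]; infer_instance
    have h3 : (Φ A U).map g = ((Φ A U).map g ≫ a.hom) ≫ a.inv := by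
      rw [Category.assoc, Iso.hom_inv_id, Category.comp_id]
    rw [h3]
    infer_instance
  have hπepi : Epi πC := (ModuleCat.epi_iff_surjective _).mpr (Submodule.mkQ_surjective _)
  have hΦπ : Epi ((Φ A U).map πC) := (Φ A U).map_epi πC
  have hzero : (Φ A U).map πC = 0 := by
    rw [← cancel_epi ((Φ A U).map g), ← Functor.map_comp, h0, Functor.map_zero, comp_zero]
  have hz : IsZero ((Φ A U).obj C) := IsZero.of_epi_eq_zero _ hzero
  obtain ⟨m, hm⟩ := exists_pow_smul_eq_zero_of_isZero A U h𝔞 hU C hz (πC.hom y)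
  refine ⟨m, fun b hb => ?_⟩
  have h1 := hm b hb
  rw [← map_smul] at h1
  exact (Submodule.Quotient.mk_eq_zero _).mp h1

include h𝔞 hU hq hcomm in
theorem cond_ker (hkill : ∀ b ∈ J, ∀ y : M, b • y = 0) (x : M') (hx : g.hom x = 0) :
    ∃ m : ℕ, ∀ b ∈ 𝔞 ^ m, b • x ∈ J • (⊤ : Submodule A M') := by
  set Qm : ModuleCat.{u} A := ModuleCat.of A (M' ⧸ J • (⊤ : Submodule A M')) with hQm
  set π : M' ⟶ Qm := ModuleCat.ofHom (J • (⊤ : Submodule A M')).mkQ with hπ
  have hle : J • (⊤ : Submodule A M') ≤ LinearMap.ker g.hom := by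
    rw [Submodule.smul_le]
    intro b hb z _
    rw [LinearMap.mem_ker, map_smul]
    exact hkill b hb _
  set gbar : Qm ⟶ M := ModuleCat.ofHom (Submodule.liftQ _ g.hom hle) with hgbar
  have hπg : π ≫ gbar = g := by
    ext z
    rfl
  have hqπ : IsQuot J ((Φ A U).map π) := isQuot_Φ_mkQ A U J M'
  have hq' : IsQuot J (a'.hom ≫ tN) := IsQuot.iso_comp a'.hom hq
  obtain ⟨θ, hθ⟩ := IsQuot.exists_iso hqπ hq'
  have hepi : Epi ((Φ A U).map π) := hqπ.epi
  have h1 : θ.hom = (Φ A U).map gbar ≫ a.hom := by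
    rw [← cancel_epi ((Φ A U).map π), hθ, hcomm, ← Category.assoc, ← Functor.map_comp, hπg]
  have hiso : IsIso ((Φ A U).map gbar) := by
    have h2 : (Φ A U).map gbar = θ.hom ≫ a.inv := by
      rw [h1, Category.assoc, Iso.hom_inv_id, Category.comp_id]
    rw [h2]
    infer_instance
  set K : Submodule A Qm := LinearMap.ker gbar.hom with hK
  have h0 : incl A K ≫ gbar = 0 := by
    ext z
    exact z.2
  have hmono : Mono ((Φ A U).map (incl A K)) := (Φ A U).map_mono _
  have hzero : (Φ A U).map (incl A K) = 0 := by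
    rw [← cancel_mono ((Φ A U).map gbar), ← Functor.map_comp, h0, Functor.map_zero, zero_comp]
  have hz : IsZero ((Φ A U).obj (ModuleCat.of A K)) := IsZero.of_mono_eq_zero _ hzero
  have hxK : π.hom x ∈ K := by
    change gbar.hom (π.hom x) = 0
    exact hx
  obtain ⟨m, hm⟩ := exists_pow_smul_eq_zero_of_isZero A U h𝔞 hU (ModuleCat.of A K) hz
    (⟨π.hom x, hxK⟩ : K)
  refine ⟨m, fun b hb => ?_⟩
  have h2 := congrArg Subtype.val (hm b hb)
  change b • π.hom x = 0 at h2
  rw [← map_smul] at h2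
  exact (Submodule.Quotient.mk_eq_zero _).mp h2

end Cond

section Main

variable [IsNoetherianRing A] [QuasiCompact U.ι] {I 𝔞 : Ideal A}

omit [IsNoetherianRing A] [QuasiCompact U.ι] in
theorem H_kill (G : ℕᵒᵖ ⥤ (U : Scheme.{u}).Modules) (hG : Formal.IsCohFormal I G) (n : ℕ)
    (a : A) (ha : a ∈ I ^ (n + 1)) (x : ↑(H A U (G.obj (op n)))) : a • x = 0 := by
  have h1 := CanExtConv.sectMod_kill A U G hG n
  have h2 : ∀ x' : ↑((Algz.sectMod A U G).obj (op n)), a • x' = 0 := by
    intro x'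
    have h3 : a • x' ∈ I ^ (n + 1) • (⊤ : Submodule A ((Algz.sectMod A U G).obj (op n))) :=
      Submodule.smul_mem_smul ha Submodule.mem_top
    rw [h1] at h3
    exact h3
  exact h2 x

/-- **Finite-module models** of a coherent formal module on an open `U ⊆ Spec A`. -/
theorem exists_models (hU : ∀ f ∈ 𝔞, PrimeSpectrum.basicOpen f ≤ U)
    (F : ℕᵒᵖ ⥤ (U : Scheme.{u}).Modules) (hF : Formal.IsCohFormal I F) :
    ∃ (M : ℕ → Type u) (_ : ∀ n, AddCommGroup (M n)) (_ : ∀ n, Module A (M n))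
      (g : ∀ n, M (n + 1) →ₗ[A] M n),
      (∀ n, Module.Finite A (M n)) ∧ (∀ n, I ^ (n + 1) • (⊤ : Submodule A (M n)) = ⊥) ∧
      (∀ n (x : M (n + 1)), g n x = 0 → ∃ m : ℕ, ∀ a ∈ 𝔞 ^ m,
        a • x ∈ I ^ (n + 1) • (⊤ : Submodule A (M (n + 1)))) ∧
      (∀ n (y : M n), ∃ m : ℕ, ∀ a ∈ 𝔞 ^ m, a • y ∈ LinearMap.range (g n)) ∧
      Nonempty (F ≅ Functor.ofOpSequence
        (X := fun n => (Scheme.Modules.restrictFunctor U.ι).obj (Formal2.tmod A (M n)))
        (fun n => (Scheme.Modules.restrictFunctor U.ι).map (Formal2.tmodMap A (g n)))) := by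
  have h𝔞 : 𝔞.FG := IsNoetherian.noetherian 𝔞
  have hkill : ∀ n, ∀ b ∈ I ^ (n + 1), ∀ y : Mn A U F hF n, b • y = 0 := by
    intro n b hb y
    apply Subtype.ext
    exact H_kill A U F hF n b hb y.1
  refine ⟨Mn A U F hF, fun n => inferInstance, fun n => inferInstance, gn A U F hF,
    finite_Mn A U F hF, ?_, ?_, ?_, ?_⟩
  · intro n
    rw [eq_bot_iff, Submodule.smul_le]
    intro b hb y _
    rw [Submodule.mem_bot]
    exact hkill n b hb y
  · intro n x hx
    exact cond_ker A U h𝔞 hU (ModuleCat.ofHom (gn A U F hF n)) (an A U F hF (n + 1))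
      (an A U F hF n) (t A U F n) (isQuot_tr_succ hF n) (an_nat A U F hF n) (hkill n) x hx
  · intro n y
    exact cond_coker A U h𝔞 hU (ModuleCat.ofHom (gn A U F hF n)) (an A U F hF (n + 1))
      (an A U F hF n) (t A U F n) (isQuot_tr_succ hF n) (an_nat A U F hF n) y
  · exact ⟨(@asIso _ _ _ _ (modelHom A U F hF) (isIso_modelHom A U F hF)).symm⟩

end Main

end Groth.Agent.Lib.Helper49.FinModels
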