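import Mathlib
import Groth.Agent.Lib.Helper16.FlatPull.Chart
import Groth.Agent.Lib.Helper18.LSubExt
import Groth.Agent.Lib.Helper45.FiniteType

/-!
# fpqc descent of finite type for quasi-coherent modules
-/
set_option autoImplicit false
set_option linter.style.haveILetI false
universe u
open CategoryTheory AlgebraicGeometry TopologicalSpace Opposite TensorProduct

namespace Groth.Agent.Lib.Helper49.FiniteDescent

section Alg

variable {A : Type u} [CommRing A] {ι : Type u} (B : ι → Type u) [∀ i, CommRing (B i)]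
  [∀ i, Algebra A (B i)] [∀ i, Module.Flat A (B i)]
  (hsurj : ∀ p : PrimeSpectrum A, ∃ (i : ι) (P : PrimeSpectrum (B i)),
    P.comap (algebraMap A (B i)) = p)

include hsurj in
/-- a jointly surjective flat family is jointly faithful. -/
theorem subsingleton_of_forall_tensor (Q : Type u) [AddCommGroup Q] [Module A Q]
    (hQ : ∀ i, Subsingleton (B i ⊗[A] Q)) : Subsingleton Q := by
  refine ⟨fun q q' => ?_⟩
  have key : ∀ q : Q, q = 0 := by
    intro q
    by_contra hq
    let ψ : A →ₗ[A] Q := LinearMap.toSpanSingleton A Q q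
    let I : Ideal A := LinearMap.ker ψ
    have hI : I ≠ ⊤ := by
      intro h
      have h1 : (1 : A) ∈ I := by rw [h]; trivial
      have h2 : ψ 1 = 0 := h1
      exact hq (by simpa [ψ] using h2)
    obtain ⟨m, hm, hIm⟩ := Ideal.exists_le_maximal I hI
    obtain ⟨i, P, hP⟩ := hsurj ⟨m, hm.isPrime⟩
    let j : (A ⧸ I) →ₗ[A] Q := Submodule.liftQ I ψ le_rfl
    have hj : Function.Injective j := by
      rw [← LinearMap.ker_eq_bot]
      exact Submodule.ker_liftQ_eq_bot _ _ _ le_rfl
    have h1 : Function.Injective (j.lTensor (B i)) :=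
      Module.Flat.lTensor_preserves_injective_linearMap j hj
    have h2 : Subsingleton (B i ⊗[A] (A ⧸ I)) := by
      have := hQ i
      exact h1.subsingleton
    have h3 : Subsingleton (B i ⧸ (I • ⊤ : Submodule A (B i))) :=
      (TensorProduct.tensorQuotEquivQuotSMul (B i) I).symm.toEquiv.subsingleton
    have h4 : (I • ⊤ : Submodule A (B i)) = ⊤ := Submodule.Quotient.subsingleton_iff.mp h3
    have h5 : (I • ⊤ : Submodule A (B i)) ≤ P.asIdeal.restrictScalars A := by
      rw [Submodule.smul_le]
      intro r hr n _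
      change r • n ∈ P.asIdeal
      rw [Algebra.smul_def]
      refine Ideal.mul_mem_right _ _ ?_
      have : r ∈ m := hIm hr
      have h6 : (P.comap (algebraMap A (B i))).asIdeal = m := by rw [hP]
      rw [← h6] at this
      exact this
    have h7 : (1 : B i) ∈ P.asIdeal := h5 (by rw [h4]; trivial)
    exact P.2.ne_top ((Ideal.eq_top_iff_one _).mpr h7)
  rw [key q, key q']

include hsurj in
/-- finiteness descends along a finite jointly surjective flat family. -/
theorem finite_of_forall_tensor [Finite ι] (N : Type u) [AddCommGroup N] [Module A N]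
    (hN : ∀ i, Module.Finite (B i) (B i ⊗[A] N)) : Module.Finite A N := by
  classical
  cases nonempty_fintype ι
  have hex : ∀ i, ∃ (n : ℕ) (s : Fin n → B i ⊗[A] N), Submodule.span (B i) (Set.range s) = ⊤ :=
    fun i => Module.Finite.exists_fin (R := B i) (M := B i ⊗[A] N)
  choose n s hs using hex
  choose k t m h using fun (i : ι) (j : Fin (n i)) => TensorProduct.exists_sum_tmul_eq (s i j)
  let J := Σ i, Σ j : Fin (n i), Fin (k i j)
  let f₀ : (J → A) →ₗ[A] N := (Pi.basisFun A J).constr A fun x => m x.1 x.2.1 x.2.2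
  have hsur : ∀ i, Function.Surjective (f₀.lTensor (B i)) := by
    intro i
    have h1 : Function.Surjective (AlgebraTensorModule.lTensor (B i) (B i) f₀) := by
      rw [← LinearMap.range_eq_top, eq_top_iff, ← hs i, Submodule.span_le, Set.range_subset_iff]
      intro j
      use ∑ l : Fin (k i j), t i j l ⊗ₜ Pi.basisFun A J ⟨i, j, l⟩
      rw [map_sum, h i j]
      refine Finset.sum_congr rfl fun l _ => ?_
      rw [AlgebraTensorModule.lTensor_tmul]
      congr 1
      exact (Pi.basisFun A J).constr_basis A _ _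
    exact h1
  let Q := N ⧸ LinearMap.range f₀
  have hQ : ∀ i, Subsingleton (B i ⊗[A] Q) := by
    intro i
    have h1 : Function.Surjective ((LinearMap.range f₀).mkQ.lTensor (B i)) :=
      LinearMap.lTensor_surjective _ (Submodule.mkQ_surjective _)
    have h2 : (LinearMap.range f₀).mkQ.lTensor (B i) ∘ₗ f₀.lTensor (B i) = 0 := by
      rw [← LinearMap.lTensor_comp]
      have : (LinearMap.range f₀).mkQ ∘ₗ f₀ = 0 := by
        ext x
        simp
      rw [LinearMap.range_mkQ_comp, LinearMap.lTensor_zero]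
    refine ⟨fun a b => ?_⟩
    have key : ∀ a : B i ⊗[A] Q, a = 0 := by
      intro a
      obtain ⟨b, rfl⟩ := h1 a
      obtain ⟨c, rfl⟩ := hsur i b
      exact LinearMap.congr_fun h2 c
    rw [key a, key b]
  have hQ' : Subsingleton Q := subsingleton_of_forall_tensor B hsurj Q hQ
  have htop : LinearMap.range f₀ = ⊤ := Submodule.Quotient.subsingleton_iff.mp hQ'
  exact Module.Finite.of_surjective f₀ (LinearMap.range_eq_top.mp htop)

end Alg

section Sch

variable {X X' : Scheme.{u}} (f : X' ⟶ X) [Flat f] [Surjective f] [QuasiCompact f]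

/-- fpqc descent of finite type: if `f` is flat, surjective and quasi-compact and `f^* H` is of
finite type for a quasi-coherent `H`, then `H` is of finite type. -/
theorem isFiniteType_of_pullback (H : X.Modules) [H.IsQuasicoherent]
    (hG : SheafOfModules.IsFiniteType (R := X'.ringCatSheaf)
      ((Scheme.Modules.pullback f).obj H)) :
    SheafOfModules.IsFiniteType (R := X.ringCatSheaf) H := by
  haveI : ((Scheme.Modules.pullback f).obj H).IsQuasicoherent :=
    Helper16.FlatPull.isQuasicoherent_pullback f H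
  refine Helper18.LSubM.isFiniteType_of_finite_sections_cover H {V | IsAffineOpen V}
    (fun V hV => hV) (fun x => ?_) (fun V hV => ?_)
  · obtain ⟨_, ⟨V, hV, rfl⟩, hxV, -⟩ :=
      X.isBasis_affineOpens.exists_subset_of_mem_open (Set.mem_univ x) isOpen_univ
    exact ⟨V, hV, hxV⟩
  · have hV' : IsAffineOpen V := hV
    have hc : IsCompact ((f ⁻¹ᵁ V : X'.Opens) : Set X') :=
      QuasiCompact.isCompact_preimage (f := f) _ V.2 hV'.isCompact
    obtain ⟨I, hI, e⟩ := isCompact_iff_finite_and_eq_biUnion_affineOpens.mp hc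
    have := hI.to_subtype
    have hle : ∀ i : I, (i.1 : X'.Opens) ≤ f ⁻¹ᵁ V := by
      intro i
      rw [e]
      exact le_iSup₂ (f := fun (j : X'.affineOpens) (_ : j ∈ I) => (j : X'.Opens)) i.1 i.2
    letI alg : ∀ i : I, Algebra Γ(X, V) Γ(X', (i.1 : X'.Opens)) :=
      fun i => (f.appLE V i.1.1 (hle i)).hom.toAlgebra
    haveI : ∀ i : I, Module.Flat Γ(X, V) Γ(X', (i.1 : X'.Opens)) :=
      fun i => f.flat_appLE hV' i.1.2 (hle i)
    refine finite_of_forall_tensor (fun i : I => Γ(X', (i.1 : X'.Opens))) ?_ Γ(H, V) ?_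
    · intro p
      obtain ⟨x, rfl⟩ := Helper45.exists_primeIdealOf_eq hV' p
      obtain ⟨x', hx'⟩ := f.surjective x.1
      have hx'V : x' ∈ f ⁻¹ᵁ V := by
        change f.base x' ∈ V
        rw [hx']
        exact x.2
      rw [e] at hx'V
      obtain ⟨i, hi, hx'i⟩ : ∃ i : X'.affineOpens, i ∈ I ∧ x' ∈ (i.1 : X'.Opens) := by
        simpa [Opens.mem_iSup] using hx'V
      refine ⟨⟨i, hi⟩, i.2.primeIdealOf ⟨x', hx'i⟩, ?_⟩
      have := IsAffineOpen.comap_primeIdealOf_appLE V hV' i.1 i.2 (hle ⟨i, hi⟩) hx'i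
      change (i.2.primeIdealOf ⟨x', hx'i⟩).comap (f.appLE V i.1 (hle ⟨i, hi⟩)).hom = _
      rw [this]
      congr 1
      exact Subtype.ext hx'
    · intro i
      obtain ⟨f₂, hf₂⟩ := Helper16.FlatPull.exists_isBaseChange_sections f hV' i.1.2 (hle i) H
      have hfin : Module.Finite Γ(X', (i.1 : X'.Opens))
          Γ((Scheme.Modules.pullback f).obj H, (i.1 : X'.Opens)) :=
        Helper45.finite_sections_of_isFiniteType i.1.2 _
      letI : Module Γ(X, V) Γ((Scheme.Modules.pullback f).obj H, (i.1 : X'.Opens)) :=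
        Module.compHom _ (f.appLE V i.1.1 (hle i)).hom
      haveI : IsScalarTower Γ(X, V) Γ(X', (i.1 : X'.Opens))
          Γ((Scheme.Modules.pullback f).obj H, (i.1 : X'.Opens)) :=
        IsScalarTower.of_compHom _ _ _
      exact Module.Finite.equiv hf₂.equiv.symm

end Sch

end Groth.Agent.Lib.Helper49.FiniteDescent
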