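import Mathlib
import Groth.Prelude.Def_Formal
import Groth.Prelude.Def_Formal2
import Groth.Agent.Lib.Helper49.FormalConst
import Groth.Agent.Lib.Helper49.FormalCompletion

/-!
# Re-indexed quotient functors between categories of coherent formal modules (helper49)

For ideals `I`, `J` of the base ring, a monotone `m : ℕ → ℕ` and a system `F`, the system
`n ↦ F_{m n} / J^(n+1) F_{m n}`.
-/

set_option autoImplicit false
set_option linter.style.haveILetI false
universe u
open CategoryTheory CategoryTheory.Limits AlgebraicGeometry TopologicalSpace Opposite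

namespace Groth.Agent.Lib.Helper49.FormalReindex

open Groth.Agent.Lib.Helper49.FormalConst Groth.Agent.Lib.Helper49.FormalCompletion

variable {A : Type u} [CommRing A] {X : Scheme.{u}} [X.Over (Spec (CommRingCat.of A))]

/-- composition of quotients, when every module killed by `J` is killed by `J'`. -/
theorem IsQuot.comp' {J' J : Ideal A}
    (hJ : ∀ T : X.Modules, Formal.KilledBy J T → Formal.KilledBy J' T)
    {M Q R : X.Modules} {π : M ⟶ Q} {ρ : Q ⟶ R}
    (h1 : IsQuot J' π) (h2 : IsQuot J ρ) : IsQuot J (π ≫ ρ) := by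
  haveI := h1.epi
  haveI := h2.epi
  obtain ⟨w1, ⟨c1⟩⟩ := h1
  obtain ⟨w2, ⟨c2⟩⟩ := h2
  have w : Formal.smulFamily J M ≫ π ≫ ρ = 0 := by
    rw [smulFamily_comp_eq_zero_iff]
    intro a ha
    rw [← Category.assoc, smulMod_naturality, Category.assoc]
    rw [(smulFamily_comp_eq_zero_iff J ρ).mp w2 a ha, comp_zero]
  refine ⟨w, ⟨?_⟩⟩
  have key : ∀ {T : X.Modules} (g : M ⟶ T), Formal.smulFamily J M ≫ g = 0 →
      ∃ g'' : R ⟶ T, (π ≫ ρ) ≫ g'' = g := by
    intro T g hg
    have hg1 : Formal.smulFamily J' M ≫ g = 0 := by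
      rw [smulFamily_comp_eq_zero_iff]
      intro a ha
      have hk : Formal.KilledBy J' (cokernel (Formal.smulFamily J M)) :=
        hJ _ (IsQuot.killedBy ⟨cokernel.condition _, ⟨cokernelIsCokernel _⟩⟩)
      have e : g = cokernel.π (Formal.smulFamily J M) ≫ cokernel.desc _ g hg :=
        (cokernel.π_desc _ g hg).symm
      rw [e, ← Category.assoc, smulMod_naturality, Category.assoc, hk a ha, zero_comp, comp_zero]
    let g' : Q ⟶ T := c1.desc (CokernelCofork.ofπ g hg1)
    have hg' : π ≫ g' = g := c1.fac (CokernelCofork.ofπ g hg1) WalkingParallelPair.one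
    have hg2 : Formal.smulFamily J Q ≫ g' = 0 := by
      rw [smulFamily_comp_eq_zero_iff]
      intro a ha
      rw [← cancel_epi π, comp_zero, ← Category.assoc, ← smulMod_naturality, Category.assoc, hg']
      exact (smulFamily_comp_eq_zero_iff J g).mp hg a ha
    let g'' : R ⟶ T := c2.desc (CokernelCofork.ofπ g' hg2)
    have hg'' : ρ ≫ g'' = g' := c2.fac (CokernelCofork.ofπ g' hg2) WalkingParallelPair.one
    exact ⟨g'', by rw [Category.assoc, hg'', hg']⟩
  exact CokernelCofork.IsColimit.ofπ _ _ (fun g hg => (key g hg).choose)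
    (fun g hg => (key g hg).choose_spec)
    (fun g hg m hm => by
      rw [← cancel_epi (π ≫ ρ), hm, (key g hg).choose_spec])

variable (J : Ideal A) (m : ℕ → ℕ) (hm : Monotone m)

section Obj

variable (F : ℕᵒᵖ ⥤ X.Modules)

/-- `F_{m n} / J^(n+1) F_{m n}` -/
noncomputable def Θobj (n : ℕ) : X.Modules := Formal.modPow J (n + 1) (F.obj (op (m n)))

/-- the projection -/
noncomputable def q (n : ℕ) : F.obj (op (m n)) ⟶ Θobj J m F n := Formal.modPowπ J (n + 1) _

theorem isQuot_q (n : ℕ) : IsQuot (J ^ (n + 1)) (q J m F n) := isQuot_modPowπ J (n + 1) _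

instance (n : ℕ) : Epi (q J m F n) := (isQuot_q J m F n).epi

theorem killedBy_Θobj (n : ℕ) : Formal.KilledBy (J ^ (n + 1)) (Θobj J m F n) :=
  IsQuot.killedBy (isQuot_q J m F n)

/-- a morphism out of `F_{m n}` into a module killed by `J^(n+1)` descends. -/
theorem smulFamily_comp_eq_zero_of_killedBy {M T : X.Modules} {K : Ideal A} (g : M ⟶ T)
    (hT : Formal.KilledBy K T) : Formal.smulFamily K M ≫ g = 0 := by
  rw [smulFamily_comp_eq_zero_iff]
  intro a ha
  rw [smulMod_naturality, hT a ha, comp_zero]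

/-- descent along `q` -/
noncomputable def qdesc (n : ℕ) {T : X.Modules} (g : F.obj (op (m n)) ⟶ T)
    (hT : Formal.KilledBy (J ^ (n + 1)) T) : Θobj J m F n ⟶ T :=
  cokernel.desc _ g (smulFamily_comp_eq_zero_of_killedBy g hT)

@[reassoc]
theorem q_qdesc (n : ℕ) {T : X.Modules} (g : F.obj (op (m n)) ⟶ T)
    (hT : Formal.KilledBy (J ^ (n + 1)) T) : q J m F n ≫ qdesc J m F n g hT = g :=
  cokernel.π_desc _ _ _

include hm in
/-- the transition maps -/
noncomputable def Θmap (n : ℕ) : Θobj J m F (n + 1) ⟶ Θobj J m F n :=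
  qdesc J m F (n + 1) (tr F (hm (Nat.le_succ n)) ≫ q J m F n)
    (killedBy_mono (Ideal.pow_le_pow_right (Nat.le_succ (n + 1))) (killedBy_Θobj J m F n))

@[reassoc]
theorem q_Θmap (n : ℕ) :
    q J m F (n + 1) ≫ Θmap J m hm F n = tr F (hm (Nat.le_succ n)) ≫ q J m F n :=
  q_qdesc J m F (n + 1) _ _

/-- the re-indexed quotient system -/
noncomputable def Θsys : ℕᵒᵖ ⥤ X.Modules := Functor.ofOpSequence (Θmap J m hm F)

theorem Θsys_map_succ (n : ℕ) :
    (Θsys J m hm F).map (homOfLE (Nat.le_succ n)).op = Θmap J m hm F n :=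
  Functor.ofOpSequence_map_homOfLE_succ _ n

/-- the projection, with values in the system -/
noncomputable def qs (n : ℕ) : F.obj (op (m n)) ⟶ (Θsys J m hm F).obj (op n) := q J m F n

theorem isQuot_qs (n : ℕ) : IsQuot (J ^ (n + 1)) (qs J m hm F n) := isQuot_q J m F n

instance (n : ℕ) : Epi (qs J m hm F n) := (isQuot_qs J m hm F n).epi

/-- `q` is compatible with all transition maps. -/
theorem qs_tr {k l : ℕ} (h : k ≤ l) :
    qs J m hm F l ≫ tr (Θsys J m hm F) h = tr F (hm h) ≫ qs J m hm F k := by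
  change q J m F l ≫ tr (Θsys J m hm F) h = tr F (hm h) ≫ q J m F k
  induction l, h using Nat.le_induction with
  | base =>
    have h1 : tr (Θsys J m hm F) (le_refl k) = 𝟙 _ := FormalConst.tr_self _ k
    have h2 : tr F (hm (le_refl k)) = 𝟙 _ := FormalConst.tr_self F (m k)
    rw [h1, h2]
    exact (Category.comp_id _).trans (Category.id_comp _).symm
  | succ l h ih =>
    have e1 : tr (Θsys J m hm F) (h.trans (Nat.le_succ l)) =
        tr (Θsys J m hm F) (Nat.le_succ l) ≫ tr (Θsys J m hm F) h :=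
      (FormalConst.tr_comp (Θsys J m hm F) h (Nat.le_succ l)).symm
    have e2 : tr (Θsys J m hm F) (Nat.le_succ l) = Θmap J m hm F l := Θsys_map_succ J m hm F l
    have e3 : tr F (hm (h.trans (Nat.le_succ l))) =
        tr F (hm (Nat.le_succ l)) ≫ tr F (hm h) :=
      (FormalConst.tr_comp F (hm h) (hm (Nat.le_succ l))).symm
    rw [e1, e2, e3]
    have := q_Θmap J m hm F l
    calc q J m F (l + 1) ≫ Θmap J m hm F l ≫ tr (Θsys J m hm F) h
        = (q J m F (l + 1) ≫ Θmap J m hm F l) ≫ tr (Θsys J m hm F) h := by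
          rw [Category.assoc]
      _ = (tr F (hm (Nat.le_succ l)) ≫ q J m F l) ≫ tr (Θsys J m hm F) h := by rw [this]
      _ = tr F (hm (Nat.le_succ l)) ≫ (q J m F l ≫ tr (Θsys J m hm F) h) := by
          rw [Category.assoc]
      _ = tr F (hm (Nat.le_succ l)) ≫ tr F (hm h) ≫ q J m F k :=
          congrArg (fun t => tr F (hm (Nat.le_succ l)) ≫ t) ih
      _ = (tr F (hm (Nat.le_succ l)) ≫ tr F (hm h)) ≫ q J m F k := by rw [Category.assoc]

end Obj

section Hom

variable {F F' F'' : ℕᵒᵖ ⥤ X.Modules} (α : F ⟶ F') (β : F' ⟶ F'')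

/-- the induced map on quotients -/
noncomputable def Θhom (n : ℕ) : Θobj J m F n ⟶ Θobj J m F' n :=
  qdesc J m F n (α.app (op (m n)) ≫ q J m F' n) (killedBy_Θobj J m F' n)

@[reassoc]
theorem q_Θhom (n : ℕ) : q J m F n ≫ Θhom J m α n = α.app (op (m n)) ≫ q J m F' n :=
  q_qdesc J m F n _ _

theorem Θhom_nat (n : ℕ) :
    Θmap J m hm F n ≫ Θhom J m α n = Θhom J m α (n + 1) ≫ Θmap J m hm F' n := by
  rw [← cancel_epi (q J m F (n + 1)), q_Θmap_assoc, q_Θhom, q_Θhom_assoc, q_Θmap]
  rw [← Category.assoc, ← Category.assoc]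
  congr 1
  exact α.naturality (homOfLE (hm (Nat.le_succ n))).op

/-- the induced map of systems -/
noncomputable def ΘsysMap : Θsys J m hm F ⟶ Θsys J m hm F' :=
  NatTrans.ofOpSequence (F := Θsys J m hm F) (G := Θsys J m hm F') (fun n => Θhom J m α n)
    (fun n => by
      have h1 := Θsys_map_succ J m hm F n
      have h2 := Θsys_map_succ J m hm F' n
      change (Θsys J m hm F).map (homOfLE (Nat.le_succ n)).op ≫ Θhom J m α n =
        Θhom J m α (n + 1) ≫ (Θsys J m hm F').map (homOfLE (Nat.le_succ n)).op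
      rw [h1, h2]
      exact Θhom_nat J m hm α n)

theorem ΘsysMap_app (n : ℕ) : (ΘsysMap J m hm α).app (op n) = Θhom J m α n := rfl

theorem qs_ΘsysMap (n : ℕ) :
    qs J m hm F n ≫ (ΘsysMap J m hm α).app (op n) = α.app (op (m n)) ≫ qs J m hm F' n :=
  q_Θhom J m α n

theorem Θhom_id (n : ℕ) : Θhom J m (𝟙 F) n = 𝟙 _ := by
  rw [← cancel_epi (q J m F n), q_Θhom, NatTrans.id_app, Category.id_comp, Category.comp_id]

theorem Θhom_comp (n : ℕ) : Θhom J m (α ≫ β) n = Θhom J m α n ≫ Θhom J m β n := by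
  rw [← cancel_epi (q J m F n), q_Θhom, q_Θhom_assoc, q_Θhom, NatTrans.comp_app, Category.assoc]

end Hom

/-- the re-indexed quotient functor on all systems -/
noncomputable def Θ₀ : (ℕᵒᵖ ⥤ X.Modules) ⥤ (ℕᵒᵖ ⥤ X.Modules) where
  obj F := Θsys J m hm F
  map α := ΘsysMap J m hm α
  map_id F := by
    apply NatTrans.ext
    funext n
    exact Θhom_id J m n.unop
  map_comp α β := by
    apply NatTrans.ext
    funext n
    exact Θhom_comp J m α β n.unop

section Coh

variable (I : Ideal A)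
  (hD : ∀ (T : X.Modules) (n : ℕ), Formal.KilledBy (J ^ (n + 1)) T →
    Formal.KilledBy (I ^ (m n + 1)) T)

include hD in
theorem isQuot_tr_q {F : ℕᵒᵖ ⥤ X.Modules} (hF : Formal.IsCohFormal I F) {n k : ℕ}
    (h : m n ≤ k) : IsQuot (J ^ (n + 1)) (tr F h ≫ q J m F n) :=
  IsQuot.comp' (fun T hT => hD T n hT) (isQuot_tr' hF h) (isQuot_q J m F n)

include hD in
theorem isQuot_Θmap {F : ℕᵒᵖ ⥤ X.Modules} (hF : Formal.IsCohFormal I F) (n : ℕ) :
    IsQuot (J ^ (n + 1)) (Θmap J m hm F n) := by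
  apply IsQuot.of_epi_comp (q J m F (n + 1))
  rw [q_Θmap]
  exact isQuot_tr_q J m I hD hF _

include hD in
theorem isCohFormal_Θsys {F : ℕᵒᵖ ⥤ X.Modules} (hF : Formal.IsCohFormal I F) :
    Formal.IsCohFormal J (Θsys J m hm F) := by
  refine ⟨fun n => isCoh_modPow J (n + 1) (hF.1 (m n)), fun n => killedBy_Θobj J m F n,
    fun n => ?_⟩
  rw [← isQuot_iff, Θsys_map_succ]
  exact isQuot_Θmap J m hm I hD hF n

end Coh

section Composite

variable (I : Ideal A) (m' : ℕ → ℕ) (hm' : Monotone m')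
  (hD' : ∀ (T : X.Modules) (n : ℕ), Formal.KilledBy (I ^ (n + 1)) T →
    Formal.KilledBy (J ^ (m' n + 1)) T)
  (hle : ∀ n, n ≤ m (m' n))

section

variable (F : ℕᵒᵖ ⥤ X.Modules)

/-- the double projection `F_{m (m' n)} ⟶ (F_{m (m' n)} / J^(m' n + 1)) / I^(n+1)` -/
noncomputable def p (n : ℕ) : F.obj (op (m (m' n))) ⟶ Θobj I m' (Θsys J m hm F) n :=
  qs J m hm F (m' n) ≫ q I m' (Θsys J m hm F) n

instance (n : ℕ) : Epi (p J m hm I m' F n) := by
  unfold p
  infer_instance

include hD' in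
theorem isQuot_p (n : ℕ) : IsQuot (I ^ (n + 1)) (p J m hm I m' F n) :=
  IsQuot.comp' (fun T hT => hD' T n hT) (isQuot_qs J m hm F (m' n))
    (isQuot_q I m' (Θsys J m hm F) n)

theorem p_Θmap (n : ℕ) :
    p J m hm I m' F (n + 1) ≫ Θmap I m' hm' (Θsys J m hm F) n =
      tr F (hm (hm' (Nat.le_succ n))) ≫ p J m hm I m' F n := by
  unfold p
  rw [Category.assoc, q_Θmap, ← Category.assoc, qs_tr, Category.assoc]

end

section

variable {F F' : ℕᵒᵖ ⥤ X.Modules} (α : F ⟶ F')

theorem p_Θhom (n : ℕ) :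
    p J m hm I m' F n ≫ Θhom I m' (ΘsysMap J m hm α) n =
      α.app (op (m (m' n))) ≫ p J m hm I m' F' n := by
  unfold p
  rw [Category.assoc, q_Θhom, ← Category.assoc, qs_ΘsysMap, Category.assoc]

end

variable {F F' : ℕᵒᵖ ⥤ X.Modules} (hF : Formal.IsCohFormal I F) (hF' : Formal.IsCohFormal I F')

include hD' hF in
theorem exists_ε (n : ℕ) : ∃ e : Θobj I m' (Θsys J m hm F) n ≅ F.obj (op n),
    p J m hm I m' F n ≫ e.hom = tr F (hle n) :=
  IsQuot.exists_iso (isQuot_p J m hm I m' hD' F n) (isQuot_tr' hF (hle n))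

/-- the comparison isomorphism -/
noncomputable def ε (n : ℕ) : Θobj I m' (Θsys J m hm F) n ≅ F.obj (op n) :=
  (exists_ε J m hm I m' hD' hle hF n).choose

theorem p_ε (n : ℕ) : p J m hm I m' F n ≫ (ε J m hm I m' hD' hle hF n).hom = tr F (hle n) :=
  (exists_ε J m hm I m' hD' hle hF n).choose_spec

theorem ε_nat (n : ℕ) :
    Θmap I m' hm' (Θsys J m hm F) n ≫ (ε J m hm I m' hD' hle hF n).hom =
      (ε J m hm I m' hD' hle hF (n + 1)).hom ≫ F.map (homOfLE (Nat.le_succ n)).op := by
  rw [← cancel_epi (p J m hm I m' F (n + 1)), ← Category.assoc, p_Θmap, Category.assoc, p_ε,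
    ← Category.assoc, p_ε]
  have e1 := FormalConst.tr_comp F (hle n) (hm (hm' (Nat.le_succ n)))
  have e2 := FormalConst.tr_comp F (Nat.le_succ n) (hle (n + 1))
  exact e1.trans e2.symm

theorem ε_natF (α : F ⟶ F') (n : ℕ) :
    Θhom I m' (ΘsysMap J m hm α) n ≫ (ε J m hm I m' hD' hle hF' n).hom =
      (ε J m hm I m' hD' hle hF n).hom ≫ α.app (op n) := by
  rw [← cancel_epi (p J m hm I m' F n), ← Category.assoc, p_Θhom, Category.assoc, p_ε,
    ← Category.assoc, p_ε]
  exact (α.naturality (homOfLE (hle n)).op).symm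

/-- the comparison morphism of systems -/
noncomputable def εsys : Θsys I m' hm' (Θsys J m hm F) ⟶ F :=
  NatTrans.ofOpSequence (F := Θsys I m' hm' (Θsys J m hm F)) (G := F)
    (fun n => (ε J m hm I m' hD' hle hF n).hom)
    (fun n => by
      have h1 := Θsys_map_succ I m' hm' (Θsys J m hm F) n
      change (Θsys I m' hm' (Θsys J m hm F)).map (homOfLE (Nat.le_succ n)).op ≫ _ = _
      rw [h1]
      exact ε_nat J m hm I m' hm' hD' hle hF n)

theorem εsys_app (n : ℕ) :
    (εsys J m hm I m' hm' hD' hle hF).app (op n) = (ε J m hm I m' hD' hle hF n).hom := rfl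

theorem isIso_εsys : IsIso (εsys J m hm I m' hm' hD' hle hF) := by
  apply (config := { allowSynthFailures := true }) NatIso.isIso_of_isIso_app
  intro n
  have : (εsys J m hm I m' hm' hD' hle hF).app n =
      (ε J m hm I m' hD' hle hF n.unop).hom := rfl
  rw [this]
  infer_instance

end Composite

section Equivalence

variable (I J : Ideal A) (m m' : ℕ → ℕ) (hm : Monotone m) (hm' : Monotone m')
  (hD : ∀ (T : X.Modules) (n : ℕ), Formal.KilledBy (J ^ (n + 1)) T →
    Formal.KilledBy (I ^ (m n + 1)) T)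
  (hD' : ∀ (T : X.Modules) (n : ℕ), Formal.KilledBy (I ^ (n + 1)) T →
    Formal.KilledBy (J ^ (m' n + 1)) T)
  (hle : ∀ n, n ≤ m (m' n)) (hle' : ∀ n, n ≤ m' (m n))

/-- the functor `Coh(X, I) ⥤ Coh(X, J)`, `F ↦ (F_{m n} / J^(n+1))` -/
noncomputable def Θ : Formal2.CohFormalCat I X ⥤ Formal2.CohFormalCat J X :=
  ObjectProperty.lift _ (ObjectProperty.ι _ ⋙ Θ₀ J m hm)
    (fun F => isCohFormal_Θsys J m hm I hD F.property)

/-- the composite `Coh(X, I) ⥤ Coh(X, J) ⥤ Coh(X, I)` is isomorphic to the identity. -/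
noncomputable def compIso :
    Θ I J m hm hD ⋙ Θ J I m' hm' hD' ≅ 𝟭 (Formal2.CohFormalCat I X) :=
  NatIso.ofComponents
    (fun F => ObjectProperty.isoMk _
      (@asIso _ _ _ _ (εsys J m hm I m' hm' hD' hle F.property)
        (isIso_εsys J m hm I m' hm' hD' hle F.property)))
    (by
      intro F F' α
      apply ObjectProperty.hom_ext
      apply NatTrans.ext
      funext n
      exact ε_natF J m hm I m' hD' hle F.property F'.property α.hom n.unop)

/-- **The equivalence** `Coh(X, I) ≌ Coh(X, J)`. -/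
noncomputable def equivalence : Formal2.CohFormalCat I X ≌ Formal2.CohFormalCat J X :=
  CategoryTheory.Equivalence.mk (Θ I J m hm hD) (Θ J I m' hm' hD')
    (compIso I J m m' hm hm' hD hD' hle).symm
    (compIso J I m' m hm' hm hD' hD hle')

end Equivalence

end Groth.Agent.Lib.Helper49.FormalReindex
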