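import Mathlib

set_option autoImplicit false
open TensorProduct

namespace Groth.Agent.Lib.Helper49.GrAlg

/-- Two base changes of the same module along `A → B'` are identified by any `B'`-linear map
compatible with them. -/
theorem bijective_of_isBaseChange {A B' : Type*} [CommRing A] [CommRing B'] [Algebra A B']
    {M H G' : Type*} [AddCommGroup M] [Module A M]
    [AddCommGroup H] [Module A H] [Module B' H] [IsScalarTower A B' H]
    [AddCommGroup G'] [Module A G'] [Module B' G'] [IsScalarTower A B' G']
    (κ : M →ₗ[A] H) (hκ : IsBaseChange B' κ) (ν : M →ₗ[A] G') (hν : IsBaseChange B' ν)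
    (φ : H →ₗ[B'] G') (h : ∀ m, φ (κ m) = ν m) : Function.Bijective φ := by
  let ε : H ≃ₗ[B'] G' := hκ.equiv.symm ≪≫ₗ hν.equiv
  have hε : φ = ε.toLinearMap := by
    apply hκ.algHom_ext
    intro m
    rw [h]
    change ν m = hν.equiv (hκ.equiv.symm (κ m))
    rw [hκ.equiv_symm_apply, hν.equiv_tmul, one_smul]
  rw [hε]
  exact ε.bijective

/-- Over a flat algebra, a submodule of the ring is base-changed to its extension. -/
theorem isBaseChange_of_injective {A A' : Type*} [CommRing A] [CommRing A'] [Algebra A A']
    [Module.Flat A A'] {M M' : Type*} [AddCommGroup M] [Module A M]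
    [AddCommGroup M'] [Module A M'] [Module A' M'] [IsScalarTower A A' M']
    (ι : M →ₗ[A] A) (hι : Function.Injective ι) (ι' : M' →ₗ[A'] A') (μ : M →ₗ[A] M')
    (hμ : ∀ m, ι' (μ m) = algebraMap A A' (ι m))
    (hspan : Submodule.span A' (Set.range μ) = ⊤) : IsBaseChange A' μ := by
  let T : A' ⊗[A] M →ₗ[A'] M' := LinearMap.liftBaseChange A' μ
  have hT : ∀ (a : A') (m : M), T (a ⊗ₜ m) = a • μ m := fun a m => by
    simp [T]
  have hsurj : Function.Surjective T := by
    rw [← LinearMap.range_eq_top, eq_top_iff, ← hspan, Submodule.span_le]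
    rintro _ ⟨m, rfl⟩
    exact ⟨1 ⊗ₜ m, by rw [hT, one_smul]⟩
  have hinj : Function.Injective T := by
    have h1 : Function.Injective (LinearMap.lTensor A' ι) :=
      Module.Flat.lTensor_preserves_injective_linearMap ι hι
    have h2 : ∀ z : A' ⊗[A] M,
        ι' (T z) = (TensorProduct.rid A A') (LinearMap.lTensor A' ι z) := by
      intro z
      induction z using TensorProduct.induction_on with
      | zero => simp
      | tmul a m =>
        rw [hT, map_smul, hμ, LinearMap.lTensor_tmul, TensorProduct.rid_tmul, smul_eq_mul,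
          Algebra.smul_def, mul_comm]
      | add x y hx hy => simp only [map_add, hx, hy]
    intro z w hzw
    apply h1
    apply (TensorProduct.rid A A').injective
    rw [← h2, ← h2, hzw]
  exact IsBaseChange.of_equiv (LinearEquiv.ofBijective T ⟨hinj, hsurj⟩)
    (fun m => by
      change T (1 ⊗ₜ m) = μ m
      rw [hT, one_smul])

end Groth.Agent.Lib.Helper49.GrAlg
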