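import Mathlib

set_option autoImplicit false
open TensorProduct

namespace Groth.Agent.Lib.Helper49.GrAlg

/-- Variant of `isBaseChange_of_injective` with the injectivity of `A' ⊗ M → A' ⊗ A` as a
hypothesis instead of flatness. -/
theorem isBaseChange_of_lTensor_injective {A A' : Type*} [CommRing A] [CommRing A'] [Algebra A A']
    {M M' : Type*} [AddCommGroup M] [Module A M]
    [AddCommGroup M'] [Module A M'] [Module A' M'] [IsScalarTower A A' M']
    (ι : M →ₗ[A] A) (h1 : Function.Injective (LinearMap.lTensor A' ι)) (ι' : M' →ₗ[A'] A')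
    (μ : M →ₗ[A] M')
    (hμ : ∀ m, ι' (μ m) = algebraMap A A' (ι m))
    (hspan : Submodule.span A' (Set.range μ) = ⊤) : IsBaseChange A' μ := by
  let T : A' ⊗[A] M →ₗ[A'] M' := LinearMap.liftBaseChange A' μ
  have hT : ∀ (a : A') (m : M), T (a ⊗ₜ m) = a • μ m := fun a m => by
    simp [T]
  have hsurj : Function.Surjective T := by
    rw [← LinearMap.range_eq_top, eq_top_iff, ← hspan, Submodule.span_le]
    rintro _ ⟨m, rfl⟩
    exact ⟨1 ⊗ₜ m, by rw [hT, one_smul]⟩
  have hinj : Function.Injective T := by
    have h2 : ∀ z : A' ⊗[A] M,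
        ι' (T z) = (TensorProduct.rid A A') (LinearMap.lTensor A' ι z) := by
      intro z
      induction z using TensorProduct.induction_on with
      | zero => simp
      | tmul a m =>
        rw [hT, map_smul, hμ, LinearMap.lTensor_tmul, TensorProduct.rid_tmul, smul_eq_mul,
          Algebra.smul_def, mul_comm]
      | add x y hx hy => simp only [map_add, hx, hy]
    intro z w hzw
    apply h1
    apply (TensorProduct.rid A A').injective
    rw [← h2, ← h2, hzw]
  exact IsBaseChange.of_equiv (LinearEquiv.ofBijective T ⟨hinj, hsurj⟩)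
    (fun m => by
      change T (1 ⊗ₜ m) = μ m
      rw [hT, one_smul])

/-- Pushout trick: if `A' = B' ⊗[B] A`, injectivity of `B' ⊗[B] M → B' ⊗[B] A` gives injectivity
of `A' ⊗[A] M → A' ⊗[A] A`. -/
theorem lTensor_injective_of_isPushout {B B' A A' : Type*} [CommRing B] [CommRing B']
    [CommRing A] [CommRing A'] [Algebra B B'] [Algebra B A] [Algebra A A'] [Algebra B' A']
    [Algebra B A'] [IsScalarTower B A A'] [IsScalarTower B B' A'] [Algebra.IsPushout B B' A A']
    {M : Type*} [AddCommGroup M] [Module B M] [Module A M] [IsScalarTower B A M]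
    (ι : M →ₗ[A] A)
    (h : Function.Injective (LinearMap.lTensor B' (ι.restrictScalars B))) :
    Function.Injective (LinearMap.lTensor A' ι) := by
  let cM := Algebra.IsPushout.cancelBaseChange B B' A A' M
  let cA := Algebra.IsPushout.cancelBaseChange B B' A A' A
  have hnat : ∀ z : B' ⊗[B] M, LinearMap.lTensor A' ι (cM.symm z) =
      cA.symm (LinearMap.lTensor B' (ι.restrictScalars B) z) := by
    intro z
    induction z using TensorProduct.induction_on with
    | zero => simp
    | tmul b m =>
      simp [cM, cA]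
    | add x y hx hy => simp only [map_add, hx, hy]
  intro z w hzw
  apply cM.injective
  apply h
  apply cA.symm.injective
  rw [← hnat, ← hnat, LinearEquiv.symm_apply_apply, LinearEquiv.symm_apply_apply, hzw]

/-- The kernel of a base change along a surjective ring map `R → S` is `ker(R → S) • M`. -/
theorem ker_eq_smul_top_of_isBaseChange {R S : Type*} [CommRing R] [CommRing S] [Algebra R S]
    (hS : Function.Surjective (algebraMap R S)) {M N : Type*} [AddCommGroup M] [Module R M]
    [AddCommGroup N] [Module R N] [Module S N] [IsScalarTower R S N]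
    (f : M →ₗ[R] N) (hf : IsBaseChange S f) :
    LinearMap.ker f = (RingHom.ker (algebraMap R S)) • (⊤ : Submodule R M) := by
  let I := RingHom.ker (algebraMap R S)
  let e : (R ⧸ I) ≃ₐ[R] S := Ideal.quotientKerAlgEquivOfSurjective (f := Algebra.ofId R S) hS
  let c : (R ⧸ I) ⊗[R] M ≃ₗ[R] S ⊗[R] M :=
    TensorProduct.congr e.toLinearEquiv (LinearEquiv.refl R M)
  ext m
  rw [← LinearMap.ker_tensorProductMk (I := I) (Q := M), LinearMap.mem_ker, LinearMap.mem_ker]
  have h1 : f m = hf.equiv (c (TensorProduct.mk R (R ⧸ I) M 1 m)) := by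
    change f m = hf.equiv (c ((1 : R ⧸ I) ⊗ₜ m))
    have : c ((1 : R ⧸ I) ⊗ₜ m) = (1 : S) ⊗ₜ m := by
      simp [c]
    rw [this, hf.equiv_tmul, one_smul]
  rw [h1]
  constructor
  · intro h
    have h2 := hf.equiv.injective (h.trans (map_zero _).symm)
    exact c.injective (h2.trans (map_zero _).symm)
  · intro h
    rw [h, map_zero, map_zero]

end Groth.Agent.Lib.Helper49.GrAlg
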