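import Mathlib
import Groth.Prelude.Def_OmegaPn
import Groth.Agent.Lib.Helper51.OmegaUniv.Conormal
import Groth.Agent.Lib.Helper49.InfNbhdPullback

set_option autoImplicit false
set_option linter.style.haveILetI false
universe u
open AlgebraicGeometry CategoryTheory Limits TopologicalSpace Opposite TensorProduct OmegaSh

namespace Groth.Agent.Lib.Helper49.GrChart

open PrinPart Groth.Agent.Lib.Helper49 Groth.Agent.Lib.Helper49.UnitChart Groth.Agent.Lib.Helper45
  Groth.Agent.Lib.Helper51.OmegaUniv Groth.Agent.Lib.Helper49.InfNbhdPullback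

section Exists

variable {X X' : Scheme.{u}}

/-- Sections of an ideal sheaf pull back to sections of any ideal sheaf containing the inverse
image ideal sheaf. -/
theorem exists_idealSect_comap (v : X' ⟶ X) (J : X.IdealSheafData) (J' : X'.IdealSheafData)
    (hJ : J.comap v ≤ J') (U : X.Opens) (s' : Γ(ClSub.idealMod J, U)) :
    ∃ s : Γ(ClSub.idealMod J', v ⁻¹ᵁ U), idealSect J' (v ⁻¹ᵁ U) s = v.app U (idealSect J U s') := by
  have hle : J ≤ J'.map v := Scheme.IdealSheafData.le_map_iff_comap_le.mpr hJ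
  let w := Scheme.IdealSheafData.subschemeMap J' J v hle
  have hw : w ≫ J.subschemeι = J'.subschemeι ≫ v :=
    Scheme.IdealSheafData.subschemeMap_subschemeι _ _ _ _
  have h0 : J.subschemeι.app U (idealSect J U s') = 0 :=
    ((idealModι_app_exact J U) _).2 ⟨s', rfl⟩
  have key : ∀ (p q : J'.subscheme ⟶ X) (_ : p = q), p.app U (idealSect J U s') = 0 →
      q.app U (idealSect J U s') = 0 := by
    rintro _ _ rfl h
    exact h
  have h1 : (J'.subschemeι ≫ v).app U (idealSect J U s') = 0 := by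
    apply key _ _ hw
    change (w.app (J.subschemeι ⁻¹ᵁ U)) (J.subschemeι.app U (idealSect J U s')) = 0
    rw [h0, map_zero]
  have h2 : (ClSub.toSubscheme J').app (v ⁻¹ᵁ U) (v.app U (idealSect J U s')) = 0 := h1
  obtain ⟨s, hs⟩ := ((idealModι_app_exact J' (v ⁻¹ᵁ U)) _).1 h2
  exact ⟨s, hs⟩

end Exists

section Ideal

variable {X : Scheme.{u}}

theorem idealSect_mres (I : X.IdealSheafData) {U V : X.Opens} (h : V ≤ U)
    (s : Γ(ClSub.idealMod I, U)) :
    idealSect I V (mres (ClSub.idealMod I) h s) =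
      X.presheaf.map (homOfLE h).op (idealSect I U s) :=
  (Groth.Agent.Lib.Helper11.GenLocus.app_res (ClSub.idealModι I) h s).symm

theorem idealSect_add (I : X.IdealSheafData) (U : X.Opens) (s t : Γ(ClSub.idealMod I, U)) :
    idealSect I U (s + t) = idealSect I U s + idealSect I U t :=
  map_add (idealSect I U) s t

theorem exists_idealSect_of_mem (I : X.IdealSheafData) {U : X.Opens} (hU : IsAffineOpen U)
    (a : Γ(X, U)) (ha : a ∈ I.ideal ⟨U, hU⟩) :
    ∃ s : Γ(ClSub.idealMod I, U), idealSect I U s = a :=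
  (mem_ideal_iff_exists_section I ⟨U, hU⟩ a).1 ha

theorem idealSect_mem (I : X.IdealSheafData) {U : X.Opens} (hU : IsAffineOpen U)
    (s : Γ(ClSub.idealMod I, U)) : idealSect I U s ∈ I.ideal ⟨U, hU⟩ :=
  idealModι_app_mem I ⟨U, hU⟩ s

end Ideal

section Chart

variable {Y X Y' X' : Scheme.{u}} (f : Y ⟶ X) (f' : Y' ⟶ X') (v : X' ⟶ X) (u : Y' ⟶ Y) (n : ℕ)
  {φ : (Scheme.Modules.pullback u).obj (grMod f n) ⟶ grMod f' n}

/-- Pinned value of a map of graded pieces. -/
theorem grMap_app_gen (hφ : IsGrMap f' f v u n φ) (U : X.Opens)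
    (s' : Γ(ClSub.idealMod (f.ker ^ n), U)) (s : Γ(ClSub.idealMod (f'.ker ^ n), v ⁻¹ᵁ U))
    (hs : idealSect (f'.ker ^ n) (v ⁻¹ᵁ U) s = v.app U (idealSect (f.ker ^ n) U s'))
    (W : Y'.Opens) (h₁ : W ≤ u ⁻¹ᵁ (f ⁻¹ᵁ U)) (h₂ : W ≤ f' ⁻¹ᵁ (v ⁻¹ᵁ U)) :
    φ.app W (pullSLE u (grMod f n) (f ⁻¹ᵁ U) W h₁ (grSect f n U s')) =
      pullSLE f' (ClSub.idealMod (f'.ker ^ n)) (v ⁻¹ᵁ U) W h₂ s := by
  have h := hφ.2 U s' s hs W h₁ h₂
  refine Eq.trans ?_ h
  exact (Groth.Agent.Lib.Helper11.GenLocus.app_res φ h₁ _).symm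

theorem ideal_pow_eq_map [IsClosedImmersion f] (hker : f'.ker = f.ker.comap v)
    {U : X.Opens} (hU : IsAffineOpen U) {U' : X'.Opens} (hU' : IsAffineOpen U')
    (hle : U' ≤ v ⁻¹ᵁ U) :
    (f'.ker ^ n).ideal ⟨U', hU'⟩ =
      ((f.ker ^ n).ideal ⟨U, hU⟩).map (v.appLE U U' hle).hom := by
  rw [hker, ← comap_pow]
  exact Groth.Agent.Lib.Helper18.ideal_comap_of_le v (f.ker ^ n) ⟨U', hU'⟩ ⟨U, hU⟩ hle

/-- On charts, the canonical map of graded pieces is surjective. -/
theorem grMap_app_surjective [IsClosedImmersion f] [IsClosedImmersion f']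
    (hφ : IsGrMap f' f v u n φ) (hker : f'.ker = f.ker.comap v)
    {U : X.Opens} (hU : IsAffineOpen U) {U' : X'.Opens} (hU' : IsAffineOpen U')
    (hle : U' ≤ v ⁻¹ᵁ U) :
    Function.Surjective (φ.app (f' ⁻¹ᵁ U')) := by
  have hW' : IsAffineOpen (f' ⁻¹ᵁ U') := hU'.preimage f'
  have hW'W : f' ⁻¹ᵁ U' ≤ u ⁻¹ᵁ (f ⁻¹ᵁ U) := by
    intro y hy
    change f (u y) ∈ U
    rw [← Scheme.Hom.comp_apply, hφ.1, Scheme.Hom.comp_apply]
    exact hle hy
  have hW'2 : f' ⁻¹ᵁ U' ≤ f' ⁻¹ᵁ (v ⁻¹ᵁ U) := fun y hy => hle hy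
  -- the submodule of sections `m'` whose class lies in the range
  let R : Submodule Γ(Y', f' ⁻¹ᵁ U') Γ(grMod f' n, f' ⁻¹ᵁ U') :=
    LinearMap.range (appₗ φ (f' ⁻¹ᵁ U'))
  let N : Submodule Γ(X', U') Γ(ClSub.idealMod (f'.ker ^ n), U') :=
    { carrier := {m' | pullSLE f' (ClSub.idealMod (f'.ker ^ n)) U' (f' ⁻¹ᵁ U') le_rfl m' ∈ R}
      add_mem' := by
        intro a b ha hb
        change pullSLE f' _ U' _ le_rfl (a + b) ∈ R
        rw [pullSLE_add]
        exact R.add_mem ha hb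
      zero_mem' := by
        change pullSLE f' _ U' _ le_rfl 0 ∈ R
        have h0 : pullSLE f' (ClSub.idealMod (f'.ker ^ n)) U' (f' ⁻¹ᵁ U') le_rfl 0 = 0 := by
          have := pullSLE_add f' (ClSub.idealMod (f'.ker ^ n)) U' (f' ⁻¹ᵁ U') le_rfl 0 0
          rw [add_zero] at this
          exact left_eq_add.mp this
        rw [h0]
        exact R.zero_mem
      smul_mem' := by
        intro c a ha
        change pullSLE f' _ U' _ le_rfl (c • a) ∈ R
        rw [pullSLE_smul]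
        exact R.smul_mem _ ha }
  have hgen : ∀ s' : Γ(ClSub.idealMod (f.ker ^ n), U),
      ∀ m' : Γ(ClSub.idealMod (f'.ker ^ n), U'),
        idealSect (f'.ker ^ n) U' m' = v.appLE U U' hle (idealSect (f.ker ^ n) U s') → m' ∈ N := by
    intro s' m' hm'
    obtain ⟨s, hs⟩ := exists_idealSect_comap v (f.ker ^ n) (f'.ker ^ n)
      (by rw [hker, comap_pow]) U s'
    have e1 : m' = mres _ hle s := by
      apply idealSect_injective
      rw [hm', idealSect_mres, hs]
      rfl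
    change pullSLE f' _ U' _ le_rfl m' ∈ R
    rw [e1, pullSLE_mres]
    rw [← grMap_app_gen f f' v u n hφ U s' s hs (f' ⁻¹ᵁ U') hW'W hW'2]
    exact ⟨_, rfl⟩
  have hI : ∀ x : Γ(X', U'), x ∈ (f'.ker ^ n).ideal ⟨U', hU'⟩ ↔
      x ∈ Submodule.span Γ(X', U')
        ((v.appLE U U' hle).hom '' ((f.ker ^ n).ideal ⟨U, hU⟩ : Set Γ(X, U))) := by
    intro x
    rw [ideal_pow_eq_map f f' v n hker hU hU' hle]
    rfl
  have hspan : ∀ x ∈ Submodule.span Γ(X', U')
        ((v.appLE U U' hle).hom '' ((f.ker ^ n).ideal ⟨U, hU⟩ : Set Γ(X, U))),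
      ∀ m' : Γ(ClSub.idealMod (f'.ker ^ n), U'), idealSect (f'.ker ^ n) U' m' = x → m' ∈ N := by
    intro x hx
    refine Submodule.span_induction
      (p := fun x _ => ∀ m' : Γ(ClSub.idealMod (f'.ker ^ n), U'),
        idealSect (f'.ker ^ n) U' m' = x → m' ∈ N) ?_ ?_ ?_ ?_ hx
    · rintro _ ⟨a, ha, rfl⟩ m' hm'
      obtain ⟨s', hs'⟩ := exists_idealSect_of_mem (f.ker ^ n) hU a ha
      exact hgen s' m' (by rw [hm', hs'])
    · intro m' hm'
      have : m' = 0 := by
        apply idealSect_injective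
        rw [hm', map_zero]
      rw [this]
      exact N.zero_mem
    · intro x y hx hy ihx ihy m' hm'
      obtain ⟨mx, hmx⟩ := exists_idealSect_of_mem (f'.ker ^ n) hU' x ((hI x).2 hx)
      obtain ⟨my, hmy⟩ := exists_idealSect_of_mem (f'.ker ^ n) hU' y ((hI y).2 hy)
      have : m' = mx + my := by
        apply idealSect_injective
        rw [hm', idealSect_add, hmx, hmy]
      rw [this]
      exact N.add_mem (ihx mx hmx) (ihy my hmy)
    · intro a x hx ihx m' hm'
      obtain ⟨mx, hmx⟩ := exists_idealSect_of_mem (f'.ker ^ n) hU' x ((hI x).2 hx)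
      have : m' = a • mx := by
        apply idealSect_injective
        rw [hm', idealSect_smul, hmx]
        rfl
      rw [this]
      exact N.smul_mem a (ihx mx hmx)
  have hN : ∀ (x : Γ(X', U')) (_ : x ∈ (f'.ker ^ n).ideal ⟨U', hU'⟩)
      (m' : Γ(ClSub.idealMod (f'.ker ^ n), U')), idealSect (f'.ker ^ n) U' m' = x → m' ∈ N :=
    fun x hx => hspan x ((hI x).1 hx)
  intro t
  letI := (f'.appLE U' (f' ⁻¹ᵁ U') le_rfl).hom.toAlgebra
  obtain ⟨e, he⟩ := exists_tensor_sections_equiv f' (ClSub.idealMod (f'.ker ^ n)) hU' hW'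
    (le_refl (f' ⁻¹ᵁ U'))
  have hsurj : Function.Surjective (algebraMap Γ(X', U') Γ(Y', f' ⁻¹ᵁ U')) := by
    intro b
    obtain ⟨a, ha⟩ := f'.app_surjective U' hU' b
    refine ⟨a, ?_⟩
    change (f'.appLE U' (f' ⁻¹ᵁ U') le_rfl).hom a = b
    rw [Scheme.Hom.appLE_eq_app]
    exact ha
  obtain ⟨m', hm'⟩ := exists_one_tmul hsurj (e.symm t)
  have ht : t = pullSLE f' (ClSub.idealMod (f'.ker ^ n)) U' (f' ⁻¹ᵁ U') le_rfl m' := by
    have := he 1 m'
    rw [← hm', LinearEquiv.apply_symm_apply, one_smul] at this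
    exact this
  have hmem : m' ∈ N := hN _ (idealSect_mem (f'.ker ^ n) hU' m') m' rfl
  obtain ⟨z, hz⟩ := hmem
  exact ⟨z, hz.trans ht.symm⟩

instance isQuasicoherent_grMod : (grMod f n).IsQuasicoherent :=
  Groth.Agent.Lib.Helper16.FlatPull.isQuasicoherent_pullback f _

theorem isQuasicoherent_pullback_grMod :
    ((Scheme.Modules.pullback u).obj (grMod f n)).IsQuasicoherent :=
  Groth.Agent.Lib.Helper16.FlatPull.isQuasicoherent_pullback u _

/-- The canonical map of graded pieces is an epimorphism when `I' = I · O_{X'}`. -/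
theorem epi_grMap [IsClosedImmersion f] [IsClosedImmersion f']
    (hφ : IsGrMap f' f v u n φ) (hker : f'.ker = f.ker.comap v) : Epi φ := by
  haveI := isQuasicoherent_pullback_grMod f u n
  apply epi_of_app_surjective_of_cover
  intro y'
  obtain ⟨U, hU, hxU, -⟩ := exists_isAffineOpen_mem_and_subset (x := v (f' y')) (U := ⊤) trivial
  obtain ⟨U', hU', hxU', hle⟩ := exists_isAffineOpen_mem_and_subset (x := f' y')
    (U := v ⁻¹ᵁ U) hxU
  exact ⟨f' ⁻¹ᵁ U', hU'.preimage f', hxU',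
    grMap_app_surjective f f' v u n hφ hker hU hU' hle⟩

theorem epi_grMap_of_isPullback [IsClosedImmersion f]
    (hsq : IsPullback u f' f v) (hφ : IsGrMap f' f v u n φ) : Epi φ := by
  haveI : IsClosedImmersion f' := MorphismProperty.of_isPullback hsq inferInstance
  exact epi_grMap f f' v u n hφ (ker_of_isPullback f v u f' hsq)

end Chart

end Groth.Agent.Lib.Helper49.GrChart
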