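import Mathlib
import Groth.Prelude.Def_OmegaPn
import Groth.Agent.Lib.Helper49.GrChart2
import Groth.Agent.Lib.Helper49.GrAlg2

set_option autoImplicit false
set_option linter.style.haveILetI false
universe u
open AlgebraicGeometry CategoryTheory Limits TopologicalSpace Opposite TensorProduct OmegaSh

namespace Groth.Agent.Lib.Helper49.GrChart

open PrinPart Groth.Agent.Lib.Helper49 Groth.Agent.Lib.Helper49.UnitChart Groth.Agent.Lib.Helper45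
  Groth.Agent.Lib.Helper51.OmegaUniv Groth.Agent.Lib.Helper49.InfNbhdPullback

/-- `idealSect` as a linear map. -/
noncomputable def idealSectₗ {X : Scheme.{u}} (I : X.IdealSheafData) (U : X.Opens) :
    Γ(ClSub.idealMod I, U) →ₗ[Γ(X, U)] Γ(X, U) where
  toFun := idealSect I U
  map_add' := idealSect_add I U
  map_smul' := fun a s => idealSect_smul I U a s

theorem idealSectₗ_apply {X : Scheme.{u}} (I : X.IdealSheafData) (U : X.Opens)
    (s : Γ(ClSub.idealMod I, U)) : idealSectₗ I U s = idealSect I U s := rfl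

section Chart3

variable {Y X Y' X' : Scheme.{u}} (f : Y ⟶ X) (f' : Y' ⟶ X') (v : X' ⟶ X) (u : Y' ⟶ Y) (n : ℕ)

/-- On charts, the canonical map of graded pieces is bijective when `A' ⊗ I^n → A' ⊗ A` is
injective. -/
theorem grMap_app_bijective_of_injective [IsClosedImmersion f] [IsClosedImmersion f']
    (φ : (Scheme.Modules.pullback u).obj
        ((Scheme.Modules.pullback f).obj (ClSub.idealMod (f.ker ^ n))) ⟶
      (Scheme.Modules.pullback f').obj (ClSub.idealMod (f'.ker ^ n)))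
    (hφ : IsGrMap f' f v u n φ) (hker : f'.ker = f.ker.comap v)
    {U : X.Opens} (hU : IsAffineOpen U) {U' : X'.Opens} (hU' : IsAffineOpen U')
    (hle : U' ≤ v ⁻¹ᵁ U)
    (hinj : letI := (v.appLE U U' hle).hom.toAlgebra
      Function.Injective (LinearMap.lTensor Γ(X', U') (idealSectₗ (f.ker ^ n) U))) :
    Function.Bijective (φ.app (f' ⁻¹ᵁ U')) := by
  have hW : IsAffineOpen (f ⁻¹ᵁ U) := hU.preimage f
  have hW' : IsAffineOpen (f' ⁻¹ᵁ U') := hU'.preimage f'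
  have hW'W : f' ⁻¹ᵁ U' ≤ u ⁻¹ᵁ (f ⁻¹ᵁ U) := by
    intro y hy
    change f (u y) ∈ U
    rw [← Scheme.Hom.comp_apply, hφ.1, Scheme.Hom.comp_apply]
    exact hle hy
  have hW'2 : f' ⁻¹ᵁ U' ≤ f' ⁻¹ᵁ (v ⁻¹ᵁ U) := fun y hy => hle hy
  let α : Γ(X, U) →+* Γ(X', U') := (v.appLE U U' hle).hom
  let π : Γ(X, U) →+* Γ(Y, f ⁻¹ᵁ U) := (f.appLE U (f ⁻¹ᵁ U) le_rfl).hom
  let π' : Γ(X', U') →+* Γ(Y', f' ⁻¹ᵁ U') := (f'.appLE U' (f' ⁻¹ᵁ U') le_rfl).hom
  let β : Γ(Y, f ⁻¹ᵁ U) →+* Γ(Y', f' ⁻¹ᵁ U') := (u.appLE (f ⁻¹ᵁ U) (f' ⁻¹ᵁ U') hW'W).hom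
  have hcomm : β.comp π = π'.comp α := by
    have h1 : f.appLE U (f ⁻¹ᵁ U) le_rfl ≫ u.appLE (f ⁻¹ᵁ U) (f' ⁻¹ᵁ U') hW'W =
        (u ≫ f).appLE U (f' ⁻¹ᵁ U') hW'W := Scheme.Hom.appLE_comp_appLE _ _ _ _ _ _ _
    have h2 : v.appLE U U' hle ≫ f'.appLE U' (f' ⁻¹ᵁ U') le_rfl =
        (f' ≫ v).appLE U (f' ⁻¹ᵁ U') hW'2 := Scheme.Hom.appLE_comp_appLE _ _ _ _ _ _ _
    have h3 : (u ≫ f).appLE U (f' ⁻¹ᵁ U') hW'W = (f' ≫ v).appLE U (f' ⁻¹ᵁ U') hW'2 :=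
      appLE_congr hφ.1 _ _ _
    have h4 := h1.trans (h3.trans h2.symm)
    exact congrArg (fun k => k.hom) h4
  letI algAA' : Algebra Γ(X, U) Γ(X', U') := α.toAlgebra
  letI algAB : Algebra Γ(X, U) Γ(Y, f ⁻¹ᵁ U) := π.toAlgebra
  letI algA'B' : Algebra Γ(X', U') Γ(Y', f' ⁻¹ᵁ U') := π'.toAlgebra
  letI algBB' : Algebra Γ(Y, f ⁻¹ᵁ U) Γ(Y', f' ⁻¹ᵁ U') := β.toAlgebra
  letI algAB' : Algebra Γ(X, U) Γ(Y', f' ⁻¹ᵁ U') := (π'.comp α).toAlgebra
  haveI tAA'B' : IsScalarTower Γ(X, U) Γ(X', U') Γ(Y', f' ⁻¹ᵁ U') :=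
    IsScalarTower.of_algebraMap_eq' rfl
  haveI tABB' : IsScalarTower Γ(X, U) Γ(Y, f ⁻¹ᵁ U) Γ(Y', f' ⁻¹ᵁ U') :=
    IsScalarTower.of_algebraMap_eq' hcomm.symm
  -- module structures
  letI mAG : Module Γ(X, U) Γ((Scheme.Modules.pullback f).obj (ClSub.idealMod (f.ker ^ n)), f ⁻¹ᵁ U) := Module.compHom _ π
  haveI tABG : IsScalarTower Γ(X, U) Γ(Y, f ⁻¹ᵁ U) Γ((Scheme.Modules.pullback f).obj (ClSub.idealMod (f.ker ^ n)), f ⁻¹ᵁ U) :=
    IsScalarTower.of_compHom _ _ _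
  letI mBH : Module Γ(Y, f ⁻¹ᵁ U) Γ((Scheme.Modules.pullback u).obj
      ((Scheme.Modules.pullback f).obj (ClSub.idealMod (f.ker ^ n))), f' ⁻¹ᵁ U') :=
    Module.compHom _ β
  haveI tBB'H : IsScalarTower Γ(Y, f ⁻¹ᵁ U) Γ(Y', f' ⁻¹ᵁ U')
      Γ((Scheme.Modules.pullback u).obj
      ((Scheme.Modules.pullback f).obj (ClSub.idealMod (f.ker ^ n))), f' ⁻¹ᵁ U') :=
    IsScalarTower.of_compHom _ _ _
  letI mAH : Module Γ(X, U) Γ((Scheme.Modules.pullback u).obj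
      ((Scheme.Modules.pullback f).obj (ClSub.idealMod (f.ker ^ n))), f' ⁻¹ᵁ U') :=
    Module.compHom _ (π'.comp α)
  haveI tAB'H : IsScalarTower Γ(X, U) Γ(Y', f' ⁻¹ᵁ U')
      Γ((Scheme.Modules.pullback u).obj
      ((Scheme.Modules.pullback f).obj (ClSub.idealMod (f.ker ^ n))), f' ⁻¹ᵁ U') :=
    IsScalarTower.of_compHom _ _ _
  haveI tABH : IsScalarTower Γ(X, U) Γ(Y, f ⁻¹ᵁ U)
      Γ((Scheme.Modules.pullback u).obj
      ((Scheme.Modules.pullback f).obj (ClSub.idealMod (f.ker ^ n))), f' ⁻¹ᵁ U') := by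
    refine ⟨fun a b h => ?_⟩
    change β (π a * b) • h = (π'.comp α) a • (β b • h)
    rw [map_mul, mul_smul]
    exact congrArg (fun k => k a • (β b • h)) hcomm
  letI mAM' : Module Γ(X, U) Γ(ClSub.idealMod (f'.ker ^ n), U') := Module.compHom _ α
  haveI tAA'M' : IsScalarTower Γ(X, U) Γ(X', U') Γ(ClSub.idealMod (f'.ker ^ n), U') :=
    IsScalarTower.of_compHom _ _ _
  letI mA'G' : Module Γ(X', U') Γ((Scheme.Modules.pullback f').obj (ClSub.idealMod (f'.ker ^ n)), f' ⁻¹ᵁ U') := Module.compHom _ π'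
  haveI tA'B'G' : IsScalarTower Γ(X', U') Γ(Y', f' ⁻¹ᵁ U') Γ((Scheme.Modules.pullback f').obj (ClSub.idealMod (f'.ker ^ n)), f' ⁻¹ᵁ U') :=
    IsScalarTower.of_compHom _ _ _
  letI mAG' : Module Γ(X, U) Γ((Scheme.Modules.pullback f').obj (ClSub.idealMod (f'.ker ^ n)), f' ⁻¹ᵁ U') := Module.compHom _ (π'.comp α)
  haveI tAB'G' : IsScalarTower Γ(X, U) Γ(Y', f' ⁻¹ᵁ U') Γ((Scheme.Modules.pullback f').obj (ClSub.idealMod (f'.ker ^ n)), f' ⁻¹ᵁ U') :=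
    IsScalarTower.of_compHom _ _ _
  haveI tAA'G' : IsScalarTower Γ(X, U) Γ(X', U') Γ((Scheme.Modules.pullback f').obj (ClSub.idealMod (f'.ker ^ n)), f' ⁻¹ᵁ U') := by
    refine ⟨fun a a' g => ?_⟩
    change π' (α a * a') • g = (π'.comp α) a • (π' a' • g)
    rw [map_mul, mul_smul]
    rfl
  haveI qG : ((Scheme.Modules.pullback f).obj
      (ClSub.idealMod (f.ker ^ n))).IsQuasicoherent := isQuasicoherent_grMod f n
  obtain ⟨κ₁, hκ₁eq, hκ₁⟩ := exists_isBaseChange_pullSLE f hU hW (le_refl _)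
    (ClSub.idealMod (f.ker ^ n))
  obtain ⟨κ₂, hκ₂eq, hκ₂⟩ := exists_isBaseChange_pullSLE u hW hW' hW'W
    ((Scheme.Modules.pullback f).obj (ClSub.idealMod (f.ker ^ n)))
  obtain ⟨κ', hκ'eq, hκ'⟩ := exists_isBaseChange_pullSLE f' hU' hW' (le_refl _)
    (ClSub.idealMod (f'.ker ^ n))
  have hκ : IsBaseChange Γ(Y', f' ⁻¹ᵁ U') ((κ₂.restrictScalars Γ(X, U)).comp κ₁) :=
    IsBaseChange.comp hκ₁ hκ₂
  let μf : Γ(ClSub.idealMod (f.ker ^ n), U) → Γ(ClSub.idealMod (f'.ker ^ n), U') :=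
    fun s' => (exists_mu f f' v n hker U U' hle s').choose
  have hμf : ∀ s', idealSect (f'.ker ^ n) U' (μf s') = α (idealSect (f.ker ^ n) U s') :=
    fun s' => (exists_mu f f' v n hker U U' hle s').choose_spec.1
  have hμf2 : ∀ s', ∃ s : Γ(ClSub.idealMod (f'.ker ^ n), v ⁻¹ᵁ U),
      idealSect (f'.ker ^ n) (v ⁻¹ᵁ U) s = v.app U (idealSect (f.ker ^ n) U s') ∧
        μf s' = mres _ hle s :=
    fun s' => (exists_mu f f' v n hker U U' hle s').choose_spec.2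
  let μ : Γ(ClSub.idealMod (f.ker ^ n), U) →ₗ[Γ(X, U)] Γ(ClSub.idealMod (f'.ker ^ n), U') :=
    { toFun := μf
      map_add' := fun s t => by
        apply idealSect_injective
        rw [hμf, idealSect_add, map_add, idealSect_add, hμf, hμf]
      map_smul' := fun a s => by
        apply idealSect_injective
        rw [hμf, idealSect_smul, map_mul]
        change _ = idealSect _ _ (α a • μf s)
        rw [idealSect_smul, hμf] }
  let ι' : Γ(ClSub.idealMod (f'.ker ^ n), U') →ₗ[Γ(X', U')] Γ(X', U') :=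
    { toFun := idealSect (f'.ker ^ n) U'
      map_add' := idealSect_add _ _
      map_smul' := fun a s => idealSect_smul _ _ a s }
  have hspan : Submodule.span Γ(X', U') (Set.range μ) = ⊤ := by
    rw [eq_top_iff]
    intro m' _
    refine mem_of_gen f f' v n hker hU hU' hle _ (fun s' m' hm' => ?_) m'
    have : m' = μ s' := idealSect_injective _ _ (hm'.trans (hμf s').symm)
    rw [this]
    exact Submodule.subset_span ⟨s', rfl⟩
  have hμ : IsBaseChange Γ(X', U') μ :=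
    Groth.Agent.Lib.Helper49.GrAlg.isBaseChange_of_lTensor_injective
      (idealSectₗ (f.ker ^ n) U) hinj ι' μ (fun m => hμf m) hspan
  have hν : IsBaseChange Γ(Y', f' ⁻¹ᵁ U') ((κ'.restrictScalars Γ(X, U)).comp μ) :=
    IsBaseChange.comp hμ hκ'
  refine Groth.Agent.Lib.Helper49.GrAlg.bijective_of_isBaseChange _ hκ _ hν
    (appₗ φ (f' ⁻¹ᵁ U')) (fun m => ?_)
  change φ.app (f' ⁻¹ᵁ U') (κ₂ (κ₁ m)) = κ' (μf m)
  rw [hκ₁eq, hκ₂eq, hκ'eq]
  obtain ⟨s, hs, hm⟩ := hμf2 m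
  rw [hm, pullSLE_mres]
  have hg := grMap_app_gen f f' v u n hφ U m s hs (f' ⁻¹ᵁ U') hW'W hW'2
  refine Eq.trans ?_ hg
  congr 2
  unfold pullSLE
  rw [mres_self]
  rfl


end Chart3

end Groth.Agent.Lib.Helper49.GrChart
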