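import Mathlib
import Groth.Prelude.Def_OmegaPn
import Groth.Agent.Lib.Helper49.GrSection1
import Groth.Agent.Lib.Helper80.FlatHartogs

set_option autoImplicit false
set_option linter.style.haveILetI false
set_option linter.unusedSectionVars false
universe u
open AlgebraicGeometry CategoryTheory Limits TopologicalSpace Opposite TensorProduct OmegaSh

namespace Groth.Agent.Lib.Helper49.GrChart

open PrinPart Groth.Agent.Lib.Helper49 Groth.Agent.Lib.Helper49.UnitChart Groth.Agent.Lib.Helper45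
  Groth.Agent.Lib.Helper51.OmegaUniv Groth.Agent.Lib.Helper49.InfNbhdPullback

section Retraction

variable {X Y : Scheme.{u}} (g : X ⟶ Y) (f : Y ⟶ X)

theorem id_appLE_self (W : Y.Opens) (e : W ≤ (𝟙 Y) ⁻¹ᵁ W) : (𝟙 Y : Y ⟶ Y).appLE W W e = 𝟙 _ := by
  have h : Y.presheaf.map (homOfLE (show W ≤ W from e)).op = 𝟙 _ := by
    have h' : (homOfLE (show W ≤ W from e)).op = 𝟙 (op W) := Subsingleton.elim _ _
    rw [h', Y.presheaf.map_id]
  exact h

include g in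
theorem retraction_comp (hf : f ≫ g = 𝟙 Y) (U : X.Opens) (hgU : U ≤ g ⁻¹ᵁ (f ⁻¹ᵁ U)) :
    (f.appLE U (f ⁻¹ᵁ U) le_rfl).hom.comp (g.appLE (f ⁻¹ᵁ U) U hgU).hom =
      RingHom.id Γ(Y, f ⁻¹ᵁ U) := by
  have h1 : g.appLE (f ⁻¹ᵁ U) U hgU ≫ f.appLE U (f ⁻¹ᵁ U) le_rfl =
      (f ≫ g).appLE (f ⁻¹ᵁ U) (f ⁻¹ᵁ U) (fun _ hx => hgU hx) :=
    Scheme.Hom.appLE_comp_appLE _ _ _ _ _ _ _
  have h2 : (f ≫ g).appLE (f ⁻¹ᵁ U) (f ⁻¹ᵁ U) (fun _ hx => hgU hx) = 𝟙 _ := by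
    rw [appLE_congr hf, id_appLE_self]
  exact congrArg (fun k => k.hom) (h1.trans h2)

end Retraction

section Induction

variable {X Y : Scheme.{u}} (g : X ⟶ Y) (f : Y ⟶ X) [IsClosedImmersion f]

theorem ideal_pow_succ_le (n : ℕ) {U : X.Opens} (hU : IsAffineOpen U) :
    (f.ker ^ (n + 1)).ideal ⟨U, hU⟩ ≤ (f.ker ^ n).ideal ⟨U, hU⟩ := by
  rw [Scheme.IdealSheafData.ideal_pow, Scheme.IdealSheafData.ideal_pow, Pi.pow_apply, Pi.pow_apply]
  exact Ideal.pow_le_pow_right (Nat.le_succ n)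

theorem ideal_pow_succ_eq (n : ℕ) {U : X.Opens} (hU : IsAffineOpen U) :
    (f.ker ^ (n + 1)).ideal ⟨U, hU⟩ = f.ker.ideal ⟨U, hU⟩ * (f.ker ^ n).ideal ⟨U, hU⟩ := by
  rw [Scheme.IdealSheafData.ideal_pow, Scheme.IdealSheafData.ideal_pow, Pi.pow_apply, Pi.pow_apply,
    pow_succ']

theorem ker_ideal_eq {U : X.Opens} (hU : IsAffineOpen U) :
    f.ker.ideal ⟨U, hU⟩ = RingHom.ker (f.appLE U (f ⁻¹ᵁ U) le_rfl).hom := by
  rw [Scheme.Hom.ker_apply, Scheme.Hom.appLE_eq_app]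

/-- The kernel of `I^n(U) → Gr_n(f⁻¹U)` consists of the sections lying in `I^(n+1)`. -/
theorem pullSLE_eq_zero_iff (n : ℕ) {U : X.Opens} (hU : IsAffineOpen U)
    (m : Γ(ClSub.idealMod (f.ker ^ n), U)) :
    pullSLE f (ClSub.idealMod (f.ker ^ n)) U (f ⁻¹ᵁ U) le_rfl m = 0 ↔
      idealSect (f.ker ^ n) U m ∈ (f.ker ^ (n + 1)).ideal ⟨U, hU⟩ := by
  have hW : IsAffineOpen (f ⁻¹ᵁ U) := hU.preimage f
  letI algAB : Algebra Γ(X, U) Γ(Y, f ⁻¹ᵁ U) := (f.appLE U (f ⁻¹ᵁ U) le_rfl).hom.toAlgebra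
  letI mAG : Module Γ(X, U) Γ((Scheme.Modules.pullback f).obj (ClSub.idealMod (f.ker ^ n)),
      f ⁻¹ᵁ U) := Module.compHom _ (f.appLE U (f ⁻¹ᵁ U) le_rfl).hom
  haveI tABG : IsScalarTower Γ(X, U) Γ(Y, f ⁻¹ᵁ U)
      Γ((Scheme.Modules.pullback f).obj (ClSub.idealMod (f.ker ^ n)), f ⁻¹ᵁ U) :=
    IsScalarTower.of_compHom _ _ _
  obtain ⟨κ, hκeq, hκ⟩ := exists_isBaseChange_pullSLE f hU hW (le_refl _)
    (ClSub.idealMod (f.ker ^ n))
  have hsurj : Function.Surjective (algebraMap Γ(X, U) Γ(Y, f ⁻¹ᵁ U)) := by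
    intro b
    obtain ⟨a, ha⟩ := f.app_surjective U hU b
    refine ⟨a, ?_⟩
    change (f.appLE U (f ⁻¹ᵁ U) le_rfl).hom a = b
    rw [Scheme.Hom.appLE_eq_app]
    exact ha
  have hker := Groth.Agent.Lib.Helper49.GrAlg.ker_eq_smul_top_of_isBaseChange hsurj κ hκ
  have hI : RingHom.ker (algebraMap Γ(X, U) Γ(Y, f ⁻¹ᵁ U)) = f.ker.ideal ⟨U, hU⟩ :=
    (ker_ideal_eq f hU).symm
  rw [← hκeq, ← LinearMap.mem_ker, hker, hI, ideal_pow_succ_eq]
  -- transport along the injective map `idealSectₗ`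
  have hmap : Submodule.map (idealSectₗ (f.ker ^ n) U)
      (f.ker.ideal ⟨U, hU⟩ • (⊤ : Submodule Γ(X, U) Γ(ClSub.idealMod (f.ker ^ n), U))) =
      f.ker.ideal ⟨U, hU⟩ * (f.ker ^ n).ideal ⟨U, hU⟩ := by
    rw [Submodule.map_smul'', Submodule.map_top]
    have hr : LinearMap.range (idealSectₗ (f.ker ^ n) U) = (f.ker ^ n).ideal ⟨U, hU⟩ := by
      ext a
      constructor
      · rintro ⟨s, rfl⟩
        exact idealSect_mem _ hU s
      · intro ha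
        obtain ⟨s, hs⟩ := exists_idealSect_of_mem _ hU a ha
        exact ⟨s, hs⟩
    rw [hr]
    rfl
  rw [← hmap]
  constructor
  · intro h
    exact ⟨m, h, rfl⟩
  · rintro ⟨m₂, hm₂, h⟩
    have : m₂ = m := idealSect_injective _ _ h
    rw [← this]
    exact hm₂

/-- Sections of `Gr_n` over `f⁻¹U` are classes of sections of `I^n` over `U`. -/
theorem pullSLE_surjective (n : ℕ) {U : X.Opens} (hU : IsAffineOpen U) :
    Function.Surjective (pullSLE f (ClSub.idealMod (f.ker ^ n)) U (f ⁻¹ᵁ U) le_rfl) := by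
  have hW : IsAffineOpen (f ⁻¹ᵁ U) := hU.preimage f
  intro t
  letI := (f.appLE U (f ⁻¹ᵁ U) le_rfl).hom.toAlgebra
  obtain ⟨e, he⟩ := exists_tensor_sections_equiv f (ClSub.idealMod (f.ker ^ n)) hU hW
    (le_refl (f ⁻¹ᵁ U))
  have hsurj : Function.Surjective (algebraMap Γ(X, U) Γ(Y, f ⁻¹ᵁ U)) := by
    intro b
    obtain ⟨a, ha⟩ := f.app_surjective U hU b
    refine ⟨a, ?_⟩
    change (f.appLE U (f ⁻¹ᵁ U) le_rfl).hom a = b
    rw [Scheme.Hom.appLE_eq_app]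
    exact ha
  obtain ⟨m, hm⟩ := exists_one_tmul hsurj (e.symm t)
  refine ⟨m, ?_⟩
  have := he 1 m
  rw [← hm, LinearEquiv.apply_symm_apply, one_smul] at this
  exact this.symm

/-- **Key injectivity.**  If `f` is a section of `g` and the graded pieces `Gr_j(f)`, `1 ≤ j < n`,
are flat, then `P ⊗_B I^n(U) → P ⊗_B O(U)` is injective for every module `P` over
`B = O_Y(f⁻¹U)` (acting on `O_X(U)` through `g♯`). -/
theorem lTensor_idealSect_injective (hf : f ≫ g = 𝟙 Y) {U : X.Opens} (hU : IsAffineOpen U)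
    (hgU : U ≤ g ⁻¹ᵁ (f ⁻¹ᵁ U)) (P : Type u) [AddCommGroup P] [Module Γ(Y, f ⁻¹ᵁ U) P]
    (n : ℕ) (hn : 1 ≤ n) (hflat : ∀ j, 1 ≤ j → j < n → FlatMod.IsFlat (grMod f j)) :
    letI := (g.appLE (f ⁻¹ᵁ U) U hgU).hom.toAlgebra
    letI : Module Γ(Y, f ⁻¹ᵁ U) Γ(ClSub.idealMod (f.ker ^ n), U) :=
      Module.compHom _ (g.appLE (f ⁻¹ᵁ U) U hgU).hom
    haveI : IsScalarTower Γ(Y, f ⁻¹ᵁ U) Γ(X, U) Γ(ClSub.idealMod (f.ker ^ n), U) :=
      IsScalarTower.of_compHom _ _ _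
    Function.Injective (LinearMap.lTensor P
      ((idealSectₗ (f.ker ^ n) U).restrictScalars Γ(Y, f ⁻¹ᵁ U))) := by
  have hW : IsAffineOpen (f ⁻¹ᵁ U) := hU.preimage f
  let σ : Γ(Y, f ⁻¹ᵁ U) →+* Γ(X, U) := (g.appLE (f ⁻¹ᵁ U) U hgU).hom
  let π : Γ(X, U) →+* Γ(Y, f ⁻¹ᵁ U) := (f.appLE U (f ⁻¹ᵁ U) le_rfl).hom
  have hπσ : ∀ b, π (σ b) = b := fun b =>
    congrArg (fun k : Γ(Y, f ⁻¹ᵁ U) →+* Γ(Y, f ⁻¹ᵁ U) => k b) (retraction_comp g f hf U hgU)
  have hπsurj : Function.Surjective π := by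
    intro b
    obtain ⟨a, ha⟩ := f.app_surjective U hU b
    refine ⟨a, ?_⟩
    change (f.appLE U (f ⁻¹ᵁ U) le_rfl).hom a = b
    rw [Scheme.Hom.appLE_eq_app]
    exact ha
  letI algBA : Algebra Γ(Y, f ⁻¹ᵁ U) Γ(X, U) := σ.toAlgebra
  induction n, hn using Nat.le_induction with
  | base =>
    letI mBM : Module Γ(Y, f ⁻¹ᵁ U) Γ(ClSub.idealMod (f.ker ^ 1), U) := Module.compHom _ σ
    haveI tBAM : IsScalarTower Γ(Y, f ⁻¹ᵁ U) Γ(X, U) Γ(ClSub.idealMod (f.ker ^ 1), U) :=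
      IsScalarTower.of_compHom _ _ _
    let πB : Γ(X, U) →ₗ[Γ(Y, f ⁻¹ᵁ U)] Γ(Y, f ⁻¹ᵁ U) :=
      { toFun := π
        map_add' := map_add π
        map_smul' := fun b a => by
          change π (σ b * a) = b * π a
          rw [map_mul, hπσ] }
    have hinj : Function.Injective
        ((idealSectₗ (f.ker ^ 1) U).restrictScalars Γ(Y, f ⁻¹ᵁ U)) :=
      idealSect_injective _ _
    have hex : Function.Exact
        ((idealSectₗ (f.ker ^ 1) U).restrictScalars Γ(Y, f ⁻¹ᵁ U)) πB := by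
      intro a
      change π a = 0 ↔ a ∈ Set.range (idealSect (f.ker ^ 1) U)
      rw [← RingHom.mem_ker, ← ker_ideal_eq f hU]
      have h1 : (f.ker ^ 1).ideal ⟨U, hU⟩ = f.ker.ideal ⟨U, hU⟩ := by rw [pow_one]
      rw [← h1]
      constructor
      · intro ha
        obtain ⟨s, hs⟩ := exists_idealSect_of_mem _ hU a ha
        exact ⟨s, hs⟩
      · rintro ⟨s, rfl⟩
        exact idealSect_mem _ hU s
    exact LinearMap.lTensor_injective_of_exact_of_flat πB hπsurj _ hinj hex P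
  | succ n hn ih =>
    have ih' := ih (fun j hj hjn => hflat j hj (Nat.lt_succ_of_lt hjn))
    letI mBM : Module Γ(Y, f ⁻¹ᵁ U) Γ(ClSub.idealMod (f.ker ^ n), U) := Module.compHom _ σ
    haveI tBAM : IsScalarTower Γ(Y, f ⁻¹ᵁ U) Γ(X, U) Γ(ClSub.idealMod (f.ker ^ n), U) :=
      IsScalarTower.of_compHom _ _ _
    letI mBM' : Module Γ(Y, f ⁻¹ᵁ U) Γ(ClSub.idealMod (f.ker ^ (n + 1)), U) :=
      Module.compHom _ σ
    haveI tBAM' : IsScalarTower Γ(Y, f ⁻¹ᵁ U) Γ(X, U) Γ(ClSub.idealMod (f.ker ^ (n + 1)), U) :=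
      IsScalarTower.of_compHom _ _ _
    -- the inclusion `I^(n+1)(U) → I^n(U)`
    have hincex : ∀ m : Γ(ClSub.idealMod (f.ker ^ (n + 1)), U),
        ∃ m₂ : Γ(ClSub.idealMod (f.ker ^ n), U),
          idealSect (f.ker ^ n) U m₂ = idealSect (f.ker ^ (n + 1)) U m := fun m =>
      exists_idealSect_of_mem _ hU _ (ideal_pow_succ_le f n hU (idealSect_mem _ hU m))
    let incf : Γ(ClSub.idealMod (f.ker ^ (n + 1)), U) → Γ(ClSub.idealMod (f.ker ^ n), U) :=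
      fun m => (hincex m).choose
    have hincf : ∀ m, idealSect (f.ker ^ n) U (incf m) = idealSect (f.ker ^ (n + 1)) U m :=
      fun m => (hincex m).choose_spec
    let inc : Γ(ClSub.idealMod (f.ker ^ (n + 1)), U) →ₗ[Γ(Y, f ⁻¹ᵁ U)]
        Γ(ClSub.idealMod (f.ker ^ n), U) :=
      { toFun := incf
        map_add' := fun a b => by
          apply idealSect_injective
          rw [hincf, idealSect_add, idealSect_add, hincf, hincf]
        map_smul' := fun b a => by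
          apply idealSect_injective
          rw [hincf]
          change idealSect _ U (σ b • a) = idealSect _ U (σ b • incf a)
          rw [idealSect_smul, idealSect_smul, hincf] }
    have hincinj : Function.Injective inc := by
      intro a b hab
      apply idealSect_injective
      rw [← hincf a, ← hincf b]
      exact congrArg (idealSect (f.ker ^ n) U) hab
    let κB : Γ(ClSub.idealMod (f.ker ^ n), U) →ₗ[Γ(Y, f ⁻¹ᵁ U)]
        Γ((Scheme.Modules.pullback f).obj (ClSub.idealMod (f.ker ^ n)), f ⁻¹ᵁ U) :=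
      { toFun := pullSLE f (ClSub.idealMod (f.ker ^ n)) U (f ⁻¹ᵁ U) le_rfl
        map_add' := pullSLE_add f _ U _ le_rfl
        map_smul' := fun b a => by
          change pullSLE f _ U _ le_rfl (σ b • a) = b • pullSLE f _ U _ le_rfl a
          rw [pullSLE_smul]
          congr 1
          exact hπσ b }
    have hκsurj : Function.Surjective κB := pullSLE_surjective f n hU
    have hex : Function.Exact inc κB := by
      intro m
      change pullSLE f _ U _ le_rfl m = 0 ↔ m ∈ Set.range incf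
      rw [pullSLE_eq_zero_iff f n hU]
      constructor
      · intro hm
        obtain ⟨mq, hmq⟩ := exists_idealSect_of_mem _ hU _ hm
        refine ⟨mq, ?_⟩
        apply idealSect_injective
        rw [hincf, hmq]
      · rintro ⟨mq, rfl⟩
        rw [hincf]
        exact idealSect_mem _ hU mq
    haveI hflatG : Module.Flat Γ(Y, f ⁻¹ᵁ U)
        Γ((Scheme.Modules.pullback f).obj (ClSub.idealMod (f.ker ^ n)), f ⁻¹ᵁ U) :=
      Groth.Agent.Lib.Helper80.flat_sections_of_isFlat (grMod f n)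
        (hflat n hn (Nat.lt_succ_self n)) hW
    have hinc : Function.Injective (LinearMap.lTensor P inc) :=
      LinearMap.lTensor_injective_of_exact_of_flat κB hκsurj inc hincinj hex P
    have hcomp : (idealSectₗ (f.ker ^ (n + 1)) U).restrictScalars Γ(Y, f ⁻¹ᵁ U) =
        ((idealSectₗ (f.ker ^ n) U).restrictScalars Γ(Y, f ⁻¹ᵁ U)).comp inc := by
      ext m
      exact (hincf m).symm
    rw [hcomp, LinearMap.lTensor_comp]
    exact ih'.comp hinc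

end Induction

section SectionCase

variable {X Y X' Y' : Scheme.{u}} (g : X ⟶ Y) (f : Y ⟶ X) [IsClosedImmersion f]
  (u : Y' ⟶ Y) (v : X' ⟶ X) (g' : X' ⟶ Y') (f' : Y' ⟶ X') (n : ℕ)

/-- The square of the two sections is cartesian. -/
theorem isPullback_sections (hf : f ≫ g = 𝟙 Y) (hsq : IsPullback v g' g u)
    (hf' : f' ≫ g' = 𝟙 Y') (hf'v : f' ≫ v = u ≫ f) : IsPullback u f' f v := by
  have h1 : IsPullback (f' ≫ g') u u (f ≫ g) := by
    rw [hf, hf']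
    exact IsPullback.of_horiz_isIso ⟨by simp⟩
  exact (IsPullback.of_right h1 hf'v hsq.flip).flip

/-- On suitable charts, the canonical map of graded pieces is bijective in the section case. -/
theorem grMap_app_bijective_of_section [IsClosedImmersion f']
    (hf : f ≫ g = 𝟙 Y) (hsq : IsPullback v g' g u)
    (φ : (Scheme.Modules.pullback u).obj
        ((Scheme.Modules.pullback f).obj (ClSub.idealMod (f.ker ^ n))) ⟶
      (Scheme.Modules.pullback f').obj (ClSub.idealMod (f'.ker ^ n)))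
    (hφ : IsGrMap f' f v u n φ) (hker : f'.ker = f.ker.comap v)
    (hn : 1 ≤ n) (hflat : ∀ j, 1 ≤ j → j < n → FlatMod.IsFlat (grMod f j))
    {U : X.Opens} (hU : IsAffineOpen U) {U' : X'.Opens} (hU' : IsAffineOpen U')
    (hgU : U ≤ g ⁻¹ᵁ (f ⁻¹ᵁ U)) (hW'W : f' ⁻¹ᵁ U' ≤ u ⁻¹ᵁ (f ⁻¹ᵁ U))
    (hUY : U' = v ⁻¹ᵁ U ⊓ g' ⁻¹ᵁ (f' ⁻¹ᵁ U')) :
    Function.Bijective (φ.app (f' ⁻¹ᵁ U')) := by
  have hW : IsAffineOpen (f ⁻¹ᵁ U) := hU.preimage f
  have hW' : IsAffineOpen (f' ⁻¹ᵁ U') := hU'.preimage f'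
  have hle : U' ≤ v ⁻¹ᵁ U := by rw [hUY]; exact inf_le_left
  have hg'U : U' ≤ g' ⁻¹ᵁ (f' ⁻¹ᵁ U') := by
    conv_lhs => rw [hUY]
    exact inf_le_right
  refine grMap_app_bijective_of_injective f f' v u n φ hφ hker hU hU' hle ?_
  let σ : Γ(Y, f ⁻¹ᵁ U) →+* Γ(X, U) := (g.appLE (f ⁻¹ᵁ U) U hgU).hom
  let α : Γ(X, U) →+* Γ(X', U') := (v.appLE U U' hle).hom
  let β : Γ(Y, f ⁻¹ᵁ U) →+* Γ(Y', f' ⁻¹ᵁ U') := (u.appLE (f ⁻¹ᵁ U) (f' ⁻¹ᵁ U') hW'W).hom
  let σ' : Γ(Y', f' ⁻¹ᵁ U') →+* Γ(X', U') := (g'.appLE (f' ⁻¹ᵁ U') U' hg'U).hom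
  have hcomm : σ'.comp β = α.comp σ := by
    have h1 : u.appLE (f ⁻¹ᵁ U) (f' ⁻¹ᵁ U') hW'W ≫ g'.appLE (f' ⁻¹ᵁ U') U' hg'U =
        (g' ≫ u).appLE (f ⁻¹ᵁ U) U' (fun _ hx => hW'W (hg'U hx)) :=
      Scheme.Hom.appLE_comp_appLE _ _ _ _ _ _ _
    have h2 : g.appLE (f ⁻¹ᵁ U) U hgU ≫ v.appLE U U' hle =
        (v ≫ g).appLE (f ⁻¹ᵁ U) U' (fun _ hx => hgU (hle hx)) :=
      Scheme.Hom.appLE_comp_appLE _ _ _ _ _ _ _
    have h3 : (v ≫ g).appLE (f ⁻¹ᵁ U) U' (fun _ hx => hgU (hle hx)) =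
        (g' ≫ u).appLE (f ⁻¹ᵁ U) U' (fun _ hx => hW'W (hg'U hx)) := appLE_congr hsq.w _ _ _
    exact congrArg (fun k => k.hom) (h1.trans (h3.symm.trans h2.symm))
  letI algBB' : Algebra Γ(Y, f ⁻¹ᵁ U) Γ(Y', f' ⁻¹ᵁ U') := β.toAlgebra
  letI algBA : Algebra Γ(Y, f ⁻¹ᵁ U) Γ(X, U) := σ.toAlgebra
  letI algAA' : Algebra Γ(X, U) Γ(X', U') := α.toAlgebra
  letI algB'A' : Algebra Γ(Y', f' ⁻¹ᵁ U') Γ(X', U') := σ'.toAlgebra
  letI algBA' : Algebra Γ(Y, f ⁻¹ᵁ U) Γ(X', U') := (α.comp σ).toAlgebra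
  haveI tBAA' : IsScalarTower Γ(Y, f ⁻¹ᵁ U) Γ(X, U) Γ(X', U') :=
    IsScalarTower.of_algebraMap_eq' rfl
  haveI tBB'A' : IsScalarTower Γ(Y, f ⁻¹ᵁ U) Γ(Y', f' ⁻¹ᵁ U') Γ(X', U') :=
    IsScalarTower.of_algebraMap_eq' hcomm.symm
  haveI hpo : Algebra.IsPushout Γ(Y, f ⁻¹ᵁ U) Γ(Y', f' ⁻¹ᵁ U') Γ(X, U) Γ(X', U') := by
    have hiso := AlgebraicGeometry.isIso_pushoutSection_of_isAffineOpen hsq hW'W hgU hUY hW hW' hU
    have hpush := (AlgebraicGeometry.isIso_pushoutSection_iff hsq hW'W hgU hUY).mp hiso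
    exact ((CommRingCat.isPushout_iff_isPushout (R := Γ(Y, f ⁻¹ᵁ U)) (R' := Γ(X, U))
      (S := Γ(Y', f' ⁻¹ᵁ U')) (S' := Γ(X', U'))).mp hpush).symm
  letI mBM : Module Γ(Y, f ⁻¹ᵁ U) Γ(ClSub.idealMod (f.ker ^ n), U) := Module.compHom _ σ
  haveI tBAM : IsScalarTower Γ(Y, f ⁻¹ᵁ U) Γ(X, U) Γ(ClSub.idealMod (f.ker ^ n), U) :=
    IsScalarTower.of_compHom _ _ _
  have h := lTensor_idealSect_injective g f hf hU hgU Γ(Y', f' ⁻¹ᵁ U') n hn hflat
  exact Groth.Agent.Lib.Helper49.GrAlg.lTensor_injective_of_isPushout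
    (idealSectₗ (f.ker ^ n) U) h

/-- Chart selection in the section case. -/
theorem exists_section_chart (hf : f ≫ g = 𝟙 Y) (hsq : IsPullback v g' g u)
    (hf' : f' ≫ g' = 𝟙 Y') (hf'v : f' ≫ v = u ≫ f) (y' : Y') :
    ∃ (U : X.Opens) (U' : X'.Opens), IsAffineOpen U ∧ IsAffineOpen U' ∧
      U ≤ g ⁻¹ᵁ (f ⁻¹ᵁ U) ∧ f' ⁻¹ᵁ U' ≤ u ⁻¹ᵁ (f ⁻¹ᵁ U) ∧
      U' = v ⁻¹ᵁ U ⊓ g' ⁻¹ᵁ (f' ⁻¹ᵁ U') ∧ y' ∈ f' ⁻¹ᵁ U' := by
  have hgf : ∀ z : Y, g (f z) = z := fun z => by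
    rw [← Scheme.Hom.comp_apply, hf]; rfl
  have hg'f' : ∀ z : Y', g' (f' z) = z := fun z => by
    rw [← Scheme.Hom.comp_apply, hf']; rfl
  have hvf' : ∀ z : Y', v (f' z) = f (u z) := fun z => by
    rw [← Scheme.Hom.comp_apply, hf'v, Scheme.Hom.comp_apply]
  obtain ⟨W₀, hW₀, hyW₀, -⟩ := exists_isAffineOpen_mem_and_subset (x := u y') (U := ⊤) trivial
  have hx0 : f (u y') ∈ g ⁻¹ᵁ W₀ := by
    change g (f (u y')) ∈ W₀
    rw [hgf]; exact hyW₀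
  obtain ⟨U₀, hU₀, hxU₀, hU₀W₀⟩ := exists_isAffineOpen_mem_and_subset (x := f (u y'))
    (U := g ⁻¹ᵁ W₀) hx0
  obtain ⟨b, hb1, hb2⟩ := hW₀.exists_basicOpen_le (V := f ⁻¹ᵁ U₀) ⟨u y', hxU₀⟩ hyW₀
  have hW₁ : IsAffineOpen (Y.basicOpen b) := hW₀.basicOpen b
  let U : X.Opens := X.basicOpen (g.appLE W₀ U₀ hU₀W₀ b)
  have hUeq : U = U₀ ⊓ g ⁻¹ᵁ (Y.basicOpen b) := Scheme.basicOpen_appLE g U₀ W₀ hU₀W₀ b
  have hU : IsAffineOpen U := hU₀.basicOpen _
  have hfU : f ⁻¹ᵁ U = Y.basicOpen b := by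
    ext z
    change f z ∈ U ↔ z ∈ Y.basicOpen b
    rw [hUeq]
    constructor
    · rintro ⟨-, h2⟩
      have : g (f z) ∈ Y.basicOpen b := h2
      rwa [hgf] at this
    · intro hz
      refine ⟨hb1 hz, ?_⟩
      change g (f z) ∈ Y.basicOpen b
      rwa [hgf]
  have hgU : U ≤ g ⁻¹ᵁ (f ⁻¹ᵁ U) := by
    rw [hfU, hUeq]
    exact inf_le_right
  have hy'W₁ : y' ∈ u ⁻¹ᵁ (Y.basicOpen b) := hb2
  obtain ⟨W', hW', hy'W', hW'W₁⟩ := exists_isAffineOpen_mem_and_subset (x := y')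
    (U := u ⁻¹ᵁ (Y.basicOpen b)) hy'W₁
  let U' : X'.Opens := v ⁻¹ᵁ U ⊓ g' ⁻¹ᵁ W'
  have hf'U' : f' ⁻¹ᵁ U' = W' := by
    ext z
    change (v (f' z) ∈ U ∧ g' (f' z) ∈ W') ↔ z ∈ W'
    rw [hg'f', hvf']
    constructor
    · exact fun h => h.2
    · intro hz
      refine ⟨?_, hz⟩
      have : u z ∈ f ⁻¹ᵁ U := by rw [hfU]; exact hW'W₁ hz
      exact this
  have hUSX : U ≤ g ⁻¹ᵁ (Y.basicOpen b) := by rw [hUeq]; exact inf_le_right
  have hU' : IsAffineOpen U' := by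
    have : IsAffine (Y.basicOpen b : Scheme.{u}) := hW₁
    have : IsAffine (W' : Scheme.{u}) := hW'
    have : IsAffine (U : Scheme.{u}) := hU
    exact .of_isIso (Scheme.Hom.isPullback_resLE hsq hW'W₁ hUSX (rfl : U' = _)).isoPullback.hom
  refine ⟨U, U', hU, hU', hgU, ?_, ?_, ?_⟩
  · rw [hf'U', hfU]; exact hW'W₁
  · rw [hf'U']
  · rw [hf'U']; exact hy'W'

/-- The case `n = 0`: the canonical map `u^* Gr_0(f) ⟶ Gr_0(f')` is always an isomorphism. -/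
theorem isIso_grMap_zero [IsClosedImmersion f']
    {φ : (Scheme.Modules.pullback u).obj (grMod f 0) ⟶ grMod f' 0}
    (hφ : IsGrMap f' f v u 0 φ) (hker : f'.ker = f.ker.comap v) : IsIso φ := by
  haveI := isQuasicoherent_pullback_grMod f u 0
  haveI : Mono φ := by
    apply mono_of_app_injective_of_cover
    intro y'
    obtain ⟨U, hU, hxU, -⟩ := exists_isAffineOpen_mem_and_subset (x := v (f' y')) (U := ⊤) trivial
    obtain ⟨U', hU', hxU', hle⟩ := exists_isAffineOpen_mem_and_subset (x := f' y')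
      (U := v ⁻¹ᵁ U) hxU
    refine ⟨f' ⁻¹ᵁ U', hU'.preimage f', hxU',
      (grMap_app_bijective_of_injective f f' v u 0 φ hφ hker hU hU' hle ?_).1⟩
    letI := (v.appLE U U' hle).hom.toAlgebra
    have hbij : Function.Bijective (idealSectₗ (f.ker ^ 0) U) := by
      refine ⟨idealSect_injective _ _, fun a => ?_⟩
      have ha : a ∈ (f.ker ^ 0).ideal ⟨U, hU⟩ := by
        rw [pow_zero]
        exact Submodule.mem_top
      obtain ⟨s, hs⟩ := exists_idealSect_of_mem _ hU a ha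
      exact ⟨s, hs⟩
    let e := LinearEquiv.ofBijective (idealSectₗ (f.ker ^ 0) U) hbij
    have he : LinearMap.lTensor Γ(X', U') (idealSectₗ (f.ker ^ 0) U) =
        (LinearEquiv.lTensor Γ(X', U') e).toLinearMap := by
      ext
      rfl
    rw [he]
    exact (LinearEquiv.lTensor Γ(X', U') e).injective
  haveI : Epi φ := epi_grMap f f' v u 0 hφ hker
  exact isIso_of_mono_of_epi φ

/-- **Section case.**  If `f` is a closed immersion which is a section of `g`, and the graded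
pieces `Gr_j(f)` for `1 ≤ j < n` are flat, then `u^* Gr_n(f) ⟶ Gr_n(f')` is an isomorphism. -/
theorem isIso_grMap_of_section (hf : f ≫ g = 𝟙 Y) (hsq : IsPullback v g' g u)
    (hf' : f' ≫ g' = 𝟙 Y') (hf'v : f' ≫ v = u ≫ f)
    {φ : (Scheme.Modules.pullback u).obj (grMod f n) ⟶ grMod f' n}
    (hφ : IsGrMap f' f v u n φ)
    (hn : 1 ≤ n) (hflat : ∀ j, 1 ≤ j → j < n → FlatMod.IsFlat (grMod f j)) : IsIso φ := by
  have hsq2 : IsPullback u f' f v := isPullback_sections g f u v g' f' hf hsq hf' hf'v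
  haveI : IsClosedImmersion f' := MorphismProperty.of_isPullback hsq2 inferInstance
  have hker : f'.ker = f.ker.comap v := ker_of_isPullback f v u f' hsq2
  haveI := isQuasicoherent_pullback_grMod f u n
  haveI : Mono φ := by
    apply mono_of_app_injective_of_cover
    intro y'
    obtain ⟨U, U', hU, hU', hgU, hW'W, hUY, hy'⟩ :=
      exists_section_chart g f u v g' f' hf hsq hf' hf'v y'
    exact ⟨f' ⁻¹ᵁ U', hU'.preimage f', hy',
      (grMap_app_bijective_of_section g f u v g' f' n hf hsq φ hφ hker hn hflat hU hU' hgU hW'W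
        hUY).1⟩
  haveI : Epi φ := epi_grMap f f' v u n hφ hker
  exact isIso_of_mono_of_epi φ

end SectionCase

end Groth.Agent.Lib.Helper49.GrChart
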