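import Mathlib
import Groth.Agent.Lib.Helper45.ReflexiveDepth

/-!
# Depth of `Hom(M, N)`

Shared library of helper49 (namespace `Groth.Agent.Lib.Helper49.HomDepth`).

* `idealDepth_pi_ge'`: `depth_I (N^n) ≥ depth_I N`.
* `exists_exact_hom`: for `M` finite over a Noetherian ring, `Hom(M, N)` is the kernel of a map
  `N^n → N^m`.
* `one_le_idealDepth_hom`, `two_le_idealDepth_hom`: `depth_I N ≥ k ⇒ depth_I Hom(M, N) ≥ k` for
  `k = 1, 2`.
-/

set_option autoImplicit false
universe u

namespace Groth.Agent.Lib.Helper49.HomDepth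

open Groth.Agent.Lib.Helper29 Groth.Agent.Lib.Helper45.ReflexiveDepth

variable {R : Type u} [CommRing R] [IsNoetherianRing R]

theorem idealDepth_pi_ge' (I : Ideal R) (N : Type u) [AddCommGroup N] [Module R N]
    [Module.Finite R N] (n : ℕ) :
    LocCoh.idealDepth I N ≤ LocCoh.idealDepth I (Fin n → N) := by
  induction n with
  | zero =>
    have : I • (⊤ : Submodule R (Fin 0 → N)) = ⊤ := Subsingleton.elim _ _
    rw [idealDepth_of_smul_top_eq I _ this]
    exact le_top
  | succ n ih =>
    rw [← idealDepth_congr I (Fin.consLinearEquiv R (fun _ : Fin n.succ => N))]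
    exact (le_min le_rfl ih).trans (idealDepth_prod_ge I N (Fin n → N))

theorem exists_exact_hom (M N : Type u) [AddCommGroup M] [Module R M] [Module.Finite R M]
    [AddCommGroup N] [Module R N] :
    ∃ (n m : ℕ) (α : (M →ₗ[R] N) →ₗ[R] (Fin n → N)) (β : (Fin n → N) →ₗ[R] (Fin m → N)),
      Function.Injective α ∧ Function.Exact α β := by
  obtain ⟨n, p, hp⟩ := Module.Finite.exists_fin' R M
  have : IsNoetherian R (Fin n → R) := isNoetherian_of_isNoetherianRing_of_finite R _
  obtain ⟨m, q, hq⟩ := Module.Finite.exists_fin' R (LinearMap.ker p)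
  let e₁ := Module.piEquiv (Fin n) R N
  let e₂ := Module.piEquiv (Fin m) R N
  refine ⟨n, m, e₁.symm.toLinearMap ∘ₗ LinearMap.lcomp R N p,
    e₂.symm.toLinearMap ∘ₗ LinearMap.lcomp R N ((LinearMap.ker p).subtype ∘ₗ q) ∘ₗ
      e₁.toLinearMap, ?_, ?_⟩
  · intro f g hfg
    have h1 : f ∘ₗ p = g ∘ₗ p := e₁.symm.injective hfg
    ext x
    obtain ⟨c, rfl⟩ := hp x
    exact LinearMap.congr_fun h1 c
  · intro v
    constructor
    · intro hv
      have h1 : (e₁ v) ∘ₗ ((LinearMap.ker p).subtype ∘ₗ q) = 0 := by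
        have := e₂.symm.injective (hv.trans (map_zero e₂.symm).symm)
        exact this
      have hker : LinearMap.ker p ≤ LinearMap.ker (e₁ v) := by
        intro k hk
        obtain ⟨c, hc⟩ := hq ⟨k, hk⟩
        have h2 := LinearMap.congr_fun h1 c
        simp only [LinearMap.coe_comp, Function.comp_apply, hc, Submodule.subtype_apply,
          LinearMap.zero_apply] at h2
        exact h2
      let f : M →ₗ[R] N :=
        (LinearMap.ker p).liftQ (e₁ v) hker ∘ₗ (p.quotKerEquivOfSurjective hp).symm.toLinearMap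
      refine ⟨f, ?_⟩
      change e₁.symm (f ∘ₗ p) = v
      rw [LinearEquiv.symm_apply_eq]
      refine LinearMap.ext fun c => ?_
      have h2 : (p.quotKerEquivOfSurjective hp).symm (p c) = Submodule.Quotient.mk c := by
        rw [LinearEquiv.symm_apply_eq]
        rfl
      simp only [f, LinearMap.coe_comp, LinearEquiv.coe_coe, Function.comp_apply, h2,
        Submodule.liftQ_apply]
    · rintro ⟨f, rfl⟩
      change e₂.symm ((e₁ (e₁.symm (f ∘ₗ p))) ∘ₗ ((LinearMap.ker p).subtype ∘ₗ q)) = 0
      rw [LinearEquiv.apply_symm_apply]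
      have : (f ∘ₗ p) ∘ₗ ((LinearMap.ker p).subtype ∘ₗ q) = 0 := by
        refine LinearMap.ext fun c => ?_
        simp only [LinearMap.coe_comp, Function.comp_apply, Submodule.subtype_apply,
          LinearMap.zero_apply]
        have : p (q c : Fin n → R) = 0 := (q c).2
        rw [this, map_zero]
      rw [this, map_zero]

theorem finite_hom (M N : Type u) [AddCommGroup M] [Module R M] [Module.Finite R M]
    [AddCommGroup N] [Module R N] [Module.Finite R N] : Module.Finite R (M →ₗ[R] N) := by
  obtain ⟨n, m, α, β, hα, -⟩ := exists_exact_hom (R := R) M N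
  have : IsNoetherian R (Fin n → N) := isNoetherian_of_isNoetherianRing_of_finite R _
  exact Module.Finite.of_injective α hα

theorem one_le_idealDepth_hom (I : Ideal R) (M N : Type u) [AddCommGroup M] [Module R M]
    [Module.Finite R M] [AddCommGroup N] [Module R N] [Module.Finite R N]
    (h : (1 : ℕ∞) ≤ LocCoh.idealDepth I N) : (1 : ℕ∞) ≤ LocCoh.idealDepth I (M →ₗ[R] N) := by
  obtain ⟨n, m, α, β, hα, -⟩ := exists_exact_hom (R := R) M N
  rw [idealDepth_congr I (LinearEquiv.ofInjective α hα)]
  exact one_le_idealDepth_submodule I _ (h.trans (idealDepth_pi_ge' I N n))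

theorem two_le_idealDepth_hom (I : Ideal R) (M N : Type u) [AddCommGroup M] [Module R M]
    [Module.Finite R M] [AddCommGroup N] [Module R N] [Module.Finite R N]
    (h : (2 : ℕ∞) ≤ LocCoh.idealDepth I N) : (2 : ℕ∞) ≤ LocCoh.idealDepth I (M →ₗ[R] N) := by
  obtain ⟨n, m, α, β, hα, hαβ⟩ := exists_exact_hom (R := R) M N
  have := finite_hom (R := R) M N
  have hP : (2 : ℕ∞) ≤ LocCoh.idealDepth I (Fin n → N) := h.trans (idealDepth_pi_ge' I N n)
  have hP' : (1 : ℕ∞) ≤ LocCoh.idealDepth I (Fin m → N) :=
    (by norm_num : (1 : ℕ∞) ≤ 2).trans (h.trans (idealDepth_pi_ge' I N m))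
  have hQ := one_le_idealDepth_submodule I (LinearMap.range β) hP'
  have : IsNoetherian R (Fin m → N) := isNoetherian_of_isNoetherianRing_of_finite R _
  refine two_le_idealDepth_of_exact I α β.rangeRestrict hα β.surjective_rangeRestrict ?_ hP hQ
  intro ξ
  rw [← hαβ ξ]
  constructor
  · intro h
    have := congrArg Subtype.val h
    simpa using this
  · intro h
    apply Subtype.ext
    simpa using h

end Groth.Agent.Lib.Helper49.HomDepth
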