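import Mathlib
import Groth.Agent.Lib.Helper49.HomAdj
import Groth.Agent.Lib.Helper49.HomDepth
import Groth.Agent.Lib.Helper49.StalkNbhd2
import Groth.Agent.Lib.Helper12.QuasiFlat

/-!
# Stalks of the sheaf Hom and their depth

Shared library of helper49 (namespace `Groth.Agent.Lib.Helper49.HomDepthSh`).

* `stalkEquiv F G x : (DCoh.sheafHom F).obj G _x ≃ₗ Hom(F_x, G_x)` for `F` of finite presentation.
* `one_le_depth_sheafHom`, `two_le_depth_sheafHom`.
-/

set_option autoImplicit false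
set_option linter.style.haveILetI false
universe u
open CategoryTheory CategoryTheory.Limits AlgebraicGeometry TopologicalSpace Opposite

namespace Groth.Agent.Lib.Helper49.HomDepthSh

open Groth.Agent.Lib.Helper45 Groth.Agent.Lib.Helper45.RefHullCoh
  Groth.Agent.Lib.Helper45.RefHullHom Groth.Agent.Lib.Helper49.HomAdj
  Groth.Agent.Lib.Helper49.HomDepth

variable {X : Scheme.{u}}

/-- The stalk of `𝓗om(F, G)` is `Hom(F_x, G_x)` for `F` of finite presentation. -/
noncomputable def homShStalkEquiv (F G : X.Modules) (hF : CohB1.IsFP F) (x : X) :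
    ↑((RefHull.homSh F G).presheaf.stalk x) ≃ₗ[X.presheaf.stalk x]
      (↑(F.presheaf.stalk x) →ₗ[X.presheaf.stalk x] ↑(G.presheaf.stalk x)) :=
  LinearEquiv.ofBijective (RefHull.evalStalk F G x) (evalStalk_bijective_of_isFP F G hF x)

/-- The stalk of the sheaf Hom (right adjoint of the tensor product) is `Hom(F_x, G_x)` for `F` of
finite presentation. -/
noncomputable def stalkEquiv (F G : X.Modules) [DCoh.HasSheafHom F] (hF : CohB1.IsFP F) (x : X) :
    ↑(((DCoh.sheafHom F).obj G).presheaf.stalk x) ≃ₗ[X.presheaf.stalk x]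
      (↑(F.presheaf.stalk x) →ₗ[X.presheaf.stalk x] ↑(G.presheaf.stalk x)) :=
  (LinearEquiv.ofBijective (stalkMapLinear (sheafHomIso F G).hom x)
    (stalkMap_bijective_of_isIso (sheafHomIso F G).hom x)).trans (homShStalkEquiv F G hF x)

variable [IsLocallyNoetherian X]

theorem one_le_depth_sheafHom (F G : X.Modules) (hF : Coh.IsCoh F) (hG : Coh.IsCoh G)
    [DCoh.HasSheafHom F] (x : X)
    (h : (1 : ℕ∞) ≤ LocCoh.depth (X.presheaf.stalk x) ↑(G.presheaf.stalk x)) :
    (1 : ℕ∞) ≤ LocCoh.depth (X.presheaf.stalk x)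
      ↑(((DCoh.sheafHom F).obj G).presheaf.stalk x) := by
  have : Module.Finite (X.presheaf.stalk x) (F.presheaf.stalk x) :=
    Groth.Agent.Lib.Helper12.QuasiFlat.finite_stalk_of_isCoh F hF x
  have : Module.Finite (X.presheaf.stalk x) (G.presheaf.stalk x) :=
    Groth.Agent.Lib.Helper12.QuasiFlat.finite_stalk_of_isCoh G hG x
  unfold LocCoh.depth at h ⊢
  rw [Groth.Agent.Lib.Helper29.idealDepth_congr _ (stalkEquiv F G (isFP_of_isCoh F hF) x)]
  exact one_le_idealDepth_hom _ _ _ h

theorem two_le_depth_sheafHom (F G : X.Modules) (hF : Coh.IsCoh F) (hG : Coh.IsCoh G)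
    [DCoh.HasSheafHom F] (x : X)
    (h : (2 : ℕ∞) ≤ LocCoh.depth (X.presheaf.stalk x) ↑(G.presheaf.stalk x)) :
    (2 : ℕ∞) ≤ LocCoh.depth (X.presheaf.stalk x)
      ↑(((DCoh.sheafHom F).obj G).presheaf.stalk x) := by
  have : Module.Finite (X.presheaf.stalk x) (F.presheaf.stalk x) :=
    Groth.Agent.Lib.Helper12.QuasiFlat.finite_stalk_of_isCoh F hF x
  have : Module.Finite (X.presheaf.stalk x) (G.presheaf.stalk x) :=
    Groth.Agent.Lib.Helper12.QuasiFlat.finite_stalk_of_isCoh G hG x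
  unfold LocCoh.depth at h ⊢
  rw [Groth.Agent.Lib.Helper29.idealDepth_congr _ (stalkEquiv F G (isFP_of_isCoh F hF) x)]
  exact two_le_idealDepth_hom _ _ _ h

end Groth.Agent.Lib.Helper49.HomDepthSh
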