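import Mathlib
import Groth.Agent.Lib.Helper49.HomDepthSh

/-!
# Support dimension of `Hom(M, N)` and Serre's conditions `(S_1)`, `(S_2)` for the sheaf Hom

Shared library of helper49 (namespace `Groth.Agent.Lib.Helper49.HomSk`).
-/

set_option autoImplicit false
set_option linter.style.haveILetI false
universe u
open CategoryTheory CategoryTheory.Limits AlgebraicGeometry TopologicalSpace Opposite

namespace Groth.Agent.Lib.Helper49.HomSk

open Groth.Agent.Lib.Helper45 Groth.Agent.Lib.Helper45.RefHullCoh
  Groth.Agent.Lib.Helper49.HomDepth Groth.Agent.Lib.Helper49.HomDepthSh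

section Algebra

variable {R : Type u} [CommRing R] [IsNoetherianRing R]

theorem support_hom_subset (M N : Type u) [AddCommGroup M] [Module R M] [Module.Finite R M]
    [AddCommGroup N] [Module R N] [Module.Finite R N] :
    Module.support R (M →ₗ[R] N) ⊆ Module.support R N := by
  have := finite_hom (R := R) M N
  intro p hp
  rw [Module.mem_support_iff_of_finite] at hp ⊢
  refine le_trans ?_ hp
  intro r hr
  rw [Module.mem_annihilator] at hr ⊢
  intro f
  ext m
  rw [LinearMap.smul_apply, hr, LinearMap.zero_apply]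

theorem supportDim_hom_le (M N : Type u) [AddCommGroup M] [Module R M] [Module.Finite R M]
    [AddCommGroup N] [Module R N] [Module.Finite R N] :
    Module.supportDim R (M →ₗ[R] N) ≤ Module.supportDim R N :=
  Order.krullDim_le_of_strictMono (fun a => ⟨a.1, support_hom_subset M N a.2⟩)
    (fun {_ _} lt => lt)

end Algebra

theorem sk_order (k : ℕ) (hk : k = 1 ∨ k = 2) (d d' : ℕ∞) (s s' : WithBot ℕ∞) (hs : s' ≤ s)
    (h1 : (1 : ℕ∞) ≤ d → (1 : ℕ∞) ≤ d') (h2 : (2 : ℕ∞) ≤ d → (2 : ℕ∞) ≤ d')
    (hS : min (k : WithBot ℕ∞) s ≤ ((d : ℕ∞) : WithBot ℕ∞)) :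
    min (k : WithBot ℕ∞) s' ≤ ((d' : ℕ∞) : WithBot ℕ∞) := by
  by_cases hd2 : (2 : ℕ∞) ≤ d
  · have h := h2 hd2
    have hk2 : (k : WithBot ℕ∞) ≤ 2 := by
      rcases hk with rfl | rfl <;> norm_num
    refine (min_le_left _ _).trans (hk2.trans ?_)
    have : ((2 : ℕ∞) : WithBot ℕ∞) ≤ (d' : WithBot ℕ∞) := WithBot.coe_le_coe.mpr h
    simpa using this
  · by_cases hd1 : (1 : ℕ∞) ≤ d
    · have h := h1 hd1
      have h' : (1 : WithBot ℕ∞) ≤ (d' : WithBot ℕ∞) := by
        have : ((1 : ℕ∞) : WithBot ℕ∞) ≤ (d' : WithBot ℕ∞) := WithBot.coe_le_coe.mpr h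
        simpa using this
      rcases hk with rfl | rfl
      · refine (min_le_left _ _).trans ?_
        simpa using h'
      · have hd : d ≤ 1 := by
          have : d < 2 := not_le.mp hd2
          have h12 : (2 : ℕ∞) = 1 + 1 := by norm_num
          rw [h12] at this
          exact Order.le_of_lt_add_one this
        have hS' : min ((2 : ℕ) : WithBot ℕ∞) s ≤ 1 := by
          refine hS.trans ?_
          have : ((d : ℕ∞) : WithBot ℕ∞) ≤ ((1 : ℕ∞) : WithBot ℕ∞) := WithBot.coe_le_coe.mpr hd
          simpa using this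
        rcases min_le_iff.mp hS' with h | h
        · exfalso
          have : ((2 : ℕ∞) : WithBot ℕ∞) ≤ ((1 : ℕ∞) : WithBot ℕ∞) := by simp at h
          have := WithBot.coe_le_coe.mp this
          norm_num at this
        · exact (min_le_right _ _).trans (hs.trans (h.trans h'))
    · have hd : d = 0 := by
        have : d < 1 := not_le.mp hd1
        exact Order.lt_one_iff.mp this
      subst hd
      have hS' : min (k : WithBot ℕ∞) s ≤ 0 := by simpa using hS
      rcases min_le_iff.mp hS' with h | h
      · exfalso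
        rcases hk with rfl | rfl
        · have : ((1 : ℕ∞) : WithBot ℕ∞) ≤ ((0 : ℕ∞) : WithBot ℕ∞) := by simpa using h
          have := WithBot.coe_le_coe.mp this
          norm_num at this
        · have : ((2 : ℕ∞) : WithBot ℕ∞) ≤ ((0 : ℕ∞) : WithBot ℕ∞) := by simpa using h
          have := WithBot.coe_le_coe.mp this
          norm_num at this
      · refine (min_le_right _ _).trans (hs.trans (h.trans ?_))
        have : ((0 : ℕ∞) : WithBot ℕ∞) ≤ (d' : WithBot ℕ∞) := WithBot.coe_le_coe.mpr zero_le
        simpa using this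

variable {X : Scheme.{u}} [IsLocallyNoetherian X]

theorem supportDim_sheafHom_le (F G : X.Modules) (hF : Coh.IsCoh F) (hG : Coh.IsCoh G)
    [DCoh.HasSheafHom F] (x : X) :
    Module.supportDim (X.presheaf.stalk x) ↑(((DCoh.sheafHom F).obj G).presheaf.stalk x) ≤
      Module.supportDim (X.presheaf.stalk x) ↑(G.presheaf.stalk x) := by
  have : Module.Finite (X.presheaf.stalk x) (F.presheaf.stalk x) :=
    Groth.Agent.Lib.Helper12.QuasiFlat.finite_stalk_of_isCoh F hF x
  have : Module.Finite (X.presheaf.stalk x) (G.presheaf.stalk x) :=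
    Groth.Agent.Lib.Helper12.QuasiFlat.finite_stalk_of_isCoh G hG x
  rw [Module.supportDim_eq_of_equiv (stalkEquiv F G (isFP_of_isCoh F hF) x)]
  exact supportDim_hom_le _ _

end Groth.Agent.Lib.Helper49.HomSk
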