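import Mathlib
import Groth.Agent.Lib.Helper49.HomAdj
import Groth.Agent.Lib.Helper49.FinitePresentation2

/-!
# Sheaf Hom of tilde modules on an affine scheme

Shared library of helper49 (namespace `Groth.Agent.Lib.Helper49.HomTilde`).

* `evalSecₗ`, `evalLin`: evaluation of global sections of `𝓗om(F, G)` on `Spec R`, `R`-linearly.
* `evalSec_ofHom`, `ofHom_homOfSection`.
* `secEquiv M G : Γ(𝓗om(M~, G), ⊤) ≃ₗ[R] (M →ₗ[R] Γ(G, ⊤))`, `secEquivTilde`.
* `nonempty_homSh_tilde_iso`: `𝓗om(M~, N~) ≅ Hom_R(M, N)~` for `M` finitely presented.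
-/

set_option autoImplicit false
set_option linter.style.haveILetI false
universe u
open CategoryTheory CategoryTheory.Limits AlgebraicGeometry TopologicalSpace Opposite

namespace Groth.Agent.Lib.Helper49.HomTilde

open Groth.Agent.Lib.Helper45 Groth.Agent.Lib.Helper45.RefHullCoh
  Groth.Agent.Lib.Helper45.HomExtend

variable {R : CommRingCat.{u}}

/-- Evaluation of a global section of `𝓗om(F, G)` on global sections, as an `R`-linear map. -/
noncomputable def evalSecₗ {F G : (Spec R).Modules} (σ : Γ(RefHull.homSh F G, ⊤)) :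
    Γ(F, ⊤) →ₗ[R] Γ(G, ⊤) where
  toFun m := evalSec σ m
  map_add' a b := evalSec_add_right σ a b
  map_smul' r m := by
    rw [Scheme.Modules.smul_Spec_def, evalSec_smul_right]
    rfl

theorem evalSecₗ_apply {F G : (Spec R).Modules} (σ : Γ(RefHull.homSh F G, ⊤)) (m : Γ(F, ⊤)) :
    evalSecₗ σ m = evalSec σ m := rfl

/-- `σ ↦ evalSecₗ σ` as an `R`-linear map. -/
noncomputable def evalLin (F G : (Spec R).Modules) :
    Γ(RefHull.homSh F G, ⊤) →ₗ[R] (Γ(F, ⊤) →ₗ[R] Γ(G, ⊤)) where
  toFun σ := evalSecₗ σ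
  map_add' σ τ := by
    ext m
    exact evalSec_add_left σ τ m
  map_smul' r σ := by
    ext m
    change evalSec (r • σ) m = r • evalSec σ m
    rw [Scheme.Modules.smul_Spec_def, evalSec_smul_left]
    rfl

theorem evalSec_ofHom {X : Scheme.{u}} {F G : X.Modules} (α : F ⟶ G) (U : X.Opens)
    (m : Γ(F, U)) : evalSec (RefHull.ofHom α U) m = α.app U m :=
  evalSec_eq _ _ _ fun y hy => by
    rw [RefHull.ofHom_apply, RefHull.stalkMapₗ_germ]

theorem evalSec_top_eq_homOfSection {X : Scheme.{u}} {F G : X.Modules}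
    (σ : Γ(RefHull.homSh F G, ⊤)) (m : Γ(F, ⊤)) :
    evalSec σ m = (homOfSection σ).app ⊤ m := by
  rw [homOfSection_app]
  congr 1

theorem ofHom_homOfSection {X : Scheme.{u}} {F G : X.Modules}
    (σ : Γ(RefHull.homSh F G, ⊤)) : RefHull.ofHom (homOfSection σ) ⊤ = σ :=
  Subtype.ext (funext fun y => by
    rw [RefHull.ofHom_apply, stalkMapₗ_homOfSection])

/-- Global sections of `𝓗om(M~, G)` are the `R`-linear maps `M → Γ(G)`: the map. -/
noncomputable def secLin (M : ModuleCat.{u} R) (G : (Spec R).Modules) :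
    Γ(RefHull.homSh (tilde M) G, ⊤) →ₗ[R] (M →ₗ[R] Γ(G, ⊤)) :=
  (LinearMap.lcomp R _ (tilde.toOpen M ⊤).hom) ∘ₗ evalLin (tilde M) G

theorem secLin_apply (M : ModuleCat.{u} R) (G : (Spec R).Modules)
    (σ : Γ(RefHull.homSh (tilde M) G, ⊤)) (m : M) :
    secLin M G σ m = evalSec σ ((tilde.toOpen M ⊤).hom m) := rfl

/-- The tilde–Γ adjunction bijection with `Spec R` spelled without `CommRingCat.of`. -/
noncomputable def adjEquiv (M : ModuleCat.{u} R) (G : (Spec R).Modules) :
    (tilde M ⟶ G) ≃ (M ⟶ (modulesSpecToSheaf.obj G).presheaf.obj (.op ⊤)) :=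
  tilde.adjunction.homEquiv M G

theorem adjEquiv_apply (M : ModuleCat.{u} R) (G : (Spec R).Modules) (α : tilde M ⟶ G) (m : M) :
    (adjEquiv M G α).hom m = α.app ⊤ ((tilde.toOpen M ⊤).hom m) := by
  change ((tilde.adjunction.homEquiv M G) α).hom m = _
  rw [Adjunction.homEquiv_unit]
  rfl

theorem secLin_injective (M : ModuleCat.{u} R) (G : (Spec R).Modules) :
    Function.Injective (secLin M G) := by
  intro σ τ h
  have h1 : homOfSection σ = homOfSection τ :=
    (adjEquiv M G).injective (by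
      ext m
      rw [adjEquiv_apply, adjEquiv_apply, ← evalSec_top_eq_homOfSection,
        ← evalSec_top_eq_homOfSection, ← secLin_apply, ← secLin_apply, h])
  rw [← ofHom_homOfSection σ, ← ofHom_homOfSection τ, h1]

theorem secLin_surjective (M : ModuleCat.{u} R) (G : (Spec R).Modules) :
    Function.Surjective (secLin M G) := by
  intro f
  let g : M ⟶ (modulesSpecToSheaf.obj G).presheaf.obj (.op ⊤) :=
    ModuleCat.ofHom (X := M) (Y := (modulesSpecToSheaf.obj G).presheaf.obj (.op ⊤)) f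
  let α : tilde M ⟶ G := (adjEquiv M G).symm g
  refine ⟨RefHull.ofHom α ⊤, ?_⟩
  have h1 : (adjEquiv M G) α = g := Equiv.apply_symm_apply _ _
  ext m
  rw [secLin_apply, evalSec_ofHom, ← adjEquiv_apply, h1]
  rfl

/-- Global sections of `𝓗om(M~, G)` are the `R`-linear maps `M → Γ(G)`. -/
noncomputable def secEquiv (M : ModuleCat.{u} R) (G : (Spec R).Modules) :
    Γ(RefHull.homSh (tilde M) G, ⊤) ≃ₗ[R] (M →ₗ[R] Γ(G, ⊤)) :=
  LinearEquiv.ofBijective (secLin M G) ⟨secLin_injective M G, secLin_surjective M G⟩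

/-- Global sections of `𝓗om(M~, N~)` are `Hom_R(M, N)`. -/
noncomputable def secEquivTilde (M N : ModuleCat.{u} R) :
    Γ(RefHull.homSh (tilde M) (tilde N), ⊤) ≃ₗ[R] (M →ₗ[R] N) :=
  (secEquiv M (tilde N)).trans
    (LinearEquiv.congrRight (tilde.isoTop N).toLinearEquiv.symm)

/-- `𝓗om(M~, N~) ≅ Hom_R(M, N)~` for `M` finitely presented. -/
theorem nonempty_homSh_tilde_iso (M N : ModuleCat.{u} R) [Module.FinitePresentation R M] :
    Nonempty (RefHull.homSh (tilde M) (tilde N) ≅ tilde (ModuleCat.of R (M →ₗ[R] N))) := by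
  have hFP : CohB1.IsFP (tilde M) :=
    (Groth.Agent.Lib.Helper49.isFinitePresentation_tilde_iff R M).mpr inferInstance
  haveI : (RefHull.homSh (tilde M) (tilde N)).IsQuasicoherent :=
    isQuasicoherent_homSh (tilde M) (tilde N) hFP
  haveI : IsIso (RefHull.homSh (tilde M) (tilde N)).fromTildeΓ :=
    Scheme.Modules.isIso_fromTildeΓ_of_isQuasicoherent _
  let e1 := asIso (RefHull.homSh (tilde M) (tilde N)).fromTildeΓ
  let e2 : (modulesSpecToSheaf.obj (RefHull.homSh (tilde M) (tilde N))).presheaf.obj (.op ⊤) ≅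
      ModuleCat.of R (M →ₗ[R] N) :=
    (secEquivTilde M N).toModuleIso
  exact ⟨e1.symm ≪≫ (tilde.functor R).mapIso e2⟩

end Groth.Agent.Lib.Helper49.HomTilde
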