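import Mathlib
import Groth.Agent.Lib.Helper45.IdealModSections
import Groth.Agent.Lib.Helper49.FiniteTypeAffine
import Groth.Agent.Lib.Helper49.PrinPartFP
import Groth.Agent.Lib.Helper11.SupportTensor
/-!
# Finite type ideal modules and graded pieces (helper49)
-/
set_option autoImplicit false
set_option linter.style.haveILetI false
universe u
open CategoryTheory AlgebraicGeometry TopologicalSpace

namespace Groth.Agent.Lib.Helper49.IdealModFinite

variable {X : Scheme.{u}}

theorem finite_sections_idealMod (J : X.IdealSheafData) (U : X.affineOpens)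
    (h : (J.ideal U).FG) : Module.Finite Γ(X, U.1) Γ(ClSub.idealMod J, U.1) := by
  let ι : Γ(ClSub.idealMod J, U.1) →ₗ[Γ(X, U.1)] Γ(Coh.structureModule X, U.1) :=
    Helper45.appₗ (ClSub.idealModι J) U.1
  have hinj : Function.Injective ι := Helper45.idealModι_app_injective J U.1
  have hrange : LinearMap.range ι =
      (show Submodule Γ(X, U.1) Γ(Coh.structureModule X, U.1) from J.ideal U) := by
    ext a
    constructor
    · rintro ⟨s, rfl⟩
      exact Helper45.idealModι_app_mem J U s
    · intro ha
      obtain ⟨s, hs⟩ := (Helper45.mem_ideal_iff_exists_section J U a).1 ha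
      exact ⟨s, hs⟩
  have hfg : (LinearMap.range ι).FG := by
    rw [hrange]
    exact h
  have : Module.Finite Γ(X, U.1) (LinearMap.range ι) := Module.Finite.iff_fg.mpr hfg
  exact Module.Finite.equiv (LinearEquiv.ofInjective ι hinj).symm

theorem isFiniteType_idealMod (J : X.IdealSheafData) (h : ∀ U : X.affineOpens, (J.ideal U).FG) :
    SheafOfModules.IsFiniteType (R := X.ringCatSheaf) (ClSub.idealMod J) :=
  isFiniteType_of_finite_sections _ fun U => finite_sections_idealMod J U (h U)

/-- S5973 -/
theorem isCoh_grMod {Y : Scheme.{u}} (f : Y ⟶ X) [IsClosedImmersion f]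
    [LocallyOfFinitePresentation f] (n : ℕ) : Coh.IsCoh (PrinPart.grMod f n) := by
  have h1 : SheafOfModules.IsFiniteType (R := X.ringCatSheaf) (ClSub.idealMod (f.ker ^ n)) :=
    isFiniteType_idealMod _ fun U => by
      rw [Scheme.IdealSheafData.ideal_pow]
      exact (PrinPartFP.ker_ideal_fg f U).pow
  exact ⟨Groth.Agent.Lib.Helper16.FlatPull.isQuasicoherent_pullback f _,
    Groth.Agent.Lib.Helper11.SupportTensor.isFiniteType_pullback_of_isFiniteType f _ h1⟩

end Groth.Agent.Lib.Helper49.IdealModFinite
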