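import Mathlib
import Groth.Prelude.Def_KZero
import Groth.Prelude.Def_ChowK
import Groth.Agent.Lib.Helper49.SerreGen

set_option autoImplicit false
set_option linter.style.haveILetI false
universe v u

open CategoryTheory CategoryTheory.Limits AlgebraicGeometry Opposite TopologicalSpace

namespace Groth.Agent.Lib.Helper49.K0Coh

section Abstract

variable {A : Type u} [Category.{v} A] [Abelian A] (P : ObjectProperty A)

theorem clSub_shortExact (S : ShortComplex A) (hS : S.ShortExact) (h₁ : P S.X₁) (h₂ : P S.X₂)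
    (h₃ : P S.X₃) : KZero.clSub P S.X₂ = KZero.clSub P S.X₁ + KZero.clSub P S.X₃ := by
  unfold KZero.clSub
  rw [dif_pos h₁, dif_pos h₂, dif_pos h₃]
  have hmem : FreeAbelianGroup.of (⟨S.X₂, h₂⟩ : Subtype P) - FreeAbelianGroup.of ⟨S.X₁, h₁⟩ -
      FreeAbelianGroup.of ⟨S.X₃, h₃⟩ ∈ KZero.relSub P :=
    AddSubgroup.subset_closure ⟨S, h₁, h₂, h₃, hS, rfl⟩
  have h0 := (QuotientAddGroup.eq_zero_iff _).mpr hmem
  rw [QuotientAddGroup.mk_sub, QuotientAddGroup.mk_sub, sub_sub, sub_eq_zero] at h0
  exact h0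

theorem clSub_isZero {Z : A} (hZ : IsZero Z) (hP : P Z) : KZero.clSub P Z = 0 := by
  have hS : (ShortComplex.mk (𝟙 Z) (0 : Z ⟶ Z) (by simp)).ShortExact := by
    haveI : Epi (0 : Z ⟶ Z) := ⟨fun g h _ => hZ.eq_of_src g h⟩
    exact ShortComplex.ShortExact.mk' (ShortComplex.exact_of_isZero_X₂ _ hZ) inferInstance
      inferInstance
  have := clSub_shortExact P _ hS hP hP hP
  simpa using this

end Abstract


section Coh

open Groth.Agent.Lib.Helper49.SerreGen Groth.Agent.Lib.Helper49.QuotModStalk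
  Groth.Agent.Lib.Helper45.CoprimarySheaf Groth.Agent.Lib.Helper45.GraphTrick

variable {X : Scheme.{u}}

theorem closureStructureSheaf_eq (x : X) :
    Cyc.closureStructureSheaf x = ClSub.quotMod (ptIdeal x) := rfl

theorem isCoh_closureStructureSheaf (x : X) : Coh.IsCoh (Cyc.closureStructureSheaf x) :=
  isCoh_quotMod (ptIdeal x)

theorem support_closureStructureSheaf (x : X) :
    CohB1.support (Cyc.closureStructureSheaf x) = closure {x} := by
  rw [closureStructureSheaf_eq, support_quotMod, support_ptIdeal]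

theorem isSimpleModule_stalk_closureStructureSheaf (x : X) :
    IsSimpleModule (X.presheaf.stalk x) ↑((Cyc.closureStructureSheaf x).presheaf.stalk x) :=
  isSimpleModule_stalk_quotMod x

theorem clSub_iso {A B : X.Modules} (e : A ≅ B) (hA : Coh.IsCoh A) :
    KZero.clSub (fun M : X.Modules => Coh.IsCoh M) A =
      KZero.clSub (fun M : X.Modules => Coh.IsCoh M) B := by
  have hB : Coh.IsCoh B := isCoh_of_iso e hA
  have hz : IsZero (cokernel e.hom) := isZero_cokernel_of_epi e.hom
  have hc : Coh.IsCoh (cokernel e.hom) := isCoh_of_isZero hz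
  have h1 := clSub_shortExact (fun M : X.Modules => Coh.IsCoh M) _ (shortExact_cokernel e.hom)
    hA hB hc
  rw [clSub_isZero (fun M : X.Modules => Coh.IsCoh M) hz hc, add_zero] at h1
  exact h1.symm

/-- **Dévissage in `K₀(Coh X)`.** A subgroup of `K₀(Coh X)` containing the classes of the
structure sheaves of the reduced closures of all points of the support of the coherent module `G`
contains the class of `G`. -/
theorem clSub_mem_of_forall_closureStructureSheaf [IsNoetherian X]
    (H : AddSubgroup (KZero.K0sub (fun M : X.Modules => Coh.IsCoh M))) (G : X.Modules)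
    (hG : Coh.IsCoh G)
    (h : ∀ x ∈ CohB1.support G,
      KZero.clSub (fun M : X.Modules => Coh.IsCoh M) (Cyc.closureStructureSheaf x) ∈ H) :
    KZero.clSub (fun M : X.Modules => Coh.IsCoh M) G ∈ H := by
  have hclosed : IsClosed (CohB1.support G) :=
    Groth.Agent.Lib.Helper1.isClosed_support_of_isFiniteType G hG.2
  have key := Groth.Agent.Lib.Helper45.DevNoeth.devissage
    (fun M => Coh.IsCoh M ∧ KZero.clSub (fun M : X.Modules => Coh.IsCoh M) M ∈ H)
    ?_ ?_ (CohB1.support G) hclosed ?_ ?_ G hG (fun _ hx => hx)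
  · exact key.2
  · rintro A B ⟨e⟩ ⟨hA, hPA⟩
    exact ⟨isCoh_of_iso e hA, clSub_iso e hA ▸ hPA⟩
  · intro A hA
    refine ⟨isCoh_of_isZero hA, ?_⟩
    rw [clSub_isZero _ hA (isCoh_of_isZero hA)]
    exact H.zero_mem
  · intro S hS h1 h2 h3 _
    have hadd := clSub_shortExact (fun M : X.Modules => Coh.IsCoh M) S hS h1 h2 h3
    refine ⟨fun hP1 hP2 => ⟨h3, ?_⟩, fun hP1 hP3 => ⟨h2, ?_⟩, fun hP2 hP3 => ⟨h1, ?_⟩⟩
    · have := H.sub_mem hP2.2 hP1.2
      rwa [hadd, add_sub_cancel_left] at this
    · rw [hadd]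
      exact H.add_mem hP1.2 hP3.2
    · have := H.sub_mem hP2.2 hP3.2
      rwa [hadd, add_sub_cancel_right] at this
  · intro x hx
    exact ⟨Cyc.closureStructureSheaf x, isCoh_closureStructureSheaf x,
      (support_closureStructureSheaf x).le, ⟨isCoh_closureStructureSheaf x, h x hx⟩,
      isSimpleModule_stalk_closureStructureSheaf x⟩

end Coh

end Groth.Agent.Lib.Helper49.K0Coh
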