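import Mathlib
import Groth.Agent.Lib.Helper49.K0Coh
import Groth.Agent.Lib.Helper49.TopDim
import Groth.Agent.Lib.Helper49.StalkNbhd2
import Groth.Agent.S1576

set_option autoImplicit false
set_option linter.style.haveILetI false
universe u

open CategoryTheory CategoryTheory.Limits AlgebraicGeometry Opposite TopologicalSpace
open Classical

namespace Groth.Agent.Lib.Helper49.K0Filt

open Groth.Agent.Lib.Helper45 Groth.Agent.Lib.Helper49 Groth.Agent.Lib.Helper45.DevCore
  Groth.Agent.Lib.Helper45.NowhereDense Groth.Agent.Lib.Helper49.K0Coh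
  Groth.Agent.Lib.Helper49.SerreGen Groth.Agent.Lib.Helper49.TopDim

variable {X : Scheme.{u}}

section FiniteLength

attribute [local instance] stalkModuleSections

/-- The stalk of a coherent module at a point which has no proper generization in the support
has finite length. -/
theorem isFiniteLength_stalk_of_maximal [IsLocallyNoetherian X] (M : X.Modules)
    (hM : Coh.IsCoh M) (ξ : X) (hmax : ∀ z ∈ CohB1.support M, z ⤳ ξ → z = ξ) :
    IsFiniteLength (X.presheaf.stalk ξ) (M.presheaf.stalk ξ) := by
  haveI := hM.1
  obtain ⟨_, ⟨V, hV : IsAffineOpen V, rfl⟩, hξV, -⟩ :=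
    X.isBasis_affineOpens.exists_subset_of_mem_open (Set.mem_univ ξ) isOpen_univ
  obtain ⟨x, rfl⟩ : ∃ x : V, (x : X) = ξ := ⟨⟨ξ, hξV⟩, rfl⟩
  haveI : IsNoetherianRing Γ(X, V) := IsLocallyNoetherian.component_noetherian ⟨V, hV⟩
  haveI : Module.Finite Γ(X, V) Γ(M, V) := finite_sections_of_isCoh hV M hM
  haveI := hV.isLocalization_stalk x
  haveI := isLocalizedModule_germₗ hV M x
  haveI : Module.Finite (X.presheaf.stalk (x : X)) (M.presheaf.stalk (x : X)) :=
    Groth.Agent.Lib.Helper12.QuasiFlat.finite_stalk_of_isCoh M hM x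
  haveI : IsNoetherianRing (X.presheaf.stalk (x : X)) :=
    IsLocalization.isNoetherianRing (hV.primeIdealOf x).asIdeal.primeCompl _ inferInstance
  apply Groth.Agent.Lib.Helper85.HS.isFiniteLength_of_supportDim_le_zero
  rcases withBot_enat_le_zero_or_one_le
    (Module.supportDim (X.presheaf.stalk (x : X)) (M.presheaf.stalk (x : X))) with h | h
  · exact h
  · exfalso
    obtain ⟨q, hq, hqp⟩ := (one_le_supportDim_iff (hV.primeIdealOf x).asIdeal
      (X.presheaf.stalk (x : X)) (germₗ M x)).mp h
    obtain ⟨z, hz⟩ := exists_primeIdealOf_eq hV q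
    have hzM : (z : X) ∈ CohB1.support M := mem_support_of_primeIdealOf_mem hV M z (hz ▸ hq)
    have hle : (hV.primeIdealOf z).asIdeal ≤ (hV.primeIdealOf x).asIdeal := by
      rw [hz]
      exact hqp.le
    have hspec : (z : X) ⤳ (x : X) := (primeIdealOf_le_iff hV x z).mp hle
    have hzx : z = x := Subtype.ext (hmax z hzM hspec)
    rw [← hz, hzx] at hqp
    exact lt_irrefl _ hqp

end FiniteLength

section Dim

/-- In a closed set of dimension `≤ n`, a point whose closure has dimension `n` has no proper
generization. -/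
theorem eq_of_specializes_of_dim {T : Set X} (hT : IsClosed T) (n : ℕ)
    (hdim : topologicalKrullDim ↥T ≤ n) (x : X)
    (hx : topologicalKrullDim ↥(closure ({x} : Set X)) = n) (z : X) (hz : z ∈ T)
    (hzx : z ⤳ x) : z = x := by
  by_contra hne
  have hsub : closure ({x} : Set X) ⊆ closure {z} :=
    isClosed_closure.closure_subset_iff.mpr
      (Set.singleton_subset_iff.mpr (specializes_iff_mem_closure.mp hzx))
  have hneq : closure ({x} : Set X) ≠ closure {z} := by
    intro heq
    have hxz : x ⤳ z := by
      rw [specializes_iff_mem_closure, heq]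
      exact subset_closure rfl
    exact hne (hzx.antisymm hxz).eq
  have h1 := topologicalKrullDim_add_one_le_of_ssubset isClosed_closure hsub hneq
    isIrreducible_singleton.closure
  have hzT : closure ({z} : Set X) ⊆ T :=
    hT.closure_subset_iff.mpr (Set.singleton_subset_iff.mpr hz)
  have h2 : topologicalKrullDim ↥(closure ({z} : Set X)) ≤ topologicalKrullDim ↥T :=
    Topology.IsInducing.topologicalKrullDim_le (Topology.IsEmbedding.inclusion hzT).isInducing
  rw [hx] at h1
  have h3 : ((n : WithBot ℕ∞) + 1) ≤ n := h1.trans (h2.trans hdim)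
  have h4 : ((n + 1 : ℕ) : WithBot ℕ∞) ≤ (n : ℕ) := by exact_mod_cast h3
  have h5 : n + 1 ≤ n := by exact_mod_cast h4
  omega

end Dim


section Main

variable (n : ℕ)

/-- the coefficient term of the cycle class -/
noncomputable def term (M : X.Modules) (x : X) :
    KZero.K0sub (fun M : X.Modules => Coh.IsCoh M) :=
  if topologicalKrullDim ↥(closure ({x} : Set ↥X)) = n then
    (Module.length (X.presheaf.stalk x) (M.presheaf.stalk x)).toNat •
      KZero.clSub (fun M : X.Modules => Coh.IsCoh M) (Cyc.closureStructureSheaf x)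
  else 0

/-- the subgroup generated by classes of coherent modules with support of dimension `< n`. -/
noncomputable def Filt (X : Scheme.{u}) (n : ℕ) : AddSubgroup (KZero.K0sub (fun M : X.Modules => Coh.IsCoh M)) :=
  AddSubgroup.closure {c : KZero.K0sub (fun M : X.Modules => Coh.IsCoh M) |
    ∃ G : X.Modules, Coh.IsCoh G ∧ topologicalKrullDim ↥(CohB1.support G) < n ∧
      c = KZero.clSub (fun M : X.Modules => Coh.IsCoh M) G}

theorem term_of_subsingleton (M : X.Modules) (x : X)
    (h : Subsingleton ↑(M.presheaf.stalk x)) : term n M x = 0 := by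
  unfold term
  split_ifs
  · rw [Module.length_eq_zero, ENat.toNat_zero, zero_smul]
  · rfl

theorem term_of_dim_ne (M : X.Modules) (x : X)
    (h : ¬ topologicalKrullDim ↥(closure ({x} : Set ↥X)) = n) : term n M x = 0 := by
  unfold term
  rw [if_neg h]

theorem term_of_iso {A B : X.Modules} (e : A ≅ B) (x : X) : term n A x = term n B x := by
  unfold term
  have hl : Module.length (X.presheaf.stalk x) ↑(A.presheaf.stalk x) =
      Module.length (X.presheaf.stalk x) ↑(B.presheaf.stalk x) :=
    (LinearEquiv.ofBijective (stalkMapLinear e.hom x)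
      (stalkMap_bijective_of_isIso e.hom x)).length_eq
  rw [hl]

variable [IsNoetherian X] {T : Set X} (hT : IsClosed T) (hdim : topologicalKrullDim ↥T ≤ n)
include hT hdim

theorem length_ne_top (M : X.Modules) (hM : Coh.IsCoh M) (hMT : CohB1.support M ⊆ T) (x : X)
    (hx : topologicalKrullDim ↥(closure ({x} : Set X)) = n) :
    Module.length (X.presheaf.stalk x) ↑(M.presheaf.stalk x) ≠ ⊤ := by
  by_cases hxM : x ∈ CohB1.support M
  · rw [Module.length_ne_top_iff]
    apply isFiniteLength_stalk_of_maximal M hM x
    intro z hz hzx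
    exact eq_of_specializes_of_dim hT n hdim x hx z (hMT hz) hzx
  · have : Subsingleton ↑(M.presheaf.stalk x) := not_not.mp hxM
    rw [Module.length_eq_zero]
    exact ENat.zero_ne_top

theorem support_term_finite (M : X.Modules) (hM : Coh.IsCoh M) (hMT : CohB1.support M ⊆ T) :
    (Function.support (term n M)).Finite := by
  have hcpt : IsCompact ((⊤ : X.Opens) : Set X) := isCompact_univ
  refine (Groth.Agent.S1576.result X M hM ⊤ hcpt).subset ?_
  intro x hx
  rw [Function.mem_support] at hx
  have hxn : topologicalKrullDim ↥(closure ({x} : Set X)) = n := by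
    by_contra h
    exact hx (term_of_dim_ne n M x h)
  have hxM : x ∈ CohB1.support M := by
    by_contra h
    exact hx (term_of_subsingleton n M x (not_not.mp h))
  refine ⟨trivial, ?_⟩
  obtain ⟨x', hx'ass, -, hx'x⟩ := exists_minimal_ass_specializes M hM hxM
  have hx' : x' = x := eq_of_specializes_of_dim hT n hdim x hxn x'
    (hMT (mem_support_of_isAssPoint M hx'ass)) hx'x
  exact hx' ▸ hx'ass

theorem term_add (S : ShortComplex X.Modules) (hS : S.ShortExact) (h1 : Coh.IsCoh S.X₁)
    (_h2 : Coh.IsCoh S.X₂) (h3 : Coh.IsCoh S.X₃) (hST : CohB1.support S.X₂ ⊆ T) (x : X) :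
    term n S.X₂ x = term n S.X₁ x + term n S.X₃ x := by
  haveI := hS.mono_f
  haveI := hS.epi_g
  have hs := (support_subset_iff_of_shortExact S hS T).mp hST
  unfold term
  split_ifs with hx
  · have e := Module.length_eq_add_of_exact (stalkMapLinear S.f x) (stalkMapLinear S.g x)
      (stalkMap_injective_of_mono S.f x) (stalkMap_surjective_of_epi S.g x)
      (stalkMap_exact_of_shortExact S hS x)
    rw [e, ENat.toNat_add (length_ne_top n hT hdim S.X₁ h1 hs.1 x hx)
      (length_ne_top n hT hdim S.X₃ h3 hs.2 x hx), add_smul]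
  · rw [add_zero]

theorem finsum_term_add (S : ShortComplex X.Modules) (hS : S.ShortExact) (h1 : Coh.IsCoh S.X₁)
    (h2 : Coh.IsCoh S.X₂) (h3 : Coh.IsCoh S.X₃) (hST : CohB1.support S.X₂ ⊆ T) :
    finsum (term n S.X₂) = finsum (term n S.X₁) + finsum (term n S.X₃) := by
  have hs := (support_subset_iff_of_shortExact S hS T).mp hST
  rw [← finsum_add_distrib (support_term_finite n hT hdim S.X₁ h1 hs.1)
    (support_term_finite n hT hdim S.X₃ h3 hs.2)]
  exact finsum_congr (term_add n hT hdim S hS h1 h2 h3 hST)

omit [AlgebraicGeometry.IsNoetherian X] in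
theorem finsum_term_closureStructureSheaf_of_dim_eq (x' : X) (hx'T : x' ∈ T)
    (hx' : topologicalKrullDim ↥(closure ({x'} : Set X)) = n) :
    finsum (term n (Cyc.closureStructureSheaf x')) =
      KZero.clSub (fun M : X.Modules => Coh.IsCoh M) (Cyc.closureStructureSheaf x') := by
  rw [finsum_eq_single _ x']
  · unfold term
    haveI := isSimpleModule_stalk_closureStructureSheaf x'
    rw [if_pos hx', Module.length_eq_one_iff.mpr inferInstance, ENat.toNat_one, one_smul]
  · intro x hxx'
    by_cases hxn : topologicalKrullDim ↥(closure ({x} : Set X)) = n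
    · apply term_of_subsingleton
      by_contra hsub
      have hxs : x ∈ CohB1.support (Cyc.closureStructureSheaf x') := hsub
      rw [support_closureStructureSheaf] at hxs
      have hspec : x' ⤳ x := specializes_iff_mem_closure.mpr hxs
      exact hxx' (eq_of_specializes_of_dim hT n hdim x hxn x' hx'T hspec).symm
    · exact term_of_dim_ne n _ x hxn

omit [AlgebraicGeometry.IsNoetherian X] hT hdim in
theorem finsum_term_closureStructureSheaf_of_dim_ne (x' : X)
    (hx' : topologicalKrullDim ↥(closure ({x'} : Set X)) < n) :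
    finsum (term n (Cyc.closureStructureSheaf x')) = 0 := by
  apply finsum_eq_zero_of_forall_eq_zero
  intro x
  by_cases hxn : topologicalKrullDim ↥(closure ({x} : Set X)) = n
  · apply term_of_subsingleton
    by_contra hsub
    have hxs : x ∈ CohB1.support (Cyc.closureStructureSheaf x') := hsub
    rw [support_closureStructureSheaf] at hxs
    have hsub' : closure ({x} : Set X) ⊆ closure {x'} :=
      isClosed_closure.closure_subset_iff.mpr (Set.singleton_subset_iff.mpr hxs)
    have hle : topologicalKrullDim ↥(closure ({x} : Set X)) ≤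
        topologicalKrullDim ↥(closure ({x'} : Set X)) :=
      Topology.IsInducing.topologicalKrullDim_le (Topology.IsEmbedding.inclusion hsub').isInducing
    rw [hxn] at hle
    exact absurd hx' (not_lt_of_ge hle)
  · exact term_of_dim_ne n _ x hxn

omit hT hdim in
/-- **The cycle class modulo lower-dimensional classes.** -/
theorem clSub_sub_finsum_term_mem (F : X.Modules) (hF : Coh.IsCoh F)
    (hsupp : topologicalKrullDim ↥(CohB1.support F) ≤ n) :
    KZero.clSub (fun M : X.Modules => Coh.IsCoh M) F - finsum (term n F) ∈ Filt X n := by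
  have hT : IsClosed (CohB1.support F) :=
    Groth.Agent.Lib.Helper1.isClosed_support_of_isFiniteType F hF.2
  have key := Groth.Agent.Lib.Helper45.DevNoeth.devissage
    (fun M => Coh.IsCoh M ∧
      KZero.clSub (fun M : X.Modules => Coh.IsCoh M) M - finsum (term n M) ∈ Filt X n)
    ?_ ?_ (CohB1.support F) hT ?_ ?_ F hF (fun _ hx => hx)
  · exact key.2
  · rintro A B ⟨e⟩ ⟨hA, hPA⟩
    refine ⟨isCoh_of_iso e hA, ?_⟩
    have h1 : term n A = term n B := funext (term_of_iso n e)
    rw [← clSub_iso e hA, ← h1]
    exact hPA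
  · intro A hA
    refine ⟨isCoh_of_isZero hA, ?_⟩
    have hsub : ∀ x : X, Subsingleton ↑(A.presheaf.stalk x) :=
      (isZero_iff_stalk_subsingleton A).mp hA
    rw [clSub_isZero _ hA (isCoh_of_isZero hA),
      finsum_eq_zero_of_forall_eq_zero (fun x => term_of_subsingleton n A x (hsub x)), sub_zero]
    exact (Filt X n).zero_mem
  · intro S hS h1 h2 h3 hST
    have hadd := clSub_shortExact (fun M : X.Modules => Coh.IsCoh M) S hS h1 h2 h3
    have hsum := finsum_term_add n hT hsupp S hS h1 h2 h3 hST
    have hkey : KZero.clSub (fun M : X.Modules => Coh.IsCoh M) S.X₂ - finsum (term n S.X₂) =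
        (KZero.clSub (fun M : X.Modules => Coh.IsCoh M) S.X₁ - finsum (term n S.X₁)) +
        (KZero.clSub (fun M : X.Modules => Coh.IsCoh M) S.X₃ - finsum (term n S.X₃)) := by
      rw [hadd, hsum]
      abel
    refine ⟨fun hP1 hP2 => ⟨h3, ?_⟩, fun hP1 hP3 => ⟨h2, ?_⟩, fun hP2 hP3 => ⟨h1, ?_⟩⟩
    · have := (Filt X n).sub_mem hP2.2 hP1.2
      rwa [hkey, add_sub_cancel_left] at this
    · rw [hkey]
      exact (Filt X n).add_mem hP1.2 hP3.2
    · have := (Filt X n).sub_mem hP2.2 hP3.2
      rwa [hkey, add_sub_cancel_right] at this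
  · intro x hx
    refine ⟨Cyc.closureStructureSheaf x, isCoh_closureStructureSheaf x,
      (support_closureStructureSheaf x).le, ⟨isCoh_closureStructureSheaf x, ?_⟩,
      isSimpleModule_stalk_closureStructureSheaf x⟩
    have hxT : closure ({x} : Set X) ⊆ CohB1.support F :=
      hT.closure_subset_iff.mpr (Set.singleton_subset_iff.mpr hx)
    have hle : topologicalKrullDim ↥(closure ({x} : Set X)) ≤ n :=
      (Topology.IsInducing.topologicalKrullDim_le
        (Topology.IsEmbedding.inclusion hxT).isInducing).trans hsupp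
    by_cases hxn : topologicalKrullDim ↥(closure ({x} : Set X)) = n
    · rw [finsum_term_closureStructureSheaf_of_dim_eq n hT hsupp x hx hxn, sub_self]
      exact (Filt X n).zero_mem
    · have hlt : topologicalKrullDim ↥(closure ({x} : Set X)) < n := lt_of_le_of_ne hle hxn
      rw [finsum_term_closureStructureSheaf_of_dim_ne n x hlt, sub_zero]
      refine AddSubgroup.subset_closure ⟨Cyc.closureStructureSheaf x,
        isCoh_closureStructureSheaf x, ?_, rfl⟩
      rw [support_closureStructureSheaf]
      exact hlt

end Main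

end Groth.Agent.Lib.Helper49.K0Filt
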