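import Mathlib

/-!
# Kaehler differentials of a quotient, localized at a prime

`ker_map_le`: `ker (Ω[A/R] → Ω[B/R]) ≤ I Ω[A/R] + span {dg | g ∈ I}` for `A → B` surjective with kernel `I`.
`main`: `(Ω[B/A])_q = 0` iff the `dg`, `g ∈ I`, span `(Ω[P/A])_𝔮`.
-/
universe u
open TensorProduct

namespace Groth.Agent.Lib.Helper49

lemma ker_mk_of_surjective {P B Q : Type*} [CommRing P] [CommRing B] [Algebra P B]
    [AddCommGroup Q] [Module P Q] (h : Function.Surjective (algebraMap P B)) :
    LinearMap.ker (TensorProduct.mk P B Q 1) =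
      (RingHom.ker (algebraMap P B)) • (⊤ : Submodule P Q) := by
  apply Submodule.comap_injective_of_surjective (TensorProduct.lid P Q).surjective
  rw [← LinearMap.ker_comp]
  have hex : Function.Exact (Submodule.subtype (RingHom.ker (algebraMap P B)))
      (Algebra.linearMap P B) := by
    intro x
    simp [RingHom.mem_ker]
  have := rTensor_exact Q hex h
  rw [LinearMap.exact_iff] at this
  convert this
  · ext; simp
  · rw [Submodule.comap_equiv_eq_map_symm, Submodule.map_symm_eq_iff,
      Submodule.map_range_rTensor_subtype_lid]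


lemma ker_map_le {R A B : Type*} [CommRing R] [CommRing A] [CommRing B] [Algebra R A]
    [Algebra R B] [Algebra A B] [IsScalarTower R A B]
    (h : Function.Surjective (algebraMap A B)) :
    LinearMap.ker (KaehlerDifferential.map R R A B) ≤
      (RingHom.ker (algebraMap A B)) • (⊤ : Submodule A (Ω[A⁄R])) ⊔
        Submodule.span A ((KaehlerDifferential.D R A) '' (RingHom.ker (algebraMap A B) : Set A)) := by
  intro ω hω
  rw [LinearMap.mem_ker] at hω
  have h1 : KaehlerDifferential.mapBaseChange R A B (1 ⊗ₜ ω) = 0 := by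
    rw [KaehlerDifferential.mapBaseChange_tmul, hω, smul_zero]
  obtain ⟨c, hc⟩ := (KaehlerDifferential.exact_kerCotangentToTensor_mapBaseChange R A B h _).mp h1
  obtain ⟨g, rfl⟩ := Ideal.toCotangent_surjective _ c
  rw [KaehlerDifferential.kerCotangentToTensor_toCotangent] at hc
  have h2 : ω - KaehlerDifferential.D R A g.1 ∈ LinearMap.ker (TensorProduct.mk A B (Ω[A⁄R]) 1) := by
    rw [LinearMap.mem_ker, TensorProduct.mk_apply, TensorProduct.tmul_sub, hc, sub_self]
  rw [ker_mk_of_surjective h] at h2
  have : ω = (ω - KaehlerDifferential.D R A g.1) + KaehlerDifferential.D R A g.1 := by abel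
  rw [this]
  exact Submodule.add_mem_sup h2 (Submodule.subset_span ⟨g.1, g.2, rfl⟩)


theorem kaehler_localized_subsingleton_iff {A P B : Type u} [CommRing A] [CommRing P] [CommRing B] [Algebra A P] [Algebra A B]
    [Algebra P B] [IsScalarTower A P B] [Module.Finite P (Ω[P⁄A])]
    (h : Function.Surjective (algebraMap P B)) (q : Ideal B) [q.IsPrime] :
    Subsingleton (LocalizedModule q.primeCompl (Ω[B⁄A])) ↔
      Submodule.span (Localization.AtPrime (q.comap (algebraMap P B)))
        ((LocalizedModule.mkLinearMap (q.comap (algebraMap P B)).primeCompl (Ω[P⁄A])) ''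
          ((KaehlerDifferential.D A P) '' (RingHom.ker (algebraMap P B) : Set P))) = ⊤ := by
  rw [← Submodule.localized'_span (Localization.AtPrime (q.comap (algebraMap P B)))
    (q.comap (algebraMap P B)).primeCompl
    (LocalizedModule.mkLinearMap (q.comap (algebraMap P B)).primeCompl (Ω[P⁄A])),
    LocalizedModule.subsingleton_iff]
  have hmapD : ∀ ν ∈ Submodule.span P ((KaehlerDifferential.D A P) ''
      (RingHom.ker (algebraMap P B) : Set P)), KaehlerDifferential.map A A P B ν = 0 := by
    intro ν hν
    refine Submodule.span_induction ?_ (map_zero _) ?_ ?_ hν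
    · rintro _ ⟨g, hg, rfl⟩
      rw [KaehlerDifferential.map_D, RingHom.mem_ker.mp hg, map_zero]
    · intro x y _ _ hx hy
      rw [map_add, hx, hy, add_zero]
    · intro a x _ hx
      rw [map_smul, hx, smul_zero]
  constructor
  · intro H
    rw [eq_top_iff]
    refine Submodule.le_of_le_smul_of_le_jacobson_bot
      (I := IsLocalRing.maximalIdeal (Localization.AtPrime (q.comap (algebraMap P B))))
      Module.Finite.fg_top (IsLocalRing.maximalIdeal_le_jacobson _) ?_
    rintro x -
    induction x using LocalizedModule.induction_on with | h ω t =>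
    obtain ⟨r, hr, hrω⟩ := H (KaehlerDifferential.map A A P B ω)
    obtain ⟨s, rfl⟩ := h r
    have hs : s ∈ (q.comap (algebraMap P B)).primeCompl := hr
    have hker : s • ω ∈ LinearMap.ker (KaehlerDifferential.map A A P B) := by
      rw [LinearMap.mem_ker, map_smul, ← algebraMap_smul B s, hrω]
    obtain ⟨a, ha, ν, hν, hsum⟩ := Submodule.mem_sup.mp (ker_map_le h hker)
    have hdecomp : LocalizedModule.mk ω t =
        LocalizedModule.mk ν (⟨s, hs⟩ * t) + LocalizedModule.mk a (⟨s, hs⟩ * t) := by
      rw [← LocalizedModule.mk_cancel_common_left ⟨s, hs⟩ t ω, Submonoid.mk_smul, ← hsum,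
        add_comm a ν, LocalizedModule.mk_add_mk, ← smul_add,
        LocalizedModule.mk_cancel_common_left]
    rw [hdecomp]
    refine Submodule.add_mem_sup ?_ ?_
    · exact ⟨ν, hν, ⟨s, hs⟩ * t, (IsLocalizedModule.mk_eq_mk' _ _).symm⟩
    · refine Submodule.smul_induction_on
        (p := fun a => LocalizedModule.mk a (⟨s, hs⟩ * t) ∈
          IsLocalRing.maximalIdeal (Localization.AtPrime (q.comap (algebraMap P B))) •
            (⊤ : Submodule (Localization.AtPrime (q.comap (algebraMap P B)))
              (LocalizedModule (q.comap (algebraMap P B)).primeCompl (Ω[P⁄A])))) ha ?_ ?_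
      · intro r hr n _
        rw [← LocalizedModule.smul'_mk, ← algebraMap_smul
          (Localization.AtPrime (q.comap (algebraMap P B))) r]
        refine Submodule.smul_mem_smul ?_ trivial
        rw [IsLocalization.AtPrime.to_map_mem_maximal_iff _ (q.comap (algebraMap P B))]
        rw [Ideal.mem_comap, RingHom.mem_ker.mp hr]
        exact zero_mem _
      · intro x y hx hy
        have : LocalizedModule.mk (x + y) (⟨s, hs⟩ * t) =
            LocalizedModule.mk x (⟨s, hs⟩ * t) + LocalizedModule.mk y (⟨s, hs⟩ * t) := by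
          rw [LocalizedModule.mk_add_mk, ← smul_add, LocalizedModule.mk_cancel_common_left]
        rw [this]
        exact add_mem hx hy
  · intro H m'
    obtain ⟨ω, rfl⟩ := KaehlerDifferential.map_surjective_of_surjective A A P B h m'
    have hmem : LocalizedModule.mkLinearMap (q.comap (algebraMap P B)).primeCompl (Ω[P⁄A]) ω ∈
        (⊤ : Submodule (Localization.AtPrime (q.comap (algebraMap P B))) _) := trivial
    rw [← H] at hmem
    obtain ⟨ν, hν, s, hs⟩ := hmem
    rw [← IsLocalizedModule.mk_eq_mk', LocalizedModule.mkLinearMap_apply, LocalizedModule.mk_eq] at hs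
    obtain ⟨u, hu⟩ := hs
    refine ⟨algebraMap P B (u.1 * s.1), ?_, ?_⟩
    · exact (u * s).2
    · have := congrArg (KaehlerDifferential.map A A P B) hu
      simp only [Submonoid.smul_def, map_smul, hmapD ν hν, smul_zero, one_smul] at this
      rw [algebraMap_smul, mul_smul]
      exact this.symm

end Groth.Agent.Lib.Helper49
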