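import Mathlib
import Groth.Prelude.Def_CohB1
import Groth.Agent.Lib.Helper49.LimQuot
import Groth.Agent.Lib.Helper49.LimMod3
import Groth.Agent.Lib.Helper49.StalkNbhd2
import Groth.Agent.Lib.Helper49.FiniteTypeLocal
import Groth.Agent.Lib.Helper1.SupportClosed

/-!
# The image of `lim G_d ⟶ G_e` for a Mittag-Leffler system of coherent modules (helper49)
-/

set_option autoImplicit false
set_option linter.style.haveILetI false
universe u
open CategoryTheory CategoryTheory.Limits AlgebraicGeometry TopologicalSpace Opposite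

namespace Groth.Agent.Lib.Helper49.LimImage

open Groth.Agent.Lib.Helper49.LimQuot Groth.Agent.Lib.Helper49.LimMod

section Modules

variable {A : Type u} [CommRing A] (Y : ℕᵒᵖ ⥤ ModuleCat.{u} A)

/-- Mittag-Leffler in terms of ranges: the stable image lies in the image of the limit. -/
theorem range_tr_le_range_π (r : ℕ → ℕ)
    (hr : ∀ n s, r n ≤ s → LinearMap.range (tr Y (Nat.le_add_right n s)).hom =
      LinearMap.range (tr Y (Nat.le_add_right n (r n))).hom) (n : ℕ) :
    LinearMap.range (tr Y (Nat.le_add_right n (r n))).hom ≤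
      LinearMap.range (limit.π Y (op n)).hom := by
  let P : ∀ n : ℕ, Set (Y.obj (op n)) := fun n =>
    (LinearMap.range (tr Y (Nat.le_add_right n (r n))).hom : Set (Y.obj (op n)))
  have hP : ∀ (n : ℕ) (t : Y.obj (op n)), t ∈ P n →
      ∃ t' : Y.obj (op (n + 1)), t' ∈ P (n + 1) ∧ (tr Y (Nat.le_succ n)).hom t' = t := by
    intro n t ht
    let s := max (r n) (r (n + 1) + 1)
    have ht' : t ∈ LinearMap.range (tr Y (Nat.le_add_right n s)).hom := by
      rw [hr n s (le_max_left _ _)]
      exact ht
    obtain ⟨w, hw⟩ := ht'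
    have h1 : n + 1 ≤ n + s := by
      have : 1 ≤ s := le_trans (Nat.le_add_left 1 (r (n + 1))) (le_max_right _ _)
      omega
    refine ⟨(tr Y h1).hom w, ?_, ?_⟩
    · have h2 : r (n + 1) ≤ s - 1 := by
        have : r (n + 1) + 1 ≤ s := le_max_right _ _
        omega
      have h3 : n + 1 + (s - 1) = n + s := by
        have : 1 ≤ s := le_trans (Nat.le_add_left 1 (r (n + 1))) (le_max_right _ _)
        omega
      have h4 : LinearMap.range (tr Y (Nat.le_add_right (n + 1) (s - 1))).hom ≤
          LinearMap.range (tr Y (Nat.le_add_right (n + 1) (r (n + 1)))).hom :=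
        (hr (n + 1) (s - 1) h2).le
      apply h4
      have h5 : n + 1 + (s - 1) ≤ n + s := h3.le
      refine ⟨(tr Y h5).hom w, ?_⟩
      rw [tr_tr]
    · rw [tr_tr]
      exact hw
  rintro _ ⟨w, rfl⟩
  obtain ⟨z, hz⟩ := exists_limit_elem_of_subsets Y P hP n _ ⟨w, rfl⟩
  exact ⟨z, hz⟩

end Modules

section Sheaves

variable {A : Type u} [CommRing A] {X : Scheme.{u}} [X.Over (Spec (CommRingCat.of A))]

theorem isQuasicoherent_imageSubobject {M N : X.Modules} (hM : M.IsQuasicoherent)
    (hN : N.IsQuasicoherent) (g : M ⟶ N) :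
    (Subobject.underlying.obj (imageSubobject g)).IsQuasicoherent := by
  have h1 : (Abelian.image g).IsQuasicoherent :=
    isQuasicoherent_kernel _ hN (isQuasicoherent_cokernel g hM hN)
  exact isQuasicoherent_of_iso ((Abelian.imageIsoImage g) ≪≫ (imageSubobjectIso g).symm) h1

/-- Comparison of images on the sections over an affine open. -/
theorem range_secA_le_of_imageSubobject_le {M M' N : X.Modules} (hM' : M'.IsQuasicoherent)
    (hN : N.IsQuasicoherent) (f : M ⟶ N) (g : M' ⟶ N)
    (h : imageSubobject f ≤ imageSubobject g) {U : X.Opens} (hU : IsAffineOpen U) :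
    LinearMap.range ((secA (A := A) U).map f).hom ≤
      LinearMap.range ((secA (A := A) U).map g).hom := by
  rintro _ ⟨x, rfl⟩
  have h1 : f = factorThruImageSubobject f ≫ Subobject.ofLE _ _ h ≫ (imageSubobject g).arrow := by
    rw [Subobject.ofLE_arrow, imageSubobject_arrow_comp]
  haveI := hM'
  haveI := isQuasicoherent_imageSubobject hM' hN g
  have hepi : Function.Surjective ((secA (A := A) U).map (factorThruImageSubobject g)).hom :=
    Helper18.EpiAffine.app_surjective_of_epi (factorThruImageSubobject g) hU
  obtain ⟨y, hy⟩ := hepi (((secA (A := A) U).map (Subobject.ofLE _ _ h)).hom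
    (((secA (A := A) U).map (factorThruImageSubobject f)).hom x))
  refine ⟨y, ?_⟩
  have h2 : ((secA (A := A) U).map g).hom y = ((secA (A := A) U).map (imageSubobject g).arrow).hom
      (((secA (A := A) U).map (factorThruImageSubobject g)).hom y) := by
    change _ = ((secA (A := A) U).map (factorThruImageSubobject g) ≫
      (secA (A := A) U).map (imageSubobject g).arrow).hom y
    rw [← Functor.map_comp, imageSubobject_arrow_comp]
  rw [h2, hy]
  change ((secA (A := A) U).map (factorThruImageSubobject f) ≫
    (secA (A := A) U).map (Subobject.ofLE _ _ h) ≫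
    (secA (A := A) U).map (imageSubobject g).arrow).hom x = _
  rw [← Functor.map_comp, ← Functor.map_comp, ← h1]

variable {G : ℕᵒᵖ ⥤ X.Modules}

variable (A) in
include A in
/-- For a Mittag-Leffler system of quasi-coherent modules, the image of `lim G ⟶ G_e` is the
stable image. -/
theorem exists_iso_image (hG : ∀ n : ℕᵒᵖ, (G.obj n).IsQuasicoherent)
    (hML : ∀ e : ℕ, ∃ (d : ℕ) (hd : e ≤ d), ∀ (d' : ℕ) (hd' : d ≤ d'),
      imageSubobject (G.map (homOfLE (hd.trans hd')).op) = imageSubobject (G.map (homOfLE hd).op))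
    (e : ℕ) : ∃ (d : ℕ) (hd : e ≤ d),
      Nonempty (image (limit.π G (op e)) ≅ image (G.map (homOfLE hd).op)) := by
  choose d hd hd' using hML
  have hr : ∀ n s, d n ≤ s → imageSubobject (G.map (homOfLE (Nat.le_add_right n s)).op) =
      imageSubobject (G.map (homOfLE (Nat.le_add_right n (d n))).op) := by
    intro n s hs
    have h1 := hd' n (n + s) (le_trans hs (Nat.le_add_left s n))
    have h2 := hd' n (n + d n) (Nat.le_add_left (d n) n)
    exact h1.trans h2.symm
  -- the ranges on affine sections
  have hrU : ∀ (U : X.Opens), IsAffineOpen U → ∀ n s, d n ≤ s →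
      LinearMap.range (tr (G ⋙ secA (A := A) U) (Nat.le_add_right n s)).hom =
        LinearMap.range (tr (G ⋙ secA (A := A) U) (Nat.le_add_right n (d n))).hom := by
    intro U hU n s hs
    apply le_antisymm
    · exact range_secA_le_of_imageSubobject_le (hG _) (hG _) _ _ (hr n s hs).le hU
    · exact range_secA_le_of_imageSubobject_le (hG _) (hG _) _ _ (hr n s hs).ge hU
  let g : G.obj (op (e + d e)) ⟶ G.obj (op e) := G.map (homOfLE (Nat.le_add_right e (d e))).op
  have hw : limit.π G (op (e + d e)) ≫ g = limit.π G (op e) := limit.w G _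
  have hPS : imageSubobject (limit.π G (op e)) ≤ imageSubobject g := by
    have := imageSubobject_comp_le (limit.π G (op (e + d e))) g
    rw [hw] at this
    exact this
  let ι := Subobject.ofLE _ _ hPS
  haveI hepi : Epi ι := by
    apply epi_of_app_surjective_affineOpens
    intro U hU t
    haveI : (G.obj (op (e + d e))).IsQuasicoherent := hG _
    haveI := isQuasicoherent_imageSubobject (hG (op (e + d e))) (hG (op e)) g
    obtain ⟨w, hw'⟩ := Helper18.EpiAffine.app_surjective_of_epi (factorThruImageSubobject g) hU t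
    -- the image of `w` in `G_e(U)` comes from the limit
    have h1 := range_tr_le_range_π (G ⋙ secA (A := A) U) d (hrU U hU) e
    obtain ⟨z, hz⟩ := h1 ⟨w, rfl⟩
    let eU := preservesLimitIso (secA (A := A) U) G
    have h2 : ((secA (A := A) U).map (limit.π G (op e))).hom (eU.inv.hom z) =
        (limit.π (G ⋙ secA (A := A) U) (op e)).hom z :=
      congrArg (fun φ => φ.hom z) (preservesLimitIso_inv_π (secA (A := A) U) G (op e))
    refine ⟨((secA (A := A) U).map (factorThruImageSubobject (limit.π G (op e)))).hom
      (eU.inv.hom z), ?_⟩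
    haveI : Mono (imageSubobject g).arrow := inferInstance
    apply Helper45.app_injective_of_mono (imageSubobject g).arrow U
    change ((secA (A := A) U).map (factorThruImageSubobject (limit.π G (op e))) ≫
      (secA (A := A) U).map ι ≫ (secA (A := A) U).map (imageSubobject g).arrow).hom
        (eU.inv.hom z) = ((secA (A := A) U).map (imageSubobject g).arrow).hom t
    rw [← Functor.map_comp, ← Functor.map_comp, Subobject.ofLE_arrow, imageSubobject_arrow_comp,
      h2, hz]
    have h3 : ((secA (A := A) U).map (imageSubobject g).arrow).hom t =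
        ((secA (A := A) U).map (factorThruImageSubobject g ≫ (imageSubobject g).arrow)).hom w := by
      rw [Functor.map_comp, ModuleCat.hom_comp, LinearMap.comp_apply]
      exact congrArg _ hw'.symm
    rw [h3, imageSubobject_arrow_comp]
    rfl
  haveI : IsIso ι := isIso_of_mono_of_epi ι
  exact ⟨e + d e, Nat.le_add_right e (d e),
    ⟨(imageSubobjectIso _).symm ≪≫ asIso ι ≪≫ imageSubobjectIso g⟩⟩

end Sheaves

theorem support_eq_of_iso {X : Scheme.{u}} {M N : X.Modules} (e : M ≅ N) :
    CohB1.support M = CohB1.support N := by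
  ext x
  simp only [CohB1.support, Set.mem_ofPred_eq]
  have hb := stalkMap_bijective_of_isIso e.hom x
  constructor
  · intro h hN
    exact h (hb.1.subsingleton)
  · intro h hM
    exact h (hb.2.subsingleton)

/-- The support of the image of `lim G_d ⟶ G_e` is closed for a Mittag-Leffler system of
coherent modules. -/
theorem isClosed_support_image_limit_π (X : Scheme.{u}) (G : ℕᵒᵖ ⥤ X.Modules)
    (hG : ∀ n : ℕᵒᵖ, Coh.IsCoh (G.obj n))
    (hML : ∀ e : ℕ, ∃ (d : ℕ) (hd : e ≤ d), ∀ (d' : ℕ) (hd' : d ≤ d'),
      imageSubobject (G.map (homOfLE (hd.trans hd')).op) = imageSubobject (G.map (homOfLE hd).op))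
    (e : ℕ) : IsClosed (CohB1.support (image (limit.π G (op e)))) := by
  letI : X.Over (Spec (CommRingCat.of (ULift.{u} ℤ))) := ⟨specULiftZIsTerminal.from X⟩
  obtain ⟨d, hd, ⟨iso⟩⟩ := exists_iso_image (ULift.{u} ℤ) (fun n => (hG n).1) hML e
  rw [support_eq_of_iso iso]
  apply Groth.Agent.Lib.Helper1.isClosed_support_of_isFiniteType
  haveI : Epi (factorThruImage (G.map (homOfLE hd).op)) := inferInstance
  exact isFiniteType_of_epi (factorThruImage (G.map (homOfLE hd).op)) (hG _).2

end Groth.Agent.Lib.Helper49.LimImage
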