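import Mathlib

/-!
# Monomorphisms into disjoint unions of spectra of fields
-/
universe u
open AlgebraicGeometry CategoryTheory Limits MorphismProperty

namespace Groth.Agent.Lib.Helper49

lemma flat_of_isField_stalk {X Y : Scheme.{u}} (f : Y ⟶ X)
    (hX : ∀ x : X, IsField (X.presheaf.stalk x)) : Flat f := by
  apply Flat.of_stalkMap
  intro y
  let := (hX (f.base y)).toField
  let := (f.stalkMap y).hom.toAlgebra
  change Module.Flat (X.presheaf.stalk (f.base y)) (Y.presheaf.stalk y)
  infer_instance

theorem isOpenImmersion_of_mono_of_discrete {X Y : Scheme.{u}} (f : Y ⟶ X) [Mono f]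
    [DiscreteTopology X] (hX : ∀ x : X, IsField (X.presheaf.stalk x)) : IsOpenImmersion f := by
  have hflat : Flat f := flat_of_isField_stalk f hX
  let U : X.Opens := ⟨Set.range f.base, isOpen_discrete _⟩
  have hU : IsOpenImmersion U.ι := U.instIsOpenImmersionι
  let f' := hU.lift U.ι f (by simp [U])
  have heq : f = f' ≫ U.ι := by simp [f']
  have hflat : Flat f' :=
    of_postcomp (W := @Flat) f' U.ι hU (by rwa [← heq])
  have hmono : Mono f' := mono_of_mono_fac heq.symm
  have hsurj : Surjective f' := ⟨fun ⟨x, ⟨y, hy⟩⟩ ↦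
      ⟨y, by apply U.ι.injective; simp [← Scheme.Hom.comp_apply, f', hy]⟩⟩
  have hqc : QuasiCompact f' := by
    constructor
    intro V hV hc
    have hdisc : DiscreteTopology U := inferInstanceAs (DiscreteTopology (U : Set X))
    have hfin : (V : Set U).Finite := hc.finite_of_discrete
    exact (hfin.preimage (f'.injective.injOn)).isCompact
  have := Flat.isIso_of_surjective_of_mono f'
  rw [heq]
  infer_instance


variable {ι : Type u} (k : ι → Type u) [∀ i, Field (k i)]

lemma discrete_sigma_spec_field :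
    DiscreteTopology ↥(∐ fun i => Spec (CommRingCat.of (k i))) := by
  have : DiscreteTopology (Σ i, ↥(Spec (CommRingCat.of (k i)))) := inferInstance
  exact (sigmaMk (fun i => Spec (CommRingCat.of (k i)))).symm.isEmbedding.discreteTopology

lemma isField_stalk_spec_field (K : Type u) [Field K] (x : ↥(Spec (CommRingCat.of K))) :
    IsField ((Spec (CommRingCat.of K)).presheaf.stalk x) := by
  obtain rfl : x = IsLocalRing.closedPoint K := Subsingleton.elim _ _
  exact MulEquiv.isField (Field.toIsField K)
    (stalkClosedPointIso (CommRingCat.of K)).commRingCatIsoToRingEquiv.toMulEquiv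

lemma isField_stalk_sigma (x : ↥(∐ fun i => Spec (CommRingCat.of (k i)))) :
    IsField ((∐ fun i => Spec (CommRingCat.of (k i))).presheaf.stalk x) := by
  obtain ⟨⟨i, p⟩, rfl⟩ := (sigmaMk (fun i => Spec (CommRingCat.of (k i)))).surjective x
  rw [sigmaMk_mk]
  have hiso : IsIso ((Sigma.ι (fun i => Spec (CommRingCat.of (k i))) i).stalkMap p) :=
    inferInstance
  exact MulEquiv.isField (isField_stalk_spec_field (k i) p)
    (asIso ((Sigma.ι (fun i => Spec (CommRingCat.of (k i))) i).stalkMap
      p)).commRingCatIsoToRingEquiv.toMulEquiv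


theorem mono_sigma_spec_fields
    {Y : Scheme.{u}} (f : Y ⟶ ∐ fun i => Spec (CommRingCat.of (k i))) [Mono f] :
    ∃ (J : Set ι) (e : Y ≅ ∐ fun j : J => Spec (CommRingCat.of (k j.1))),
      e.hom ≫ Sigma.desc (fun j : J => Sigma.ι (fun i => Spec (CommRingCat.of (k i))) j.1) = f := by
  have := discrete_sigma_spec_field k
  have hf : IsOpenImmersion f := isOpenImmersion_of_mono_of_discrete f (isField_stalk_sigma k)
  let J : Set ι := {i | ∃ y : Y, f.base y ∈ Set.range (Sigma.ι (fun i => Spec (CommRingCat.of (k i))) i).base}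
  let g : (∐ fun j : J => Spec (CommRingCat.of (k j.1))) ⟶ ∐ fun i => Spec (CommRingCat.of (k i)) :=
    Sigma.desc (fun j : J => Sigma.ι (fun i => Spec (CommRingCat.of (k i))) j.1)
  have hg : IsOpenImmersion g := by
    apply isOpenImmersion_sigmaDesc
    intro i j hij
    have := disjoint_opensRange_sigmaι (fun i => Spec (CommRingCat.of (k i))) i.1 j.1
      (fun h => hij (Subtype.ext h))
    simpa [Function.onFun_apply, disjoint_iff, TopologicalSpace.Opens.ext_iff] using this
  have hrange : Set.range f.base = Set.range g.base := by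
    ext x
    constructor
    · rintro ⟨y, rfl⟩
      obtain ⟨⟨i, p⟩, hp⟩ := (sigmaMk (fun i => Spec (CommRingCat.of (k i)))).surjective (f.base y)
      rw [sigmaMk_mk] at hp
      have hi : i ∈ J := ⟨y, p, hp⟩
      refine ⟨(Sigma.ι (fun j : J => Spec (CommRingCat.of (k j.1))) ⟨i, hi⟩).base p, ?_⟩
      rw [← hp, ← Scheme.Hom.comp_apply]
      simp [g]
    · rintro ⟨z, rfl⟩
      obtain ⟨⟨⟨i, hi⟩, p⟩, rfl⟩ :=
        (sigmaMk (fun j : J => Spec (CommRingCat.of (k j.1)))).surjective z
      rw [sigmaMk_mk]
      have hi2 : ∃ y : Y, f.base y ∈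
        Set.range (Sigma.ι (fun i => Spec (CommRingCat.of (k i))) i).base := hi
      obtain ⟨y, q, hq⟩ := hi2
      refine ⟨y, ?_⟩
      rw [← hq, ← Scheme.Hom.comp_apply]
      obtain rfl : p = q := Subsingleton.elim _ _
      simp [g]
  exact ⟨J, IsOpenImmersion.isoOfRangeEq f g hrange, IsOpenImmersion.isoOfRangeEq_hom_fac f g hrange⟩

end Groth.Agent.Lib.Helper49
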