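import Mathlib
import Groth.Agent.Lib.Helper49.ZClosure12
import Groth.Agent.Lib.Helper11.GenLocus
import Groth.Agent.Lib.Helper45.RegularSections
/-!
# Embedded points of a one-dimensional Noetherian scheme give nilpotent global functions
-/
universe u
open CategoryTheory CategoryTheory.Limits AlgebraicGeometry TopologicalSpace Opposite

namespace Groth.Agent.Lib.Helper49

/-- In a `T₀` space of dimension at most one, a proper specialization of a point is a closed
point. -/
theorem eq_of_specializes_of_dim_le_one {T : Type*} [TopologicalSpace T] [T0Space T]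
    (h : topologicalKrullDim T ≤ 1) {y x z : T} (hyx : y ⤳ x) (hne : y ≠ x) (hxz : x ⤳ z) :
    z = x := by
  by_contra hzx
  let cl : T → IrreducibleCloseds T := fun t =>
    ⟨closure {t}, isIrreducible_singleton.closure, isClosed_closure⟩
  have hle : ∀ {a b : T}, a ⤳ b → cl b ≤ cl a := fun {a b} hab =>
    show closure {b} ⊆ closure {a} from
      isClosed_closure.closure_subset_iff.mpr
        (Set.singleton_subset_iff.mpr (specializes_iff_mem_closure.mp hab))
  have hlt : ∀ {a b : T}, a ⤳ b → a ≠ b → cl b < cl a := by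
    intro a b hab hne'
    refine lt_of_le_of_ne (hle hab) fun e => hne' ?_
    have h1 : closure {b} = closure {a} := congrArg (fun s : IrreducibleCloseds T => (s : Set T)) e
    have h2 : b ⤳ a := specializes_iff_mem_closure.mpr (h1 ▸ subset_closure rfl)
    exact (hab.antisymm h2).eq
  have h1 : cl z < cl x := hlt hxz (Ne.symm hzx)
  have h2 : cl x < cl y := hlt hyx hne
  have key : ((2 : ℕ) : WithBot ℕ∞) ≤ topologicalKrullDim T := by
    unfold topologicalKrullDim
    rw [Order.le_krullDim_iff]
    refine ⟨LTSeries.mk 2 ![cl z, cl x, cl y] ?_, rfl⟩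
    rw [Fin.strictMono_iff_lt_succ]
    intro i
    fin_cases i
    · exact h1
    · exact h2
  have : ((2 : ℕ) : WithBot ℕ∞) ≤ 1 := key.trans h
  exact absurd this (by decide)

open Groth.Agent.Lib.Helper11.GenLocus Groth.Agent.Lib.Helper49.ZClosure in
/-- A Noetherian scheme of dimension one whose ring of global functions is reduced has no embedded
associated points. -/
theorem noEmbedded_of_isReduced_globalSections (C : Scheme.{u}) [IsNoetherian C]
    (hdim : topologicalKrullDim C = 1) (hred : _root_.IsReduced Γ(C, ⊤)) :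
    AssSch.NoEmbedded (Coh.structureModule C) := by
  intro x hx y hy hyx
  by_contra hne
  have hne' : y ≠ x := fun e => hne e.symm
  have hq : (Coh.structureModule C).IsQuasicoherent := Helper45.isQuasicoherent_structureModule C
  have hxcl : ∀ z : C, x ⤳ z → z = x := fun z hz =>
    eq_of_specializes_of_dim_le_one hdim.le hyx hne' hz
  have hclosed : IsClosed ({x} : Set C) := by
    have : closure ({x} : Set C) = {x} := by
      ext z
      rw [← specializes_iff_mem_closure, Set.mem_singleton_iff]
      exact ⟨hxcl z, fun e => e ▸ specializes_refl x⟩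
    rw [← this]; exact isClosed_closure
  obtain ⟨_, ⟨W, hW : IsAffineOpen W, rfl⟩, hxW, -⟩ :=
    C.isBasis_affineOpens.exists_subset_of_mem_open (Set.mem_univ x) isOpen_univ
  have hyW : y ∈ W := hyx.mem_open W.isOpen hxW
  let x' : W := ⟨x, hxW⟩
  let y' : W := ⟨y, hyW⟩
  obtain ⟨m, hm⟩ := exists_ann_eq_primeIdealOf (Coh.structureModule C) hW x' hx
  have hle : (hW.primeIdealOf y').asIdeal ≤ (hW.primeIdealOf x').asIdeal :=
    (Helper45.primeIdealOf_le_iff hW x' y').mpr hyx
  have hnle : ¬ (hW.primeIdealOf x').asIdeal ≤ (hW.primeIdealOf y').asIdeal := by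
    intro h'
    have := Helper45.primeIdealOf_injective hW (PrimeSpectrum.ext (le_antisymm h' hle))
    exact hne (congrArg Subtype.val this)
  have hr : ofO W m ∈ (hW.primeIdealOf x').asIdeal := by
    by_contra hr
    apply hnle
    intro a ha
    have h1 : a • m = 0 := (hm a).mpr ha
    have h2 : a * ofO W m = 0 := by rw [← ofO_smul, h1]; rfl
    have h3 : a * ofO W m ∈ (hW.primeIdealOf y').asIdeal := by rw [h2]; exact Ideal.zero_mem _
    rcases (hW.primeIdealOf y').isPrime.mem_or_mem h3 with h4 | h4
    · exact h4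
    · exact (hr (hle h4)).elim
  have hmm : (ofO W m) • m = 0 := (hm _).mpr hr
  have hm0 : m ≠ 0 := by
    intro e
    have : (1 : Γ(C, W)) ∈ (hW.primeIdealOf x').asIdeal := (hm 1).mp (by rw [e, smul_zero])
    exact (hW.primeIdealOf x').isPrime.ne_top ((Ideal.eq_top_iff_one _).mpr this)
  let O₂ : C.Opens := ⟨({x} : Set C)ᶜ, hclosed.isOpen_compl⟩
  have h0 : (Coh.structureModule C).presheaf.map (homOfLE (inf_le_left : W ⊓ O₂ ≤ W)).op m = 0 :=
    res_eq_zero_of_ann (Coh.structureModule C) hW x' m (fun a ha => (hm a).mpr ha) (W ⊓ O₂)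
      inf_le_left (fun z hz hxz => hz.2 (hxcl z hxz))
  obtain ⟨σ, hσ1, hσ2⟩ := exists_gluing₂ (Coh.structureModule C) m
    (0 : Γ(Coh.structureModule C, O₂)) (by rw [h0, map_zero])
  have htop : (⊤ : C.Opens) ≤ W ⊔ O₂ := by
    intro z _
    by_cases hz : z = x
    · exact Or.inl (hz ▸ hxW)
    · exact Or.inr hz
  -- `σ` squares to zero
  have hσσ : (ofO _ σ) • σ = 0 := by
    refine eq_of_res_eq₂ (Coh.structureModule C) _ _ ?_ ?_
    · rw [Scheme.Modules.map_smul, hσ1, map_zero]
      have : C.presheaf.map (homOfLE (le_sup_left : W ≤ W ⊔ O₂)).op (ofO _ σ) = ofO W m := by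
        rw [← hσ1]; rfl
      rw [this]
      exact hmm
    · rw [Scheme.Modules.map_smul, hσ2, map_zero, smul_zero]
  let r : Γ(C, ⊤) := C.presheaf.map (homOfLE htop).op (ofO _ σ)
  have hrr : r * r = 0 := by
    have h1 : ofO _ σ * ofO _ σ = 0 := by
      rw [← ofO_smul, hσσ]; rfl
    change C.presheaf.map (homOfLE htop).op (ofO _ σ) * C.presheaf.map (homOfLE htop).op (ofO _ σ) = 0
    rw [← map_mul, h1, map_zero]
  have hr0 : r = 0 := by
    have hnil : IsNilpotent r := ⟨2, by rw [pow_two]; exact hrr⟩
    exact hred.eq_zero _ hnil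
  -- but `r` restricts to `m ≠ 0` on `W`
  apply hm0
  have h5 : C.presheaf.map (homOfLE (le_top : W ≤ ⊤)).op r = ofO W m := by
    change C.presheaf.map (homOfLE (le_top : W ≤ ⊤)).op
      (C.presheaf.map (homOfLE htop).op (ofO _ σ)) = _
    rw [← ConcreteCategory.comp_apply, ← Functor.map_comp]
    rw [← hσ1]
    rfl
  rw [hr0, map_zero] at h5
  exact h5.symm

end Groth.Agent.Lib.Helper49
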