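import Mathlib
import Groth.Agent.Lib.Helper49.StalkColimit
/-!
# Direct image of `O`-modules along a morphism which is a homeomorphism preserves colimits (helper49)
-/
set_option autoImplicit false
universe u
open CategoryTheory CategoryTheory.Limits AlgebraicGeometry TopologicalSpace

namespace Groth.Agent.Lib.Helper49.PushHomeo

variable {X N : Scheme.{u}} (p : N ⟶ X) (q : X ⟶ N)

/-- The adjunction `p⁻¹ ⊣ q⁻¹` on opens when `q` is a two-sided inverse of `p` on points. -/
def opensMapAdj (hpq : ∀ x : X, p (q x) = x) (hqp : ∀ y : N, q (p y) = y) :
    Opens.map p.base ⊣ Opens.map q.base :=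
  Adjunction.mkOfUnitCounit
    { unit := { app := fun U => homOfLE (fun x hx => by
                  change p (q x) ∈ U
                  rwa [hpq])
                naturality := fun _ _ _ => Subsingleton.elim _ _ }
      counit := { app := fun V => homOfLE (fun y hy => by
                    have : q (p y) ∈ V := hy
                    rwa [hqp] at this)
                  naturality := fun _ _ _ => Subsingleton.elim _ _ }
      left_triangle := by ext; exact Subsingleton.elim _ _
      right_triangle := by ext; exact Subsingleton.elim _ _ }

/-- If `p` has a two-sided inverse on points (induced by a morphism `q`), then `p_*` on modules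
preserves colimits. -/
theorem preservesColimitsOfShape_pushforward (hpq : ∀ x : X, p (q x) = x)
    (hqp : ∀ y : N, q (p y) = y) (K : Type u) [SmallCategory K] :
    PreservesColimitsOfShape K (Scheme.Modules.pushforward p) := by
  have h1 := toSheaf_preservesColimitsOfShape N.ringCatSheaf K
  have h2 := toSheaf_preservesColimitsOfShape X.ringCatSheaf K
  have h3 : ReflectsColimitsOfShape K (SheafOfModules.toSheaf.{u} X.ringCatSheaf) :=
    reflectsColimitsOfShape_of_reflectsIsomorphisms
  have adj := (opensMapAdj p q hpq hqp).sheafPushforwardContinuous (E := Ab.{u})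
    (Opens.grothendieckTopology X) (Opens.grothendieckTopology N)
  have h4 : PreservesColimitsOfShape K
      ((Opens.map p.base).sheafPushforwardContinuous Ab.{u} (Opens.grothendieckTopology X)
        (Opens.grothendieckTopology N)) :=
    adj.leftAdjoint_preservesColimits.preservesColimitsOfShape
  have h5 : PreservesColimitsOfShape K
      (Scheme.Modules.pushforward p ⋙ SheafOfModules.toSheaf.{u} X.ringCatSheaf) :=
    inferInstanceAs (PreservesColimitsOfShape K
      (SheafOfModules.toSheaf.{u} N.ringCatSheaf ⋙
        (Opens.map p.base).sheafPushforwardContinuous Ab.{u} _ _))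
  exact @preservesColimitsOfShape_of_reflects_of_preserves _ _ _ _ _ _ _ _
    (Scheme.Modules.pushforward p) (SheafOfModules.toSheaf.{u} X.ringCatSheaf) h5 h3

/-- A morphism with a surjective section: `p_*` preserves colimits. -/
theorem preservesColimitsOfShape_pushforward_of_section (h : q ≫ p = 𝟙 X)
    (hq : Function.Surjective q) (K : Type u) [SmallCategory K] :
    PreservesColimitsOfShape K (Scheme.Modules.pushforward p) := by
  have hpq : ∀ x : X, p (q x) = x := fun x => by
    rw [← Scheme.Hom.comp_apply, h]
    rfl
  have hqp : ∀ y : N, q (p y) = y := fun y => by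
    obtain ⟨x, rfl⟩ := hq y
    rw [hpq]
  exact preservesColimitsOfShape_pushforward p q hpq hqp K

end Groth.Agent.Lib.Helper49.PushHomeo
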