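import Mathlib
import Groth.Prelude.Def_FinCov
import Groth.Agent.Lib.Helper49.QCAlgDbl
/-!
# The kernel of the trace of `O_X ⊕ L` is `L`
-/
universe u
open CategoryTheory CategoryTheory.Limits AlgebraicGeometry TopologicalSpace Opposite

namespace Groth.Agent.Lib.Helper49
open Groth.Agent.Lib.Helper45 RelSpec

variable {X : Scheme.{u}} (A : QCAlg X) (L : X.Modules)
  (m : CohB1.tensorMod L L ⟶ Coh.structureModule X) (j : L ⟶ A.toModule)

/-- the map `(s, l) ↦ s·1 + j(l)` on sections over `W`. -/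
noncomputable def dblMap (W : X.Opens) : (Γ(X, W) × Γ(L, W)) →ₗ[Γ(X, W)] Γ(A.toModule, W) :=
  (Helper45.appₗ (FinCov.strMod A) W).coprod (Helper45.appₗ j W)

theorem dblMap_apply (W : X.Opens) (p : Γ(X, W) × Γ(L, W)) :
    dblMap A L j W p = (A.str.app (op W)).hom p.1 + FinCov.toSec A ((j.val.app (op W)).hom p.2) :=
  rfl

variable {A L m j}

theorem dblMap_bijective (h : FinCov.IsDblAlg L m A j) (W : X.Opens) :
    Function.Bijective (dblMap A L j W) := by
  have hfun : (dblMap A L j W : Γ(X, W) × Γ(L, W) → Γ(A.toModule, W)) = fun p =>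
      (A.str.app (op W)).hom p.1 + FinCov.toSec A ((j.val.app (op W)).hom p.2) := by
    funext p; rfl
  rw [hfun]
  exact h.1 W

/-- on an affine open where `L` is trivial, the trace of `j(l)` vanishes. -/
theorem trace_j_eq_zero (h : FinCov.IsDblAlg L m A j) {W : X.Opens}
    (eL : Γ(L, W) ≃ₗ[Γ(X, W)] Γ(X, W)) (l : Γ(L, W)) :
    letI : Algebra Γ(X, W) (A.presheaf.obj (op W)) := (A.str.app (op W)).hom.toAlgebra
    Algebra.trace Γ(X, W) (A.presheaf.obj (op W))
      (FinCov.toSec A ((j.val.app (op W)).hom l)) = 0 := by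
  let _ : Algebra Γ(X, W) (A.presheaf.obj (op W)) := (A.str.app (op W)).hom.toAlgebra
  let e1 : (Γ(X, W) × Γ(L, W)) ≃ₗ[Γ(X, W)] Γ(A.toModule, W) :=
    LinearEquiv.ofBijective (dblMap A L j W) (dblMap_bijective h W)
  let e2 : (Γ(X, W) × Γ(L, W)) ≃ₗ[Γ(X, W)] (Γ(X, W) × Γ(X, W)) :=
    LinearEquiv.prodCongr (LinearEquiv.refl _ _) eL
  let et : (A.presheaf.obj (op W)) ≃ₗ[Γ(X, W)] (Fin 2 → Γ(X, W)) :=
    (e1.symm.trans e2).trans (LinearEquiv.finTwoArrow Γ(X, W) Γ(X, W)).symm
  let b : Module.Basis (Fin 2) Γ(X, W) (A.presheaf.obj (op W)) := Module.Basis.ofEquivFun et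
  set x : A.presheaf.obj (op W) := FinCov.toSec A ((j.val.app (op W)).hom l) with hx
  rw [Algebra.trace_eq_matrix_trace b, Matrix.trace, Fin.sum_univ_two]
  simp only [Matrix.diag_apply, Algebra.leftMulMatrix_eq_repr_mul]
  have het : ∀ p : Γ(X, W) × Γ(L, W), et (dblMap A L j W p) = ![p.1, eL p.2] := by
    intro p
    have h1 : e1.symm (dblMap A L j W p) = p := e1.symm_apply_apply p
    change (LinearEquiv.finTwoArrow Γ(X, W) Γ(X, W)).symm (e2 (e1.symm (dblMap A L j W p))) = _
    rw [h1]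
    rfl
  have hsymm : ∀ v : Fin 2 → Γ(X, W), et.symm v = dblMap A L j W (v 0, eL.symm (v 1)) := by
    intro v
    apply et.injective
    rw [et.apply_symm_apply, het]
    ext i
    fin_cases i <;> simp
  have hrepr : ∀ (y : A.presheaf.obj (op W)) (i : Fin 2), b.repr y i = et y i := fun y i => by
    simp [b]
  have hb : ∀ i : Fin 2, b i = et.symm (Pi.single i 1) := fun i => by
    simp [b]
  have hj0 : FinCov.toSec A ((j.val.app (op W)).hom 0) = 0 := map_zero (j.val.app (op W)).hom
  have hb0 : b 0 = 1 := by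
    rw [hb, hsymm, dblMap_apply]
    simp only [Pi.single_eq_same, Pi.single_eq_of_ne (show (1 : Fin 2) ≠ 0 by decide), map_one,
      map_zero]
    exact (congrArg (fun z => (1 : A.presheaf.obj (op W)) + z) hj0).trans (add_zero 1)
  have hx0 : x = dblMap A L j W (0, l) := by
    rw [dblMap_apply]
    simp [hx]
  have hb1 : x * b 1 = dblMap A L j W
      ((m.val.app (op W)).hom (SecTwist.tmul L L W l (eL.symm 1)), 0) := by
    rw [hb, hsymm, dblMap_apply, dblMap_apply]
    simp only [Pi.single_eq_of_ne (show (0 : Fin 2) ≠ 1 by decide), map_zero, zero_add,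
      Pi.single_eq_same]
    exact (h.2 W l (eL.symm 1)).trans ((add_zero _).symm.trans
      (congrArg (fun z => (A.str.app (op W)).hom
        ((m.val.app (op W)).hom (SecTwist.tmul L L W l (eL.symm 1))) + z) hj0.symm))
  rw [hrepr, hrepr, hb0, mul_one, hb1, hx0, het, het]
  simp

/-- `j ≫ τ = 0`: the trace vanishes on `L`. -/
theorem j_comp_trace (hL : PicF.IsInvertible L) (h : FinCov.IsDblAlg L m A j)
    (τ : A.toModule ⟶ Coh.structureModule X) (hτ : FinCov.IsTrace A τ) : j ≫ τ = 0 := by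
  refine hom_ext_of_basis _ _ fun x V hx => ?_
  obtain ⟨W, hWV, hxW, hW, ⟨eL⟩⟩ := exists_affine_sections_of_isInvertible L hL x V hx
  refine ⟨W, hWV, hxW, fun l => ?_⟩
  let _ : Algebra Γ(X, W) (A.presheaf.obj (op W)) := (A.str.app (op W)).hom.toAlgebra
  have e' : (A.presheaf.obj (op W)) ≃ₗ[Γ(X, W)] (Γ(X, W) × Γ(X, W)) :=
    (LinearEquiv.ofBijective (dblMap A L j W) (dblMap_bijective h W)).symm.trans
      (LinearEquiv.prodCongr (LinearEquiv.refl _ _) eL)
  have hfree : Module.Free Γ(X, W) (A.presheaf.obj (op W)) := Module.Free.of_equiv e'.symm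
  have hfin : Module.Finite Γ(X, W) (A.presheaf.obj (op W)) := Module.Finite.equiv e'.symm
  have h1 := hτ W hW hfree hfin (FinCov.toSec A ((j.val.app (op W)).hom l))
  have h2 : (j ≫ τ).app W l = (τ.val.app (op W)).hom (FinCov.toSec A ((j.val.app (op W)).hom l)) :=
    rfl
  rw [h2, h1, trace_j_eq_zero h eL l]
  rfl

/-- The kernel of the trace of `O_X ⊕ L` is `L` (when `2` is invertible). -/
theorem trace_eq_zero_iff (hL : PicF.IsInvertible L) (h : FinCov.IsDblAlg L m A j)
    (h2 : IsUnit (2 : Γ(X, ⊤))) (τ : A.toModule ⟶ Coh.structureModule X)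
    (hτ : FinCov.IsTrace A τ) (U : X.Opens) (a : A.toModule.val.obj (op U)) :
    (τ.val.app (op U)).hom a = 0 ↔ a ∈ Set.range (j.val.app (op U)).hom := by
  have hjτ := j_comp_trace hL h τ hτ
  have hstr := strMod_comp_trace A 2 (isFinLocFreeOfRank_two_of_isDblAlg A L hL m j h) τ hτ
  have hj : ∀ l : Γ(L, U), (τ.val.app (op U)).hom ((j.val.app (op U)).hom l) = 0 := by
    intro l
    have := congrArg (fun θ : L ⟶ Coh.structureModule X => θ.app U l) hjτ
    exact this
  have hs : ∀ s : Γ(X, U), (τ.val.app (op U)).hom ((A.str.app (op U)).hom s) = 2 • s := by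
    intro s
    have := congrArg (fun θ : Coh.structureModule X ⟶ Coh.structureModule X => θ.app U s) hstr
    simp only [nsmul_app_apply] at this
    exact this
  have h2U : IsUnit (2 : Γ(X, U)) := by
    have := h2.map (X.presheaf.map (homOfLE (le_top : U ≤ ⊤)).op).hom
    rwa [map_ofNat] at this
  constructor
  · intro ha
    obtain ⟨⟨s, l⟩, hsl⟩ := (dblMap_bijective h U).2 a
    rw [dblMap_apply] at hsl
    have h3 : (τ.val.app (op U)).hom a = 2 • s := by
      rw [← hsl]
      have := map_add (τ.val.app (op U)).hom ((A.str.app (op U)).hom s)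
        (FinCov.toSec A ((j.val.app (op U)).hom l))
      exact this.trans ((congrArg₂ (fun y z => y + z) (hs s) (hj l)).trans (add_zero _))
    rw [ha] at h3
    have hs0 : s = 0 := by
      have : (2 : Γ(X, U)) * s = 0 := by
        have h4 : (2 : ℕ) • s = 0 := h3.symm
        rwa [nsmul_eq_mul, Nat.cast_ofNat] at h4
      exact (h2U.mul_right_eq_zero).mp this
    refine ⟨l, ?_⟩
    rw [← hsl, hs0, map_zero]
    exact (zero_add _).symm
  · rintro ⟨l, rfl⟩
    exact hj l

end Groth.Agent.Lib.Helper49
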