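import Mathlib
import Groth.Prelude.Def_FinCov
import Groth.Agent.Lib.Helper49.QCAlgTrace
import Groth.Agent.Lib.Helper49.ModGlue
/-!
# Existence of the trace of a finite locally free quasi-coherent algebra

* `IsFreeOn A U`: `A(U)` is a finite free `Γ(X, U)`-module.
* `trAt A U`: the trace `A(U) → Γ(X, U)`.
* `trAt_basicOpen`, `trAt_res`: compatibility of the trace with restriction.
* `exists_isTrace`: for `A` finite locally free, a trace `A ⟶ O_X` exists.
-/
universe u
open CategoryTheory CategoryTheory.Limits AlgebraicGeometry TopologicalSpace Opposite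

namespace Groth.Agent.Lib.Helper49
open Groth.Agent.Lib.Helper45 RelSpec

variable {X : Scheme.{u}} (A : QCAlg X)

/-- `A(U)` is a finite free `Γ(X, U)`-module. -/
def IsFreeOn (U : X.Opens) : Prop :=
  letI : Algebra Γ(X, U) (A.presheaf.obj (op U)) := (A.str.app (op U)).hom.toAlgebra
  Module.Free Γ(X, U) (A.presheaf.obj (op U)) ∧ Module.Finite Γ(X, U) (A.presheaf.obj (op U))

/-- the trace `A(U) → Γ(X, U)`. -/
noncomputable def trAt (U : X.Opens) : A.presheaf.obj (op U) →+ Γ(X, U) :=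
  letI : Algebra Γ(X, U) (A.presheaf.obj (op U)) := (A.str.app (op U)).hom.toAlgebra
  (Algebra.trace Γ(X, U) (A.presheaf.obj (op U))).toAddMonoidHom

theorem trAt_smul (U : X.Opens) (r : Γ(X, U)) (a : A.presheaf.obj (op U)) :
    trAt A U ((A.str.app (op U)).hom r * a) = r * trAt A U a := by
  let _ : Algebra Γ(X, U) (A.presheaf.obj (op U)) := (A.str.app (op U)).hom.toAlgebra
  have h := (Algebra.trace Γ(X, U) (A.presheaf.obj (op U))).map_smul r a
  rw [Algebra.smul_def, smul_eq_mul] at h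
  exact h

theorem trAt_basicOpen {U : X.Opens} (hU : IsAffineOpen U) (hA : IsFreeOn A U) (f : Γ(X, U)) :
    IsFreeOn A (X.basicOpen f) ∧ ∀ a : A.presheaf.obj (op U),
      trAt A (X.basicOpen f) ((A.presheaf.map (homOfLE (X.basicOpen_le f)).op).hom a) =
        (X.presheaf.map (homOfLE (X.basicOpen_le f)).op).hom (trAt A U a) := by
  let _ : Algebra Γ(X, U) (A.presheaf.obj (op U)) := (A.str.app (op U)).hom.toAlgebra
  let _ : Algebra Γ(X, X.basicOpen f) (A.presheaf.obj (op (X.basicOpen f))) :=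
    (A.str.app (op (X.basicOpen f))).hom.toAlgebra
  let _ : Algebra Γ(X, U) Γ(X, X.basicOpen f) :=
    (X.presheaf.map (homOfLE (X.basicOpen_le f)).op).hom.toAlgebra
  let _ : Algebra (A.presheaf.obj (op U)) (A.presheaf.obj (op (X.basicOpen f))) :=
    (A.presheaf.map (homOfLE (X.basicOpen_le f)).op).hom.toAlgebra
  let _ : Algebra Γ(X, U) (A.presheaf.obj (op (X.basicOpen f))) :=
    ((algebraMap (A.presheaf.obj (op U)) (A.presheaf.obj (op (X.basicOpen f)))).comp
      (algebraMap Γ(X, U) (A.presheaf.obj (op U)))).toAlgebra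
  have _ : IsScalarTower Γ(X, U) (A.presheaf.obj (op U)) (A.presheaf.obj (op (X.basicOpen f))) :=
    IsScalarTower.of_algebraMap_eq (fun _ => rfl)
  have _ : IsScalarTower Γ(X, U) Γ(X, X.basicOpen f) (A.presheaf.obj (op (X.basicOpen f))) :=
    IsScalarTower.of_algebraMap_eq (fun r => (str_res A (homOfLE (X.basicOpen_le f)) r).symm)
  have hloc1 : IsLocalization (Submonoid.powers f) Γ(X, X.basicOpen f) :=
    hU.isLocalization_basicOpen f
  have hloc2 : IsLocalization (Algebra.algebraMapSubmonoid (A.presheaf.obj (op U))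
      (Submonoid.powers f)) (A.presheaf.obj (op (X.basicOpen f))) := by
    rw [Algebra.algebraMapSubmonoid_powers]
    exact A.isQC U hU f
  have hfree : Module.Free Γ(X, U) (A.presheaf.obj (op U)) := hA.1
  have hfin : Module.Finite Γ(X, U) (A.presheaf.obj (op U)) := hA.2
  let b := Module.Free.chooseBasis Γ(X, U) (A.presheaf.obj (op U))
  let b' := b.localizationLocalization Γ(X, X.basicOpen f) (Submonoid.powers f)
    (A.presheaf.obj (op (X.basicOpen f)))
  refine ⟨⟨Module.Free.of_basis b', Module.Finite.of_basis b'⟩, fun a => ?_⟩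
  exact Algebra.trace_localization Γ(X, U) (Submonoid.powers f)
    (Rₘ := Γ(X, X.basicOpen f)) (Sₘ := A.presheaf.obj (op (X.basicOpen f))) a

theorem trAt_of_eq_basicOpen {U D : X.Opens} (hU : IsAffineOpen U) (hA : IsFreeOn A U)
    (f : Γ(X, U)) (hD : D = X.basicOpen f) (hDU : D ≤ U) :
    IsFreeOn A D ∧ ∀ a : A.presheaf.obj (op U),
      trAt A D ((A.presheaf.map (homOfLE hDU).op).hom a) =
        (X.presheaf.map (homOfLE hDU).op).hom (trAt A U a) := by
  subst hD
  exact trAt_basicOpen A hU hA f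

theorem presheaf_res_res {U V W : X.Opens} (h : V ≤ U) (h' : W ≤ V) (a : A.presheaf.obj (op U)) :
    (A.presheaf.map (homOfLE h').op).hom ((A.presheaf.map (homOfLE h).op).hom a) =
      (A.presheaf.map (homOfLE (h'.trans h)).op).hom a := by
  rw [← CommRingCat.comp_apply, ← Functor.map_comp]
  rfl

theorem structure_res_res {U V W : X.Opens} (h : V ≤ U) (h' : W ≤ V) (a : Γ(X, U)) :
    (X.presheaf.map (homOfLE h').op).hom ((X.presheaf.map (homOfLE h).op).hom a) =
      (X.presheaf.map (homOfLE (h'.trans h)).op).hom a := by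
  rw [← CommRingCat.comp_apply, ← Functor.map_comp]
  rfl

/-- The trace commutes with restriction between affine opens over which `A` is finite free. -/
theorem trAt_res {V W : X.Opens} (hV : IsAffineOpen V) (hW : IsAffineOpen W) (h : W ≤ V)
    (hAV : IsFreeOn A V) (hAW : IsFreeOn A W) (a : A.presheaf.obj (op V)) :
    trAt A W ((A.presheaf.map (homOfLE h).op).hom a) =
      (X.presheaf.map (homOfLE h).op).hom (trAt A V a) := by
  have key : ∀ x : W, ∃ D : X.Opens, ∃ hDW : D ≤ W, (x : X) ∈ D ∧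
      (X.presheaf.map (homOfLE hDW).op).hom (trAt A W ((A.presheaf.map (homOfLE h).op).hom a)) =
      (X.presheaf.map (homOfLE hDW).op).hom ((X.presheaf.map (homOfLE h).op).hom (trAt A V a)) := by
    intro x
    obtain ⟨f, g, hfg, hxf⟩ := exists_basicOpen_le_affine_inter hV hW x ⟨h x.2, x.2⟩
    have hDW : X.basicOpen g ≤ W := X.basicOpen_le g
    refine ⟨X.basicOpen g, hDW, hfg ▸ hxf, ?_⟩
    have h1 := (trAt_basicOpen A hW hAW g).2 ((A.presheaf.map (homOfLE h).op).hom a)
    have h2 := (trAt_of_eq_basicOpen A hV hAV f hfg.symm (hDW.trans h)).2 a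
    rw [← h1, presheaf_res_res, h2, structure_res_res]
  choose D hDW hxD hD using key
  refine TopCat.Sheaf.eq_of_locally_eq' X.sheaf D W (fun x => homOfLE (hDW x)) ?_ _ _ hD
  intro y hy
  exact Opens.mem_iSup.mpr ⟨⟨y, hy⟩, hxD ⟨y, hy⟩⟩

/-- The affine opens over which `A` is finite free. -/
def freeOpens : Set X.Opens := {U | IsAffineOpen U ∧ IsFreeOn A U}

theorem isFreeOn_of_equiv {W : X.Opens} {d : ℕ}
    (e : Γ(A.toModule, W) ≃ₗ[Γ(X, W)] (Fin d → Γ(X, W))) : IsFreeOn A W := by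
  let _ : Algebra Γ(X, W) (A.presheaf.obj (op W)) := (A.str.app (op W)).hom.toAlgebra
  have e' : (A.presheaf.obj (op W)) ≃ₗ[Γ(X, W)] (Fin d → Γ(X, W)) := e
  exact ⟨Module.Free.of_equiv e'.symm, Module.Finite.equiv e'.symm⟩

theorem exists_freeOpens_le (hA : FlatMod.IsFinLocFree A.toModule) (x : X) (V : X.Opens)
    (hx : x ∈ V) : ∃ W ∈ freeOpens A, x ∈ W ∧ W ≤ V := by
  obtain ⟨U, d, hxU, ⟨e⟩⟩ := hA x
  obtain ⟨_, ⟨W, hW : IsAffineOpen W, rfl⟩, hxW, hWU⟩ :=
    X.isBasis_affineOpens.exists_subset_of_mem_open (show x ∈ U ⊓ V from ⟨hxU, hx⟩) (U ⊓ V).2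
  have hWU' : W ≤ U := fun y hy => (hWU hy).1
  have hWV' : W ≤ V := fun y hy => (hWU hy).2
  exact ⟨W, ⟨hW, isFreeOn_of_equiv A
    (sectionsEquivOfIsoFree A.toModule d (isoFreeOfLE hWU' _ d e))⟩, hxW, hWV'⟩

theorem isBasis_freeOpens (hA : FlatMod.IsFinLocFree A.toModule) :
    Opens.IsBasis (freeOpens A) := by
  rw [Opens.isBasis_iff_nbhd]
  intro V x hx
  obtain ⟨W, hW, hxW, hWV⟩ := exists_freeOpens_le A hA x V hx
  exact ⟨W, hW, hxW, hWV⟩

/-- The local traces. -/
noncomputable def traceLocalHom : LocalHom A.toModule (Coh.structureModule X) (freeOpens A) where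
  φ V := trAt A V.1
  smul V r s := trAt_smul A V.1 r s
  compat V W h s := (trAt_res A V.2.1 W.2.1 h V.2.2 W.2.2 s).symm

/-- Existence of the trace of a finite locally free quasi-coherent algebra. -/
theorem exists_isTrace (hA : FlatMod.IsFinLocFree A.toModule) :
    ∃ τ : A.toModule ⟶ Coh.structureModule X, FinCov.IsTrace A τ := by
  refine ⟨(traceLocalHom A).glue (isBasis_freeOpens A hA), ?_⟩
  intro U hU hfree hfin a
  exact (traceLocalHom A).glue_val_app (isBasis_freeOpens A hA) ⟨U, hU, hfree, hfin⟩ a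

/-- Uniqueness of the trace. -/
theorem isTrace_unique (hA : FlatMod.IsFinLocFree A.toModule)
    (τ τ' : A.toModule ⟶ Coh.structureModule X) (h : FinCov.IsTrace A τ)
    (h' : FinCov.IsTrace A τ') : τ = τ' := by
  refine hom_ext_of_basis _ _ fun x V hx => ?_
  obtain ⟨W, hW, hxW, hWV⟩ := exists_freeOpens_le A hA x V hx
  refine ⟨W, hWV, hxW, fun s => ?_⟩
  exact (h W hW.1 hW.2.1 hW.2.2 s).trans (h' W hW.1 hW.2.1 hW.2.2 s).symm

end Groth.Agent.Lib.Helper49
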