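import Mathlib
import Groth.Agent.Lib.Helper49.Deligne
import Groth.Agent.Lib.Helper45.RefHullStalk
import Groth.Agent.Lib.Helper18.ModHomMk

/-!
# Injective objects of `QCoh(O_X)` on a Noetherian scheme are flasque

Shared library of helper49 (namespace `Groth.Agent.Lib.Helper49.QcohInjFlasque`).
-/

set_option autoImplicit false
set_option linter.style.haveILetI false
universe u
open CategoryTheory CategoryTheory.Limits AlgebraicGeometry TopologicalSpace

namespace Groth.Agent.Lib.Helper49.QcohInjFlasque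

open Groth.Agent.Lib.Helper45 Groth.Agent.Lib.Helper49 Groth.Agent.Lib.Helper18
  Groth.Agent.Lib.Helper45.RefHullStalk Groth.Agent.Lib.Helper49.DeligneGraph

variable {X : Scheme.{u}} (M : X.Modules) (U : X.Opens) (s : Γ(M, U))

/-- The additive maps `r ↦ r • s`. -/
noncomputable def secFun' (W : X.Opens) (hW : W ≤ U) : Γ(X, W) →+ Γ(M, W) where
  toFun r := r • mres M hW s
  map_zero' := zero_smul _ _
  map_add' _ _ := add_smul _ _ _

/-- The additive maps `r ↦ r • s` defining the morphism `O_U ⟶ M|_U` attached to a section. -/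
noncomputable def secFun (V' : (U : Scheme.{u}).Opens) :
    Γ((Coh.structureModule X).restrict U.ι, V') →+ Γ(M.restrict U.ι, V') :=
  secFun' M U s (U.ι ''ᵁ V') (U.ι_image_le V')

/-- The morphism `O_X|_U ⟶ M|_U`, `r ↦ r • s`, attached to a section `s` of `M` over `U`. -/
noncomputable def secHom : (Coh.structureModule X).restrict U.ι ⟶ M.restrict U.ι :=
  ModHomMk.mkHom _ _ (secFun M U s)
    (fun {V' V''} h r => by
      let r' : Γ(X, U.ι ''ᵁ V') := r
      change mres M (U.ι.image_mono h) (r' • mres M (U.ι_image_le V') s) = _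
      rw [mres_smul', mres_mres]
      rfl)
    (fun V' c r => by
      let r' : Γ(X, U.ι ''ᵁ V') := r
      change ((U.ι.appIso V').inv c * r') • mres M (U.ι_image_le V') s =
        (U.ι.appIso V').inv c • (r' • mres M (U.ι_image_le V') s)
      rw [mul_smul])

theorem secHom_app (V' : (U : Scheme.{u}).Opens) (r : Γ(X, U.ι ''ᵁ V')) :
    (secHom M U s).app V' (toMod r) =
      (show Γ(M.restrict U.ι, V') from r • mres M (U.ι_image_le V') s) := rfl

/-- Locally around a point outside `V(J)`, the section `1` of `O_X` lies in `J · O_X`. -/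
theorem exists_idealMul_section_one (J : X.IdealSheafData) (x : X)
    (hx : x ∉ (J.support : Set X)) :
    ∃ (W : X.Opens) (_ : x ∈ W) (a : Γ((Dual3.idealMul J).obj (Coh.structureModule X), W)),
      (Dual3.idealMulι J (Coh.structureModule X)).app W a = toMod 1 := by
  obtain ⟨b, hb⟩ := Groth.Agent.Lib.Helper45.IdealMulPow.stalkMap_idealMulι_surjective J
    (Coh.structureModule X) x hx
    ((Coh.structureModule X).presheaf.germ ⊤ x trivial (toMod 1))
  obtain ⟨W₁, hxW₁, a₁, rfl⟩ := TopCat.Presheaf.exists_germ_eq _ b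
  rw [stalkMap_germ] at hb
  obtain ⟨W₂, hxW₂, i₁, i₂, e⟩ := TopCat.Presheaf.germ_eq (Coh.structureModule X).presheaf x
    hxW₁ (Opens.mem_top x) _ _ hb
  refine ⟨W₂, hxW₂, mres _ i₁.le a₁, ?_⟩
  rw [app_mres']
  refine e.trans ?_
  rw [map_toMod, map_one]

theorem exists_global_section [IsNoetherian X]
    (J : ObjectProperty.FullSubcategory (fun M : X.Modules => Coh.IsQCoh M)) (hJ : Injective J)
    (U : X.Opens) (s : Γ(J.obj, U)) : ∃ t : Γ(J.obj, ⊤), mres J.obj le_top t = s := by
  haveI : J.obj.IsQuasicoherent := J.property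
  let I : X.IdealSheafData :=
    Scheme.IdealSheafData.vanishingIdeal ⟨(U : Set X)ᶜ, U.isOpen.isClosed_compl⟩
  have hU : (U : Set X) = (I.support : Set X)ᶜ := by
    rw [Scheme.IdealSheafData.coe_support_vanishingIdeal]
    exact (compl_compl _).symm
  obtain ⟨n, ψ, hψ⟩ := Deligne.exists_extension (Coh.structureModule X) J.obj
    (isCoh_structureModule X) I U hU (secHom J.obj U s)
  -- extend `ψ` along the monomorphism `I^n O ⟶ O` in `QCoh`
  let A : ObjectProperty.FullSubcategory (fun M : X.Modules => Coh.IsQCoh M) :=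
    ⟨(Dual3.idealMul (I ^ n)).obj (Coh.structureModule X),
      haveI := (isCoh_structureModule X).1
      Groth.Agent.Lib.Helper45.IdealMulPow.isQuasicoherent_idealMul _ _⟩
  let B : ObjectProperty.FullSubcategory (fun M : X.Modules => Coh.IsQCoh M) :=
    ⟨Coh.structureModule X, (isCoh_structureModule X).1⟩
  let ι' : A ⟶ B := ObjectProperty.homMk (Dual3.idealMulι (I ^ n) (Coh.structureModule X))
  haveI : Mono ι' := by
    apply Functor.mono_of_mono_map (ObjectProperty.ι _)
    change Mono (Dual3.idealMulι (I ^ n) (Coh.structureModule X))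
    infer_instance
  let ψA : A ⟶ J := ObjectProperty.homMk ψ
  let ψ' : Coh.structureModule X ⟶ J.obj := (Injective.factorThru ψA ι').hom
  have hψ' : Dual3.idealMulι (I ^ n) (Coh.structureModule X) ≫ ψ' = ψ := by
    have := Injective.comp_factorThru ψA ι'
    exact congrArg (fun k => k.hom) this
  refine ⟨ψ'.app ⊤ (toMod 1), ?_⟩
  apply LSubM.eq_of_locally_eq
  intro x hxU
  have hx : x ∉ ((I ^ n).support : Set X) := by
    intro hxs
    have h1 : x ∈ (I.support : Set X) := Groth.Agent.Lib.Helper45.IdealMulPow.support_pow_le I n hxs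
    have hxU' : x ∈ (U : Set X) := hxU
    rw [hU] at hxU'
    exact hxU' h1
  obtain ⟨W₂, hxW₂, a₂, ha₂⟩ := exists_idealMul_section_one (I ^ n) x hx
  -- shrink to an open of the form `U.ι ''ᵁ V'`
  let V' : (U : Scheme.{u}).Opens := U.ι ⁻¹ᵁ W₂
  have hW' : U.ι ''ᵁ V' ≤ W₂ := U.ι.image_preimage_le W₂
  have hxW' : x ∈ U.ι ''ᵁ V' := ⟨⟨x, hxU⟩, hxW₂, rfl⟩
  refine ⟨U.ι ''ᵁ V', U.ι_image_le V', hxW', ?_⟩
  set a' := mres _ hW' a₂ with ha'
  have h1 : (Dual3.idealMulι (I ^ n) (Coh.structureModule X)).app (U.ι ''ᵁ V') a' = toMod 1 := by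
    rw [ha', app_mres', ha₂]
    change (Coh.structureModule X).presheaf.map (homOfLE hW').op (toMod 1) = toMod 1
    rw [map_toMod, map_one]
  -- evaluate `hψ` on `a'`
  have h2 := congrArg (fun k => k.app V' a') hψ
  change ψ.app (U.ι ''ᵁ V') a' = (secHom J.obj U s).app V'
    ((Dual3.idealMulι (I ^ n) (Coh.structureModule X)).app (U.ι ''ᵁ V') a') at h2
  have h2' : ψ.app (U.ι ''ᵁ V') a' =
      (show Γ(J.obj.restrict U.ι, V') from
        (1 : Γ(X, U.ι ''ᵁ V')) • mres J.obj (U.ι_image_le V') s) :=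
    h2.trans ((congrArg (fun z => (secHom J.obj U s).app V' z) h1).trans
      (secHom_app J.obj U s V' 1))
  rw [mres_mres, ← app_mres']
  have h3 : mres (Coh.structureModule X) (le_top : U.ι ''ᵁ V' ≤ ⊤) (toMod 1) =
      (Dual3.idealMulι (I ^ n) (Coh.structureModule X)).app (U.ι ''ᵁ V') a' := by
    rw [h1]
    change (Coh.structureModule X).presheaf.map (homOfLE le_top).op (toMod 1) = toMod 1
    rw [map_toMod, map_one]
  rw [h3]
  have h4 : ψ'.app (U.ι ''ᵁ V') ((Dual3.idealMulι (I ^ n) (Coh.structureModule X)).app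
      (U.ι ''ᵁ V') a') = ψ.app (U.ι ''ᵁ V') a' := congrArg (fun k => k.app (U.ι ''ᵁ V') a') hψ'
  rw [h4]
  exact h2'.trans (one_smul _ _)

end Groth.Agent.Lib.Helper49.QcohInjFlasque
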