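import Mathlib
import Groth.Agent.Lib.Helper11.FinFreeBasis
import Groth.Agent.Lib.Helper11.AmpleBasis
import Groth.Agent.Lib.Helper11.SupportTensor
import Groth.Agent.Lib.Helper49.FibreRank
import Groth.Agent.Lib.Helper49.StalkNbhd2

set_option autoImplicit false
set_option linter.style.haveILetI false
universe u

open CategoryTheory CategoryTheory.Limits AlgebraicGeometry Opposite TopologicalSpace

namespace Groth.Agent.Lib.Helper49.TensorLength

open Groth.Agent.Lib.Helper45 Groth.Agent.Lib.Helper49 Groth.Agent.Lib.Helper11.FinFreeBasis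

variable {X : Scheme.{u}}

section Length

attribute [local instance] stalkModuleSections

/-- the stalk of `F ⊗ E` at a point where `E` has a basis family of `n` sections has length
`n` times the length of the stalk of `F`. -/
theorem length_stalk_tensorMod_right (F E : X.Modules) [F.IsQuasicoherent] [E.IsQuasicoherent]
    (V : X.Opens) {n : ℕ} (e : Fin n → Γ(E, V)) (he : IsBasisFam E V e) (x : X) (hxV : x ∈ V) :
    Module.length (X.presheaf.stalk x) ↑((CohB1.tensorMod F E).presheaf.stalk x) =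
      n * Module.length (X.presheaf.stalk x) ↑(F.presheaf.stalk x) := by
  haveI : (CohB1.tensorMod F E).IsQuasicoherent :=
    (Groth.Agent.Lib.Helper11.TildeTensor.isQuasicoherent_tensorMod F E).1
  obtain ⟨_, ⟨W, hW : IsAffineOpen W, rfl⟩, hxW, hWV⟩ :=
    X.isBasis_affineOpens.exists_subset_of_mem_open hxV V.2
  have hWV' : W ≤ V := hWV
  obtain ⟨x', rfl⟩ : ∃ x' : W, (x' : X) = x := ⟨⟨x, hxW⟩, rfl⟩
  haveI := hW.isLocalization_stalk x'
  haveI h1 := isLocalizedModule_germₗ hW (CohB1.tensorMod F E) x'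
  haveI h2 := isLocalizedModule_germₗ hW F x'
  let T := tmFamEquiv F E V e he W hWV'
  let e₀ := Finsupp.linearEquivFunOnFinite Γ(X, W) Γ(F, W) (Fin n)
  let g₁ : (Fin n →₀ Γ(F, W)) →ₗ[Γ(X, W)] ↑((CohB1.tensorMod F E).presheaf.stalk (x' : X)) :=
    germₗ (CohB1.tensorMod F E) x' ∘ₗ (e₀.trans T).toLinearMap
  haveI hg₁ : IsLocalizedModule (hW.primeIdealOf x').asIdeal.primeCompl g₁ :=
    IsLocalizedModule.of_linearEquiv_right _ _ (e₀.trans T)
  let g₂ : (Fin n →₀ Γ(F, W)) →ₗ[Γ(X, W)] (Fin n →₀ ↑(F.presheaf.stalk (x' : X))) :=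
    Finsupp.mapRange.linearMap (germₗ F x')
  let eq := IsLocalizedModule.linearEquiv (hW.primeIdealOf x').asIdeal.primeCompl g₁ g₂
  let eqA := eq.extendScalarsOfIsLocalization (hW.primeIdealOf x').asIdeal.primeCompl
    (X.presheaf.stalk (x' : X))
  rw [eqA.length_eq, Module.length_finsupp]
  simp

end Length


section Left

open Groth.Agent.Lib.Helper11.GenLocus

theorem isFinLocFree_of_rank {n : ℕ} {E : X.Modules} (hE : FlatMod.IsFinLocFreeOfRank n E) :
    FlatMod.IsFinLocFree E := fun x =>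
  let ⟨U, hxU, h⟩ := hE x
  ⟨U, n, hxU, h⟩

theorem isCoh_of_isFinLocFreeOfRank {n : ℕ} {E : X.Modules}
    (hE : FlatMod.IsFinLocFreeOfRank n E) : Coh.IsCoh E :=
  ⟨isQuasicoherent_of_isFinLocFree E (isFinLocFree_of_rank hE),
    isFiniteType_of_isFinLocFree E (isFinLocFree_of_rank hE)⟩

theorem isCoh_tensorMod (F G : X.Modules) (hF : Coh.IsCoh F) (hG : Coh.IsCoh G) :
    Coh.IsCoh (CohB1.tensorMod F G) := by
  haveI : F.IsQuasicoherent := hF.1
  haveI : G.IsQuasicoherent := hG.1
  obtain ⟨h1, h2⟩ := Groth.Agent.Lib.Helper11.TildeTensor.isQuasicoherent_tensorMod F G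
  exact ⟨h1, h2 hF.2 hG.2⟩

/-- the stalk of `E ⊗ F`, `E` finite locally free of rank `n`, has length `n` times the length of
the stalk of `F`. -/
theorem length_stalk_tensorMod_left (E F : X.Modules) (n : ℕ)
    (hE : FlatMod.IsFinLocFreeOfRank n E) [F.IsQuasicoherent] (x : X) :
    Module.length (X.presheaf.stalk x) ↑((CohB1.tensorMod E F).presheaf.stalk x) =
      n * Module.length (X.presheaf.stalk x) ↑(F.presheaf.stalk x) := by
  haveI := isQuasicoherent_of_isFinLocFree E (isFinLocFree_of_rank hE)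
  obtain ⟨U, hxU, ⟨φ⟩⟩ := hE x
  obtain ⟨e, he⟩ := exists_isBasisFam_of_iso φ
  rw [← length_stalk_tensorMod_right F E U e he x hxU]
  exact (LinearEquiv.ofBijective (stalkMapLinear (tensorModBraid E F).hom x)
    (stalkMap_bijective_of_isIso _ x)).length_eq

end Left

end Groth.Agent.Lib.Helper49.TensorLength
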