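import Mathlib

/-!
# Torsion elements of adic limits (helper49)

Pure commutative algebra: for a finite module `N` over a Noetherian ring `B` and ideals `J`, `K`
with `J ^ c ≤ K`, a `J`-adically Cauchy sequence of elements which are `K`-torsion modulo
`J^(n+1) N` converges to a `K`-torsion element of `N`.
-/

set_option autoImplicit false
set_option linter.style.haveILetI false
universe u v

namespace Groth.Agent.Lib.Helper49.TorsLim

section OverB

variable {B : Type u} {N : Type v} [CommRing B] [IsNoetherianRing B] [AddCommGroup N] [Module B N]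
  [Module.Finite B N]

omit [IsNoetherianRing B] [Module.Finite B N] in
theorem pi_mem_smul_top {r : ℕ} (Jm : Ideal B) (z : Fin r → N)
    (hz : ∀ j, z j ∈ Jm • (⊤ : Submodule B N)) :
    z ∈ Jm • (⊤ : Submodule B (Fin r → N)) := by
  have h1 : z = ∑ j, LinearMap.single B (fun _ : Fin r => N) j (z j) := by
    ext i
    simp [Finset.sum_apply, Pi.single_apply]
  rw [h1]
  apply Submodule.sum_mem
  intro j _
  have h2 : LinearMap.single B (fun _ : Fin r => N) j (z j) ∈
      (Jm • (⊤ : Submodule B N)).map (LinearMap.single B (fun _ : Fin r => N) j) :=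
    Submodule.mem_map_of_mem (hz j)
  rw [Submodule.map_smul''] at h2
  exact Submodule.smul_mono le_rfl le_top h2

omit [IsNoetherianRing B] [Module.Finite B N] in
theorem cauchy_add (J : Ideal B) (x : ℕ → N)
    (hx : ∀ n, x (n + 1) - x n ∈ J ^ (n + 1) • (⊤ : Submodule B N)) (n k : ℕ) :
    x (n + k) - x n ∈ J ^ (n + 1) • (⊤ : Submodule B N) := by
  induction k with
  | zero => simp
  | succ k ih =>
    have h1 : x (n + (k + 1)) - x n = (x (n + k + 1) - x (n + k)) + (x (n + k) - x n) := by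
      rw [← add_assoc]; abel
    rw [h1]
    refine Submodule.add_mem _ ?_ ih
    exact Submodule.smul_mono (Ideal.pow_le_pow_right (by omega)) le_rfl (hx (n + k))

theorem exists_torsion_limit_aux (J Kb : Ideal B) (c : ℕ) (hc : J ^ c ≤ Kb) (x : ℕ → N)
    (hx : ∀ n, x (n + 1) - x n ∈ J ^ (n + 1) • (⊤ : Submodule B N))
    (hK : ∀ n, ∀ b ∈ Kb, b • x n ∈ J ^ (n + 1) • (⊤ : Submodule B N)) :
    ∃ y : N, (∀ b ∈ Kb, b • y = 0) ∧ ∀ n, y - x n ∈ J ^ (n + 1) • (⊤ : Submodule B N) := by
  obtain ⟨r, b, hb⟩ := Submodule.fg_iff_exists_fin_generating_family.mp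
    (IsNoetherian.noetherian Kb)
  let μ : N →ₗ[B] (Fin r → N) := LinearMap.pi (fun j => LinearMap.lsmul B N (b j))
  have hμ : ∀ y, μ y = fun j => b j • y := fun y => rfl
  have hbK : ∀ j, b j ∈ Kb := fun j => hb ▸ Submodule.subset_span ⟨j, rfl⟩
  -- kernel of μ is the `Kb`-torsion
  have hker : ∀ y, y ∈ LinearMap.ker μ → ∀ k ∈ Kb, k • y = 0 := by
    intro y hy k hk
    have hy' : ∀ j, b j • y = 0 := fun j => congrFun (LinearMap.mem_ker.mp hy) j
    have hle : Kb ≤ LinearMap.ker (LinearMap.toSpanSingleton B N y) := by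
      rw [← hb, Submodule.span_le]
      rintro _ ⟨j, rfl⟩
      change (LinearMap.toSpanSingleton B N y) (b j) = 0
      rw [LinearMap.toSpanSingleton_apply]
      exact hy' j
    have := hle hk
    change (LinearMap.toSpanSingleton B N y) k = 0 at this
    rwa [LinearMap.toSpanSingleton_apply] at this
  -- Artin–Rees for the range of μ
  obtain ⟨k0, hk0⟩ := Ideal.exists_pow_inf_eq_pow_smul J (LinearMap.range μ)
  -- Artin–Rees for the kernel of μ
  obtain ⟨k1, hk1⟩ := Ideal.exists_pow_inf_eq_pow_smul J (LinearMap.ker μ)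
  have hzero : ∀ n, k1 + c ≤ n → J ^ n • (⊤ : Submodule B N) ⊓ LinearMap.ker μ = ⊥ := by
    intro n hn
    rw [hk1 n (by omega), eq_bot_iff]
    calc J ^ (n - k1) • (J ^ k1 • ⊤ ⊓ LinearMap.ker μ)
        ≤ J ^ c • LinearMap.ker μ :=
          Submodule.smul_mono (Ideal.pow_le_pow_right (by omega)) inf_le_right
      _ ≤ ⊥ := by
          rw [Submodule.smul_le]
          intro k hk y hy
          rw [Submodule.mem_bot]
          exact hker y hy k (hc hk)
  -- lifting lemma
  have hT : ∀ (n : ℕ) (w : N), (∀ j, b j • w ∈ J ^ (n + k0) • (⊤ : Submodule B N)) →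
      ∃ z ∈ J ^ n • (⊤ : Submodule B N), w - z ∈ LinearMap.ker μ := by
    intro n w hw
    have h1 : μ w ∈ J ^ (n + k0) • (⊤ : Submodule B (Fin r → N)) ⊓ LinearMap.range μ :=
      ⟨pi_mem_smul_top _ _ hw, ⟨w, rfl⟩⟩
    rw [hk0 (n + k0) (by omega), Nat.add_sub_cancel] at h1
    have h2 : μ w ∈ J ^ n • LinearMap.range μ := Submodule.smul_mono le_rfl inf_le_right h1
    rw [LinearMap.range_eq_map, ← Submodule.map_smul''] at h2
    obtain ⟨z, hz, hzw⟩ := h2
    exact ⟨z, hz, by rw [LinearMap.mem_ker, map_sub, hzw, sub_self]⟩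
  have hstep : ∀ n, ∃ z ∈ J ^ (n + 1) • (⊤ : Submodule B N),
      x (n + k0) - z ∈ LinearMap.ker μ := by
    intro n
    apply hT (n + 1) (x (n + k0))
    intro j
    have := hK (n + k0) (b j) (hbK j)
    have e : n + k0 + 1 = n + 1 + k0 := by omega
    rwa [e] at this
  choose z hz hzker using hstep
  let y : ℕ → N := fun n => x (n + k0) - z n
  have hyx : ∀ n, y n - x n ∈ J ^ (n + 1) • (⊤ : Submodule B N) := by
    intro n
    have h1 : y n - x n = (x (n + k0) - x n) - z n := by simp only [y]; abel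
    rw [h1]
    exact Submodule.sub_mem _ (cauchy_add J x hx n k0) (hz n)
  have hyy : ∀ n, y (n + 1) - y n ∈ J ^ (n + 1) • (⊤ : Submodule B N) := by
    intro n
    have h1 : y (n + 1) - y n = (y (n + 1) - x (n + 1)) + (x (n + 1) - x n) - (y n - x n) := by
      abel
    rw [h1]
    refine Submodule.sub_mem _ (Submodule.add_mem _ ?_ (hx n)) (hyx n)
    exact Submodule.smul_mono (Ideal.pow_le_pow_right (by omega)) le_rfl (hyx (n + 1))
  have hconst : ∀ k, y (k1 + c + k) = y (k1 + c) := by
    intro k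
    induction k with
    | zero => rfl
    | succ k ih =>
      have h1 : y (k1 + c + (k + 1)) - y (k1 + c + k) ∈
          J ^ (k1 + c + k + 1) • (⊤ : Submodule B N) ⊓ LinearMap.ker μ :=
        ⟨hyy (k1 + c + k), Submodule.sub_mem _ (hzker _) (hzker _)⟩
      rw [hzero _ (by omega), Submodule.mem_bot, sub_eq_zero] at h1
      rw [h1, ih]
  refine ⟨y (k1 + c), fun k hk => hker _ (hzker _) k hk, fun n => ?_⟩
  by_cases hn : k1 + c ≤ n
  · obtain ⟨k, rfl⟩ := Nat.exists_eq_add_of_le hn
    rw [← hconst k]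
    exact hyx _
  · rw [not_le] at hn
    obtain ⟨k, hk⟩ := Nat.exists_eq_add_of_le hn.le
    have h1 : y (k1 + c) - x n = (y (k1 + c) - x (k1 + c)) + (x (n + k) - x n) := by
      rw [← hk]; abel
    rw [h1]
    refine Submodule.add_mem _ ?_ (cauchy_add J x hx n k)
    exact Submodule.smul_mono (Ideal.pow_le_pow_right (by omega)) le_rfl (hyx (k1 + c))

end OverB

section OverA

variable {A : Type*} {B : Type u} {N : Type v} [CommRing A] [CommRing B] [Algebra A B]
  [AddCommGroup N] [Module A N] [Module B N] [IsScalarTower A B N]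

theorem mem_smul_top_iff (I : Ideal A) (n : ℕ) (x : N) :
    x ∈ I ^ n • (⊤ : Submodule A N) ↔
      x ∈ (I.map (algebraMap A B)) ^ n • (⊤ : Submodule B N) := by
  have h := Ideal.smul_restrictScalars (I ^ n) (⊤ : Submodule B N)
  rw [Submodule.restrictScalars_top, Ideal.map_pow] at h
  rw [← h]
  rfl

theorem map_smul_eq_zero (K : Ideal A) (y : N) (hy : ∀ a ∈ K, a • y = 0) :
    ∀ b ∈ K.map (algebraMap A B), b • y = 0 := by
  have hle : K.map (algebraMap A B) ≤ LinearMap.ker (LinearMap.toSpanSingleton B N y) := by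
    rw [Ideal.map_le_iff_le_comap]
    intro a ha
    change (LinearMap.toSpanSingleton B N y) (algebraMap A B a) = 0
    rw [LinearMap.toSpanSingleton_apply, algebraMap_smul]
    exact hy a ha
  intro b hb
  have := hle hb
  change (LinearMap.toSpanSingleton B N y) b = 0 at this
  rwa [LinearMap.toSpanSingleton_apply] at this

variable [IsNoetherianRing B] [Module.Finite B N]

include B in
/-- a Cauchy sequence of elements which are `I^c`-torsion modulo `I^(n+1) N` converges to an
`I^c`-torsion element. -/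
theorem exists_torsion_limit (I : Ideal A) (c : ℕ) (x : ℕ → N)
    (hx : ∀ n, x (n + 1) - x n ∈ I ^ (n + 1) • (⊤ : Submodule A N))
    (hK : ∀ n, ∀ a ∈ I ^ c, a • x n ∈ I ^ (n + 1) • (⊤ : Submodule A N)) :
    ∃ y : N, (∀ a ∈ I ^ c, a • y = 0) ∧ ∀ n, y - x n ∈ I ^ (n + 1) • (⊤ : Submodule A N) := by
  set J := I.map (algebraMap A B) with hJ
  have hx' : ∀ n, x (n + 1) - x n ∈ J ^ (n + 1) • (⊤ : Submodule B N) :=
    fun n => (mem_smul_top_iff (B := B) I (n + 1) _).mp (hx n)
  have hK' : ∀ n, ∀ b ∈ (I ^ c).map (algebraMap A B),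
      b • x n ∈ J ^ (n + 1) • (⊤ : Submodule B N) := by
    intro n
    have hle : (I ^ c).map (algebraMap A B) ≤
        Submodule.comap (LinearMap.toSpanSingleton B N (x n))
          (J ^ (n + 1) • (⊤ : Submodule B N)) := by
      rw [Ideal.map_le_iff_le_comap]
      intro a ha
      change (LinearMap.toSpanSingleton B N (x n)) (algebraMap A B a) ∈
        J ^ (n + 1) • (⊤ : Submodule B N)
      rw [LinearMap.toSpanSingleton_apply, algebraMap_smul]
      exact (mem_smul_top_iff (B := B) I (n + 1) _).mp (hK n a ha)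
    intro b hb
    have := hle hb
    change (LinearMap.toSpanSingleton B N (x n)) b ∈ J ^ (n + 1) • (⊤ : Submodule B N) at this
    rwa [LinearMap.toSpanSingleton_apply] at this
  obtain ⟨y, hy1, hy2⟩ := exists_torsion_limit_aux J ((I ^ c).map (algebraMap A B)) c
    (le_of_eq (Ideal.map_pow _ _ _).symm) x hx' hK'
  refine ⟨y, fun a ha => ?_, fun n => (mem_smul_top_iff (B := B) I (n + 1) _).mpr (hy2 n)⟩
  rw [← algebraMap_smul B a y]
  exact hy1 _ (Ideal.mem_map_of_mem _ ha)

include B in
/-- an `I^c`-torsion element lying in all `I^n N` vanishes. -/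
theorem eq_zero_of_torsion (I : Ideal A) (c : ℕ) (y : N) (hy : ∀ a ∈ I ^ c, a • y = 0)
    (h : ∀ n, y ∈ I ^ n • (⊤ : Submodule A N)) : y = 0 := by
  set J := I.map (algebraMap A B) with hJ
  have h1 : y ∈ (⨅ i : ℕ, J ^ i • ⊤ : Submodule B N) := by
    rw [Submodule.mem_iInf]
    exact fun i => (mem_smul_top_iff (B := B) I i y).mp (h i)
  obtain ⟨r, hr⟩ := (Ideal.mem_iInf_smul_pow_eq_bot_iff J y).mp h1
  have h2 : ∀ k : ℕ, (r : B) ^ k • y = y := by
    intro k
    induction k with
    | zero => simp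
    | succ k ih => rw [pow_succ, mul_smul, hr, ih]
  have h3 : (r : B) ^ c ∈ (I ^ c).map (algebraMap A B) := by
    rw [Ideal.map_pow]
    exact Ideal.pow_mem_pow r.2 c
  rw [← h2 c]
  exact map_smul_eq_zero (B := B) (I ^ c) y hy _ h3

end OverA

section Hom

variable {A : Type*} {B : Type u} {N : Type v} [CommRing A] [CommRing B]
  [AddCommGroup N] [Module A N] [Module B N] [IsNoetherianRing B] [Module.Finite B N]

/-- version of `exists_torsion_limit` for a ring homomorphism -/
theorem exists_torsion_limit' (f : A →+* B) (hf : ∀ (a : A) (x : N), a • x = f a • x)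
    (I : Ideal A) (c : ℕ) (x : ℕ → N)
    (hx : ∀ n, x (n + 1) - x n ∈ I ^ (n + 1) • (⊤ : Submodule A N))
    (hK : ∀ n, ∀ a ∈ I ^ c, a • x n ∈ I ^ (n + 1) • (⊤ : Submodule A N)) :
    ∃ y : N, (∀ a ∈ I ^ c, a • y = 0) ∧ ∀ n, y - x n ∈ I ^ (n + 1) • (⊤ : Submodule A N) := by
  letI := f.toAlgebra
  haveI : IsScalarTower A B N := IsScalarTower.of_algebraMap_smul (fun a x => (hf a x).symm)
  exact exists_torsion_limit (B := B) I c x hx hK

/-- version of `eq_zero_of_torsion` for a ring homomorphism -/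
theorem eq_zero_of_torsion' (f : A →+* B) (hf : ∀ (a : A) (x : N), a • x = f a • x)
    (I : Ideal A) (c : ℕ) (y : N) (hy : ∀ a ∈ I ^ c, a • y = 0)
    (h : ∀ n, y ∈ I ^ n • (⊤ : Submodule A N)) : y = 0 := by
  letI := f.toAlgebra
  haveI : IsScalarTower A B N := IsScalarTower.of_algebraMap_smul (fun a x => (hf a x).symm)
  exact eq_zero_of_torsion (B := B) I c y hy h

end Hom

end Groth.Agent.Lib.Helper49.TorsLim
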