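import Mathlib
import Groth.Prelude.Def_Formal
import Groth.Prelude.Def_Formal2
import Groth.Agent.Lib.Helper49.LimQuot
import Groth.Agent.Lib.Helper49.FormalCompletion

/-!
# Towers `0 → F_n → F_{n+1} → F_1 → 0` of quasi-coherent modules and their limits
(helper49; Stacks 0EHB-type lemma, implication (1) ⇒ (4))
-/

set_option autoImplicit false
set_option linter.style.haveILetI false
universe u
open CategoryTheory CategoryTheory.Limits AlgebraicGeometry TopologicalSpace Opposite

namespace Groth.Agent.Lib.Helper49.TowerQuot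

open Groth.Agent.Lib.Helper49.FormalConst Groth.Agent.Lib.Helper49.FormalPullback
  Groth.Agent.Lib.Helper49.LimQuot

/-- The algebraic core: a tower of modules with `i_n ∘ t_n = f`, `i_n` injective and
`0 → M_n → M_{n+1} → M_0 → 0` exact has surjective transition maps with kernel `f^(n+1) M_{n+1}`. -/
theorem tower_aux {A : Type*} [CommRing A] (f : A) (M : ℕ → Type*) [∀ n, AddCommGroup (M n)]
    [∀ n, Module A (M n)] (t : ∀ n, M (n + 1) →ₗ[A] M n) (i : ∀ n, M n →ₗ[A] M (n + 1))
    (π : ∀ n, M n →ₗ[A] M 0) (hπ : ∀ n x, π n (t n x) = π (n + 1) x) (hπ0 : ∀ x, π 0 x = x)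
    (hinj : ∀ n, Function.Injective (i n)) (hit : ∀ n x, i n (t n x) = f • x)
    (hex : ∀ n x, π (n + 1) x = 0 → ∃ y, i n y = x)
    (hsurj : ∀ n, Function.Surjective (π (n + 1))) (n : ℕ) :
    Function.Surjective (t n) ∧ ∀ x, t n x = 0 → ∃ y, x = f ^ (n + 1) • y := by
  have hti : ∀ n y, t n (i n y) = f • y := by
    intro n y
    apply hinj n
    rw [hit, map_smul]
  induction n with
  | zero =>
    have h0 : ∀ x, t 0 x = π 1 x := fun x => by rw [← hπ 0 x, hπ0]
    have hs : Function.Surjective (t 0) := by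
      intro y
      obtain ⟨x, hx⟩ := hsurj 0 y
      exact ⟨x, by rw [h0, hx]⟩
    refine ⟨hs, fun x hx => ?_⟩
    rw [h0] at hx
    obtain ⟨y, rfl⟩ := hex 0 x hx
    obtain ⟨x', rfl⟩ := hs y
    refine ⟨x', ?_⟩
    rw [hit]
    simp
  | succ n ih =>
    obtain ⟨ihs, ihk⟩ := ih
    have hs : Function.Surjective (t (n + 1)) := by
      intro y
      obtain ⟨m, hm⟩ := hsurj (n + 1) (π (n + 1) y)
      have h1 : π (n + 1) (y - t (n + 1) m) = 0 := by
        rw [map_sub, hπ (n + 1) m, hm, sub_self]
      obtain ⟨p, hp⟩ := hex n _ h1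
      obtain ⟨y', rfl⟩ := ihs p
      refine ⟨m + i (n + 1) y', ?_⟩
      rw [map_add, hti, ← hit n y', hp]
      abel
    refine ⟨hs, fun x hx => ?_⟩
    have h1 : π (n + 2) x = 0 := by rw [← hπ (n + 1) x, hx, map_zero]
    obtain ⟨y, rfl⟩ := hex (n + 1) x h1
    rw [hti, ← hit n y] at hx
    have h2 : t n y = 0 := hinj n (by rw [hx, map_zero])
    obtain ⟨y'', rfl⟩ := ihk y h2
    obtain ⟨m'', rfl⟩ := hs y''
    refine ⟨m'', ?_⟩
    rw [map_smul, hit, smul_smul, ← pow_succ]

variable {A : Type u} [CommRing A] {X : Scheme.{u}} [X.Over (Spec (CommRingCat.of A))]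

/-- `J`-quotients can be recognised on the sections over affine opens. -/
theorem isQuot_of_affine_sections {J : Ideal A} {M Q : X.Modules} (p : M ⟶ Q)
    (w : Formal.smulFamily J M ≫ p = 0)
    (hsurj : ∀ U : X.Opens, IsAffineOpen U → Function.Surjective ((secA (A := A) U).map p).hom)
    (hker : ∀ U : X.Opens, IsAffineOpen U → LinearMap.ker ((secA (A := A) U).map p).hom ≤
      J • (⊤ : Submodule A ↑((secA (A := A) U).obj M))) : IsQuot J p := by
  haveI hepi : Epi p := epi_of_app_surjective_affineOpens _ hsurj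
  have hex : (ShortComplex.mk _ _ w).Exact := by
    rw [ShortComplex.exact_iff_epi_kernel_lift]
    apply epi_of_app_surjective_affineOpens
    intro U hU k
    let s : ↑((secA (A := A) U).obj M) := ((secA (A := A) U).map (kernel.ι p)).hom k
    have hs : s ∈ LinearMap.ker ((secA (A := A) U).map p).hom := by
      rw [LinearMap.mem_ker]
      change ((secA (A := A) U).map (kernel.ι p) ≫ (secA (A := A) U).map p).hom k = 0
      rw [← Functor.map_comp, kernel.condition, secA_map_zero]
      rfl
    have hs2 := hker U hU hs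
    have hle : J • (⊤ : Submodule A ↑((secA (A := A) U).obj M)) ≤
        LinearMap.range ((secA (A := A) U).map (Formal.smulFamily J M)).hom := by
      rw [Submodule.smul_le]
      intro a ha t _
      refine ⟨((secA (A := A) U).map (Sigma.ι (fun _ : ↥J => M) ⟨a, ha⟩)).hom t, ?_⟩
      change ((secA (A := A) U).map (Sigma.ι (fun _ : ↥J => M) ⟨a, ha⟩) ≫
        (secA (A := A) U).map (Formal.smulFamily J M)).hom t = a • t
      rw [← Functor.map_comp, ι_smulFamily, ← secA_smul]
    obtain ⟨x, hx⟩ := hle hs2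
    refine ⟨x, ?_⟩
    apply Helper45.app_injective_of_mono (kernel.ι p) U
    change ((secA (A := A) U).map (kernel.lift p _ w) ≫
      (secA (A := A) U).map (kernel.ι p)).hom x = s
    rw [← Functor.map_comp, kernel.lift_ι]
    exact hx
  exact ⟨w, ⟨hex.gIsCokernel⟩⟩

/-- a morphism injective on all sections is a monomorphism -/
theorem mono_of_secA_injective {M N : X.Modules} (φ : M ⟶ N)
    (h : ∀ U : X.Opens, Function.Injective ((secA (A := A) U).map φ).hom) : Mono φ := by
  apply Preadditive.mono_of_cancel_zero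
  intro T g hg
  apply hom_ext_secA (A := A)
  intro U s
  apply h U
  change ((secA (A := A) U).map g ≫ (secA (A := A) U).map φ).hom s = _
  rw [← Functor.map_comp, hg, secA_map_zero, secA_map_zero]
  change (0 : ↑((secA (A := A) U).obj N)) = ((secA (A := A) U).map φ).hom 0
  rw [map_zero]

theorem smulMod_pow_succ (M : X.Modules) (a : A) (n : ℕ) :
    Formal.smulMod A M (a ^ (n + 1)) = Formal.smulMod A M a ≫ Formal.smulMod A M (a ^ n) := by
  rw [pow_succ, smulMod_mul]

theorem killedBy_span_singleton_pow {M : X.Modules} {a : A} {n : ℕ}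
    (h : Formal.smulMod A M (a ^ n) = 0) : Formal.KilledBy (Ideal.span ({a} : Set A) ^ n) M := by
  intro b hb
  rw [Ideal.span_singleton_pow, Ideal.mem_span_singleton'] at hb
  obtain ⟨c, rfl⟩ := hb
  rw [smulMod_mul, h, zero_comp]

variable (f : A) (G : ℕᵒᵖ ⥤ X.Modules)

/-- the data of hypothesis (1) -/
structure Tower where
  i : ∀ n : ℕ, G.obj (op n) ⟶ G.obj (op (n + 1))
  mono : ∀ n, Mono (i n)
  fac : ∀ n, G.map (homOfLE (Nat.le_succ n)).op ≫ i n = Formal.smulMod A (G.obj (op (n + 1))) f
  w : ∀ n, i n ≫ G.map (homOfLE (Nat.zero_le (n + 1))).op = 0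
  exact : ∀ n,
    (ShortComplex.mk (i n) (G.map (homOfLE (Nat.zero_le (n + 1))).op) (w n)).ShortExact

variable {f G} (T : Tower f G)

namespace Tower

include T in
theorem i_tr (n : ℕ) :
    T.i n ≫ G.map (homOfLE (Nat.le_succ n)).op = Formal.smulMod A (G.obj (op n)) f := by
  haveI := T.mono n
  rw [← cancel_mono (T.i n), Category.assoc, T.fac n, smulMod_naturality]

include T in
theorem smulMod_pow_eq_zero (n : ℕ) : Formal.smulMod A (G.obj (op n)) (f ^ (n + 1)) = 0 := by
  induction n with
  | zero =>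
    haveI := (T.exact 0).epi_g
    rw [zero_add, pow_one]
    have e : G.map (homOfLE (Nat.zero_le (0 + 1))).op = G.map (homOfLE (Nat.le_succ 0)).op := rfl
    rw [← cancel_epi (G.map (homOfLE (Nat.zero_le (0 + 1))).op), comp_zero, ← smulMod_naturality,
      ← T.fac 0, Category.assoc, ← e, T.w 0, comp_zero]
  | succ n ih =>
    rw [smulMod_pow_succ, ← T.fac n, Category.assoc, ← smulMod_naturality, ih, zero_comp,
      comp_zero]

include T in
theorem killedBy (n : ℕ) : Formal.KilledBy (Ideal.span ({f} : Set A) ^ (n + 1)) (G.obj (op n)) :=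
  killedBy_span_singleton_pow (T.smulMod_pow_eq_zero n)

variable (hqc : ∀ n : ℕᵒᵖ, Coh.IsQCoh (G.obj n))

include T hqc in
theorem sections_aux {U : X.Opens} (hU : IsAffineOpen U) (n : ℕ) :
    Function.Surjective ((secA (A := A) U).map (G.map (homOfLE (Nat.le_succ n)).op)).hom ∧
    ∀ x, ((secA (A := A) U).map (G.map (homOfLE (Nat.le_succ n)).op)).hom x = 0 →
      ∃ y, x = f ^ (n + 1) • y := by
  refine tower_aux f (fun n => ↑((secA (A := A) U).obj (G.obj (op n))))
    (fun n => ((secA (A := A) U).map (G.map (homOfLE (Nat.le_succ n)).op)).hom)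
    (fun n => ((secA (A := A) U).map (T.i n)).hom)
    (fun n => ((secA (A := A) U).map (G.map (homOfLE (Nat.zero_le n)).op)).hom)
    ?_ ?_ ?_ ?_ ?_ ?_ n
  · intro n x
    have e : G.map (homOfLE (Nat.le_succ n)).op ≫ G.map (homOfLE (Nat.zero_le n)).op =
        G.map (homOfLE (Nat.zero_le (n + 1))).op := by
      rw [← G.map_comp]
      rfl
    exact congrArg (fun φ => ((secA (A := A) U).map φ).hom x) e
  · intro x
    have e : G.map (homOfLE (Nat.zero_le 0)).op = 𝟙 _ := FormalConst.tr_self G 0
    exact congrArg (fun φ => ((secA (A := A) U).map φ).hom x) e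
  · intro n
    haveI := T.mono n
    exact Helper45.app_injective_of_mono (T.i n) U
  · intro n x
    exact congrArg (fun φ => ((secA (A := A) U).map φ).hom x) (T.fac n)
  · intro n x hx
    obtain ⟨y, hy⟩ := (Helper45.app_exact_of_shortExact _ (T.exact n) U x).mp hx
    exact ⟨y, hy⟩
  · intro n
    haveI := (T.exact n).epi_g
    haveI : (G.obj (op (n + 1))).IsQuasicoherent := hqc (op (n + 1))
    haveI : (G.obj (op 0)).IsQuasicoherent := hqc (op 0)
    exact Helper18.EpiAffine.app_surjective_of_epi (G.map (homOfLE (Nat.zero_le (n + 1))).op) hU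

include T hqc in
theorem isQuot_tr (n : ℕ) :
    IsQuot (Ideal.span ({f} : Set A) ^ (n + 1)) (G.map (homOfLE (Nat.le_succ n)).op) := by
  apply isQuot_of_affine_sections
  · rw [smulFamily_comp_eq_zero_iff]
    intro a ha
    rw [smulMod_naturality, T.killedBy n a ha, comp_zero]
  · intro U hU
    exact (T.sections_aux hqc hU n).1
  · intro U hU x hx
    obtain ⟨y, rfl⟩ := (T.sections_aux hqc hU n).2 x ((LinearMap.mem_ker).mp hx)
    exact Submodule.smul_mem_smul (Ideal.pow_mem_pow (Ideal.mem_span_singleton_self f) _)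
      Submodule.mem_top

include T hqc in
theorem isQCohFormal : Formal2.IsQCohFormal (Ideal.span ({f} : Set A)) G :=
  ⟨fun n => hqc (op n), T.killedBy, fun n => (isQuot_iff _ _).mp (T.isQuot_tr hqc n)⟩

include T in
theorem mono_smulMod_limit : Mono (Formal.smulMod A (limit G) f) := by
  apply mono_of_secA_injective (A := A)
  intro U
  rw [← LinearMap.ker_eq_bot, LinearMap.ker_eq_bot']
  intro s hs
  let e := preservesLimitIso (secA (A := A) U) G
  have hπ : ∀ n, (limit.π (G ⋙ secA (A := A) U) (op n)).hom (e.hom.hom s) =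
      ((secA (A := A) U).map (limit.π G (op n))).hom s := fun n =>
    congrArg (fun φ => φ.hom s) (preservesLimitIso_hom_π (secA (A := A) U) G (op n))
  have hz : e.hom.hom s = 0 := by
    apply LimMod.limit_ext
    intro n
    rw [map_zero, hπ n]
    have h1 : ((secA (A := A) U).map (limit.π G (op n))).hom s =
        ((secA (A := A) U).map (G.map (homOfLE (Nat.le_succ n)).op)).hom
          (((secA (A := A) U).map (limit.π G (op (n + 1)))).hom s) :=
      (congrArg (fun φ => ((secA (A := A) U).map φ).hom s)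
        (limit.w G (homOfLE (Nat.le_succ n)).op)).symm
    rw [h1]
    haveI := T.mono n
    apply Helper45.app_injective_of_mono (T.i n) U
    have h2 := congrArg (fun φ => ((secA (A := A) U).map φ).hom
      (((secA (A := A) U).map (limit.π G (op (n + 1)))).hom s)) (T.fac n)
    refine h2.trans ?_
    have h3 := congrArg (fun φ => ((secA (A := A) U).map φ).hom s)
      (smulMod_naturality (limit.π G (op (n + 1))) f)
    refine h3.symm.trans ?_
    change ((secA (A := A) U).map (limit.π G (op (n + 1)))).hom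
      (((secA (A := A) U).map (Formal.smulMod A (limit G) f)).hom s) = _
    rw [hs, map_zero]
    exact (map_zero _).symm
  have h3 : e.inv.hom (e.hom.hom s) = s := by
    change (e.hom ≫ e.inv).hom s = s
    rw [e.hom_inv_id]
    rfl
  rw [← h3, hz, map_zero]

include T hqc in
/-- **(1) ⇒ (4)**: the limit of the tower is `f`-torsion free with quotients `F/f^(n+1)F = G_n`. -/
theorem exists_limit :
    ∃ F : X.Modules, Mono (Formal.smulMod A F f) ∧
      Nonempty (Formal.completion (Ideal.span ({f} : Set A)) F ≅ G) := by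
  refine ⟨limit G, T.mono_smulMod_limit, ?_⟩
  have hI : (Ideal.span ({f} : Set A)).FG := ⟨{f}, by simp⟩
  obtain ⟨e, -⟩ := FormalCompletion.exists_completion_iso_of_isQuot (Ideal.span ({f} : Set A)) G
    (limit G) (fun n => limit.π G (op n))
    (fun n => isQuot_limit_π (T.isQCohFormal hqc) hI n)
    (fun n => limit.w G (homOfLE (Nat.le_succ n)).op)
  exact ⟨e⟩

end Tower

end Groth.Agent.Lib.Helper49.TowerQuot
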