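import Mathlib
import Groth.Prelude.Def_Formal
import Groth.Prelude.Def_Formal2
import Groth.Agent.Lib.Helper49.TorsLim
import Groth.Agent.Lib.Helper49.Domination
import Groth.Agent.Lib.Helper49.FormalReindex
import Groth.Agent.Lib.Helper49.LimQuot
import Groth.Agent.Lib.Helper49.FormalCompletion
import Groth.Agent.Lib.Helper49.FiniteTypeAffine
import Groth.Agent.Lib.Helper18.EpiAffine
import Groth.Agent.Lib.Helper18.LSubFactor
import Groth.Agent.Lib.Helper49.TowerQuot
import Groth.Agent.Lib.Helper45.ModulesExact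

/-!
# Morphisms from torsion modules into completions (helper49)
-/

set_option autoImplicit false
set_option linter.style.haveILetI false
universe u
open CategoryTheory CategoryTheory.Limits AlgebraicGeometry TopologicalSpace Opposite

namespace Groth.Agent.Lib.Helper49.TorsHom

open Groth.Agent.Lib.Helper49.FormalConst Groth.Agent.Lib.Helper49.LimQuot
  Groth.Agent.Lib.Helper49.Domination Groth.Agent.Lib.Helper49.FormalReindex
  Groth.Agent.Lib.Helper49

variable {A : Type u} [CommRing A] {X : Scheme.{u}} [X.Over (Spec (CommRingCat.of A))]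

/-- over a Noetherian ring, the extension of an ideal is the extension of a finitely generated
subideal. -/
theorem exists_fg_le_map_le {B : Type*} [CommRing B] [IsNoetherianRing B] (f : A →+* B)
    (J : Ideal A) : ∃ J₀ : Ideal A, J₀ ≤ J ∧ J₀.FG ∧ J.map f ≤ J₀.map f := by
  let S : Set (Ideal B) := {K | ∃ J₀ : Ideal A, J₀ ≤ J ∧ J₀.FG ∧ K = J₀.map f}
  have hS : S.Nonempty := ⟨⊥, ⊥, bot_le, Submodule.fg_bot, by simp⟩
  obtain ⟨K, ⟨J₀, hle, hfg, rfl⟩, hmax⟩ := set_has_maximal_iff_noetherian.mpr
    (inferInstance : IsNoetherian B B) S hS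
  refine ⟨J₀, hle, hfg, ?_⟩
  rw [Ideal.map_le_iff_le_comap]
  intro a ha
  by_contra hna
  let J₁ : Ideal A := J₀ ⊔ Ideal.span {a}
  have h1 : J₁.map f ∈ S :=
    ⟨J₁, sup_le hle ((Ideal.span_singleton_le_iff_mem _).mpr ha),
      Submodule.FG.sup hfg (Submodule.fg_span_singleton a), rfl⟩
  have h2 : J₀.map f ≤ J₁.map f := Ideal.map_mono le_sup_left
  have h3 : ¬ J₀.map f < J₁.map f := hmax _ h1
  have h4 : J₁.map f ≤ J₀.map f := by
    by_contra h
    exact h3 (lt_of_le_not_ge h2 h)
  apply hna
  exact h4 (Ideal.mem_map_of_mem f (Ideal.mem_sup_right (Ideal.mem_span_singleton_self a)))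

/-- On a Noetherian scheme, every ideal of the base ring can be replaced by a finitely generated
subideal killing the same modules. -/
theorem exists_fg_killedBy [IsNoetherian X] (J : Ideal A) :
    ∃ J₀ : Ideal A, J₀ ≤ J ∧ J₀.FG ∧
      ∀ T : X.Modules, Formal.KilledBy J₀ T → Formal.KilledBy J T := by
  have h1 : ∀ x : X, ∃ U : X.Opens, IsAffineOpen U ∧ x ∈ U := by
    intro x
    obtain ⟨U, hU, hxU, -⟩ := exists_isAffineOpen_mem_and_subset (x := x) (U := ⊤) trivial
    exact ⟨U, hU, hxU⟩
  choose U hU hxU using h1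
  have h2 : ∀ x : X, ∃ J₀ : Ideal A, J₀ ≤ J ∧ J₀.FG ∧
      J.map (ρ' (A := A) (U x)) ≤ J₀.map (ρ' (A := A) (U x)) := by
    intro x
    haveI : IsNoetherianRing Γ(X, U x) := IsLocallyNoetherian.component_noetherian ⟨U x, hU x⟩
    exact exists_fg_le_map_le (ρ' (A := A) (U x)) J
  choose J₀ hle hfg hmap using h2
  obtain ⟨t, ht⟩ := isCompact_univ.elim_finite_subcover (fun x : X => ((U x : X.Opens) : Set X))
    (fun x => (U x).isOpen) (fun x _ => Set.mem_iUnion.mpr ⟨x, hxU x⟩)
  refine ⟨t.sup J₀, Finset.sup_le (fun x _ => hle x),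
    Submodule.fg_finset_sup t J₀ (fun x _ => hfg x), fun T hT => ?_⟩
  have hcov : ∀ x : X, ∃ V : X.Opens, x ∈ V ∧
      (J.map (ρ' (A := A) V)) ^ 1 ≤ (t.sup J₀).map (ρ' (A := A) V) := by
    intro x
    have hx := ht (Set.mem_univ x)
    simp only [Set.mem_iUnion] at hx
    obtain ⟨y, hyt, hxy⟩ := hx
    refine ⟨U y, hxy, ?_⟩
    rw [pow_one]
    exact (hmap y).trans (Ideal.map_mono (Finset.le_sup hyt))
  have h3 := killedBy_of_cover hcov T 1 (by rwa [pow_one])
  rwa [mul_one, pow_one] at h3

theorem IsQuot.of_fg_sub {J J₀ : Ideal A} (hle : J₀ ≤ J)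
    (hk : ∀ T : X.Modules, Formal.KilledBy J₀ T → Formal.KilledBy J T)
    {M Q : X.Modules} {π : M ⟶ Q} (h : IsQuot J π) : IsQuot J₀ π := by
  have hQ : Formal.KilledBy J₀ Q := killedBy_mono hle (FormalCompletion.IsQuot.killedBy h)
  have h1 := IsQuot.comp' (J' := J) (J := J₀) hk h (isQuot_of_isIso hQ (𝟙 Q))
  rwa [Category.comp_id] at h1

/-- Sections over an affine open of a `J`-quotient of quasi-coherent modules on a Noetherian
scheme: the kernel of `M(U) → Q(U)` is `J M(U)` (no finiteness assumption on `J`). -/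
theorem ker_secA_map_eq [IsNoetherian X] {J : Ideal A} {M Q : X.Modules}
    (hM : M.IsQuasicoherent) (hQ : Q.IsQuasicoherent) {p : M ⟶ Q} (h : IsQuot J p)
    {U : X.Opens} (hU : IsAffineOpen U) :
    LinearMap.ker ((secA (A := A) U).map p).hom =
      J • (⊤ : Submodule A ↑((secA (A := A) U).obj M)) := by
  apply le_antisymm
  · obtain ⟨J₀, hle, hfg, hk⟩ := exists_fg_killedBy (X := X) J
    have h1 := ker_secA_map_le hfg hM hQ (IsQuot.of_fg_sub hle hk h) hU
    exact h1.trans (Submodule.smul_mono hle le_rfl)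
  · exact smul_top_le_ker h.1 U

section Torsion

/-- sections of a product are determined by their components -/
theorem pi_section_ext {K : Type u} (T : X.Modules) (W : X.Opens)
    (z z' : Γ(∏ᶜ fun _ : K => T, W))
    (h : ∀ a : K, (Pi.π (fun _ : K => T) a).app W z = (Pi.π (fun _ : K => T) a).app W z') :
    z = z' := by
  have hl := isLimitOfPreserves
    (SheafOfModules.evaluation X.ringCatSheaf (op W) : X.Modules ⥤ _)
    (limit.isLimit (Discrete.functor fun _ : K => T))
  exact Concrete.isLimit_ext _ hl z z' (fun j => h j.as)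

/-- the `K`-torsion subobject -/
noncomputable def tors (K : Ideal A) (T : X.Modules) : X.Modules :=
  kernel (Pi.lift fun a : K => Formal.smulMod A T (a : A))

/-- the inclusion of the torsion subobject -/
noncomputable def torsι (K : Ideal A) (T : X.Modules) : tors K T ⟶ T :=
  kernel.ι (Pi.lift fun a : K => Formal.smulMod A T (a : A))

instance (K : Ideal A) (T : X.Modules) : Mono (torsι K T) :=
  inferInstanceAs (Mono (kernel.ι (Pi.lift fun a : K => Formal.smulMod A T (a : A))))

theorem torsι_smulMod (K : Ideal A) (T : X.Modules) (a : A) (ha : a ∈ K) :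
    torsι K T ≫ Formal.smulMod A T a = 0 := by
  have h1 : torsι K T ≫ (Pi.lift fun a : K => Formal.smulMod A T (a : A)) = 0 :=
    kernel.condition _
  have h2 := congrArg (fun φ => φ ≫ Pi.π (fun _ : K => T) ⟨a, ha⟩) h1
  simpa using h2

/-- a morphism from a `K`-torsion module factors through the torsion subobject -/
noncomputable def torsLift (K : Ideal A) {F T : X.Modules} (hF : Formal.KilledBy K F)
    (f : F ⟶ T) : F ⟶ tors K T :=
  kernel.lift _ f (by
    apply Pi.hom_ext
    intro a
    rw [Category.assoc, Pi.lift_π, zero_comp, ← smulMod_naturality, hF a.1 a.2, zero_comp])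

theorem torsLift_ι (K : Ideal A) {F T : X.Modules} (hF : Formal.KilledBy K F) (f : F ⟶ T) :
    torsLift K hF f ≫ torsι K T = f := kernel.lift_ι _ _ _

/-- sections of the torsion subobject -/
theorem mem_range_torsι_iff (K : Ideal A) (T : X.Modules) (W : X.Opens) (x : Γ(T, W)) :
    (∃ y : Γ(tors K T, W), (torsι K T).app W y = x) ↔
      ∀ a ∈ K, ρ' (A := A) W a • x = 0 := by
  have hex := LimQuot.app_exact_kernel (Pi.lift fun a : K => Formal.smulMod A T (a : A)) W x
  change _ ↔ x ∈ Set.range ((torsι K T).app W) at hex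
  rw [Set.mem_range] at hex
  rw [← hex]
  constructor
  · intro h a ha
    have h1 := congrArg (fun z => (Pi.π (fun _ : K => T) ⟨a, ha⟩).app W z) h
    simp only [map_zero] at h1
    rw [← smulMod_app]
    have h2 : (Pi.lift fun a : K => Formal.smulMod A T (a : A)) ≫
        Pi.π (fun _ : K => T) ⟨a, ha⟩ = Formal.smulMod A T a := Pi.lift_π _ _
    rw [← h2]
    exact h1
  · intro h
    apply pi_section_ext
    intro a
    rw [map_zero]
    have h2 : (Pi.lift fun a : K => Formal.smulMod A T (a : A)) ≫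
        Pi.π (fun _ : K => T) a = Formal.smulMod A T a := Pi.lift_π _ _
    change ((Pi.lift fun a : K => Formal.smulMod A T (a : A)) ≫
        Pi.π (fun _ : K => T) a).app W x = 0
    rw [h2, smulMod_app]
    exact h a.1 a.2

end Torsion

section Lim

/-- a compatible family of maps into a sequence gives a map into the limit -/
noncomputable def liftSeq {T : X.Modules} (Gs : ℕᵒᵖ ⥤ X.Modules) (f : ∀ n, T ⟶ Gs.obj (op n))
    (hf : ∀ n, f (n + 1) ≫ Gs.map (homOfLE (Nat.le_succ n)).op = f n) : T ⟶ limit Gs :=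
  limit.lift Gs ⟨T, NatTrans.ofOpSequence (F := (Functor.const ℕᵒᵖ).obj T) (G := Gs) f
    (fun n => by
      change 𝟙 T ≫ f n = f (n + 1) ≫ Gs.map (homOfLE (Nat.le_succ n)).op
      rw [hf, Category.id_comp])⟩

theorem liftSeq_π {T : X.Modules} (Gs : ℕᵒᵖ ⥤ X.Modules) (f : ∀ n, T ⟶ Gs.obj (op n))
    (hf : ∀ n, f (n + 1) ≫ Gs.map (homOfLE (Nat.le_succ n)).op = f n) (n : ℕ) :
    liftSeq Gs f hf ≫ limit.π Gs (op n) = f n := by
  unfold liftSeq
  rw [limit.lift_π]
  rfl

/-- sections of a limit of a sequence are determined by their components -/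
theorem limit_section_ext (Gs : ℕᵒᵖ ⥤ X.Modules) (W : X.Opens) (z z' : Γ(limit Gs, W))
    (h : ∀ n : ℕ, (limit.π Gs (op n)).app W z = (limit.π Gs (op n)).app W z') : z = z' := by
  have hl := isLimitOfPreserves
    (SheafOfModules.evaluation X.ringCatSheaf (op W) : X.Modules ⥤ _) (limit.isLimit Gs)
  exact Concrete.isLimit_ext _ hl z z' (fun j => h j.unop)

end Lim

section Main

variable [IsNoetherian X] (I : Ideal A)

/-- the projection `G ⟶ G / I^(n+1) G`, with values in the completion system -/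
noncomputable def πs (G : X.Modules) (n : ℕ) : G ⟶ (Formal.completion I G).obj (op n) :=
  Formal.modPowπ I (n + 1) G

omit [AlgebraicGeometry.IsNoetherian X] in
theorem πs_map (G : X.Modules) (n : ℕ) :
    πs I G (n + 1) ≫ (Formal.completion I G).map (homOfLE (Nat.le_succ n)).op = πs I G n := by
  rw [FormalCompletion.completion_map_succ]
  exact Formal.modPowπ_trans I (n + 1) G

/-- the canonical map to the limit of the completion system -/
noncomputable def cmap (G : X.Modules) : G ⟶ limit (Formal.completion I G) :=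
  liftSeq (Formal.completion I G) (πs I G) (πs_map I G)

omit [AlgebraicGeometry.IsNoetherian X] in
theorem cmap_πs (G : X.Modules) (n : ℕ) :
    cmap I G ≫ limit.π (Formal.completion I G) (op n) = πs I G n :=
  liftSeq_π _ _ _ n

omit [AlgebraicGeometry.IsNoetherian X] in
theorem cmap_π (G : X.Modules) (n : ℕ) :
    cmap I G ≫ limit.π (Formal.completion I G) (op n) = Formal.modPowπ I (n + 1) G :=
  liftSeq_π _ _ _ n

variable {G : X.Modules} (hG : Coh.IsCoh G) {W : X.Opens} (hW : IsAffineOpen W)

omit [AlgebraicGeometry.IsNoetherian X] in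
theorem secA_cmap_π (G : X.Modules) (W : X.Opens) (n : ℕ) (x : ↑((secA (A := A) W).obj G)) :
    ((secA (A := A) W).map (limit.π (Formal.completion I G) (op n))).hom
      (((secA (A := A) W).map (cmap I G)).hom x) =
      ((secA (A := A) W).map (Formal.modPowπ I (n + 1) G)).hom x := by
  have := congrArg (fun φ => ((secA (A := A) W).map φ).hom x) (cmap_π I G n)
  simp only [Functor.map_comp, ModuleCat.hom_comp, LinearMap.comp_apply] at this
  exact this

omit [AlgebraicGeometry.IsNoetherian X] in
theorem secA_limit_ext (Gs : ℕᵒᵖ ⥤ X.Modules) (W : X.Opens)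
    (z z' : ↑((secA (A := A) W).obj (limit Gs)))
    (h : ∀ n : ℕ, ((secA (A := A) W).map (limit.π Gs (op n))).hom z =
      ((secA (A := A) W).map (limit.π Gs (op n))).hom z') : z = z' :=
  limit_section_ext Gs W z z' h

omit [AlgebraicGeometry.IsNoetherian X] in
theorem secA_mem_range_torsι_iff (K : Ideal A) (T : X.Modules) (W : X.Opens)
    (x : ↑((secA (A := A) W).obj T)) :
    (∃ y : ↑((secA (A := A) W).obj (tors K T)),
      ((secA (A := A) W).map (torsι K T)).hom y = x) ↔ ∀ a ∈ K, a • x = 0 :=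
  mem_range_torsι_iff K T W x

include hG hW in
omit [AlgebraicGeometry.IsNoetherian X] in
theorem modPowπ_app_surjective (n : ℕ) :
    Function.Surjective ((secA (A := A) W).map (Formal.modPowπ I (n + 1) G)).hom := by
  haveI := hG.1
  haveI := (FormalCompletion.isCoh_modPow I (n + 1) hG).1
  haveI := (isQuot_modPowπ I (n + 1) G).epi
  exact Helper18.EpiAffine.app_surjective_of_epi (Formal.modPowπ I (n + 1) G) hW

include hG hW in
theorem modPowπ_app_eq_zero_iff (n : ℕ) (x : ↑((secA (A := A) W).obj G)) :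
    ((secA (A := A) W).map (Formal.modPowπ I (n + 1) G)).hom x = 0 ↔
      x ∈ I ^ (n + 1) • (⊤ : Submodule A ↑((secA (A := A) W).obj G)) := by
  rw [← ker_secA_map_eq hG.1 (FormalCompletion.isCoh_modPow I (n + 1) hG).1
    (isQuot_modPowπ I (n + 1) G) hW, LinearMap.mem_ker]

include hG hW in
/-- a torsion section of `G` over an affine open dying in the limit vanishes -/
theorem eq_zero_of_cmap_eq_zero (c : ℕ) (x : ↑((secA (A := A) W).obj G))
    (hx : ∀ a ∈ I ^ c, a • x = 0) (h0 : ((secA (A := A) W).map (cmap I G)).hom x = 0) :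
    x = 0 := by
  haveI : IsNoetherianRing Γ(X, W) := IsLocallyNoetherian.component_noetherian ⟨W, hW⟩
  haveI := hG.1
  letI : Module Γ(X, W) ↑((secA (A := A) W).obj G) := inferInstanceAs (Module Γ(X, W) Γ(G, W))
  haveI : Module.Finite Γ(X, W) ↑((secA (A := A) W).obj G) :=
    finite_sections_of_isFiniteType G hG.2 hW
  have h1 : ∀ n : ℕ, ((secA (A := A) W).map (Formal.modPowπ I (n + 1) G)).hom x = 0 := by
    intro n
    rw [← secA_cmap_π, h0, map_zero]
    rfl
  have h2 : ∀ n : ℕ, x ∈ I ^ n • (⊤ : Submodule A ↑((secA (A := A) W).obj G)) := by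
    intro n
    cases n with
    | zero => rw [pow_zero, Ideal.one_eq_top, Submodule.top_smul]; trivial
    | succ n => exact (modPowπ_app_eq_zero_iff I hG hW n x).mp (h1 n)
  exact TorsLim.eq_zero_of_torsion' (ρ' (A := A) W) (fun a y => rfl) I c x hx h2

include hG hW in
/-- a torsion section of the limit over an affine open comes from a torsion section of `G` -/
theorem exists_torsion_lift (c : ℕ) (s : ↑((secA (A := A) W).obj (limit (Formal.completion I G))))
    (hs : ∀ a ∈ I ^ c, a • s = 0) :
    ∃ x : ↑((secA (A := A) W).obj G), (∀ a ∈ I ^ c, a • x = 0) ∧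
      ((secA (A := A) W).map (cmap I G)).hom x = s := by
  haveI : IsNoetherianRing Γ(X, W) := IsLocallyNoetherian.component_noetherian ⟨W, hW⟩
  haveI := hG.1
  letI : Module Γ(X, W) ↑((secA (A := A) W).obj G) := inferInstanceAs (Module Γ(X, W) Γ(G, W))
  haveI : Module.Finite Γ(X, W) ↑((secA (A := A) W).obj G) :=
    finite_sections_of_isFiniteType G hG.2 hW
  let sn : ∀ n : ℕ, ↑((secA (A := A) W).obj ((Formal.completion I G).obj (op n))) :=
    fun n => ((secA (A := A) W).map (limit.π (Formal.completion I G) (op n))).hom s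
  have hchoose : ∀ n, ∃ x : ↑((secA (A := A) W).obj G),
      ((secA (A := A) W).map (Formal.modPowπ I (n + 1) G)).hom x = sn n :=
    fun n => modPowπ_app_surjective I hG hW n (sn n)
  choose x hxs using hchoose
  have hsn : ∀ n, ((secA (A := A) W).map
      ((Formal.completion I G).map (homOfLE (Nat.le_succ n)).op)).hom (sn (n + 1)) = sn n := by
    intro n
    have := congrArg (fun φ => ((secA (A := A) W).map φ).hom s)
      (limit.w (Formal.completion I G) (homOfLE (Nat.le_succ n)).op)
    simp only [Functor.map_comp, ModuleCat.hom_comp, LinearMap.comp_apply] at this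
    exact this
  have hx1 : ∀ n, x (n + 1) - x n ∈
      I ^ (n + 1) • (⊤ : Submodule A ↑((secA (A := A) W).obj G)) := by
    intro n
    rw [← modPowπ_app_eq_zero_iff I hG hW n]
    have e1 : ((secA (A := A) W).map (Formal.modPowπ I (n + 1) G)).hom (x (n + 1)) = sn n := by
      rw [← hsn n, ← hxs (n + 1)]
      have := congrArg (fun φ => ((secA (A := A) W).map φ).hom (x (n + 1)))
        (Formal.modPowπ_trans I (n + 1) G)
      simp only [Functor.map_comp, ModuleCat.hom_comp, LinearMap.comp_apply] at this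
      rw [FormalCompletion.completion_map_succ]
      exact this.symm
    rw [map_sub, e1, hxs n, sub_self]
  have hx2 : ∀ n, ∀ a ∈ I ^ c, a • x n ∈
      I ^ (n + 1) • (⊤ : Submodule A ↑((secA (A := A) W).obj G)) := by
    intro n a ha
    rw [← modPowπ_app_eq_zero_iff I hG hW n, map_smul, hxs n]
    change a • ((secA (A := A) W).map (limit.π (Formal.completion I G) (op n))).hom s = 0
    rw [← map_smul, hs a ha, map_zero]
  obtain ⟨y, hy1, hy2⟩ := TorsLim.exists_torsion_limit' (ρ' (A := A) W) (fun a y => rfl) I c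
    x hx1 hx2
  refine ⟨y, hy1, ?_⟩
  apply secA_limit_ext
  intro n
  rw [secA_cmap_π]
  change _ = sn n
  rw [← hxs n]
  have h3 := (modPowπ_app_eq_zero_iff I hG hW n _).mpr (hy2 n)
  rw [map_sub, sub_eq_zero] at h3
  exact h3

end Main

section Final

/-- a morphism injective on sections over affine opens is a monomorphism -/
theorem mono_of_injective_affine {M N : X.Modules} (φ : M ⟶ N)
    (h : ∀ W : X.Opens, IsAffineOpen W → Function.Injective ((secA (A := A) W).map φ).hom) :
    Mono φ := by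
  apply TowerQuot.mono_of_secA_injective (A := A)
  intro U
  rw [injective_iff_map_eq_zero]
  intro s hs
  apply Helper18.LSubM.eq_of_locally_eq M (U := U) s 0
  intro x hx
  obtain ⟨_, ⟨V, hV, rfl⟩, hxV, hVU⟩ :=
    X.isBasis_affineOpens.exists_subset_of_mem_open hx U.2
  have hVU' : V ≤ U := hVU
  refine ⟨V, hVU', hxV, ?_⟩
  have h1 : φ.app V (mres M hVU' s) = 0 := by
    rw [Helper18.LSubM.app_mres]
    have hs' : φ.app U s = 0 := hs
    rw [hs', map_zero]
  have h2 : mres M hVU' s = 0 := h V hV (h1.trans (map_zero _).symm)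
  rw [h2, map_zero]

variable [IsNoetherian X] (I : Ideal A) (c : ℕ) {G : X.Modules} (hG : Coh.IsCoh G)

include hG in
theorem mono_torsι_cmap : Mono (torsι (I ^ c) G ≫ cmap I G) := by
  apply mono_of_injective_affine (A := A)
  intro W hW
  rw [injective_iff_map_eq_zero]
  intro y hy
  have hy' : ((secA (A := A) W).map (cmap I G)).hom
      (((secA (A := A) W).map (torsι (I ^ c) G)).hom y) = 0 := by
    rw [Functor.map_comp, ModuleCat.hom_comp, LinearMap.comp_apply] at hy
    exact hy
  have hx := (secA_mem_range_torsι_iff (I ^ c) G W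
    (((secA (A := A) W).map (torsι (I ^ c) G)).hom y)).mp ⟨y, rfl⟩
  have h0 := eq_zero_of_cmap_eq_zero I hG hW c _ hx hy'
  exact Helper45.app_injective_of_mono (torsι (I ^ c) G) W (h0.trans (map_zero _).symm)

include hG in
/-- every morphism from an `I^c`-torsion module to the limit of the completion system of a
coherent module comes from a unique morphism into the torsion subobject. -/
theorem exists_factor_torsι_cmap {F : X.Modules} (hF : Formal.KilledBy (I ^ c) F)
    (ψ : F ⟶ limit (Formal.completion I G)) :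
    ∃ φ₀ : F ⟶ tors (I ^ c) G, φ₀ ≫ (torsι (I ^ c) G ≫ cmap I G) = ψ := by
  haveI := mono_torsι_cmap I c hG
  apply Helper18.LSubM.exists_factor ψ (torsι (I ^ c) G ≫ cmap I G)
  intro W a y hy
  obtain ⟨_, ⟨W₁, hW₁, rfl⟩, hyW₁, hle⟩ :=
    X.isBasis_affineOpens.exists_subset_of_mem_open hy W.2
  refine ⟨W₁, hle, hyW₁, ?_⟩
  let a₁ : ↑((secA (A := A) W₁).obj F) := mres F hle a
  let s : ↑((secA (A := A) W₁).obj (limit (Formal.completion I G))) :=
    ((secA (A := A) W₁).map ψ).hom a₁
  have hs : ∀ k ∈ I ^ c, k • s = 0 := by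
    intro k hk
    change k • ((secA (A := A) W₁).map ψ).hom a₁ = 0
    rw [← map_smul, secA_smul, hF k hk, secA_map_zero]
    change ((secA (A := A) W₁).map ψ).hom 0 = 0
    rw [map_zero]
  obtain ⟨x, hx1, hx2⟩ := exists_torsion_lift I hG hW₁ c s hs
  obtain ⟨b, hb⟩ := (secA_mem_range_torsι_iff (I ^ c) G W₁ x).mpr hx1
  refine ⟨b, ?_⟩
  rw [← Helper18.LSubM.app_mres]
  change ((secA (A := A) W₁).map (torsι (I ^ c) G ≫ cmap I G)).hom b = s
  rw [Functor.map_comp, ModuleCat.hom_comp, LinearMap.comp_apply, hb, hx2]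

include hG in
/-- **Completion is fully faithful on maps out of `I`-power-torsion modules.** -/
theorem existsUnique_hom_of_killedBy_left {F : X.Modules} (hF : Formal.KilledBy (I ^ c) F)
    (ψ : Formal.completion I F ⟶ Formal.completion I G) :
    ∃! φ : F ⟶ G, ∀ n : ℕ, Formal.modPowπ I (n + 1) F ≫ ψ.app (op n) =
      φ ≫ Formal.modPowπ I (n + 1) G := by
  haveI := mono_torsι_cmap I c hG
  let ψh : F ⟶ limit (Formal.completion I G) :=
    liftSeq (Formal.completion I G) (fun n => πs I F n ≫ ψ.app (op n))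
      (fun n => by
        rw [Category.assoc, ← ψ.naturality, ← Category.assoc, πs_map])
  have hψh : ∀ n, ψh ≫ limit.π (Formal.completion I G) (op n) = πs I F n ≫ ψ.app (op n) :=
    fun n => liftSeq_π _ _ _ n
  obtain ⟨φ₀, hφ₀⟩ := exists_factor_torsι_cmap I c hG hF ψh
  refine ⟨φ₀ ≫ torsι (I ^ c) G, ?_, ?_⟩
  · intro n
    change πs I F n ≫ ψ.app (op n) = (φ₀ ≫ torsι (I ^ c) G) ≫ πs I G n
    rw [← hψh n, ← hφ₀, ← cmap_πs]
    simp only [Category.assoc]
  · intro φ' hφ'
    have hφ'' : ∀ n, πs I F n ≫ ψ.app (op n) = φ' ≫ πs I G n := hφ'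
    have h1 : φ' ≫ cmap I G = ψh := by
      apply limit.hom_ext
      intro j
      obtain ⟨n⟩ := j
      rw [Category.assoc, cmap_πs, hψh n, hφ'' n]
    have h2 : torsLift (I ^ c) hF φ' ≫ (torsι (I ^ c) G ≫ cmap I G) = ψh := by
      rw [← Category.assoc, torsLift_ι, h1]
    have h3 : torsLift (I ^ c) hF φ' = φ₀ := by
      rw [← cancel_mono (torsι (I ^ c) G ≫ cmap I G), h2, hφ₀]
    rw [← h3, torsLift_ι]

end Final

section Easy

variable (I : Ideal A)

theorem πs_tr (G : X.Modules) {m n : ℕ} (h : m ≤ n) :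
    πs I G n ≫ (Formal.completion I G).map (homOfLE h).op = πs I G m := by
  induction n, h using Nat.le_induction with
  | base =>
    have : (homOfLE (le_refl m)).op = 𝟙 (op m) := rfl
    rw [this, CategoryTheory.Functor.map_id, Category.comp_id]
  | succ n h ih =>
    have e : (homOfLE (h.trans (Nat.le_succ n))).op =
        (homOfLE (Nat.le_succ n)).op ≫ (homOfLE h).op := rfl
    rw [e, Functor.map_comp, ← Category.assoc, πs_map, ih]

theorem πs_ψ_tr {F G : X.Modules} (ψ : Formal.completion I F ⟶ Formal.completion I G)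
    {m n : ℕ} (h : m ≤ n) :
    (πs I F n ≫ ψ.app (op n)) ≫ (Formal.completion I G).map (homOfLE h).op =
      πs I F m ≫ ψ.app (op m) := by
  rw [Category.assoc, ← ψ.naturality, ← Category.assoc, πs_tr]

theorem isIso_πs {G : X.Modules} {c : ℕ} (hGk : Formal.KilledBy (I ^ c) G) {n : ℕ}
    (hn : c ≤ n + 1) : IsIso (πs I G n) :=
  IsQuot.isIso_of_killedBy (isQuot_modPowπ I (n + 1) G)
    (killedBy_mono (Ideal.pow_le_pow_right hn) hGk)

/-- **Completion is fully faithful on maps into `I`-power-torsion modules.** -/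
theorem existsUnique_hom_of_killedBy_right (c : ℕ) {F G : X.Modules}
    (hGk : Formal.KilledBy (I ^ c) G)
    (ψ : Formal.completion I F ⟶ Formal.completion I G) :
    ∃! φ : F ⟶ G, ∀ n : ℕ, Formal.modPowπ I (n + 1) F ≫ ψ.app (op n) =
      φ ≫ Formal.modPowπ I (n + 1) G := by
  have hiso : ∀ n, c ≤ n + 1 → IsIso (πs I G n) := fun n hn => isIso_πs I hGk hn
  haveI h0 := hiso c (Nat.le_succ c)
  refine ⟨(πs I F c ≫ ψ.app (op c)) ≫ inv (πs I G c), ?_, ?_⟩
  · intro m
    change πs I F m ≫ ψ.app (op m) = ((πs I F c ≫ ψ.app (op c)) ≫ inv (πs I G c)) ≫ πs I G m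
    let n := max m c
    haveI hn := hiso n ((Nat.le_succ c).trans (Nat.succ_le_succ (le_max_right m c)))
    have h1 : (πs I F c ≫ ψ.app (op c)) ≫ inv (πs I G c) =
        (πs I F n ≫ ψ.app (op n)) ≫ inv (πs I G n) := by
      rw [← cancel_mono (πs I G c), Category.assoc, IsIso.inv_hom_id, Category.comp_id,
        ← πs_tr I G (le_max_right m c), Category.assoc, IsIso.inv_hom_id_assoc, πs_ψ_tr]
    rw [h1, ← πs_tr I G (le_max_left m c), Category.assoc, IsIso.inv_hom_id_assoc, πs_ψ_tr]
  · intro φ' hφ'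
    have h1 : πs I F c ≫ ψ.app (op c) = φ' ≫ πs I G c := hφ' c
    rw [h1, Category.assoc, IsIso.hom_inv_id, Category.comp_id]

end Easy

end Groth.Agent.Lib.Helper49.TorsHom
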