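import Mathlib
import Groth.Agent.Lib.Helper49.ZClosure10
import Groth.Agent.Lib.Helper11.FlatBC
import Groth.Agent.Lib.Helper19.FpqcModDesc

/-!
# Flat pullback of the Z-closure
-/
set_option autoImplicit false
universe u
open CategoryTheory CategoryTheory.Limits AlgebraicGeometry TopologicalSpace Opposite TensorProduct

namespace Groth.Agent.Lib.Helper49.ZClosureFlat

open ZClos Groth.Agent.Lib.Helper49.ZClosure Groth.Agent.Lib.Helper11.FlatBC
  Groth.Agent.Lib.Helper11.FlatBCAlg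

/-- topological lemma -/
theorem exists_isClosed_preimage {α β : Type*} [TopologicalSpace α] [TopologicalSpace β]
    (g : α → β) (hg : Continuous g)
    {Z : Set β} (hZ : StableUnderSpecialization Z) (W : Set α) [NoetherianSpace W]
    [QuasiSober W] (S : Set α) (hSW : S ⊆ W) (hS : IsClosed ((↑) ⁻¹' S : Set W))
    (hSZ : S ⊆ g ⁻¹' Z) :
    ∃ T : Set β, IsClosed T ∧ T ⊆ Z ∧ S ⊆ g ⁻¹' T := by
  obtain ⟨𝒞, h𝒞fin, h𝒞cl, h𝒞irr, h𝒞⟩ :=
    NoetherianSpace.exists_finite_set_isClosed_irreducible hS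
  refine ⟨⋃ C : 𝒞, closure {g (((h𝒞irr C.1 C.2).genericPoint : W) : α)}, ?_, ?_, ?_⟩
  · have : Finite 𝒞 := h𝒞fin
    exact isClosed_iUnion_of_finite fun C => isClosed_closure
  · intro y hy
    obtain ⟨C, hC⟩ := Set.mem_iUnion.mp hy
    have hg' : g (((h𝒞irr C.1 C.2).genericPoint : W) : α) ∈ Z := by
      apply hSZ
      have h1 : (h𝒞irr C.1 C.2).genericPoint ∈ C.1 :=
        ((h𝒞irr C.1 C.2).isGenericPoint_genericPoint (h𝒞cl C.1 C.2)).mem
      have h2 : (h𝒞irr C.1 C.2).genericPoint ∈ ((↑) ⁻¹' S : Set W) := by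
        rw [h𝒞]; exact Set.mem_sUnion.mpr ⟨C.1, C.2, h1⟩
      exact h2
    exact hZ (specializes_iff_mem_closure.mpr hC) hg'
  · intro s hs
    have hsW : s ∈ W := hSW hs
    have h2 : (⟨s, hsW⟩ : W) ∈ ((↑) ⁻¹' S : Set W) := hs
    rw [h𝒞] at h2
    obtain ⟨C, hC𝒞, hsC⟩ := Set.mem_sUnion.mp h2
    refine Set.mem_iUnion.mpr ⟨⟨C, hC𝒞⟩, ?_⟩
    have h3 : closure {(h𝒞irr C hC𝒞).genericPoint} = C :=
      (h𝒞irr C hC𝒞).closure_genericPoint (h𝒞cl C hC𝒞)
    rw [← h3] at hsC
    have h5 : (h𝒞irr C hC𝒞).genericPoint ⤳ (⟨s, hsW⟩ : W) := specializes_iff_mem_closure.mpr hsC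
    have h6 := (h5.map continuous_subtype_val).map hg
    exact specializes_iff_mem_closure.mp h6

variable {X X' : Scheme.{u}} (f : X' ⟶ X) [Flat f] (H : X.Modules) [H.IsQuasicoherent]

/-- Lemma A: flat base change of a bijective restriction map. -/
theorem res_pullback_bijective {V : X.Opens} (hV : IsAffineOpen V) {W' : X'.Opens}
    (hW' : IsAffineOpen W') (hW'V : W' ≤ f ⁻¹ᵁ V) (U : X.Opens) (hUV : U ≤ V)
    (hUc : IsCompact (U : Set X))
    (hbij : Function.Bijective (H.presheaf.map (homOfLE hUV).op)) :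
    Function.Bijective (((Scheme.Modules.pullback f).obj H).presheaf.map
      (homOfLE (inf_le_left : W' ⊓ f ⁻¹ᵁ U ≤ W')).op) := by
  have h : IsPullback f (𝟙 X') (𝟙 X) f := IsPullback.id_vert f
  let _ := (f.appLE V W' hW'V).hom.toAlgebra
  have hVV : V ≤ (𝟙 X) ⁻¹ᵁ V := le_of_eq (by simp)
  have hUV' : U ≤ (𝟙 X) ⁻¹ᵁ V := hUV.trans hVV
  have h1 := liftT_pU_bijective_of_qcqs H h hV hW' hW'V V hVV hV.isCompact hV.isQuasiSeparated
  have h2 := liftT_pU_bijective_of_qcqs H h hV hW' hW'V U hUV' hUc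
    (hV.isQuasiSeparated.of_subset hUV)
  let r := resL (𝟙 X) H V hUV hVV
  let r' := resL (𝟙 X') ((Scheme.Modules.pullback f).obj H) W' (pre_mono f (𝟙 X') W' hUV)
    inf_le_right
  have hcomm := liftT_comm r r' (pU (𝟙 X) f (𝟙 X') H V W' V hVV) (pU_smul H h.w hW'V V hVV)
    (pU (𝟙 X) f (𝟙 X') H V W' U hUV') (pU_smul H h.w hW'V U hUV')
    (fun s => pU_res H V U hUV hVV s)
  have hr : Function.Bijective r := hbij
  have hrT : Function.Bijective (r.lTensor Γ(X', W')) := by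
    have := (LinearEquiv.ofBijective r hr).lTensor Γ(X', W')
    exact (LinearEquiv.lTensor Γ(X', W') (LinearEquiv.ofBijective r hr)).bijective
  have hr' : Function.Bijective r' := by
    have h3 : (r' : _ → _) ∘ (liftT _ (pU_smul H h.w hW'V V hVV)) =
        (liftT _ (pU_smul H h.w hW'V U hUV')) ∘ (r.lTensor Γ(X', W')) := by
      funext z
      exact hcomm z
    have h4 : Function.Bijective ((r' : _ → _) ∘ (liftT _ (pU_smul H h.w hW'V V hVV))) := by
      rw [h3]
      exact h2.comp hrT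
    exact (Function.Bijective.of_comp_iff _ h1).mp h4
  have hr'' : Function.Bijective (((Scheme.Modules.pullback f).obj H).presheaf.map
      (homOfLE (pre_mono f (𝟙 X') W' hUV)).op) := hr'
  refine (map_bijective_iff_of_eq' _ _ _ ?_ ?_).mp hr''
  · ext x
    simp only [pre, Opens.coe_inf, Set.mem_inter_iff, SetLike.mem_coe, Scheme.Hom.mem_preimage]
    constructor
    · rintro ⟨h1, h2⟩; exact ⟨by simpa using h2, h1⟩
    · rintro ⟨h1, h2⟩; exact ⟨h2, by simpa using h1⟩
  · ext x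
    simp only [pre, Opens.coe_inf, Set.mem_inter_iff, SetLike.mem_coe, Scheme.Hom.mem_preimage]
    constructor
    · rintro ⟨h1, h2⟩; simpa using h2
    · intro h1; exact ⟨hW'V h1, by simpa using h1⟩

omit [Flat f] [H.IsQuasicoherent] in
/-- injectivity of `Γ(V, F) → Γ(V ∩ U, F)` can be checked near the points of `V`. -/
theorem res_injective_of_nhds (F : X.Modules) (U V : X.Opens)
    (h : ∀ x ∈ V, ∃ W : X.Opens, W ≤ V ∧ x ∈ W ∧
      Function.Injective (F.presheaf.map (homOfLE (inf_le_left : W ⊓ U ≤ W)).op)) :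
    Function.Injective (F.presheaf.map (homOfLE (inf_le_left : V ⊓ U ≤ V)).op) := by
  rw [injective_iff_map_eq_zero]
  intro s hs
  refine Helper45.section_ext_germ F V s 0 fun x hx => ?_
  obtain ⟨W, hWV, hxW, hW⟩ := h x hx
  have h1 : F.presheaf.map (homOfLE (inf_le_left : W ⊓ U ≤ W)).op
      (F.presheaf.map (homOfLE hWV).op s) = 0 := by
    rw [res_res]
    have : (inf_le_left : W ⊓ U ≤ W).trans hWV =
        (inf_le_inf_right U hWV : W ⊓ U ≤ V ⊓ U).trans inf_le_left := rfl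
    rw [← res_res F (inf_le_left : V ⊓ U ≤ V) (inf_le_inf_right U hWV), hs, map_zero]
  have h2 := (injective_iff_map_eq_zero _).mp hW _ h1
  rw [map_zero, ← TopCat.Presheaf.germ_res_apply F.presheaf (homOfLE hWV) x hxW s, h2, map_zero]

/-- flat pullback of a `Z`-closed quasi-coherent module is `f⁻¹ Z`-closed. -/
theorem isZClosed_pullback [IsLocallyNoetherian X] [IsLocallyNoetherian X'] (Z : Set X)
    (hZ : StableUnderSpecialization Z) (hH : IsZClosed Z H) :
    IsZClosed (f.base ⁻¹' Z) ((Scheme.Modules.pullback f).obj H) := by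
  set G := (Scheme.Modules.pullback f).obj H with hG
  rw [isZClosed_iff]
  intro T'
  apply isIso_toDiagram_of_basis
  intro x' V' hx'
  -- affine charts
  obtain ⟨_, ⟨V, hV : IsAffineOpen V, rfl⟩, hxV, -⟩ :=
    X.isBasis_affineOpens.exists_subset_of_mem_open (Set.mem_univ (f.base x')) isOpen_univ
  obtain ⟨_, ⟨W', hW' : IsAffineOpen W', rfl⟩, hx'W', hW'sub⟩ :=
    X'.isBasis_affineOpens.exists_subset_of_mem_open
      (show x' ∈ ((V' ⊓ f ⁻¹ᵁ V : X'.Opens) : Set X') from ⟨hx', hxV⟩) (V' ⊓ f ⁻¹ᵁ V).2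
  have hW'V' : W' ≤ V' := fun y hy => (hW'sub hy).1
  have hW'V : W' ≤ f ⁻¹ᵁ V := fun y hy => (hW'sub hy).2
  refine ⟨W', hW'V', hx'W', ?_⟩
  -- the closed subset `T₁ ⊆ Z`
  have := noetherianSpace_of_le_affine hW' le_rfl
  have := quasiSober_opens W'
  have hcl : IsClosed ((↑) ⁻¹' ((W' : Set X') ∩ (T'.1 : Set X')) : Set ↥(W' : Set X')) := by
    have : ((↑) ⁻¹' ((W' : Set X') ∩ (T'.1 : Set X')) : Set ↥(W' : Set X')) =
        ((↑) ⁻¹' (T'.1 : Set X')) := by
      ext w
      simp only [Set.mem_preimage, Set.mem_inter_iff]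
      exact ⟨fun h => h.2, fun h => ⟨w.2, h⟩⟩
    rw [this]
    exact T'.1.2.preimage continuous_subtype_val
  obtain ⟨T₁, hT₁, hT₁Z, hST₁⟩ := exists_isClosed_preimage f.base f.base.hom.continuous hZ
    (W' : Set X') ((W' : Set X') ∩ (T'.1 : Set X')) Set.inter_subset_left hcl
    (fun y hy => T'.2 hy.2)
  let T : Cl Z := ⟨⟨T₁, hT₁⟩, hT₁Z⟩
  let U : X.Opens := V ⊓ T.U
  have hUV : U ≤ V := inf_le_left
  have hUc : IsCompact (U : Set X) := by
    have := noetherianSpace_of_le_affine hV hUV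
    exact isCompact_iff_compactSpace.mpr inferInstance
  have hbijH : Function.Bijective (H.presheaf.map (homOfLE hUV).op) := by
    refine res_bijective_of_isZClosed hZ hH hV T.U ?_
    rintro y ⟨-, hy⟩
    apply hT₁Z
    by_contra hy'
    exact hy hy'
  -- key: for affine `W'' ≤ W'`, restriction to `W'' ⊓ f⁻¹ U` is bijective
  have key : ∀ W'' : X'.Opens, IsAffineOpen W'' → W'' ≤ W' →
      Function.Bijective (G.presheaf.map (homOfLE (inf_le_left : W'' ⊓ f ⁻¹ᵁ U ≤ W'')).op) :=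
    fun W'' hW'' hle => res_pullback_bijective f H hV hW'' (hle.trans hW'V) U hUV hUc hbijH
  have hle : W' ⊓ f ⁻¹ᵁ U ≤ W' ⊓ T'.U := by
    rintro y ⟨hyW, hyU⟩
    refine ⟨hyW, fun hyT => ?_⟩
    have : f.base y ∈ T₁ := hST₁ ⟨hyW, hyT⟩
    exact hyU.2 this
  -- injectivity on `O' = W' ⊓ T'.U`
  have hinjO : Function.Injective (G.presheaf.map
      (homOfLE (inf_le_left : (W' ⊓ T'.U) ⊓ f ⁻¹ᵁ U ≤ W' ⊓ T'.U)).op) := by
    refine res_injective_of_nhds G (f ⁻¹ᵁ U) (W' ⊓ T'.U) fun y hy => ?_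
    obtain ⟨_, ⟨W'', hW'' : IsAffineOpen W'', rfl⟩, hyW'', hW''sub⟩ :=
      X'.isBasis_affineOpens.exists_subset_of_mem_open hy (W' ⊓ T'.U).2
    exact ⟨W'', hW''sub, hyW'', (key W'' hW'' fun z hz => (hW''sub hz).1).1⟩
  have hinjO' : Function.Injective (G.presheaf.map (homOfLE hle).op) := by
    refine (map_injective_iff_of_eq' G _ _ ?_ rfl).mp hinjO
    exact le_antisymm (le_inf (inf_le_left.trans inf_le_left) inf_le_right)
      (le_inf hle inf_le_right)
  have hW := key W' hW' le_rfl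
  have hcomp : (G.presheaf.map (homOfLE (inf_le_left : W' ⊓ f ⁻¹ᵁ U ≤ W')).op : Γ(G, W') → _) =
      (G.presheaf.map (homOfLE hle).op) ∘
        (G.presheaf.map (homOfLE (inf_le_left : W' ⊓ T'.U ≤ W')).op) := by
    funext s
    exact (res_res G _ _ s).symm
  rw [hcomp] at hW
  refine ⟨hW.1.of_comp, fun t => ?_⟩
  obtain ⟨s, hs⟩ := hW.2 (G.presheaf.map (homOfLE hle).op t)
  exact ⟨s, hinjO' hs⟩

omit [Flat f] [H.IsQuasicoherent] in
/-- pullback preserves bijectivity of a stalk map. -/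
theorem stalkMap_pullback_bijective {A B : X.Modules} (v : A ⟶ B) (x' : X')
    (hv : Function.Bijective (stalkMap v (f.base x')).hom) :
    Function.Bijective (stalkMap ((Scheme.Modules.pullback f).map v) x').hom := by
  have h1 : IsIso ((DerSch.stalkFunctor X (f.base x')).map v) :=
    (ConcreteCategory.isIso_iff_bijective _).mpr hv
  have h2 := Groth.Agent.Helper19.FpqcModDesc.stalk_pullback_map f v x'
  have h3 : IsIso ((DerSch.stalkFunctor X' x').map ((Scheme.Modules.pullback f).map v)) := by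
    rw [h2]
    infer_instance
  have h4 := (ConcreteCategory.isIso_iff_bijective _).mp h3
  exact h4

omit [H.IsQuasicoherent] in
/-- **Flat base change for the Z-closure.** -/
theorem nonempty_pullback_H0_iso [IsLocallyNoetherian X] [IsLocallyNoetherian X'] (Z : Set X)
    (hZ : StableUnderSpecialization Z) (F : X.Modules) [F.IsQuasicoherent] :
    Nonempty ((Scheme.Modules.pullback f).obj ((H0 Z).obj F) ≅
      (H0 (f.base ⁻¹' Z)).obj ((Scheme.Modules.pullback f).obj F)) := by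
  have hZ' : StableUnderSpecialization (f.base ⁻¹' Z) := hZ.preimage f.base.hom.continuous
  have hH : IsZClosed Z ((H0 Z).obj F) := isZClosed_H0 Z F
  have : ((H0 Z).obj F).IsQuasicoherent := isQuasicoherent_H0 Z F
  have hG := isZClosed_pullback f _ Z hZ hH
  obtain ⟨v, hv, -⟩ := existsUnique_lift (f.base ⁻¹' Z) ((Scheme.Modules.pullback f).obj F) _ hG
    ((Scheme.Modules.pullback f).map (rhoApp Z F))
  have hu : ∀ x' : X', x' ∉ f.base ⁻¹' Z → Function.Bijective
      (stalkMap ((Scheme.Modules.pullback f).map (rhoApp Z F)) x').hom := fun x' hx' =>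
    stalkMap_pullback_bijective f _ x' (stalkMap_rhoApp_bijective Z F _ hx')
  have := isIso_of_lift (f.base ⁻¹' Z) hZ' _ _ hG _ hu v hv
  exact ⟨(asIso v).symm⟩

end Groth.Agent.Lib.Helper49.ZClosureFlat
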